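import Mathlib
import Cfsg.Agent.BpExc.AsmN_m3
import Cfsg.Agent.Prune
set_option linter.all false
prune_inst 0x7f00000000000000000000000000000000000000000000000000000000000000000000000000000000000000000000000000000000000000000000000000000000000000000000000000000000000000003fffffffffffffffffffffffffffbeffbdffffffff

namespace Cfsg.Agent
section
open Cfsg.Agent.H944.Tab (dotN sumH invB hh)

end

section
open Cfsg.Agent.H944.Tab (dotN allLt)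

end
end Cfsg.Agent

/-!
# No element of order 65 in the Chevalley group of type `E₇` over the field of two elements (helper944)
-/

set_option autoImplicit false
set_option linter.unusedSectionVars false
set_option maxRecDepth 100000

namespace Cfsg.Agent.H944.E7Two

open Cfsg.Agent.ChevalleyStructure.CoxeterGeom Cfsg.Agent.Tits.Roots
  Cfsg.Agent.Nodes.RGDChev
open Cfsg.Lie Cfsg.Agent.ChevalleyStructure Cfsg.Agent.ChevalleyStructure.Elts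
  Cfsg.Agent.ChevalleyStructure.RootVec Cfsg.Agent.ChevalleyStructure.RootVecTab
  Cfsg.Agent.ChevalleyStructure.NPerm Cfsg.Agent.ChevalleyStructure.CoxeterGeomTypes
open Cfsg.Agent.H944.RootVals Cfsg.Agent.H944.Kac Cfsg.Agent.H944.Tab

/-- The positive roots of `E₇`. -/
def R7 : List (List ℕ) :=
  [[0, 0, 0, 0, 0, 0, 1], [0, 0, 0, 0, 0, 1, 0], [0, 0, 0, 0, 0, 1, 1], [0, 0, 0, 0, 1, 0, 0], [0, 0, 0, 0, 1,
   1, 0], [0, 0, 0, 0, 1, 1, 1], [0, 0, 0, 1, 0, 0, 0], [0, 0, 0, 1, 1, 0, 0], [0, 0, 0, 1, 1, 1, 0], [0, 0, 0,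
   1, 1, 1, 1], [0, 0, 1, 0, 0, 0, 0], [0, 0, 1, 1, 0, 0, 0], [0, 0, 1, 1, 1, 0, 0], [0, 0, 1, 1, 1, 1, 0], [0,
   0, 1, 1, 1, 1, 1], [0, 1, 0, 0, 0, 0, 0], [0, 1, 0, 1, 0, 0, 0], [0, 1, 0, 1, 1, 0, 0], [0, 1, 0, 1, 1, 1, 0],
   [0, 1, 0, 1, 1, 1, 1], [0, 1, 1, 1, 0, 0, 0], [0, 1, 1, 1, 1, 0, 0], [0, 1, 1, 1, 1, 1, 0], [0, 1, 1, 1, 1, 1,
   1], [0, 1, 1, 2, 1, 0, 0], [0, 1, 1, 2, 1, 1, 0], [0, 1, 1, 2, 1, 1, 1], [0, 1, 1, 2, 2, 1, 0], [0, 1, 1, 2,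
   2, 1, 1], [0, 1, 1, 2, 2, 2, 1], [1, 0, 0, 0, 0, 0, 0], [1, 0, 1, 0, 0, 0, 0], [1, 0, 1, 1, 0, 0, 0], [1, 0,
   1, 1, 1, 0, 0], [1, 0, 1, 1, 1, 1, 0], [1, 0, 1, 1, 1, 1, 1], [1, 1, 1, 1, 0, 0, 0], [1, 1, 1, 1, 1, 0, 0],
   [1, 1, 1, 1, 1, 1, 0], [1, 1, 1, 1, 1, 1, 1], [1, 1, 1, 2, 1, 0, 0], [1, 1, 1, 2, 1, 1, 0], [1, 1, 1, 2, 1, 1,
   1], [1, 1, 1, 2, 2, 1, 0], [1, 1, 1, 2, 2, 1, 1], [1, 1, 1, 2, 2, 2, 1], [1, 1, 2, 2, 1, 0, 0], [1, 1, 2, 2,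
   1, 1, 0], [1, 1, 2, 2, 1, 1, 1], [1, 1, 2, 2, 2, 1, 0], [1, 1, 2, 2, 2, 1, 1], [1, 1, 2, 2, 2, 2, 1], [1, 1,
   2, 3, 2, 1, 0], [1, 1, 2, 3, 2, 1, 1], [1, 1, 2, 3, 2, 2, 1], [1, 1, 2, 3, 3, 2, 1], [1, 2, 2, 3, 2, 1, 0],
   [1, 2, 2, 3, 2, 1, 1], [1, 2, 2, 3, 2, 2, 1], [1, 2, 2, 3, 3, 2, 1], [1, 2, 2, 4, 3, 2, 1], [1, 2, 3, 4, 3, 2,
   1], [2, 2, 3, 4, 3, 2, 1]]

/-- The highest root of `E₇`. -/
def th7 : List ℕ := [2, 2, 3, 4, 3, 2, 1]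

theorem tab7 : chkTab chevE7 7 R7 = true := by decide +kernel

theorem theta7 : ∀ i : Fin 7, ∑ s : Fin chevE7.nroots, (∑ k, vec chevE7 7 s k * (![1, 0, 0, 0, 0, 0, 0] : Fin 7 → ℤ) k) *
    vec chevE7 7 s i = 36 * (![2, 2, 3, 4, 3, 2, 1] : Fin 7 → ℤ) i := by decide +kernel

theorem pos7 : ∀ j : Fin 7, 0 < ∑ i, cartanOf chevE7 7 j i *
    ∑ s ∈ (Finset.univ : Finset (Fin chevE7.nroots)).filter (fun s : Fin chevE7.nroots => 63 ≤ (s : ℕ)), vec chevE7 7 s i := by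
  decide +kernel

theorem e7T : IsType chevE7 7 CoxeterMatrix.E₇ := by simp [IsType, typeList]

end Cfsg.Agent.H944.E7Two

private theorem dce_1f5768d1db63 : _root_.True := by
  try have : _root_.True := by simp only [_root_.Cfsg.Agent.H944.E7Two.th7.eq_1]
  exact _root_.True.intro
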