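import Mathlib
import Cfsg.Agent.ChevalleyStructure.E6Min.Forms
import Cfsg.Agent.ChevalleyStructure.E6Min.Adjoint
import Cfsg.Agent.H952.F4.Scott_m3
import Cfsg.Agent.BpExc.AsmN_m3
import Cfsg.Agent.H65.E6Ext_m3
import Cfsg.Agent.Lib.ListFast
import Cfsg.Agent.FastGrp
import Cfsg.Agent.Prune
set_option linter.all false
prune_inst 0x7fffbdfffbfcebffffff7e7faededffffbbf9fffefdff9cbffe061ffab9fb392c9c56b8d0fe058fe1ef6e01418b87853ff7eefffea6fdc7ffffdfff41ffbee4fe5f7b50851d588340fb80ff783f0778e7f3fffffffffffffffffffffffffffbeffbfffffffff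
open scoped Cfsg.Agent.FastGrp

-- part: H944/E6Lev
section
/-!
# Levels of the diagonal elements of `E₆` in the coordinates of `A₂ A₂ A₂` (helper944)

A function `b` on the 27 coordinates with `b x + b y + b (x ∘ y) = 0` on the 45 triads is given by three triples `X, Y, Z`
with the same sum `s`: `b = X r - Y c`, `Y r - Z c`, `Z r - X c` on the three blocks. The 72 values on the roots are
`X i - X j`, `Y i - Y j`, `Z i - Z j` and `± (X i + Y j + Z k - s)`.

`core` : for `b` with values in `ZMod m`, `m = 2, 3, 4, 5, 7`, the numbers of the coordinates and of the roots with a given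
level (the six zeros of the Cartan subalgebra included) are in the table `TT m`.
-/

set_option autoImplicit false
set_option linter.unusedSectionVars false

namespace Cfsg.Agent.H944.E6T

open Cfsg.Lie
open Cfsg.Agent.ChevalleyStructure
open Cfsg.Agent.ChevalleyStructure.E6Min.Tables Cfsg.Agent.ChevalleyStructure.E6Min.Basic
  Cfsg.Agent.ChevalleyStructure.E6Min.Checks Cfsg.Agent.ChevalleyStructure.E6Min.Adjoint
  Cfsg.Agent.ChevalleyStructure.E6Min.Forms

/-! ### the tables -/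

/-- form number of the root `r` -/
def phi : List ℕ := [19, 20, 51, 48, 45, 42, 39, 36, 55, 58, 61, 56, 59, 62, 6, 3, 33, 30, 27, 64, 67, 70, 73, 76, 79,
  25, 65, 68, 71, 7, 74, 77, 80, 15, 16, 12, 10, 14, 11, 53, 50, 47, 5, 44, 41, 38, 23, 52, 49, 46, 43, 40, 37, 54, 57,
  60, 1, 2, 35, 32, 29, 34, 31, 28, 63, 66, 69, 72, 75, 78, 24, 21]

/-- the numbers of the nine zero forms -/
def psi : List ℕ := [0, 4, 8, 9, 13, 17, 18, 22, 26]

/-- unit coefficient -/
def u1 (a k : ℕ) : ℤ := if k = a then 1 else 0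

/-- coefficients of the coordinate with code `x` -/
def cb (x k : ℕ) : ℤ := u1 (3 * (x / 9) + x / 3 % 3) k - u1 (3 * ((x / 9 + 1) % 3) + x % 3) k

/-- coefficients of the form with number `n = 27 t + 9 i + 3 j + l` -/
def cf (n k : ℕ) : ℤ :=
  if n < 27 then u1 (3 * (n / 9) + n / 3 % 3) k - u1 (3 * (n / 9) + n % 3) k
  else if n < 54 then u1 ((n - 27) / 9) k + u1 (3 + (n - 27) / 3 % 3) k + u1 (6 + n % 3) k - u1 9 k
  else u1 9 k - (u1 ((n - 54) / 9) k + u1 (3 + (n - 54) / 3 % 3) k + u1 (6 + n % 3) k)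

/-- difference of the coefficients of root `r` and form `phi r` -/
def df (r k : ℕ) : ℤ := cb (rowN r) k - cb (srN r (rowN r)) k - cf (phi.getD r 0) k

private noncomputable def _root_.Cfsg.Agent.LsF.f172d80_0 : {f // @Cfsg.Agent.ChevalleyStructure.E6Min.Tables.allLt = f} := ⟨_, by first | (delta Cfsg.Agent.ChevalleyStructure.E6Min.Tables.allLt; rewrite [Cfsg.Agent.LsF.and_eq]; exact rfl) | exact rfl⟩
private noncomputable def _root_.Cfsg.Agent.LsF.f172d80_1 : {f // @Cfsg.Agent.H944.E6T.u1 = f} := ⟨_, by first | (delta Cfsg.Agent.H944.E6T.u1; rewrite [Cfsg.Agent.LsF.instDecEq_eq, Cfsg.Agent.LsF.ite_eq]; exact rfl) | exact rfl⟩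
private noncomputable def _root_.Cfsg.Agent.LsF.f172d80_2 : {f // @Cfsg.Agent.H944.E6T.cb = f} := ⟨_, by first | (delta Cfsg.Agent.H944.E6T.cb; rewrite [Cfsg.Agent.LsF.f172d80_1.2, Cfsg.Agent.LsF.nadd_pat, Cfsg.Agent.LsF.nmul_pat, Cfsg.Agent.LsF.ndiv_pat, Cfsg.Agent.LsF.nmod_pat, Cfsg.Agent.LsF.isub_pat]; exact rfl) | exact rfl⟩
private noncomputable def _root_.Cfsg.Agent.LsF.f172d80_3 : {f // @Cfsg.Agent.ChevalleyStructure.E6Min.Tables.ent = f} := ⟨_, by first | (delta Cfsg.Agent.ChevalleyStructure.E6Min.Tables.ent; rewrite [Cfsg.Agent.LsF.nadd_pat, Cfsg.Agent.LsF.nmul_pat, Cfsg.Agent.LsF.nand_pat, Cfsg.Agent.LsF.nshr_pat]; exact rfl) | exact rfl⟩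
private noncomputable def _root_.Cfsg.Agent.LsF.f172d80_4 : {f // @Cfsg.Agent.ChevalleyStructure.E6Min.Tables.sgN = f} := ⟨_, by first | (delta Cfsg.Agent.ChevalleyStructure.E6Min.Tables.sgN; rewrite [Cfsg.Agent.LsF.f172d80_3.2, Cfsg.Agent.LsF.ineg_pat, Cfsg.Agent.LsF.decLt_eq, Cfsg.Agent.LsF.ite_eq]; exact rfl) | exact rfl⟩
private noncomputable def _root_.Cfsg.Agent.LsF.f172d80_5 : {f // @Cfsg.Agent.ChevalleyStructure.E6Min.Adjoint.rowN = f} := ⟨_, by first | (delta Cfsg.Agent.ChevalleyStructure.E6Min.Adjoint.rowN; rewrite [Cfsg.Agent.LsF.f172d80_4.2, Cfsg.Agent.LsF.instIDecEq_eq, Cfsg.Agent.LsF.ite_eq]; exact rfl) | exact rfl⟩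
private noncomputable def _root_.Cfsg.Agent.LsF.f172d80_6 : {f // @Cfsg.Agent.ChevalleyStructure.E6Min.Tables.srN = f} := ⟨_, by first | (delta Cfsg.Agent.ChevalleyStructure.E6Min.Tables.srN; rewrite [Cfsg.Agent.LsF.f172d80_3.2, Cfsg.Agent.LsF.nand_pat]; exact rfl) | exact rfl⟩
private noncomputable def _root_.Cfsg.Agent.LsF.f172d80_7 : {f // @Cfsg.Agent.H944.E6T.cf = f} := ⟨_, by first | (delta Cfsg.Agent.H944.E6T.cf; rewrite [Cfsg.Agent.LsF.f172d80_1.2, Cfsg.Agent.LsF.nadd_pat, Cfsg.Agent.LsF.nmul_pat, Cfsg.Agent.LsF.nsub_pat, Cfsg.Agent.LsF.ndiv_pat, Cfsg.Agent.LsF.nmod_pat, Cfsg.Agent.LsF.iadd_pat, Cfsg.Agent.LsF.isub_pat, Cfsg.Agent.LsF.decLt_eq, Cfsg.Agent.LsF.ite_eq]; exact rfl) | exact rfl⟩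
private noncomputable def _root_.Cfsg.Agent.LsF.f172d80_8 : {f // @Cfsg.Agent.H944.E6T.df = f} := ⟨_, by first | (delta Cfsg.Agent.H944.E6T.df; rewrite [Cfsg.Agent.LsF.f172d80_2.2, Cfsg.Agent.LsF.f172d80_5.2, Cfsg.Agent.LsF.f172d80_6.2, Cfsg.Agent.LsF.f172d80_7.2, Cfsg.Agent.LsF.isub_pat, Cfsg.Agent.LsF.getD_eq]; exact rfl) | exact rfl⟩
theorem df_all : allLt 72 (fun r => (df r 0 == df r 2) && (df r 1 == df r 2) && (df r 3 == df r 5) &&
    (df r 4 == df r 5) && (df r 6 == df r 8) && (df r 7 == df r 8) &&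
    (df r 9 + df r 2 + df r 5 + df r 8 == 0)) = true := by ((try (rewrite [Cfsg.Agent.LsF.f172d80_0.2, Cfsg.Agent.LsF.f172d80_8.2, Cfsg.Agent.LsF.iadd_pat, Cfsg.Agent.LsF.ibeq_pat, Cfsg.Agent.LsF.and_eq])); decide +kernel)

theorem phi_lt_all : allLt 72 (fun r => Nat.blt (phi.getD r 0) 81) = true := by decide +kernel

section
variable {A : Type*} [CommRing A]

/-- linear combination of ten parameters -/
def lin (w : ℕ → A) (v : ℕ → ℤ) : A := ∑ k ∈ Finset.range 10, ((v k : ℤ) : A) * w k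

theorem lin_sub (w : ℕ → A) (v v' : ℕ → ℤ) : lin w (fun k => v k - v' k) = lin w v - lin w v' := by
  unfold lin
  rw [← Finset.sum_sub_distrib]
  exact Finset.sum_congr rfl fun k _ => by push_cast; ring

theorem lin_u1 (w : ℕ → A) {a : ℕ} (ha : a < 10) : lin w (u1 a) = w a := by
  unfold lin
  rw [Finset.sum_eq_single a]
  · unfold u1; simp
  · intro k _ hk
    unfold u1; rw [if_neg hk]; simp
  · intro h; exact absurd (Finset.mem_range.2 ha) h

/-- the parameters -/
structure Par (w : ℕ → A) : Prop where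
  x : w 0 + w 1 + w 2 = w 9
  y : w 3 + w 4 + w 5 = w 9
  z : w 6 + w 7 + w 8 = w 9

theorem lin_eq_zero {w : ℕ → A} (h : Par w) {v : ℕ → ℤ} (h0 : v 0 = v 2) (h1 : v 1 = v 2) (h3 : v 3 = v 5)
    (h4 : v 4 = v 5) (h6 : v 6 = v 8) (h7 : v 7 = v 8) (h9 : v 9 + v 2 + v 5 + v 8 = 0) : lin w v = 0 := by
  unfold lin
  simp only [Finset.sum_range_succ, Finset.sum_range_zero, zero_add]
  have h9' : v 9 = -v 2 - v 5 - v 8 := by linarith
  rw [h0, h1, h3, h4, h6, h7, h9']
  push_cast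
  linear_combination ((v 2 : ℤ) : A) * h.x + ((v 5 : ℤ) : A) * h.y + ((v 8 : ℤ) : A) * h.z

/-- the value on a root -/
theorem root_eq {w : ℕ → A} (h : Par w) {r : ℕ} (hr : r < 72) :
    lin w (cb (rowN r)) - lin w (cb (srN r (rowN r))) = lin w (cf (phi.getD r 0)) := by
  have h1 := allLt_spec df_all r hr
  simp only [Bool.and_eq_true, beq_iff_eq] at h1
  obtain ⟨⟨⟨⟨⟨⟨h0, h1⟩, h3⟩, h4⟩, h6⟩, h7⟩, h9⟩ := h1
  have h2 := lin_eq_zero h h0 h1 h3 h4 h6 h7 h9
  have h5 : lin w (df r) = lin w (cb (rowN r)) - lin w (cb (srN r (rowN r))) - lin w (cf (phi.getD r 0)) := by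
    unfold df
    rw [lin_sub, lin_sub]
  rw [h5] at h2
  linear_combination h2

/-- the form with number `n` -/
def frm (w : ℕ → A) (n : ℕ) : A :=
  if n < 27 then w (3 * (n / 9) + n / 3 % 3) - w (3 * (n / 9) + n % 3)
  else if n < 54 then w ((n - 27) / 9) + w (3 + (n - 27) / 3 % 3) + w (6 + n % 3) - w 9
  else w 9 - (w ((n - 54) / 9) + w (3 + (n - 54) / 3 % 3) + w (6 + n % 3))

theorem lin_cf (w : ℕ → A) {n : ℕ} (hn : n < 81) : lin w (cf n) = frm w n := by
  have hadd : ∀ v v' : ℕ → ℤ, lin w (fun k => v k + v' k) = lin w v + lin w v' := by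
    intro v v'
    unfold lin
    rw [← Finset.sum_add_distrib]
    exact Finset.sum_congr rfl fun k _ => by push_cast; ring
  unfold frm
  split_ifs with h1 h2
  · have h3 : cf n = fun k => u1 (3 * (n / 9) + n / 3 % 3) k - u1 (3 * (n / 9) + n % 3) k := by
      funext k; unfold cf; rw [if_pos h1]
    rw [h3, lin_sub, lin_u1 w (by omega), lin_u1 w (by omega)]
  · have h3 : cf n = fun k => (fun k => (fun k => u1 ((n - 27) / 9) k + u1 (3 + (n - 27) / 3 % 3) k) k +
        u1 (6 + n % 3) k) k - u1 9 k := by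
      funext k; unfold cf; rw [if_neg h1, if_pos h2]
    rw [h3, lin_sub, hadd, hadd, lin_u1 w (by omega), lin_u1 w (by omega), lin_u1 w (by omega), lin_u1 w (by omega)]
  · have h3 : cf n = fun k => u1 9 k - (fun k => (fun k => u1 ((n - 54) / 9) k + u1 (3 + (n - 54) / 3 % 3) k) k +
        u1 (6 + n % 3) k) k := by
      funext k; unfold cf; rw [if_neg h1, if_neg h2]
    rw [h3, lin_sub, hadd, hadd, lin_u1 w (by omega), lin_u1 w (by omega), lin_u1 w (by omega), lin_u1 w (by omega)]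

/-- coordinate with index `x` -/
theorem lin_cb (w : ℕ → A) {x : ℕ} (hx : x < 27) :
    lin w (cb x) = w (3 * (x / 9) + x / 3 % 3) - w (3 * ((x / 9 + 1) % 3) + x % 3) := by
  show lin w (fun k => u1 _ k - u1 _ k) = _
  rw [lin_sub, lin_u1 w (by omega), lin_u1 w (by omega)]

/-! ### the parameters of a function on the coordinates -/

/-- the parameters of `b` -/
def par (b : I27 → A) (k : ℕ) : A :=
  if k < 3 then b (0, Fin.ofNat 3 k, 0)
  else if k < 6 then b (0, 0, 0) - b (0, 0, Fin.ofNat 3 k)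
  else if k < 9 then -b (1, 0, Fin.ofNat 3 k)
  else b (0, 0, 0) + b (0, 1, 0) + b (0, 2, 0)

/-- the triad relations used -/
theorem tri_all : allLt 27 (fun n =>
    (relN (3 * (n / 3 % 3) + n / 9) (9 + 3 * (n / 9) + n % 3) == 2) &&
    (thN (3 * (n / 3 % 3) + n / 9) (9 + 3 * (n / 9) + n % 3) == 18 + 3 * (n % 3) + n / 3 % 3)) = true := by
  decide +kernel

theorem det_all : allLt 3 (fun n => (relN (9 * n) (9 * n + 4) == 2) &&
    (thN (9 * n) (9 * n + 4) == 9 * n + 8)) = true := by decide +kernel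

variable {b : I27 → A} (hb : ∀ x y, rel x y = 2 → b x + b y + b (th x y) = 0)

include hb in
/-- mixed triads -/
theorem mixed (r c k : Fin 3) : b (0, r, c) + b (1, c, k) + b (2, k, r) = 0 := by
  have h := allLt_spec tri_all (9 * c.val + 3 * r.val + k.val) (by omega)
  have e1 : (9 * c.val + 3 * r.val + k.val) / 3 % 3 = r.val := by omega
  have e2 : (9 * c.val + 3 * r.val + k.val) / 9 = c.val := by omega
  have e3 : (9 * c.val + 3 * r.val + k.val) % 3 = k.val := by omega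
  rw [e1, e2, e3] at h
  simp only [Bool.and_eq_true, beq_iff_eq] at h
  have c1 : E6Min.Tables.code (0, r, c) = 3 * r.val + c.val := by simp [E6Min.Tables.code]
  have c2 : E6Min.Tables.code (1, c, k) = 9 + 3 * c.val + k.val := by simp [E6Min.Tables.code]
  have c3 : E6Min.Tables.code (2, k, r) = 18 + 3 * k.val + r.val := by simp [E6Min.Tables.code]
  have h1 : rel (0, r, c) (1, c, k) = 2 := by unfold rel; rw [c1, c2]; exact h.1
  have h2 : th (0, r, c) (1, c, k) = (2, k, r) := by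
    unfold th; rw [c1, c2, h.2, ← c3, dec_code]
  have h3 := hb _ _ h1
  rwa [h2] at h3

include hb in
/-- the diagonal triads -/
theorem pure3 (n : Fin 3) : b (n, 0, 0) + b (n, 1, 1) + b (n, 2, 2) = 0 := by
  have h := allLt_spec det_all n.val n.isLt
  simp only [Bool.and_eq_true, beq_iff_eq] at h
  have c1 : E6Min.Tables.code (n, 0, 0) = 9 * n.val := by simp [E6Min.Tables.code]
  have c2 : E6Min.Tables.code (n, 1, 1) = 9 * n.val + 4 := by simp [E6Min.Tables.code]
  have c3 : E6Min.Tables.code (n, 2, 2) = 9 * n.val + 8 := by simp [E6Min.Tables.code]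
  have h1 : rel (n, 0, 0) (n, 1, 1) = 2 := by unfold rel; rw [c1, c2]; exact h.1
  have h2 : th (n, 0, 0) (n, 1, 1) = (n, 2, 2) := by
    unfold th; rw [c1, c2, h.2, ← c3, dec_code]
  have h3 := hb _ _ h1
  rwa [h2] at h3

theorem par_x (b : I27 → A) (i : Fin 3) : par b i.val = b (0, i, 0) := by
  unfold par; rw [if_pos i.isLt]; congr; exact Fin.ext (by simp [Fin.ofNat, Nat.mod_eq_of_lt i.isLt])

theorem par_y (b : I27 → A) (i : Fin 3) : par b (3 + i.val) = b (0, 0, 0) - b (0, 0, i) := by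
  unfold par
  rw [if_neg (by omega), if_pos (by omega)]
  congr
  exact Fin.ext (by simp [Fin.ofNat])

theorem par_z (b : I27 → A) (i : Fin 3) : par b (6 + i.val) = -b (1, 0, i) := by
  unfold par
  rw [if_neg (by omega), if_neg (by omega), if_pos (by omega)]
  congr
  exact Fin.ext (by simp [Fin.ofNat]; omega)

include hb in
theorem b_zero (r c : Fin 3) : b (0, r, c) = par b r.val - par b (3 + c.val) := by
  rw [par_x, par_y]
  have h1 := mixed hb r c 0
  have h2 := mixed hb r 0 0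
  have h3 := mixed hb 0 c 0
  have h4 := mixed hb 0 0 0
  linear_combination h1 - h2 - h3 + h4

include hb in
theorem b_one (c k : Fin 3) : b (1, c, k) = par b (3 + c.val) - par b (6 + k.val) := by
  rw [par_y, par_z]
  have h1 := mixed hb 0 c k
  have h2 := mixed hb 0 0 k
  linear_combination h1 - h2

include hb in
theorem b_two (k r : Fin 3) : b (2, k, r) = par b (6 + k.val) - par b r.val := by
  rw [par_x, par_z]
  have h1 := mixed hb r 0 k
  linear_combination h1

include hb in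
theorem par_par : Par (par b) := by
  have x0 := par_x b 0
  have x1 := par_x b 1
  have x2 := par_x b 2
  have y0 := par_y b 0
  have y1 := par_y b 1
  have y2 := par_y b 2
  have z0 := par_z b 0
  have z1 := par_z b 1
  have z2 := par_z b 2
  have e00 := b_zero hb 0 0
  have e11 := b_zero hb 1 1
  have e22 := b_zero hb 2 2
  have f00 := b_one hb 0 0
  have f11 := b_one hb 1 1
  have f22 := b_one hb 2 2
  have p0 := pure3 hb 0
  have p1 := pure3 hb 1
  have s9 : par b 9 = b (0, 0, 0) + b (0, 1, 0) + b (0, 2, 0) := by unfold par; simp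
  simp only [Fin.val_zero, Fin.val_one, Fin.val_two, add_zero, Nat.reduceAdd] at *
  have hx : par b 0 + par b 1 + par b 2 = par b 9 := by rw [x0, x1, x2, s9]
  have hy : par b 3 + par b 4 + par b 5 = par b 9 := by
    rw [← hx]
    linear_combination e00 + e11 + e22 - p0
  refine ⟨hx, hy, ?_⟩
  rw [← hy]
  linear_combination f00 + f11 + f22 - p1

include hb in
/-- the function in terms of the parameters -/
theorem b_eq (x : I27) : b x = lin (par b) (cb (E6Min.Tables.code x)) := by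
  rw [lin_cb _ (code_lt x)]
  obtain ⟨i, r, c⟩ := x
  have e1 : E6Min.Tables.code (i, r, c) / 9 = i.val := by unfold E6Min.Tables.code; simp; omega
  have e2 : E6Min.Tables.code (i, r, c) / 3 % 3 = r.val := by unfold E6Min.Tables.code; simp; omega
  have e3 : E6Min.Tables.code (i, r, c) % 3 = c.val := by unfold E6Min.Tables.code; simp; omega
  rw [e1, e2, e3]
  have hi : i = 0 ∨ i = 1 ∨ i = 2 := (by decide : ∀ i : Fin 3, i = 0 ∨ i = 1 ∨ i = 2) i
  rcases hi with rfl | rfl | rfl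
  · have := b_zero hb r c
    simpa using this
  · have := b_one hb r c
    simpa using this
  · have := b_two hb r c
    simpa using this

include hb in
/-- the value on a root -/
theorem b_root {r : ℕ} (hr : r < 72) : b (row r) - b (sr r (row r)) = frm (par b) (phi.getD r 0) := by
  have h1 : Nat.blt (phi.getD r 0) 81 = true := allLt_spec phi_lt_all r hr
  have h2 : rowN r < 27 := by
    have := allLt_spec row_all r hr
    simp only [Bool.and_eq_true, Nat.blt_eq] at this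
    exact this.1.1.1
  rw [← lin_cf _ (Nat.blt_eq.mp h1), ← root_eq (par_par hb) hr, b_eq hb, b_eq hb, code_sr hr]
  unfold row
  rw [code_dec h2]

end

/-! ## The tables and the check -/

/-- the table for `m = 2`: (multiplicities on `V`, on `L`), 8 bits each -/
def T2 : List (ℕ × ℕ) := [
  (0x100b, 0x202e), (0xc0f, 0x2826), (0x1b, 0x4e)]

/-- the table for `m = 3`: (multiplicities on `V`, on `L`), 8 bits each -/
def T3 : List (ℕ × ℕ) := [
  (0x1b0000, 0x4e), (0x1b00, 0x4e), (0xf0606, 0x151524), (0x60f06, 0x151524), (0x90909, 0x1b1b18),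
  (0x90909, 0x18181e), (0x6060f, 0x151524), (0x1b, 0x4e)]

/-- the table for `m = 4`: (multiplicities on `V`, on `L`), 8 bits each -/
def T4 : List (ℕ × ℕ) := [
  (0x100a0001, 0x1000102e), (0xa1001, 0x1000102e), (0xa0a0205, 0x140a141c), (0xa060605, 0x1014101a),
  (0x8060805, 0x10181016), (0x6060a05, 0x1014101a), (0x20a0a05, 0x140a141c), (0x6080607, 0x14121414),
  (0x6060609, 0x14121414), (0x8020809, 0x1010101e), (0x10000b, 0x20002e), (0xc000f, 0x280026),
  (0x600060f, 0x14021424), (0x1b, 0x4e)]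

/-- the table for `m = 5`: (multiplicities on `V`, on `L`), 8 bits each -/
def T5 : List (ℕ × ℕ) := [
  (0xa10010000, 0x100000102e), (0x10000a0100, 0x1010002e), (0x1100a00, 0x100000102e), (0x10a001000, 0x1010002e),
  (0xa0a050002, 0x140505141c), (0xa000a0502, 0x51414051c), (0x50a000a02, 0x51414051c), (0x50a0a02, 0x140505141c),
  (0x806060304, 0x100d0d1014), (0x608030604, 0xd10100d14), (0x603080604, 0xd10100d14),
  (0x306060804, 0x100d0d1014), (0x60a050105, 0xf0b0b0f1a), (0xa01060505, 0xb0f0f0b1a),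
  (0x506060505, 0x100f0f1010), (0x605050605, 0xf10100f10), (0x1050a0605, 0xf0b0b0f1a), (0x506010a05, 0xb0f0f0b1a),
  (0x505050507, 0xf0f0f0f12), (0x108080109, 0x81010081e), (0x306060309, 0xb12120b14), (0x603030609, 0x120b0b1214),
  (0x801010809, 0x100808101e), (0x606000f, 0x114140124), (0x60000060f, 0x1401011424), (0x1b, 0x4e)]

/-- the table for `m = 7`: (multiplicities on `V`, on `L`), 8 bits each -/
def T7 : List (ℕ × ℕ) := [
  (0x1100a00000000, 0x1000000000102e), (0x50a0a02000000, 0x1405000005141c), (0xa001000010000, 0x10000010002e),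
  (0x100000010a0000, 0x101000002e), (0xa0200050a0000, 0x500141400051c), (0x8080108010100, 0x808080808081e),
  (0xa100100, 0x1000000000102e), (0xa000a00050200, 0x14050514001c), (0x20a0a0500, 0x1405000005141c),
  (0x1010801080800, 0x808080808081e), (0x205000a000a00, 0x14050514001c), (0x10010000a00, 0x10000010002e),
  (0xa0500020a00, 0x500141400051c), (0xa0100001000, 0x101000002e), (0x50a0605000001, 0xf0a01010a0f1a),
  (0xa050005060001, 0xa010f0f010a1a), (0x6000a00050501, 0x10f0a0a0f011a), (0x5060a0501, 0xf0a01010a0f1a),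
  (0x505000a000601, 0x10f0a0a0f011a), (0x60500050a01, 0xa010f0f010a1a), (0x6060804010002, 0x10090404091014),
  (0x6060504030102, 0xe090808090e10), (0x6040006080102, 0x9041010040914), (0x6040106050302, 0x9080e0e080910),
  (0x8000601060402, 0x4100909100414), (0x5010603060402, 0x80e09090e0810), (0x4060306010502, 0x80e09090e0810),
  (0x1080600040602, 0x9041010040914), (0x3050601040602, 0x9080e0e080910), (0x1030405060602, 0xe090808090e10),
  (0x10408060602, 0x10090404091014), (0x4060106000802, 0x4100909100414), (0x4050603030303, 0xc0a0a0a0a0c0e),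
  (0x6030503040303, 0xa0c0a0a0c0a0e), (0x5030304060303, 0xa0a0c0c0a0a0e), (0x4040404040403, 0xb0b0b0b0b0b0c),
  (0x3030306050403, 0xc0a0a0a0a0c0e), (0x3060403030503, 0xa0a0c0c0a0a0e), (0x3040305030603, 0xa0c0a0a0c0a0e),
  (0x3080604020004, 0xc0c05050c0c14), (0x5060204050104, 0xa090b0b090a12), (0x4050506010204, 0xb0a09090a0b12),
  (0x8040003060204, 0xc050c0c050c14), (0x20406080304, 0xc0c05050c0c14), (0x6000802030404, 0x50c0c0c0c0514),
  (0x2010605050404, 0xb0a09090a0b12), (0x6040105020504, 0x90b0a0a0b0912), (0x1050402060504, 0xa090b0b090a12),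
  (0x4030208000604, 0x50c0c0c0c0514), (0x5020501040604, 0x90b0a0a0b0912), (0x2060300040804, 0xc050c0c050c14),
  (0x10501050a0005, 0x50b0a0a0b051a), (0x5010a05000105, 0xa050b0b050a1a), (0xa0501050105, 0x50b0a0a0b051a),
  (0x2060303060205, 0x70c0c0c0c0710), (0x3020606020305, 0xc070c0c070c10), (0x3040404040305, 0xa0c0b0b0c0a0c),
  (0x4030404030405, 0xb0a0c0c0a0b0c), (0x4040303040405, 0xc0b0a0a0b0c0c), (0x100050a010505, 0xa050b0b050a1a),
  (0xa010100050505, 0xb0a05050a0b1a), (0x6030202030605, 0xc0c07070c0c10), (0x5050001010a05, 0xb0a05050a0b1a),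
  (0x1050404050107, 0x70e09090e0712), (0x4010505010407, 0x9070e0e070912), (0x5040101040507, 0xe090707090e12),
  (0x60303060009, 0x2120909120214), (0x80101080009, 0x10080810001e), (0x1000808000109, 0x800101000081e),
  (0x3000606000309, 0x9021212020914), (0x3030303030309, 0xa0a0a0a0a0a12), (0x6030000030609, 0x12090202091214),
  (0x8010000010809, 0x1008000008101e), (0x60600000f, 0x1001414000124), (0x6000006000f, 0x140101140024),
  (0x600000000060f, 0x14010000011424), (0x1b, 0x4e)]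

/-- the table for `m` -/
def TT (m : ℕ) : List (ℕ × ℕ) :=
  if m = 2 then T2 else if m = 3 then T3 else if m = 4 then T4 else if m = 5 then T5 else if m = 7 then T7 else []

/-! ### the check -/

/-- `256 ^ (n mod m)` -/
def pw (m n : ℕ) : ℕ := Nat.pow 256 (Nat.mod n m)

/-- differences of two triples -/
def dd (m x0 x1 x2 y0 y1 y2 : ℕ) : ℕ :=
  Nat.add (Nat.add (Nat.add (pw m (Nat.add x0 (Nat.sub m y0))) (pw m (Nat.add x0 (Nat.sub m y1))))
    (pw m (Nat.add x0 (Nat.sub m y2))))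
  (Nat.add (Nat.add (Nat.add (pw m (Nat.add x1 (Nat.sub m y0))) (pw m (Nat.add x1 (Nat.sub m y1))))
    (pw m (Nat.add x1 (Nat.sub m y2))))
  (Nat.add (Nat.add (pw m (Nat.add x2 (Nat.sub m y0))) (pw m (Nat.add x2 (Nat.sub m y1))))
    (pw m (Nat.add x2 (Nat.sub m y2)))))

/-- `pw` of `e - s` and `s - e` -/
def pm (m s e : ℕ) : ℕ := Nat.add (pw m (Nat.add e (Nat.sub m s))) (pw m (Nat.sub (Nat.add s (Nat.mul 3 m)) e))

/-- the forms `± (x + y + z - s)` -/
def ee (m s x y0 y1 y2 z0 z1 z2 : ℕ) : ℕ :=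
  Nat.add (Nat.add (Nat.add (pm m s (Nat.add (Nat.add x y0) z0)) (pm m s (Nat.add (Nat.add x y0) z1)))
    (pm m s (Nat.add (Nat.add x y0) z2)))
  (Nat.add (Nat.add (Nat.add (pm m s (Nat.add (Nat.add x y1) z0)) (pm m s (Nat.add (Nat.add x y1) z1)))
    (pm m s (Nat.add (Nat.add x y1) z2)))
  (Nat.add (Nat.add (pm m s (Nat.add (Nat.add x y2) z0)) (pm m s (Nat.add (Nat.add x y2) z1)))
    (pm m s (Nat.add (Nat.add x y2) z2))))

/-- packed multiplicities on `V` -/
def nV (m x0 x1 x2 y0 y1 y2 z0 z1 z2 : ℕ) : ℕ :=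
  Nat.add (Nat.add (dd m x0 x1 x2 y0 y1 y2) (dd m y0 y1 y2 z0 z1 z2)) (dd m z0 z1 z2 x0 x1 x2)

/-- packed multiplicities on the roots, plus nine zeros -/
def nL (m s x0 x1 x2 y0 y1 y2 z0 z1 z2 : ℕ) : ℕ :=
  Nat.add (Nat.add (Nat.add (dd m x0 x1 x2 x0 x1 x2) (dd m y0 y1 y2 y0 y1 y2)) (dd m z0 z1 z2 z0 z1 z2))
    (Nat.add (Nat.add (ee m s x0 y0 y1 y2 z0 z1 z2) (ee m s x1 y0 y1 y2 z0 z1 z2)) (ee m s x2 y0 y1 y2 z0 z1 z2))

/-- look up -/
def look (v l : ℕ) : List (ℕ × ℕ) → Bool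
  | [] => false
  | p :: t => (Nat.beq p.1 v && Nat.beq (Nat.add p.2 3) l) || look v l t

/-- all sorted triples below `m` with sum `s` -/
def all3 (m s : ℕ) (p : ℕ → ℕ → ℕ → Bool) : Bool :=
  allLt m fun c => allLt (c + 1) fun b => allLt (b + 1) fun a =>
    !(Nat.beq (Nat.mod (Nat.add (Nat.add a b) c) m) s) || p a b c

/-- the check -/
def chk (m s : ℕ) (T : List (ℕ × ℕ)) : Bool :=
  all3 m s fun x0 x1 x2 => all3 m s fun y0 y1 y2 => all3 m s fun z0 z1 z2 =>
    look (nV m x0 x1 x2 y0 y1 y2 z0 z1 z2) (nL m s x0 x1 x2 y0 y1 y2 z0 z1 z2) T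

theorem chk2 : chk 2 0 T2 = true := by decide +kernel
theorem chk30 : chk 3 0 T3 = true := by decide +kernel
theorem chk31 : chk 3 1 T3 = true := by decide +kernel
theorem chk32 : chk 3 2 T3 = true := by decide +kernel
theorem chk4 : chk 4 0 T4 = true := by decide +kernel
private noncomputable def _root_.Cfsg.Agent.LsF.f172d80_9 : {f // @Cfsg.Agent.H944.E6T.all3 = f} := ⟨_, by first | (delta Cfsg.Agent.H944.E6T.all3; rewrite [Cfsg.Agent.LsF.f172d80_0.2, Cfsg.Agent.LsF.nadd_pat, Cfsg.Agent.LsF.or_eq, Cfsg.Agent.LsF.not_eq]; exact rfl) | exact rfl⟩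
private noncomputable def _root_.Cfsg.Agent.LsF.f172d80_10 : {f // @Cfsg.Agent.H944.E6T.look = f} := ⟨_, by first | (delta Cfsg.Agent.H944.E6T.look List.brecOn List.brecOn.go Cfsg.Agent.H944.E6T.look._f; rewrite [Cfsg.Agent.LsF.and_eq, Cfsg.Agent.LsF.or_eq]; (try delta Cfsg.Agent.H944.E6T.look.match_1); (try delta List.casesOn); first | dsimp -zeta only | exact rfl) | exact rfl⟩
private noncomputable def _root_.Cfsg.Agent.LsF.f172d80_11 : {f // @Cfsg.Agent.H944.E6T.chk = f} := ⟨_, by first | (delta Cfsg.Agent.H944.E6T.chk; rewrite [Cfsg.Agent.LsF.f172d80_9.2, Cfsg.Agent.LsF.f172d80_10.2]; exact rfl) | exact rfl⟩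
theorem chk5 : chk 5 0 T5 = true := by ((try (rewrite [Cfsg.Agent.LsF.f172d80_11.2])); decide +kernel)
theorem chk7 : chk 7 0 T7 = true := by ((try (rewrite [Cfsg.Agent.LsF.f172d80_11.2])); decide +kernel)

/-! ## From the check to the statement -/

section
variable {A : Type*} [CommRing A]

/-- sum over the coordinates -/
def sV (W : A → ℕ) (X Y Z : Fin 3 → A) : ℕ :=
  ∑ i, ∑ j, W (X i - Y j) + ∑ i, ∑ j, W (Y i - Z j) + ∑ i, ∑ j, W (Z i - X j)

/-- sum over the roots (and nine zeros) -/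
def sL (W : A → ℕ) (X Y Z : Fin 3 → A) (s : A) : ℕ :=
  ∑ i, ∑ j, W (X i - X j) + ∑ i, ∑ j, W (Y i - Y j) + ∑ i, ∑ j, W (Z i - Z j) +
    ∑ i, ∑ j, ∑ k, (W (X i + Y j + Z k - s) + W (s - (X i + Y j + Z k)))

theorem sV_perm (W : A → ℕ) (X Y Z : Fin 3 → A) (σ τ υ : Equiv.Perm (Fin 3)) :
    sV W (X ∘ σ) (Y ∘ τ) (Z ∘ υ) = sV W X Y Z := by
  unfold sV
  congr 1
  · congr 1
    · rw [← Equiv.sum_comp σ fun i => ∑ j, W (X i - Y j)]
      exact Finset.sum_congr rfl fun i _ => Equiv.sum_comp τ fun j => W (X (σ i) - Y j)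
    · rw [← Equiv.sum_comp τ fun i => ∑ j, W (Y i - Z j)]
      exact Finset.sum_congr rfl fun i _ => Equiv.sum_comp υ fun j => W (Y (τ i) - Z j)
  · rw [← Equiv.sum_comp υ fun i => ∑ j, W (Z i - X j)]
    exact Finset.sum_congr rfl fun i _ => Equiv.sum_comp σ fun j => W (Z (υ i) - X j)

theorem sL_perm (W : A → ℕ) (X Y Z : Fin 3 → A) (s : A) (σ τ υ : Equiv.Perm (Fin 3)) :
    sL W (X ∘ σ) (Y ∘ τ) (Z ∘ υ) s = sL W X Y Z s := by
  unfold sL
  congr 1
  · congr 1
    · congr 1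
      · rw [← Equiv.sum_comp σ fun i => ∑ j, W (X i - X j)]
        exact Finset.sum_congr rfl fun i _ => Equiv.sum_comp σ fun j => W (X (σ i) - X j)
      · rw [← Equiv.sum_comp τ fun i => ∑ j, W (Y i - Y j)]
        exact Finset.sum_congr rfl fun i _ => Equiv.sum_comp τ fun j => W (Y (τ i) - Y j)
    · rw [← Equiv.sum_comp υ fun i => ∑ j, W (Z i - Z j)]
      exact Finset.sum_congr rfl fun i _ => Equiv.sum_comp υ fun j => W (Z (υ i) - Z j)
  · rw [← Equiv.sum_comp σ fun i => ∑ j, ∑ k, (W (X i + Y j + Z k - s) + W (s - (X i + Y j + Z k)))]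
    refine Finset.sum_congr rfl fun i _ => ?_
    rw [← Equiv.sum_comp τ fun j => ∑ k, (W (X (σ i) + Y j + Z k - s) + W (s - (X (σ i) + Y j + Z k)))]
    refine Finset.sum_congr rfl fun j _ => ?_
    exact Equiv.sum_comp υ fun k => (W (X (σ i) + Y (τ j) + Z k - s) + W (s - (X (σ i) + Y (τ j) + Z k)))

theorem sV_shift (W : A → ℕ) (X Y Z : Fin 3 → A) (t : A) :
    sV W (fun i => X i + t) (fun i => Y i + t) (fun i => Z i + t) = sV W X Y Z := by
  unfold sV
  simp only [add_sub_add_right_eq_sub]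

theorem sL_shift (W : A → ℕ) (X Y Z : Fin 3 → A) (s t : A) :
    sL W (fun i => X i + t) (fun i => Y i + t) (fun i => Z i + t) (s + 3 * t) = sL W X Y Z s := by
  unfold sL
  simp only [add_sub_add_right_eq_sub]
  congr 1
  refine Finset.sum_congr rfl fun i _ => Finset.sum_congr rfl fun j _ => Finset.sum_congr rfl fun k _ => ?_
  congr 2 <;> ring

/-! ### from the coordinates to the triples -/

theorem sum_getD (f : ℕ → ℕ) : ∀ l : List ℕ, ∑ r ∈ Finset.range l.length, f (l.getD r 0) = (l.map f).sum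
  | [] => by simp
  | a :: l => by
    rw [List.length_cons, Finset.sum_range_succ', List.map_cons, List.sum_cons]
    have h := sum_getD f l
    simp only [List.getD_cons_succ, List.getD_cons_zero]
    rw [h, add_comm]

theorem phi_perm : (phi ++ psi).Perm (List.range 81) := by decide +kernel

theorem sum27 (g : ℕ → ℕ) : ∑ n ∈ Finset.range 27, g n =
    ∑ i : Fin 3, ∑ j : Fin 3, ∑ k : Fin 3, g (9 * i.val + 3 * j.val + k.val) := by
  simp only [Finset.sum_range_succ, Finset.sum_range_zero, Fin.sum_univ_three, Fin.val_zero, Fin.val_one, Fin.val_two,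
    mul_zero, mul_one, zero_add, add_zero, Nat.reduceMul, Nat.reduceAdd]
  ring

variable {b : I27 → A} (hb : ∀ x y, rel x y = 2 → b x + b y + b (th x y) = 0)

theorem frm_a (w : ℕ → A) (i j k : Fin 3) : frm w (9 * i.val + 3 * j.val + k.val) =
    w (3 * i.val + j.val) - w (3 * i.val + k.val) := by
  unfold frm
  rw [if_pos (by omega)]
  congr 2 <;> omega

theorem frm_p (w : ℕ → A) (i j k : Fin 3) : frm w (27 + (9 * i.val + 3 * j.val + k.val)) =
    w i.val + w (3 + j.val) + w (6 + k.val) - w 9 := by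
  unfold frm
  rw [if_neg (by omega), if_pos (by omega), show (27 + (9 * i.val + 3 * j.val + k.val) - 27) / 9 = i.val by omega,
    show (27 + (9 * i.val + 3 * j.val + k.val) - 27) / 3 % 3 = j.val by omega,
    show (27 + (9 * i.val + 3 * j.val + k.val)) % 3 = k.val by omega]

theorem frm_m (w : ℕ → A) (i j k : Fin 3) : frm w (27 + (27 + (9 * i.val + 3 * j.val + k.val))) =
    w 9 - (w i.val + w (3 + j.val) + w (6 + k.val)) := by
  unfold frm
  rw [if_neg (by omega), if_neg (by omega),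
    show (27 + (27 + (9 * i.val + 3 * j.val + k.val)) - 54) / 9 = i.val by omega,
    show (27 + (27 + (9 * i.val + 3 * j.val + k.val)) - 54) / 3 % 3 = j.val by omega,
    show (27 + (27 + (9 * i.val + 3 * j.val + k.val))) % 3 = k.val by omega]

include hb in
theorem sum_coord (W : A → ℕ) : ∑ x : I27, W (b x) =
    sV W (fun i => par b i.val) (fun i => par b (3 + i.val)) (fun i => par b (6 + i.val)) := by
  rw [Fintype.sum_prod_type, Fin.sum_univ_three]
  unfold sV
  simp only [Fintype.sum_prod_type]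
  simp only [b_zero hb, b_one hb, b_two hb]

include hb in
theorem sum_root (W : A → ℕ) : ∑ r ∈ Finset.range 72, W (b (row r) - b (sr r (row r))) + 9 * W 0 =
    sL W (fun i => par b i.val) (fun i => par b (3 + i.val)) (fun i => par b (6 + i.val)) (par b 9) := by
  have h1 : ∑ r ∈ Finset.range 72, W (b (row r) - b (sr r (row r))) =
      (phi.map fun n => W (frm (par b) n)).sum := by
    rw [← sum_getD (fun n => W (frm (par b) n)) phi]
    show _ = ∑ r ∈ Finset.range 72, _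
    refine Finset.sum_congr rfl fun r hr => ?_
    rw [b_root hb (Finset.mem_range.1 hr)]
  have h2 : 9 * W 0 = (psi.map fun n => W (frm (par b) n)).sum := by
    simp only [psi, frm, List.map_cons, List.map_nil, List.sum_cons, List.sum_nil]
    norm_num
    ring
  have h3 := (phi_perm.map fun n => W (frm (par b) n)).sum_eq
  rw [List.map_append, List.sum_append] at h3
  rw [h1, h2, h3]
  have h4 : ((List.range 81).map fun n => W (frm (par b) n)).sum = ∑ n ∈ Finset.range 81, W (frm (par b) n) := by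
    rw [Finset.sum, Finset.range_val, ← Multiset.coe_range, Multiset.map_coe, Multiset.sum_coe]
  rw [h4, show (81 : ℕ) = 27 + (27 + 27) from rfl, Finset.sum_range_add, Finset.sum_range_add, sum27, sum27, sum27]
  simp only [frm_a, frm_p, frm_m]
  unfold sL
  simp only [Finset.sum_add_distrib]
  rw [Fin.sum_univ_three (fun i : Fin 3 => ∑ j : Fin 3, ∑ k : Fin 3, W (par b (3 * i.val + j.val) - par b (3 * i.val + k.val)))]
  simp only [Fin.val_zero, Fin.val_one, Fin.val_two, mul_zero, mul_one, zero_add, Nat.reduceMul]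

end

/-! ### `ZMod m` -/

theorem all3_spec {m s : ℕ} {p : ℕ → ℕ → ℕ → Bool} (h : all3 m s p = true) {a b c : ℕ} (hab : a ≤ b) (hbc : b ≤ c)
    (hc : c < m) (hs : (a + b + c) % m = s) : p a b c = true := by
  have h1 := allLt_spec (allLt_spec (allLt_spec h c hc) b (by omega)) a (by omega)
  rw [Bool.or_eq_true] at h1
  rcases h1 with h1 | h1
  · have h2 : Nat.beq (Nat.mod (Nat.add (Nat.add a b) c) m) s = true := Nat.beq_eq.mpr hs
    rw [Bool.not_eq_true', h2] at h1
    exact Bool.noConfusion h1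
  · exact h1

theorem look_spec {v l : ℕ} : ∀ {T : List (ℕ × ℕ)}, look v l T = true → ∃ p ∈ T, p.1 = v ∧ p.2 + 3 = l
  | [], h => by exact absurd h (by simp [look])
  | p :: t, h => by
    unfold look at h
    rw [Bool.or_eq_true, Bool.and_eq_true] at h
    rcases h with ⟨h1, h2⟩ | h
    · exact ⟨p, List.mem_cons_self, Nat.beq_eq.mp h1, Nat.beq_eq.mp h2⟩
    · obtain ⟨q, hq, h1⟩ := look_spec h
      exact ⟨q, List.mem_cons_of_mem _ hq, h1⟩

/-- the weight of a level -/
def W8 {m : ℕ} (a : ZMod m) : ℕ := 256 ^ a.val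

section
variable {m : ℕ} [NeZero m]

theorem W8_sub (a b : ZMod m) : W8 (a - b) = pw m (Nat.add a.val (Nat.sub m b.val)) := by
  unfold W8 pw
  show 256 ^ _ = 256 ^ ((a.val + (m - b.val)) % m)
  congr 1
  rw [← ZMod.val_natCast, Nat.cast_add, Nat.cast_sub (ZMod.val_lt b).le]
  congr 1
  simp [sub_eq_add_neg]

theorem dd_eq (X Y : Fin 3 → ZMod m) : ∑ i, ∑ j, W8 (X i - Y j) =
    dd m (X 0).val (X 1).val (X 2).val (Y 0).val (Y 1).val (Y 2).val := by
  simp only [Fin.sum_univ_three, W8_sub]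
  rw [Nat.add_assoc]
  rfl

theorem pm_eq {s : ℕ} (hs : s < m) (x y z : ZMod m) :
    W8 (x + y + z - (s : ZMod m)) + W8 ((s : ZMod m) - (x + y + z)) =
      pm m s (Nat.add (Nat.add x.val y.val) z.val) := by
  unfold W8 pm pw
  show 256 ^ _ + 256 ^ _ = 256 ^ ((x.val + y.val + z.val + (m - s)) % m) +
    256 ^ ((s + 3 * m - (x.val + y.val + z.val)) % m)
  have hx := ZMod.val_lt x
  have hy := ZMod.val_lt y
  have hz := ZMod.val_lt z
  rw [← ZMod.val_natCast, ← ZMod.val_natCast]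
  congr 3
  · rw [Nat.cast_add, Nat.cast_sub hs.le]
    simp [sub_eq_add_neg]
  · rw [Nat.cast_sub (by omega)]
    simp

theorem ee_eq {s : ℕ} (hs : s < m) (x : ZMod m) (Y Z : Fin 3 → ZMod m) :
    ∑ j, ∑ k, (W8 (x + Y j + Z k - (s : ZMod m)) + W8 ((s : ZMod m) - (x + Y j + Z k))) =
      ee m s x.val (Y 0).val (Y 1).val (Y 2).val (Z 0).val (Z 1).val (Z 2).val := by
  simp only [Fin.sum_univ_three, pm_eq hs]
  rw [Nat.add_assoc]
  rfl

theorem sV_eq (X Y Z : Fin 3 → ZMod m) : sV W8 X Y Z =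
    nV m (X 0).val (X 1).val (X 2).val (Y 0).val (Y 1).val (Y 2).val (Z 0).val (Z 1).val (Z 2).val := by
  unfold sV
  rw [dd_eq, dd_eq, dd_eq]
  rfl

theorem sL_eq {s : ℕ} (hs : s < m) (X Y Z : Fin 3 → ZMod m) : sL W8 X Y Z (s : ZMod m) =
    nL m s (X 0).val (X 1).val (X 2).val (Y 0).val (Y 1).val (Y 2).val (Z 0).val (Z 1).val (Z 2).val := by
  unfold sL
  rw [dd_eq, dd_eq, dd_eq]
  have h : ∑ i, ∑ j, ∑ k, (W8 (X i + Y j + Z k - (s : ZMod m)) + W8 ((s : ZMod m) - (X i + Y j + Z k))) =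
      ∑ i, ee m s (X i).val (Y 0).val (Y 1).val (Y 2).val (Z 0).val (Z 1).val (Z 2).val :=
    Finset.sum_congr rfl fun i _ => ee_eq hs (X i) Y Z
  rw [h, Fin.sum_univ_three]
  rfl

/-- the sorted triple -/
theorem exists_sort (X : Fin 3 → ZMod m) : ∃ σ : Equiv.Perm (Fin 3), (X (σ 0)).val ≤ (X (σ 1)).val ∧
    (X (σ 1)).val ≤ (X (σ 2)).val := by
  have h := Tuple.monotone_sort (fun i => (X i).val)
  exact ⟨Tuple.sort (fun i => (X i).val), h (by decide : (0 : Fin 3) ≤ 1), h (by decide : (1 : Fin 3) ≤ 2)⟩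

theorem sum_mod (X : Fin 3 → ZMod m) {s : ℕ} (hs : s < m) (σ : Equiv.Perm (Fin 3))
    (h : X 0 + X 1 + X 2 = (s : ZMod m)) : ((X (σ 0)).val + (X (σ 1)).val + (X (σ 2)).val) % m = s := by
  rw [← ZMod.val_natCast, Nat.cast_add, Nat.cast_add]
  simp only [ZMod.natCast_val, ZMod.cast_id', id_eq]
  have h1 := Equiv.sum_comp σ X
  rw [Fin.sum_univ_three, Fin.sum_univ_three, h] at h1
  rw [h1, ZMod.val_natCast, Nat.mod_eq_of_lt hs]

theorem core_nat {s : ℕ} (hs : s < m) {T : List (ℕ × ℕ)} (hT : chk m s T = true) (X Y Z : Fin 3 → ZMod m)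
    (hX : X 0 + X 1 + X 2 = (s : ZMod m)) (hY : Y 0 + Y 1 + Y 2 = (s : ZMod m))
    (hZ : Z 0 + Z 1 + Z 2 = (s : ZMod m)) :
    ∃ p ∈ T, p.1 = sV W8 X Y Z ∧ p.2 + 3 = sL W8 X Y Z (s : ZMod m) := by
  obtain ⟨σ, hσ1, hσ2⟩ := exists_sort X
  obtain ⟨τ, hτ1, hτ2⟩ := exists_sort Y
  obtain ⟨υ, hυ1, hυ2⟩ := exists_sort Z
  rw [← sV_perm W8 X Y Z σ τ υ, ← sL_perm W8 X Y Z _ σ τ υ, sV_eq, sL_eq hs]
  have h1 := all3_spec (all3_spec (all3_spec hT hσ1 hσ2 (ZMod.val_lt _) (sum_mod X hs σ hX))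
    hτ1 hτ2 (ZMod.val_lt _) (sum_mod Y hs τ hY)) hυ1 hυ2 (ZMod.val_lt _) (sum_mod Z hs υ hZ)
  exact look_spec h1

/-- the sums for a function on the coordinates are in the table -/
theorem core_sum (hm : m = 2 ∨ m = 3 ∨ m = 4 ∨ m = 5 ∨ m = 7) {b : I27 → ZMod m}
    (hb : ∀ x y, rel x y = 2 → b x + b y + b (th x y) = 0) :
    ∃ p ∈ TT m, p.1 = ∑ x : I27, W8 (b x) ∧
      p.2 = ∑ r ∈ Finset.range 72, W8 (b (row r) - b (sr r (row r))) + 6 := by
  have hP := par_par hb
  have h1 : ∃ p ∈ TT m, p.1 = ∑ x : I27, W8 (b x) ∧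
      p.2 + 3 = ∑ r ∈ Finset.range 72, W8 (b (row r) - b (sr r (row r))) + 9 * W8 (0 : ZMod m) := by
    rw [sum_coord hb, sum_root hb]
    by_cases h3 : m = 3
    · subst h3
      have hs : ((par b 9).val : ZMod 3) = par b 9 := by simp
      have hlt := ZMod.val_lt (par b 9)
      have hc : chk 3 (par b 9).val T3 = true := by
        have : (par b 9).val = 0 ∨ (par b 9).val = 1 ∨ (par b 9).val = 2 := by omega
        rcases this with h | h | h
        · rw [h]; exact chk30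
        · rw [h]; exact chk31
        · rw [h]; exact chk32
      have h2 := core_nat hlt hc (fun i => par b i.val) (fun i => par b (3 + i.val)) (fun i => par b (6 + i.val))
        (by rw [hs]; exact hP.x) (by rw [hs]; exact hP.y) (by rw [hs]; exact hP.z)
      rw [hs] at h2
      exact h2
    · obtain ⟨t, ht⟩ : ∃ t : ZMod m, par b 9 + 3 * t = ((0 : ℕ) : ZMod m) := by
        have key : ∀ s : ZMod m, ∃ t : ZMod m, s + 3 * t = ((0 : ℕ) : ZMod m) := by
          rcases hm with rfl | rfl | rfl | rfl | rfl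
          · decide
          · exact absurd rfl h3
          · decide
          · decide
          · decide
        exact key _
      have hc : chk m 0 (TT m) = true := by
        rcases hm with rfl | rfl | rfl | rfl | rfl
        · exact chk2
        · exact absurd rfl h3
        · exact chk4
        · exact chk5
        · exact chk7
      rw [← sV_shift W8 _ _ _ t, ← sL_shift W8 _ _ _ _ t, ht]
      refine core_nat (Nat.pos_of_ne_zero (NeZero.ne m)) hc _ _ _ ?_ ?_ ?_
      · rw [← ht]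
        have := hP.x
        show par b 0 + t + (par b 1 + t) + (par b 2 + t) = _
        linear_combination this
      · rw [← ht]
        have := hP.y
        show par b 3 + t + (par b 4 + t) + (par b 5 + t) = _
        linear_combination this
      · rw [← ht]
        have := hP.z
        show par b 6 + t + (par b 7 + t) + (par b 8 + t) = _
        linear_combination this
  obtain ⟨p, hp, h2, h3⟩ := h1
  refine ⟨p, hp, h2, ?_⟩
  have h4 : W8 (0 : ZMod m) = 1 := by unfold W8; simp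
  rw [h4] at h3
  omega

end

/-! ### digits -/

/-- the digit number `j` -/
def dg (n j : ℕ) : ℕ := n / 256 ^ j % 256

theorem dg_sum : ∀ (m : ℕ) (c : ℕ → ℕ), (∀ i < m, c i < 256) → ∀ j < m,
    dg (∑ i ∈ Finset.range m, c i * 256 ^ i) j = c j
  | 0, _, _, j, hj => absurd hj (Nat.not_lt_zero j)
  | m + 1, c, hc, j, hj => by
    have h1 : ∑ i ∈ Finset.range (m + 1), c i * 256 ^ i =
        c 0 + 256 * ∑ i ∈ Finset.range m, c (i + 1) * 256 ^ i := by
      rw [Finset.sum_range_succ', Finset.mul_sum, pow_zero, mul_one, add_comm]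
      congr 1
      refine Finset.sum_congr rfl fun i _ => ?_
      rw [pow_succ]; ring
    have h0 := hc 0 (Nat.succ_pos m)
    rw [h1]
    unfold dg
    cases j with
    | zero => rw [pow_zero, Nat.div_one, Nat.add_mul_mod_self_left, Nat.mod_eq_of_lt h0]
    | succ j =>
      have h2 := dg_sum m (fun i => c (i + 1)) (fun i hi => hc (i + 1) (by omega)) j (by omega)
      unfold dg at h2
      rw [pow_succ', ← Nat.div_div_eq_div_mul, Nat.add_mul_div_left _ _ (by norm_num : 0 < 256),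
        Nat.div_eq_of_lt h0, zero_add, h2]

/-- sum over the levels -/
theorem sum_levels {ι : Type*} {m : ℕ} [NeZero m] (s : Finset ι) (f : ι → ZMod m) :
    ∑ x ∈ s, W8 (f x) = ∑ i ∈ Finset.range m, (s.filter fun x => (f x).val = i).card * 256 ^ i := by
  rw [← Finset.sum_fiberwise_of_maps_to (s := s) (t := Finset.range m) (g := fun x => (f x).val)
    (fun x _ => Finset.mem_range.2 (ZMod.val_lt _))]
  refine Finset.sum_congr rfl fun i _ => ?_
  rw [Finset.sum_congr rfl (g := fun _ => 256 ^ i), Finset.sum_const, smul_eq_mul]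
  intro x hx
  unfold W8
  rw [(Finset.mem_filter.1 hx).2]

/-- **The numbers of the coordinates and roots with given level.** -/
theorem core {m : ℕ} (hm : m = 2 ∨ m = 3 ∨ m = 4 ∨ m = 5 ∨ m = 7) {b : I27 → ZMod m}
    (hb : ∀ x y, rel x y = 2 → b x + b y + b (th x y) = 0) :
    ∃ p ∈ TT m, ∀ j < m, ((Finset.univ : Finset I27).filter fun x => (b x).val = j).card = dg p.1 j ∧
      (if j = 0 then 6 else 0) +
        ((Finset.univ : Finset (Fin 72)).filter fun r => (b (row r.val) - b (sr r.val (row r.val))).val = j).card =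
        dg p.2 j := by
  have hm0 : NeZero m := ⟨by omega⟩
  obtain ⟨p, hp, h1, h2⟩ := core_sum hm hb
  refine ⟨p, hp, fun j hj => ⟨?_, ?_⟩⟩
  · rw [h1, sum_levels, dg_sum m _ _ j hj]
    intro i _
    refine lt_of_le_of_lt (Finset.card_filter_le _ _) ?_
    rw [Finset.card_univ]
    decide
  · have h3 : p.2 = ∑ i ∈ Finset.range m, ((if i = 0 then 6 else 0) +
        ((Finset.univ : Finset (Fin 72)).filter fun r =>
          (b (row r.val) - b (sr r.val (row r.val))).val = i).card) * 256 ^ i := by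
      rw [h2, Finset.sum_range fun r => W8 (b (row r) - b (sr r (row r))), sum_levels]
      simp only [add_mul, Finset.sum_add_distrib]
      rw [add_comm]
      congr 1
      rw [Finset.sum_eq_single 0]
      · simp
      · intro i _ hi; rw [if_neg hi, zero_mul]
      · intro h; exact absurd (Finset.mem_range.2 (Nat.pos_of_ne_zero hm0.out)) h
    rw [h3, dg_sum m _ _ j hj]
    intro i _
    have h4 : ((Finset.univ : Finset (Fin 72)).filter fun r =>
          (b (row r.val) - b (sr r.val (row r.val))).val = i).card ≤ 72 :=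
      (Finset.card_filter_le _ _).trans (by rw [Finset.card_univ, Fintype.card_fin])
    split_ifs <;> omega

end Cfsg.Agent.H944.E6T
end

-- part: H944/E6Tab
section
/-!
# Class tables of the elements of order 2, 3, 4, 5, 7 of `E₆` (helper944)

* `exists_diag` : `x ∈ Zgrp K` (`K` algebraically closed) of order prime to `p` is conjugate to a diagonal element
  `diag d`; its image in the adjoint group is diagonal with the entries `1` and `d (row r) / d (sr r (row r))`; and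
  `d x d y d (x ∘ y) = 1` for the 45 triads;
* `exists_mult` : the joint multiplicities of the eigenvalues on `V` and `L` are in the table `TT m`;
* `tab_of`, `tab_descend`, `Tor.tab_closed`, `Tor.tab` : the structure `Tab` of `H163/E6/Defs.lean`.
-/

set_option autoImplicit false

namespace Cfsg.Agent.H944.E6T

open Cfsg.Lie Module
open scoped Matrix
open Cfsg.Agent.ChevalleyStructure Cfsg.Agent.ChevalleyStructure.Elts Cfsg.Agent.ChevalleyStructure.RootVecTab
open Cfsg.Agent.ChevalleyStructure.E6Min.Tables Cfsg.Agent.ChevalleyStructure.E6Min.Basic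
  Cfsg.Agent.ChevalleyStructure.E6Min.Checks Cfsg.Agent.ChevalleyStructure.E6Min.Checks2
  Cfsg.Agent.ChevalleyStructure.E6Min.Adjoint Cfsg.Agent.ChevalleyStructure.E6Min.Forms
  Cfsg.Agent.ChevalleyStructure.E6Min.Elim Cfsg.Agent.ChevalleyStructure.E6Min.Inv
open Cfsg.Agent.BpExc.TorAll Cfsg.Agent.BpExc.TorChev
open Cfsg.Agent.Tits.Roots Cfsg.Agent.Nodes.BNOf Cfsg.Agent.Nodes.RGDChev Cfsg.Agent.KFacts.RgdChevCoord
open Cfsg.Agent.ChevalleyStructure.CoxeterGeom Cfsg.Agent.ChevalleyStructure.CoxeterGeomTypes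

universe u

theorem typeE6 : IsType chevE6 6 CoxeterMatrix.E₆ := by simp [IsType, typeList]

theorem inE6 : InList chevE6 := by simp [InList]

/-- two coordinates are separated by the support of some `N_r` -/
theorem sep_all : allLt 27 (fun i => allLt 27 fun j => (i == j) ||
    !(allLt 72 fun r => (sgN r i == 0) || !(sgN r j == 0))) = true := by decide +kernel

theorem exists_of_not_allLt {n : ℕ} {p : ℕ → Bool} (h : allLt n p = false) : ∃ k < n, p k = false := by
  by_contra hne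
  push Not at hne
  rw [allLt_intro (fun k hk => Bool.of_not_eq_false (hne k hk))] at h
  exact Bool.noConfusion h

theorem sep {x y : I27} (h : x ≠ y) : ∃ r < 72, sg r x ≠ 0 ∧ sg r y = 0 := by
  have h1 := allLt_spec (allLt_spec sep_all _ (code_lt x)) _ (code_lt y)
  simp only [Bool.or_eq_true, beq_iff_eq, Bool.not_eq_true'] at h1
  rcases h1 with h1 | h1
  · exact absurd (code_injective h1) h
  · obtain ⟨r, hr, h2⟩ := exists_of_not_allLt h1
    simp only [Bool.or_eq_false_iff, beq_eq_false_iff_ne, Bool.not_eq_false', beq_iff_eq] at h2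
    exact ⟨r, hr, h2.1, h2.2⟩

section
variable {K : Type u} [Field K]

/-- the combination with one coefficient -/
theorem comb_single (r : Fin chevE6.nroots) (a : K) :
    comb (fun row => if row = Sum.inr r then a else 0) = a • Nm K r.val := by
  rw [comb_def, Finset.sum_eq_single (Sum.inr r)]
  · rw [if_pos rfl]; rfl
  · intro u _ hu; rw [if_neg hu, zero_smul]
  · intro h; exact absurd (Finset.mem_univ _) h

theorem Nm_ne_zero {r : ℕ} (hr : r < 72) : Nm K r ≠ 0 := by
  intro h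
  have h1 := congrFun (congrFun h (row r)) (sr r (row r))
  rw [Nm_apply, if_pos rfl, Matrix.zero_apply] at h1
  have h2 := sg_sq r (row r) (row_spec hr).1
  have h3 : ((sg r (row r) : ℤ) : K) * ((sg r (row r) : ℤ) : K) = 1 := by
    rw [← Int.cast_mul, h2, Int.cast_one]
  rw [h1, zero_mul] at h3
  exact zero_ne_one h3

theorem sg_cast_ne_zero {r : ℕ} {x : I27} (h : sg r x ≠ 0) : ((sg r x : ℤ) : K) ≠ 0 := by
  intro h1
  have h2 := sg_sq r x h
  have h3 : ((sg r x : ℤ) : K) * ((sg r x : ℤ) : K) = 1 := by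
    rw [← Int.cast_mul, h2, Int.cast_one]
  rw [h1, zero_mul] at h3
  exact zero_ne_one h3

/-- if the image in the adjoint group is diagonal, the element itself is diagonal -/
theorem diag_of_ad {t : ↥(Zgrp K)} {e : Fin chevE6.nroots → K}
    (ht : (((ad K t : ↥(chevE6.group K)) : GL chevE6.Idx K) : Matrix chevE6.Idx chevE6.Idx K) =
      Matrix.diagonal (Sum.elim (fun _ => (1 : K)) e)) :
    ∃ d : I27 → Kˣ, ((t : GL I27 K) : Matrix I27 I27 K) = Matrix.diagonal (fun x => (d x : K)) ∧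
      (∀ r : Fin chevE6.nroots, e r = (d (row r.val) : K) * ((d (sr r.val (row r.val)))⁻¹ : Kˣ)) := by
  classical
  set T : Matrix I27 I27 K := ((t : GL I27 K) : Matrix I27 I27 K) with hT
  have h1 : ∀ r : Fin chevE6.nroots, T * Nm K r.val = e r • (Nm K r.val * T) := by
    intro r
    have h2 := ad_P t (Sum.inr r)
    rw [ht] at h2
    have h3 : (fun row => (Matrix.diagonal (Sum.elim (fun _ : Fin chevE6.rank => (1 : K)) e) : Matrix chevE6.Idx
        chevE6.Idx K) row (Sum.inr r)) = fun row => if row = Sum.inr r then e r else 0 := by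
      funext row
      rw [Matrix.diagonal_apply]
      by_cases h : row = Sum.inr r
      · rw [if_pos h, if_pos h, h, Sum.elim_inr]
      · rw [if_neg h, if_neg h]
    rw [h3, comb_single, smul_mul_assoc] at h2
    exact h2
  have hTi : T * ((((t : GL I27 K)⁻¹ : GL I27 K)) : Matrix I27 I27 K) = 1 := by
    rw [hT, ← Units.val_mul, mul_inv_cancel, Units.val_one]
  have hNT : ∀ r : Fin chevE6.nroots, Nm K r.val * T ≠ 0 := by
    intro r h
    have h2 : Nm K r.val * (T * ((((t : GL I27 K)⁻¹ : GL I27 K)) : Matrix I27 I27 K)) = 0 := by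
      rw [← mul_assoc, h, zero_mul]
    rw [hTi, mul_one] at h2
    exact Nm_ne_zero (lt72 r) h2
  have hTN : ∀ r : Fin chevE6.nroots, T * Nm K r.val ≠ 0 := by
    intro r h
    have h2 : ((((t : GL I27 K)⁻¹ : GL I27 K)) : Matrix I27 I27 K) * (T * Nm K r.val) = 0 := by
      rw [h, mul_zero]
    rw [← mul_assoc, hT, ← Units.val_mul, inv_mul_cancel, Units.val_one, one_mul] at h2
    exact Nm_ne_zero (lt72 r) h2
  have he0 : ∀ r : Fin chevE6.nroots, e r ≠ 0 := by
    intro r h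
    exact hTN r (by rw [h1 r, h, zero_smul])
  -- opposite roots
  have hopp : ∀ r s : Fin chevE6.nroots, s.val = 71 - r.val → e r * e s = 1 := by
    intro r s hs
    have h2 : T * (Nm K r.val * Nm K s.val * Nm K r.val) =
        (e r * e s * e r) • (Nm K r.val * Nm K s.val * Nm K r.val * T) := by
      calc T * (Nm K r.val * Nm K s.val * Nm K r.val) = (T * Nm K r.val) * Nm K s.val * Nm K r.val := by
            simp only [mul_assoc]
        _ = e r • (Nm K r.val * (T * Nm K s.val) * Nm K r.val) := by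
            rw [h1 r, smul_mul_assoc, smul_mul_assoc, mul_assoc (Nm K r.val) T]
        _ = e r • e s • (Nm K r.val * Nm K s.val * (T * Nm K r.val)) := by
            rw [h1 s, mul_smul_comm, smul_mul_assoc, ← mul_assoc (Nm K r.val), mul_assoc _ T]
        _ = e r • e s • e r • (Nm K r.val * Nm K s.val * Nm K r.val * T) := by
            rw [h1 r, mul_smul_comm, ← mul_assoc]
        _ = _ := by rw [smul_smul, smul_smul, mul_assoc]
    rw [hs, Nm_mul_opp_mul (lt72 r), h1 r] at h2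
    have h3 := smul_left_injective K (hNT r) h2
    have h4 : e r * (e r * e s) = e r * 1 := by linear_combination -h3
    exact mul_left_cancel₀ (he0 r) h4
  -- `T` commutes with the diagonal matrices `N_r N_{-r}`
  have hcomm : ∀ (r : ℕ), r < 72 → ∀ x y, T x y * ((ind r y : ℤ) : K) = ((ind r x : ℤ) : K) * T x y := by
    intro r hr x y
    have hs : 71 - r < 72 := by omega
    have h2 : T * (Nm K r * Nm K (71 - r)) = (Nm K r * Nm K (71 - r)) * T := by
      calc T * (Nm K r * Nm K (71 - r)) = (T * Nm K r) * Nm K (71 - r) := (mul_assoc _ _ _).symm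
        _ = e ⟨r, hr⟩ • (Nm K r * (T * Nm K (71 - r))) := by
            rw [h1 ⟨r, hr⟩, smul_mul_assoc, mul_assoc]
        _ = e ⟨r, hr⟩ • e ⟨71 - r, hs⟩ • (Nm K r * (Nm K (71 - r) * T)) := by
            rw [h1 ⟨71 - r, hs⟩, mul_smul_comm]
        _ = (Nm K r * Nm K (71 - r)) * T := by
            rw [smul_smul, hopp ⟨r, hr⟩ ⟨71 - r, hs⟩ rfl, one_smul, mul_assoc]
    rw [Nm_mul_opp hr] at h2
    have h3 := congrFun (congrFun h2 x) y
    rwa [Matrix.mul_diagonal, Matrix.diagonal_mul] at h3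
  have hoff : ∀ x y, x ≠ y → T x y = 0 := by
    intro x y hxy
    obtain ⟨r, hr, h2, h3⟩ := sep hxy
    have h4 := hcomm r hr x y
    rw [ind_of_ne h2, ind_of_eq h3, Int.cast_zero, Int.cast_one, mul_zero, one_mul] at h4
    exact h4.symm
  have hTd : T = Matrix.diagonal (fun x => T x x) := by
    ext x y
    rw [Matrix.diagonal_apply]
    split_ifs with h
    · rw [h]
    · exact hoff x y h
  have hne : ∀ x, T x x ≠ 0 := by
    intro x h
    have h2 := congrFun (congrFun hTi x) x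
    rw [hTd, Matrix.diagonal_mul, h, zero_mul, Matrix.one_apply_eq] at h2
    exact zero_ne_one h2
  refine ⟨fun x => Units.mk0 (T x x) (hne x), ?_, ?_⟩
  · exact hTd
  · intro r
    have h2 := congrFun (congrFun (h1 r) (row r.val)) (sr r.val (row r.val))
    rw [hTd, Matrix.diagonal_mul, Matrix.smul_apply, Matrix.mul_diagonal, Nm_apply, if_pos rfl, smul_eq_mul] at h2
    have h3 : ((sg r.val (row r.val) : ℤ) : K) ≠ 0 := sg_cast_ne_zero (row_spec (lt72 r)).1
    rw [Units.val_inv_eq_inv_val, Units.val_mk0, Units.val_mk0, eq_mul_inv_iff_mul_eq₀ (hne _)]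
    apply mul_right_cancel₀ h3
    linear_combination -h2

/-- relations of the entries on the triads -/
theorem diag_triad {t : ↥(Zgrp K)} {d : I27 → Kˣ}
    (hd : ((t : GL I27 K) : Matrix I27 I27 K) = Matrix.diagonal (fun x => (d x : K))) {m k : I27} (h : rel m k = 2) :
    d m * d k * d (th m k) = 1 := by
  have h1 : ∀ x, ((t : GL I27 K) : Matrix I27 I27 K) *ᵥ E6Min.Forms.e K x = (d x : K) • E6Min.Forms.e K x := by
    intro x
    rw [hd]
    ext y
    rw [Matrix.mulVec_diagonal, Pi.smul_apply, smul_eq_mul, e_apply]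
    by_cases h : y = x
    · rw [h]
    · rw [if_neg h, mul_zero, mul_zero]
  have h2 := E6Min.Torus.diag_rel (Zgrp_le K t.2) h1 h
  exact Units.ext (by rw [Units.val_mul, Units.val_mul, h2, Units.val_one])

variable [IsAlgClosed K]

/-- **Diagonal form of the elements of order prime to `p`.** -/
theorem exists_diag (p : ℕ) [Fact p.Prime] [CharP K p] (hK : HAlg p K) {m : ℕ} (hm0 : m ≠ 0) (hm : m.Coprime p)
    {x : ↥(Zgrp K)} (hx : x ^ m = 1) :
    ∃ (g : ↥(Zgrp K)) (d : I27 → Kˣ),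
      ((((g * x * g⁻¹ : ↥(Zgrp K)) : GL I27 K)) : Matrix I27 I27 K) = Matrix.diagonal (fun x => (d x : K)) ∧
      (((ad K (g * x * g⁻¹) : ↥(chevE6.group K)) : GL chevE6.Idx K) : Matrix chevE6.Idx chevE6.Idx K) =
        Matrix.diagonal (Sum.elim (fun _ => (1 : K))
          (fun r : Fin chevE6.nroots => (((d (row r.val) * (d (sr r.val (row r.val)))⁻¹ : Kˣ)) : K))) ∧
      (∀ i, d i ^ m = 1) ∧
      (∀ m k, rel m k = 2 → d m * d k * d (th m k) = 1) := by
  obtain ⟨g', hg'⟩ := Cfsg.Agent.H944.TorAnyChev.exists_conj_mem_TT typeE6 p hK hm0 hm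
    (show (ad K x) ^ m = 1 by rw [← map_pow, hx, map_one])
  obtain ⟨g, rfl⟩ := ad_surjective (F := K) g'
  obtain ⟨c, hc⟩ := Cfsg.Agent.H944.RootVals.TT_diag typeE6 hg'
  have h1 : ad K g * ad K x * (ad K g)⁻¹ = ad K (g * x * g⁻¹) := by rw [map_mul, map_mul, map_inv]
  rw [h1] at hc
  obtain ⟨d, hd, he⟩ := diag_of_ad hc
  refine ⟨g, d, hd, ?_, ?_, fun m k h => diag_triad hd h⟩
  · rw [hc]
    congr 1
    funext i
    rcases i with i | i
    · rfl
    · rw [Sum.elim_inr, Sum.elim_inr, he i, Units.val_mul]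
  · intro i
    have h2 : (g * x * g⁻¹) ^ m = 1 := by rw [conj_pow, hx, mul_one, mul_inv_cancel]
    have h3 := congrArg (fun y : ↥(Zgrp K) => (((y : GL I27 K)) : Matrix I27 I27 K)) h2
    simp only [Subgroup.coe_pow, Units.val_pow_eq_pow_val, Subgroup.coe_one, Units.val_one] at h3
    rw [hd, Matrix.diagonal_pow] at h3
    have h4 := congrFun (congrFun h3 i) i
    rw [Matrix.diagonal_apply_eq, Matrix.one_apply_eq] at h4
    exact Units.ext (by rw [Units.val_pow_eq_pow_val, Units.val_one]; exact h4)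

end

end Cfsg.Agent.H944.E6T

namespace Cfsg.Agent.H944.E6T


open Cfsg Cfsg.Lie Module
open Cfsg.Agent.ChevalleyStructure Cfsg.Agent.ChevalleyStructure.Elts
open Cfsg.Agent.ChevalleyStructure.E6Min.Tables Cfsg.Agent.ChevalleyStructure.E6Min.Basic
  Cfsg.Agent.ChevalleyStructure.E6Min.Adjoint Cfsg.Agent.ChevalleyStructure.E6Min.Forms
open Cfsg.Agent.H952.F4 (ev es matRep)
open Cfsg.Agent.H163.E6 (V L)
open Cfsg.Agent.BpExc.TorAll

universe u

/-! ### linear algebra -/

theorem ev_diag {K ι : Type*} [Field K] [Fintype ι] [DecidableEq ι] [DecidableEq K] (d : ι → K) (μ : K)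
    {T : Module.End K (ι → K)} (hT : T = Matrix.toLin' (Matrix.diagonal d)) :
    ev T μ = (Finset.univ.filter fun i => d i = μ).card := by
  subst hT
  unfold ev
  have h1 : Module.End.eigenspace (Matrix.toLin' (Matrix.diagonal d)) μ =
      LinearMap.ker (Matrix.toLin' (Matrix.diagonal fun i => d i - μ)) := by
    rw [Module.End.eigenspace_def]
    congr 1
    refine LinearMap.ext fun v => funext fun i => ?_
    rw [LinearMap.sub_apply, Pi.sub_apply, Matrix.toLin'_apply, Matrix.toLin'_apply, Matrix.mulVec_diagonal,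
      Matrix.mulVec_diagonal, sub_mul]
    rfl
  rw [h1]
  have h2 := LinearMap.finrank_range_add_finrank_ker (Matrix.toLin' (Matrix.diagonal fun i => d i - μ))
  have h3 : finrank K ↥(LinearMap.range (Matrix.toLin' (Matrix.diagonal fun i => d i - μ))) =
      Fintype.card {i // d i - μ ≠ 0} := by
    have := Matrix.rank_diagonal (fun i => d i - μ)
    rw [Matrix.rank, ← Matrix.toLin'_apply'] at this
    exact this
  rw [h3, Module.finrank_fintype_fun_eq_card] at h2
  have h4 : Fintype.card {i // d i - μ ≠ 0} = (Finset.univ.filter fun i => ¬ d i = μ).card := by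
    rw [Fintype.card_subtype]
    congr 1
    ext i
    simp [sub_eq_zero]
  have h5 := Finset.card_filter_add_card_filter_not (s := (Finset.univ : Finset ι)) (fun i => d i = μ)
  rw [Finset.card_univ] at h5
  omega

theorem trace_diag {K ι : Type*} [Field K] [Fintype ι] [DecidableEq ι] (d : ι → K)
    {T : Module.End K (ι → K)} (hT : T = Matrix.toLin' (Matrix.diagonal d)) :
    LinearMap.trace K (ι → K) T = ∑ i, d i := by
  rw [hT, Matrix.trace_toLin'_eq, Matrix.trace_diagonal]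

section conj

variable {K M G : Type*} [Field K] [AddCommGroup M] [Module K M] [Group G]

theorem ev_conj (ρ : Representation K G M) (g x : G) (μ : K) : ev (ρ (g * x * g⁻¹)) μ = ev (ρ x) μ := by
  unfold ev
  let e : M ≃ₗ[K] M := LinearEquiv.ofLinearMap (ρ g) (ρ g⁻¹)
    (by rw [← Module.End.mul_eq_comp, ← map_mul, mul_inv_cancel, map_one]; rfl)
    (by rw [← Module.End.mul_eq_comp, ← map_mul, inv_mul_cancel, map_one]; rfl)
  have h1 : Module.End.eigenspace (ρ (g * x * g⁻¹)) μ = (Module.End.eigenspace (ρ x) μ).map (e : M →ₗ[K] M) := by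
    ext v
    rw [Submodule.mem_map, Module.End.mem_eigenspace_iff]
    constructor
    · intro h
      refine ⟨ρ g⁻¹ v, ?_, ?_⟩
      · rw [Module.End.mem_eigenspace_iff]
        have h2 : ρ x (ρ g⁻¹ v) = ρ g⁻¹ (ρ (g * x * g⁻¹) v) := by
          rw [← Module.End.mul_apply, ← Module.End.mul_apply, ← map_mul, ← map_mul]
          congr 2
          group
        rw [h2, h, map_smul]
      · show ρ g (ρ g⁻¹ v) = v
        rw [← Module.End.mul_apply, ← map_mul, mul_inv_cancel, map_one]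
        rfl
    · rintro ⟨w, hw, rfl⟩
      rw [Module.End.mem_eigenspace_iff] at hw
      show ρ (g * x * g⁻¹) (ρ g w) = μ • ρ g w
      have h2 : ρ (g * x * g⁻¹) (ρ g w) = ρ g (ρ x w) := by
        rw [← Module.End.mul_apply, ← Module.End.mul_apply, ← map_mul, ← map_mul]
        congr 2
        group
      rw [h2, hw, map_smul]
  rw [h1]
  exact LinearEquiv.finrank_map_eq e _

theorem trace_conj (ρ : Representation K G M) (g x : G) :
    LinearMap.trace K M (ρ (g * x * g⁻¹)) = LinearMap.trace K M (ρ x) := by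
  rw [map_mul ρ, map_mul ρ, mul_assoc, LinearMap.trace_mul_comm, mul_assoc, ← map_mul ρ, inv_mul_cancel, map_one,
    mul_one]

end conj

/-- sum over the fibres -/
theorem sum_fib {K ι : Type*} [Field K] [DecidableEq K] [Fintype ι] {ζ : K} {m : ℕ} (hζ : IsPrimitiveRoot ζ m)
    (hm : m ≠ 0) (d : ι → K) (hd : ∀ i, d i ^ m = 1) :
    ∑ i, d i = ∑ j ∈ Finset.range m, ((Finset.univ.filter fun i => d i = ζ ^ j).card : K) * ζ ^ j := by
  have : NeZero m := ⟨hm⟩
  have h1 : ∀ i, ∃ j < m, ζ ^ j = d i := fun i => by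
    obtain ⟨j, hj, h⟩ := hζ.eq_pow_of_pow_eq_one (hd i)
    exact ⟨j, hj, h⟩
  choose e he1 he2 using h1
  have h2 : ∀ i j, j < m → (d i = ζ ^ j ↔ e i = j) := by
    intro i j hj
    rw [← he2 i]
    constructor
    · intro h
      exact hζ.pow_inj (he1 i) hj h
    · rintro rfl
      rfl
  rw [← Finset.sum_fiberwise_of_maps_to (s := Finset.univ) (t := Finset.range m) (g := e)
    (fun i _ => Finset.mem_range.2 (he1 i)) d]
  refine Finset.sum_congr rfl fun j hj => ?_
  have h3 : (Finset.univ.filter fun i => d i = ζ ^ j) = Finset.univ.filter fun i => e i = j := by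
    ext i
    simp only [Finset.mem_filter, Finset.mem_univ, true_and]
    exact h2 i j (Finset.mem_range.1 hj)
  rw [h3, Finset.sum_congr rfl (g := fun _ => ζ ^ j), Finset.sum_const, nsmul_eq_mul]
  intro i hi
  rw [← (Finset.mem_filter.1 hi).2]
  exact (he2 i).symm

/-- powers of roots of unity -/
theorem pow_eq_pow_iff_of_coprime {K : Type*} [Field K] {m k : ℕ} (hk : k.Coprime m) {d e : K} (hd : d ^ m = 1)
    (he : e ^ m = 1) (hm : m ≠ 0) : d ^ k = e ^ k ↔ d = e := by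
  constructor
  · intro h
    have he0 : e ≠ 0 := by
      rintro rfl
      rw [zero_pow hm] at he
      exact zero_ne_one he
    have h1 : (d / e) ^ k = 1 := by rw [div_pow, h, div_self (pow_ne_zero _ he0)]
    have h2 : (d / e) ^ m = 1 := by rw [div_pow, hd, he, div_self one_ne_zero]
    have h3 : (d / e) ^ (Nat.gcd k m) = 1 := by
      have h4 := orderOf_dvd_of_pow_eq_one h1
      have h5 := orderOf_dvd_of_pow_eq_one h2
      exact orderOf_dvd_iff_pow_eq_one.1 (Nat.dvd_gcd h4 h5)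
    rw [hk, pow_one] at h3
    exact (div_eq_one_iff_eq he0).1 h3
  · rintro rfl
    rfl

/-- facts on a module with diagonal action of a conjugate -/
theorem diag_facts {ι G K : Type*} [Field K] [Fintype ι] [DecidableEq ι] [DecidableEq K] [Group G]
    (σ : Representation K G (ι → K)) {x g : G} {m : ℕ} {ζ : K} (hζ : IsPrimitiveRoot ζ m) (hm : m ≠ 0) {d : ι → K}
    (hd : ∀ k : ℕ, σ ((g * x * g⁻¹) ^ k) = Matrix.toLin' (Matrix.diagonal fun i => d i ^ k)) (hdm : ∀ i, d i ^ m = 1) :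
    (∀ μ : K, ev (σ x) μ = (Finset.univ.filter fun i => d i = μ).card) ∧
    (LinearMap.trace K _ (σ x) = ∑ j ∈ Finset.range m, (ev (σ x) (ζ ^ j) : K) * ζ ^ j) ∧
    (∀ k j, k.Coprime m → ev (σ (x ^ k)) (ζ ^ (k * j)) = ev (σ x) (ζ ^ j)) ∧
    (m = 4 → ev (σ (x * x)) 1 = ev (σ x) 1 + ev (σ x) (ζ ^ 2)) := by
  have hk : ∀ (k : ℕ) (μ : K), ev (σ (x ^ k)) μ = (Finset.univ.filter fun i => d i ^ k = μ).card := by
    intro k μ
    rw [← ev_conj σ g (x ^ k) μ, ← conj_pow]
    exact ev_diag _ _ (hd k)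
  have h1 : ∀ μ : K, ev (σ x) μ = (Finset.univ.filter fun i => d i = μ).card := by
    intro μ
    have := hk 1 μ
    simpa only [pow_one] using this
  refine ⟨h1, ?_, ?_, ?_⟩
  · rw [← trace_conj σ g x]
    have h2 := hd 1
    simp only [pow_one] at h2
    rw [trace_diag d h2, sum_fib hζ hm d hdm]
    exact Finset.sum_congr rfl fun j _ => by rw [h1]
  · intro k j hkm
    rw [hk, h1]
    congr 1
    ext i
    simp only [Finset.mem_filter, Finset.mem_univ, true_and]
    rw [mul_comm, pow_mul]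
    exact pow_eq_pow_iff_of_coprime hkm (hdm i) (by rw [← pow_mul, mul_comm, pow_mul, hζ.pow_eq_one, one_pow]) hm
  · rintro rfl
    have h2 := hk 2 1
    rw [pow_two] at h2
    rw [h2, h1, h1]
    have sq_one_iff : ∀ {d : K}, d ^ 2 = 1 ↔ d = 1 ∨ d = -1 := by
      intro d
      rw [← sub_eq_zero, show d ^ 2 - 1 = (d - 1) * (d + 1) by ring, mul_eq_zero, sub_eq_zero,
        add_eq_zero_iff_eq_neg]
    have hζ2 : ζ ^ 2 = -1 := by
      have h3 : (ζ ^ 2) ^ 2 = 1 := by rw [← pow_mul]; exact hζ.pow_eq_one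
      rcases sq_one_iff.1 h3 with h4 | h4
      · exact absurd h4 (hζ.pow_ne_one_of_pos_of_lt (by norm_num) (by norm_num))
      · exact h4
    have hne : (1 : K) ≠ ζ ^ 2 := fun h => hζ.pow_ne_one_of_pos_of_lt (by norm_num) (by norm_num) h.symm
    rw [← Finset.card_union_of_disjoint]
    · congr 1
      ext i
      simp only [Finset.mem_filter, Finset.mem_univ, true_and, Finset.mem_union]
      rw [hζ2, sq_one_iff]
    · rw [Finset.disjoint_filter]
      intro i _ h3 h4
      exact hne (h3.symm.trans h4)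

/-- an endomorphism whose fixed space is everything -/
theorem eq_one_of_ev {K M G : Type*} [Field K] [AddCommGroup M] [Module K M] [FiniteDimensional K M] [Group G]
    (σ : Representation K G M) {x : G} (h : ev (σ x) 1 = finrank K M) : σ x = 1 := by
  have h1 : Module.End.eigenspace (σ x) (1 : K) = ⊤ := Submodule.eq_top_of_finrank_eq h
  refine LinearMap.ext fun v => ?_
  have h2 : v ∈ Module.End.eigenspace (σ x) (1 : K) := by rw [h1]; trivial
  rw [Module.End.mem_eigenspace_iff, one_smul] at h2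
  rw [h2]
  rfl

/-! ### the multiplicities -/

variable {K : Type u} [Field K]

theorem V_injective {x : ↥(Zgrp K)} (h : V K x = 1) : x = 1 := by
  apply Subtype.ext
  apply Units.ext
  have h1 : Matrix.toLin' ((x : GL I27 K) : Matrix I27 I27 K) = Matrix.toLin' (1 : Matrix I27 I27 K) := by
    rw [Matrix.toLin'_one]
    exact h
  exact Matrix.toLin'.injective h1

theorem L_injective {x : ↥(Zgrp K)} (h : L K x = 1) : ad K x = 1 := by
  apply Subtype.ext
  apply Units.ext
  have h1 : Matrix.toLin' (((ad K x : ↥(chevE6.group K)) : GL chevE6.Idx K) : Matrix chevE6.Idx chevE6.Idx K) =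
      Matrix.toLin' (1 : Matrix chevE6.Idx chevE6.Idx K) := by
    rw [Matrix.toLin'_one]
    exact h
  exact Matrix.toLin'.injective h1

/-- The multiplicities of the eigenvalues `ζ ^ j` of `x` on `V` and on `L` are `dg v j`, `dg l j`. -/
structure Mult (m : ℕ) (ζ : K) (x : ↥(Zgrp K)) (v l : ℕ) : Prop where
  evV : ∀ j < m, ev (V K x) (ζ ^ j) = dg v j
  evL : ∀ j < m, ev (L K x) (ζ ^ j) = dg l j
  trV : LinearMap.trace K _ (V K x) = ∑ j ∈ Finset.range m, (dg v j : K) * ζ ^ j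
  trL : LinearMap.trace K _ (L K x) = ∑ j ∈ Finset.range m, (dg l j : K) * ζ ^ j
  conjV : ∀ k, k.Coprime m → (∃ g, g * x * g⁻¹ = x ^ k) → ∀ j < m, dg v (k * j % m) = dg v j
  conjL : ∀ k, k.Coprime m → (∃ g, g * x * g⁻¹ = x ^ k) → ∀ j < m, dg l (k * j % m) = dg l j
  sqV : m = 4 → ev (V K (x * x)) 1 = dg v 0 + dg v 2
  sqL : m = 4 → ev (L K (x * x)) 1 = dg l 0 + dg l 2

/-- **Multiplicities of the eigenvalues of the elements of order prime to `p`.** -/
theorem exists_mult [IsAlgClosed K] (p : ℕ) [Fact p.Prime] [CharP K p] (hK : HAlg p K) {m : ℕ}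
    (hm : m = 2 ∨ m = 3 ∨ m = 4 ∨ m = 5 ∨ m = 7) (hmp : m.Coprime p) {ζ : K}
    (hζ : IsPrimitiveRoot ζ m) {x : ↥(Zgrp K)} (hx : x ^ m = 1) :
    ∃ q ∈ TT m, Mult m ζ x q.1 q.2 := by
  classical
  have hm0 : m ≠ 0 := by omega
  have hne : NeZero m := ⟨hm0⟩
  obtain ⟨g, d, hdV, hdL, hdm, htri⟩ := exists_diag p hK hm0 hmp hx
  set t := g * x * g⁻¹ with ht
  have hζ0 : ζ ≠ 0 := hζ.ne_zero hm0
  let z : Kˣ := Units.mk0 ζ hζ0
  have hzu : IsPrimitiveRoot z m := by
    rw [← IsPrimitiveRoot.coe_units_iff]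
    exact hζ
  have hex : ∀ i, ∃ a < m, z ^ a = d i := by
    intro i
    have h1 : ((d i : Kˣ) : K) ^ m = 1 := by
      rw [← Units.val_pow_eq_pow_val, hdm i, Units.val_one]
    obtain ⟨a, ha', ha⟩ := hζ.eq_pow_of_pow_eq_one h1
    refine ⟨a, ha', Units.ext ?_⟩
    rw [Units.val_pow_eq_pow_val, ← ha]
    rfl
  choose a ha' ha using hex
  let b : I27 → ZMod m := fun i => (a i : ZMod m)
  have hzp : ∀ n : ℤ, z ^ n = z ^ ((n : ZMod m).val) := by
    intro n
    rw [← zpow_natCast, ZMod.val_intCast]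
    have h1 : z ^ (m : ℤ) = 1 := by rw [zpow_natCast]; exact hzu.pow_eq_one
    conv_lhs => rw [← Int.emod_add_mul_ediv n m]
    rw [zpow_add, zpow_mul, h1, one_zpow, mul_one]
  have hzinj : ∀ {c c' : ZMod m}, z ^ c.val = z ^ c'.val → c = c' := by
    intro c c' h
    exact ZMod.val_injective m (hzu.pow_inj (ZMod.val_lt _) (ZMod.val_lt _) h)
  have hdb : ∀ i, d i = z ^ (b i).val := by
    intro i
    rw [← ha i, ← zpow_natCast, hzp]
    simp [b]
  have hb : ∀ x y, rel x y = 2 → b x + b y + b (th x y) = 0 := by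
    intro x y hxy
    have h1 := htri x y hxy
    apply hzinj
    rw [hdb, hdb, hdb, ← pow_add, ← pow_add] at h1
    rw [ZMod.val_zero, pow_zero, ← h1, ← zpow_natCast z ((b x).val + (b y).val + (b (th x y)).val), hzp]
    congr 2
    push_cast
    simp
  obtain ⟨q, hq, hcore⟩ := core hm hb
  refine ⟨q, hq, ?_⟩
  -- the entries
  set dV : I27 → K := fun i => (d i : K) with hdVd
  set dL : chevE6.Idx → K := Sum.elim (fun _ => (1 : K))
    (fun r : Fin chevE6.nroots => (((d (row r.val) * (d (sr r.val (row r.val)))⁻¹ : Kˣ)) : K)) with hdLd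
  have hLroot : ∀ r : Fin chevE6.nroots, d (row r.val) * (d (sr r.val (row r.val)))⁻¹ =
      z ^ (b (row r.val) - b (sr r.val (row r.val))).val := by
    intro r
    rw [hdb, hdb, ← zpow_natCast z (b (row r.val)).val, ← zpow_natCast z (b (sr r.val (row r.val))).val, ← zpow_neg,
      ← zpow_add, hzp]
    congr 2
    push_cast
    simp [sub_eq_add_neg]
  have hV : ∀ k : ℕ, V K (t ^ k) = Matrix.toLin' (Matrix.diagonal fun i => dV i ^ k) := by
    intro k
    show Matrix.toLin' (((t ^ k : ↥(Zgrp K)) : GL I27 K) : Matrix I27 I27 K) = _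
    rw [Subgroup.coe_pow, Units.val_pow_eq_pow_val, hdV, Matrix.diagonal_pow]
    rfl
  have hL : ∀ k : ℕ, L K (t ^ k) = Matrix.toLin' (Matrix.diagonal fun i => dL i ^ k) := by
    intro k
    show Matrix.toLin' (((ad K (t ^ k) : ↥(chevE6.group K)) : GL chevE6.Idx K) : Matrix chevE6.Idx chevE6.Idx K) = _
    rw [map_pow, Subgroup.coe_pow, Units.val_pow_eq_pow_val, hdL, Matrix.diagonal_pow]
    rfl
  have hzm : ∀ c : ZMod m, ((z ^ c.val : Kˣ) : K) ^ m = 1 := by
    intro c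
    rw [← Units.val_pow_eq_pow_val, ← pow_mul, mul_comm, pow_mul, hzu.pow_eq_one, one_pow, Units.val_one]
  have hζz : ∀ j : ℕ, ζ ^ j = ((z ^ j : Kˣ) : K) := fun j => by
    rw [Units.val_pow_eq_pow_val]
    rfl
  obtain ⟨v1, v2, v3, v4⟩ := diag_facts (V K) hζ hm0 (x := x) (g := g) (d := dV) hV (fun i => by
    rw [hdVd]; show (d i : K) ^ m = 1; rw [hdb]; exact hzm _)
  obtain ⟨l1, l2, l3, l4⟩ := diag_facts (L K) hζ hm0 (x := x) (g := g) (d := dL) hL (by
    intro i
    rcases i with i | i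
    · exact one_pow _
    · rw [hdLd, Sum.elim_inr, hLroot]; exact hzm _)
  have eV : ∀ j < m, ev (V K x) (ζ ^ j) = dg q.1 j := by
    intro j hj
    rw [v1, ← (hcore j hj).1]
    refine congrArg Finset.card (Finset.filter_congr fun i _ => ?_)
    rw [hζz]
    change ((d i : Kˣ) : K) = _ ↔ _
    rw [hdb]
    constructor
    · intro h
      exact hzu.pow_inj (ZMod.val_lt _) hj (Units.ext h)
    · intro h
      rw [h]
  have eL : ∀ j < m, ev (L K x) (ζ ^ j) = dg q.2 j := by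
    intro j hj
    rw [l1, ← (hcore j hj).2, Finset.card_filter, Fintype.sum_sum_type, ← Finset.card_filter, ← Finset.card_filter]
    congr 1
    · show (Finset.univ.filter fun i : Fin chevE6.rank => (1 : K) = ζ ^ j).card = _
      by_cases h : j = 0
      · subst h
        rw [if_pos rfl, Finset.filter_true_of_mem, Finset.card_univ, Fintype.card_fin]
        · rfl
        · intro i _
          exact (pow_zero ζ).symm
      · rw [if_neg h, Finset.filter_false_of_mem, Finset.card_empty]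
        intro i _ h'
        exact hζ.pow_ne_one_of_pos_of_lt h hj h'.symm
    · show (Finset.univ.filter fun r : Fin 72 => _).card = (Finset.univ.filter fun r : Fin 72 => _).card
      refine congrArg Finset.card (Finset.filter_congr fun r _ => ?_)
      rw [hζz]
      change (((d (row r.val) * (d (sr r.val (row r.val)))⁻¹ : Kˣ)) : K) = _ ↔ _
      rw [hLroot r]
      constructor
      · intro h
        exact hzu.pow_inj (ZMod.val_lt _) hj (Units.ext h)
      · intro h
        rw [h]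
  have hmod : ∀ n : ℕ, ζ ^ n = ζ ^ (n % m) := by
    intro n
    conv_lhs => rw [← Nat.mod_add_div n m, pow_add, pow_mul, hζ.pow_eq_one, one_pow, mul_one]
  refine ⟨eV, eL, ?_, ?_, ?_, ?_, ?_, ?_⟩
  · rw [v2]
    exact Finset.sum_congr rfl fun j hj => by rw [eV j (Finset.mem_range.1 hj)]
  · rw [l2]
    exact Finset.sum_congr rfl fun j hj => by rw [eL j (Finset.mem_range.1 hj)]
  · rintro k hk ⟨h, hh⟩ j hj
    rw [← eV j hj, ← eV _ (Nat.mod_lt _ (Nat.pos_of_ne_zero hm0)), ← hmod, ← v3 k j hk, ← hh, ev_conj]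
  · rintro k hk ⟨h, hh⟩ j hj
    rw [← eL j hj, ← eL _ (Nat.mod_lt _ (Nat.pos_of_ne_zero hm0)), ← hmod, ← l3 k j hk, ← hh, ev_conj]
  · intro h4
    rw [v4 h4, ← eV 0 (by omega), ← eV 2 (by omega), pow_zero]
  · intro h4
    rw [l4 h4, ← eL 0 (by omega), ← eL 2 (by omega), pow_zero]

end Cfsg.Agent.H944.E6T

namespace Cfsg.Agent.H944.E6T


open Cfsg Cfsg.Lie Module
open Cfsg.Agent.ChevalleyStructure Cfsg.Agent.ChevalleyStructure.Elts
open Cfsg.Agent.ChevalleyStructure.E6Min.Tables Cfsg.Agent.ChevalleyStructure.E6Min.Basic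
  Cfsg.Agent.ChevalleyStructure.E6Min.Adjoint
open Cfsg.Agent.H952.F4 (ev es matRep)
open Cfsg.Agent.H163.E6 (V L LK Tab)
open Cfsg.Agent.BpExc.TorAll

universe u

/-! ### reading the tables -/

theorem spec2 : ∀ q ∈ TT 2, dg q.1 0 = 27 ∨
    (dg q.1 0 = 15 ∧ dg q.1 1 = 12 ∧ dg q.2 0 = 38 ∧ dg q.2 1 = 40) ∨
    (dg q.1 0 = 11 ∧ dg q.1 1 = 16 ∧ dg q.2 0 = 46 ∧ dg q.2 1 = 32) := by decide +kernel

theorem spec3 : ∀ q ∈ TT 3, dg q.2 0 = 78 ∨
    (dg q.1 0 = 15 ∧ dg q.1 1 = 6 ∧ dg q.1 2 = 6 ∧ dg q.2 0 = 36 ∧ dg q.2 1 = 21 ∧ dg q.2 2 = 21) ∨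
    (dg q.1 0 = 9 ∧ dg q.1 1 = 9 ∧ dg q.1 2 = 9 ∧ dg q.2 0 = 30 ∧ dg q.2 1 = 24 ∧ dg q.2 2 = 24) ∨
    (dg q.1 0 = 9 ∧ dg q.1 1 = 9 ∧ dg q.1 2 = 9 ∧ dg q.2 0 = 24 ∧ dg q.2 1 = 27 ∧ dg q.2 2 = 27) ∨
    (dg q.1 0 = 6 ∧ dg q.1 1 = 15 ∧ dg q.1 2 = 6 ∧ dg q.2 0 = 36 ∧ dg q.2 1 = 21 ∧ dg q.2 2 = 21) ∨
    (dg q.1 0 = 6 ∧ dg q.1 1 = 6 ∧ dg q.1 2 = 15 ∧ dg q.2 0 = 36 ∧ dg q.2 1 = 21 ∧ dg q.2 2 = 21) := by
  decide +kernel

theorem spec3r : ∀ q ∈ TT 3, dg q.1 2 = dg q.1 1 → dg q.1 0 ≠ 6 := by decide +kernel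

theorem spec4 : ∀ q ∈ TT 4, dg q.1 0 + dg q.1 2 = 27 ∨
    (dg q.1 0 + dg q.1 2 = 15 ∧ dg q.2 0 + dg q.2 2 = 38 ∧ dg q.1 0 = 15 ∧ dg q.1 2 = 0 ∧ dg q.2 0 = 36 ∧
      dg q.2 2 = 2) ∨
    (dg q.1 0 + dg q.1 2 = 11 ∧ dg q.2 0 + dg q.2 2 = 46 ∧ dg q.1 0 = 9 ∧ dg q.1 2 = 2 ∧ dg q.2 0 = 30 ∧
      dg q.2 2 = 16) ∨
    (dg q.1 0 + dg q.1 2 = 15 ∧ dg q.2 0 + dg q.2 2 = 38 ∧ dg q.1 0 = 9 ∧ dg q.1 2 = 6 ∧ dg q.2 0 = 20 ∧
      dg q.2 2 = 18) ∨
    (dg q.1 0 + dg q.1 2 = 15 ∧ dg q.2 0 + dg q.2 2 = 38 ∧ dg q.1 0 = 7 ∧ dg q.1 2 = 8 ∧ dg q.2 0 = 20 ∧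
      dg q.2 2 = 18) ∨
    (dg q.1 0 + dg q.1 2 = 11 ∧ dg q.2 0 + dg q.2 2 = 46 ∧ dg q.1 0 = 5 ∧ dg q.1 2 = 6 ∧ dg q.2 0 = 22 ∧
      dg q.2 2 = 24) ∨
    (dg q.1 0 + dg q.1 2 = 15 ∧ dg q.2 0 + dg q.2 2 = 38 ∧ dg q.1 0 = 5 ∧ dg q.1 2 = 10 ∧ dg q.2 0 = 28 ∧
      dg q.2 2 = 10) ∨
    (dg q.1 0 + dg q.1 2 = 11 ∧ dg q.2 0 + dg q.2 2 = 46 ∧ dg q.1 0 = 5 ∧ dg q.1 2 = 6 ∧ dg q.2 0 = 26 ∧
      dg q.2 2 = 20) ∨
    (dg q.1 0 + dg q.1 2 = 11 ∧ dg q.2 0 + dg q.2 2 = 46 ∧ dg q.1 0 = 1 ∧ dg q.1 2 = 10 ∧ dg q.2 0 = 46 ∧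
      dg q.2 2 = 0) := by decide +kernel

theorem spec4r : ∀ q ∈ TT 4, dg q.1 3 = dg q.1 1 → dg q.1 0 + dg q.1 2 = 27 ∨
    (dg q.1 0 + dg q.1 2 = 15 ∧ dg q.1 0 = 15 ∧ dg q.1 1 = 6 ∧ dg q.1 2 = 0 ∧ dg q.1 3 = 6 ∧
      dg q.2 0 = 36 ∧ dg q.2 1 = 20 ∧ dg q.2 2 = 2 ∧ dg q.2 3 = 20) ∨
    (dg q.1 0 + dg q.1 2 = 11 ∧ dg q.1 0 = 9 ∧ dg q.1 1 = 8 ∧ dg q.1 2 = 2 ∧ dg q.1 3 = 8 ∧
      dg q.2 0 = 30 ∧ dg q.2 1 = 16 ∧ dg q.2 2 = 16 ∧ dg q.2 3 = 16) ∨
    (dg q.1 0 + dg q.1 2 = 15 ∧ dg q.1 0 = 9 ∧ dg q.1 1 = 6 ∧ dg q.1 2 = 6 ∧ dg q.1 3 = 6 ∧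
      dg q.2 0 = 20 ∧ dg q.2 1 = 20 ∧ dg q.2 2 = 18 ∧ dg q.2 3 = 20) ∨
    (dg q.1 0 + dg q.1 2 = 15 ∧ dg q.1 0 = 7 ∧ dg q.1 1 = 6 ∧ dg q.1 2 = 8 ∧ dg q.1 3 = 6 ∧
      dg q.2 0 = 20 ∧ dg q.2 1 = 20 ∧ dg q.2 2 = 18 ∧ dg q.2 3 = 20) ∨
    (dg q.1 0 + dg q.1 2 = 11 ∧ dg q.1 0 = 5 ∧ dg q.1 1 = 8 ∧ dg q.1 2 = 6 ∧ dg q.1 3 = 8 ∧
      dg q.2 0 = 22 ∧ dg q.2 1 = 16 ∧ dg q.2 2 = 24 ∧ dg q.2 3 = 16) := by decide +kernel

theorem spec5 : ∀ q ∈ TT 5, dg q.1 4 = dg q.1 1 → dg q.1 3 = dg q.1 2 → dg q.1 0 = 27 ∨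
    (dg q.1 0 = 15 ∧ dg q.2 0 = 36) ∨ (dg q.1 0 = 9 ∧ dg q.2 0 = 30) ∨
    (dg q.1 0 = 9 ∧ dg q.2 0 = 20) ∨ (dg q.1 0 = 7 ∧ dg q.2 0 = 18) ∨
    (dg q.1 0 = 5 ∧ dg q.2 0 = 16) := by decide +kernel

theorem spec5e1 : ∀ q ∈ TT 5, dg q.1 4 = dg q.1 1 → dg q.1 3 = dg q.1 2 → dg q.1 0 = 15 →
    (dg q.1 1 = 6 ∧ dg q.1 2 = 0) ∨ (dg q.1 1 = 0 ∧ dg q.1 2 = 6) := by decide +kernel

theorem spec5e2 : ∀ q ∈ TT 5, dg q.1 4 = dg q.1 1 → dg q.1 3 = dg q.1 2 → dg q.1 0 = 9 → dg q.2 0 = 30 →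
    (dg q.1 1 = 8 ∧ dg q.1 2 = 1) ∨ (dg q.1 1 = 1 ∧ dg q.1 2 = 8) := by decide +kernel

theorem spec5e3 : ∀ q ∈ TT 5, dg q.1 4 = dg q.1 1 → dg q.1 3 = dg q.1 2 → dg q.1 0 = 9 → dg q.2 0 = 20 →
    (dg q.1 1 = 6 ∧ dg q.1 2 = 3) ∨ (dg q.1 1 = 3 ∧ dg q.1 2 = 6) := by decide +kernel

theorem spec5e4 : ∀ q ∈ TT 5, dg q.1 4 = dg q.1 1 → dg q.1 3 = dg q.1 2 → dg q.1 0 = 7 →
    dg q.1 1 = 5 ∧ dg q.2 1 = 15 := by decide +kernel

theorem spec5e5 : ∀ q ∈ TT 5, dg q.1 4 = dg q.1 1 → dg q.1 3 = dg q.1 2 → dg q.1 0 = 5 →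
    (dg q.1 1 = 6 ∧ dg q.1 2 = 5 ∧ dg q.2 1 = 15 ∧ dg q.2 2 = 16) ∨
      (dg q.1 1 = 5 ∧ dg q.1 2 = 6 ∧ dg q.2 1 = 16 ∧ dg q.2 2 = 15) := by decide +kernel

theorem spec5r : ∀ q ∈ TT 5, dg q.1 2 = dg q.1 1 → dg q.1 4 = dg q.1 2 → dg q.1 1 = dg q.1 3 → dg q.1 0 = 27 ∨
    (dg q.1 0 = 7 ∧ dg q.1 1 = 5 ∧ dg q.1 2 = 5 ∧ dg q.1 3 = 5 ∧ dg q.1 4 = 5 ∧
      dg q.2 0 = 18 ∧ dg q.2 1 = 15 ∧ dg q.2 2 = 15 ∧ dg q.2 3 = 15 ∧ dg q.2 4 = 15) := by decide +kernel

theorem spec7r : ∀ q ∈ TT 7, dg q.1 2 = dg q.1 1 → dg q.1 4 = dg q.1 2 → dg q.1 6 = dg q.1 3 →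
    dg q.1 3 = dg q.1 5 → dg q.1 0 = 27 ∨
    (dg q.1 0 = 9 ∧ dg q.1 1 = 3 ∧ dg q.1 2 = 3 ∧ dg q.1 3 = 3 ∧ dg q.1 4 = 3 ∧ dg q.1 5 = 3 ∧ dg q.1 6 = 3 ∧
      dg q.2 0 = 18 ∧ dg q.2 1 = 10 ∧ dg q.2 2 = 10 ∧ dg q.2 3 = 10 ∧ dg q.2 4 = 10 ∧ dg q.2 5 = 10 ∧
      dg q.2 6 = 10) ∨
    (dg q.1 0 = 3 ∧ dg q.1 1 = 4 ∧ dg q.1 2 = 4 ∧ dg q.1 3 = 4 ∧ dg q.1 4 = 4 ∧ dg q.1 5 = 4 ∧ dg q.1 6 = 4 ∧
      dg q.2 0 = 12 ∧ dg q.2 1 = 11 ∧ dg q.2 2 = 11 ∧ dg q.2 3 = 11 ∧ dg q.2 4 = 11 ∧ dg q.2 5 = 11 ∧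
      dg q.2 6 = 11) ∨
    (dg q.1 0 = 0 ∧ dg q.2 0 = 30 ∧ dg q.2 1 = 8 ∧ dg q.2 2 = 8 ∧ dg q.2 3 = 8 ∧ dg q.2 4 = 8 ∧ dg q.2 5 = 8 ∧
      dg q.2 6 = 8) := by decide +kernel

/-! ### algebraically closed fields -/

section closed

variable {K : Type u} [Field K]

theorem V_one_of_ev {x : ↥(Zgrp K)} (h : ev (V K x) 1 = 27) : x = 1 := by
  apply V_injective
  apply eq_one_of_ev
  rw [h, Module.finrank_fintype_fun_eq_card]
  rfl

theorem ad_one_of_ev {x : ↥(Zgrp K)} (h : ev (L K x) 1 = 78) : ad K x = 1 := by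
  apply L_injective
  apply eq_one_of_ev
  rw [h, Module.finrank_fintype_fun_eq_card]
  rfl

variable [IsAlgClosed K] (p : ℕ) [Fact p.Prime] [CharP K p] (hK : HAlg p K)

include p in
theorem exists_prim {m : ℕ} (hmp : m.Coprime p) : ∃ ζ : K, IsPrimitiveRoot ζ m := by
  have hNk : ((m : ℕ) : K) ≠ 0 := by
    intro h0
    have h1 : p ∣ m := (CharP.cast_eq_zero_iff K p m).1 h0
    have h2 : p ∣ 1 := by
      rw [← hmp]
      exact Nat.dvd_gcd h1 dvd_rfl
    exact (Fact.out : p.Prime).one_lt.ne' (Nat.dvd_one.1 h2)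
  have : NeZero ((m : ℕ) : K) := ⟨hNk⟩
  exact HasEnoughRootsOfUnity.exists_primitiveRoot K m

omit [Fact p.Prime] in
theorem cop {r : ℕ} (hr : r.Prime) [hp : Fact p.Prime] (h : p ≠ r) : r.Coprime p :=
  (Nat.coprime_primes hr hp.out).2 (Ne.symm h)

theorem cop4 (h : p ≠ 2) : (4 : ℕ).Coprime p := by
  have := Nat.Coprime.pow_left 2 (cop p Nat.prime_two h)
  exact this

theorem inv_eq_pow {G : Type*} [Group G] {x : G} {m : ℕ} (hx : x ^ (m + 1) = 1) : x⁻¹ = x ^ m := by
  rw [inv_eq_iff_mul_eq_one, ← pow_succ', hx]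

omit [IsAlgClosed K] in
theorem sq_neg {ζ : K} (hζ : IsPrimitiveRoot ζ 4) : ζ ^ 2 = -1 := by
  have h3 : (ζ ^ 2) ^ 2 = 1 := by rw [← pow_mul]; exact hζ.pow_eq_one
  have h5 : (ζ ^ 2 - 1) * (ζ ^ 2 + 1) = 0 := by linear_combination h3
  rcases mul_eq_zero.1 h5 with h4 | h4
  · exact absurd (sub_eq_zero.1 h4) (hζ.pow_ne_one_of_pos_of_lt (by norm_num) (by norm_num))
  · exact eq_neg_of_add_eq_zero_left h4

include hK in
/-- **The class tables over an algebraically closed field.** -/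
theorem tab_of : Tab p K where
  two := by
    intro hp x hx1 hx
    have hc := cop p Nat.prime_two hp
    obtain ⟨ζ, hζ⟩ := exists_prim (K := K) p hc
    obtain ⟨q, hq, M⟩ := exists_mult p hK (by simp) hc hζ (show x ^ 2 = 1 by rw [pow_two, hx])
    have hn : ζ = -1 := hζ.eq_neg_one_of_two_right
    have e0 := M.evV 0 (by norm_num)
    have f0 := M.evL 0 (by norm_num)
    have tV := M.trV
    have tL := M.trL
    rw [pow_zero] at e0 f0
    simp only [Finset.sum_range_succ, Finset.sum_range_zero, pow_zero, pow_one, zero_add, mul_one] at tV tL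
    rcases spec2 q hq with h | ⟨h1, h2, h3, h4⟩ | ⟨h1, h2, h3, h4⟩
    · rw [h] at e0
      exact absurd (V_one_of_ev e0) hx1
    · left
      rw [tV, tL, e0, f0, h1, h2, h3, h4, hn]
      refine ⟨rfl, rfl, ?_, ?_⟩ <;> push_cast <;> ring
    · right
      rw [tV, tL, e0, f0, h1, h2, h3, h4, hn]
      refine ⟨rfl, rfl, ?_, ?_⟩ <;> push_cast <;> ring
  three := by
    intro hp x hx1 hx
    have hc := cop p Nat.prime_three hp
    obtain ⟨ζ, hζ⟩ := exists_prim (K := K) p hc
    obtain ⟨q, hq, M⟩ := exists_mult p hK (by simp) hc hζ hx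
    have hs := hζ.geom_sum_eq_zero (by norm_num)
    simp only [Finset.sum_range_succ, Finset.sum_range_zero, pow_zero, pow_one, zero_add] at hs
    have e0 := M.evV 0 (by norm_num)
    have f0 := M.evL 0 (by norm_num)
    have tV := M.trV
    have tL := M.trL
    rw [pow_zero] at e0 f0
    simp only [Finset.sum_range_succ, Finset.sum_range_zero, pow_zero, pow_one, zero_add, mul_one] at tV tL
    have h9 : (9 : K) ≠ 0 := by
      intro h
      have h1 : ((9 : ℕ) : K) = 0 := by exact_mod_cast h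
      have h2 : p ∣ 3 ^ 2 := (CharP.cast_eq_zero_iff K p 9).1 h1
      exact hp ((Nat.prime_dvd_prime_iff_eq Fact.out Nat.prime_three).1 ((Fact.out : p.Prime).dvd_of_dvd_pow h2))
    have hζ1 : ζ ≠ 1 := by
      have := hζ.pow_ne_one_of_pos_of_lt (l := 1) (by norm_num) (by norm_num)
      rwa [pow_one] at this
    have hζ2 : ζ ^ 2 ≠ 1 := hζ.pow_ne_one_of_pos_of_lt (by norm_num) (by norm_num)
    rcases spec3 q hq with h | ⟨h1, h2, h3, h4, h5, h6⟩ | ⟨h1, h2, h3, h4, h5, h6⟩ | ⟨h1, h2, h3, h4, h5, h6⟩ |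
      ⟨h1, h2, h3, h4, h5, h6⟩ | ⟨h1, h2, h3, h4, h5, h6⟩
    · rw [h] at f0
      exact absurd (ad_one_of_ev f0) hx1
    · left
      rw [tV, tL, e0, f0, h1, h2, h3, h4, h5, h6]
      refine ⟨rfl, rfl, ?_, ?_⟩
      · push_cast; linear_combination (6 : K) * hs
      · push_cast; linear_combination (21 : K) * hs
    · right; left
      rw [tV, tL, e0, f0, h1, h2, h3, h4, h5, h6]
      refine ⟨rfl, rfl, ?_, ?_⟩
      · push_cast; linear_combination (9 : K) * hs
      · push_cast; linear_combination (24 : K) * hs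
    · right; right; left
      rw [tV, tL, e0, f0, h1, h2, h3, h4, h5, h6]
      refine ⟨rfl, rfl, ?_, ?_⟩
      · push_cast; linear_combination (9 : K) * hs
      · push_cast; linear_combination (27 : K) * hs
    · right; right; right
      rw [tV, tL, e0, f0, h1, h2, h3, h4, h5, h6]
      refine ⟨rfl, rfl, ?_, ?_⟩
      · intro h
        push_cast at h
        have h7 : (9 : K) * (ζ - 1) = 0 := by linear_combination h - (6 : K) * hs
        rcases mul_eq_zero.1 h7 with h8 | h8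
        · exact h9 h8
        · exact hζ1 (sub_eq_zero.1 h8)
      · push_cast; linear_combination (21 : K) * hs
    · right; right; right
      rw [tV, tL, e0, f0, h1, h2, h3, h4, h5, h6]
      refine ⟨rfl, rfl, ?_, ?_⟩
      · intro h
        push_cast at h
        have h7 : (9 : K) * (ζ ^ 2 - 1) = 0 := by linear_combination h - (6 : K) * hs
        rcases mul_eq_zero.1 h7 with h8 | h8
        · exact h9 h8
        · exact hζ2 (sub_eq_zero.1 h8)
      · push_cast; linear_combination (21 : K) * hs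
  three_real := by
    rintro hp x hx1 hx ⟨g, hg⟩
    have hc := cop p Nat.prime_three hp
    obtain ⟨ζ, hζ⟩ := exists_prim (K := K) p hc
    obtain ⟨q, hq, M⟩ := exists_mult p hK (by simp) hc hζ hx
    have e0 := M.evV 0 (by norm_num)
    rw [pow_zero] at e0
    rw [e0]
    have h1 := M.conjV 2 (by norm_num) ⟨g, by rw [hg]; exact inv_eq_pow hx⟩ 1 (by norm_num)
    exact spec3r q hq h1
  four := by
    intro hp x hx1 hx
    have hc := cop4 p hp
    obtain ⟨ζ, hζ⟩ := exists_prim (K := K) p hc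
    obtain ⟨q, hq, M⟩ := exists_mult p hK (by simp) hc hζ hx
    have hs := sq_neg hζ
    have e0 := M.evV 0 (by norm_num)
    have f0 := M.evL 0 (by norm_num)
    have e2 := M.evV 2 (by norm_num)
    have f2 := M.evL 2 (by norm_num)
    rw [pow_zero] at e0 f0
    rw [hs] at e2 f2
    rw [M.sqV rfl, M.sqL rfl, e0, e2, f0, f2]
    rcases spec4 q hq with h | h
    · exfalso
      apply hx1
      apply V_one_of_ev
      rw [M.sqV rfl, h]
    · exact h
  four_real := by
    rintro hp x hx1 hx ⟨g, hg⟩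
    have hc := cop4 p hp
    obtain ⟨ζ, hζ⟩ := exists_prim (K := K) p hc
    obtain ⟨q, hq, M⟩ := exists_mult p hK (by simp) hc hζ hx
    have hs := sq_neg hζ
    have e0 := M.evV 0 (by norm_num)
    have f0 := M.evL 0 (by norm_num)
    have tV := M.trV
    have tL := M.trL
    rw [pow_zero] at e0 f0
    simp only [Finset.sum_range_succ, Finset.sum_range_zero, pow_zero, pow_one, zero_add, mul_one] at tV tL
    have h1 := M.conjV 3 (by norm_num) ⟨g, by rw [hg]; exact inv_eq_pow hx⟩ 1 (by norm_num)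
    rw [M.sqV rfl, e0, f0]
    rcases spec4r q hq h1 with h | ⟨a0, a1, a2, a3, a4, a5, a6, a7, a8⟩ | ⟨a0, a1, a2, a3, a4, a5, a6, a7, a8⟩ |
      ⟨a0, a1, a2, a3, a4, a5, a6, a7, a8⟩ | ⟨a0, a1, a2, a3, a4, a5, a6, a7, a8⟩ |
      ⟨a0, a1, a2, a3, a4, a5, a6, a7, a8⟩
    · exfalso
      apply hx1
      apply V_one_of_ev
      rw [M.sqV rfl, h]
    · left
      rw [tV, tL, a0, a1, a2, a3, a4, a5, a6, a7, a8]
      refine ⟨rfl, rfl, rfl, ?_, ?_⟩
      · push_cast; linear_combination (6 * ζ) * hs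
      · push_cast; linear_combination (2 + 20 * ζ) * hs
    · right; left
      rw [tV, tL, a0, a1, a2, a3, a4, a5, a6, a7, a8]
      refine ⟨rfl, rfl, rfl, ?_, ?_⟩
      · push_cast; linear_combination (2 + 8 * ζ) * hs
      · push_cast; linear_combination (16 + 16 * ζ) * hs
    · right; right; left
      rw [tV, tL, a0, a1, a2, a3, a4, a5, a6, a7, a8]
      refine ⟨rfl, rfl, rfl, ?_, ?_⟩
      · push_cast; linear_combination (6 + 6 * ζ) * hs
      · push_cast; linear_combination (18 + 20 * ζ) * hs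
    · right; right; right; left
      rw [tV, tL, a0, a1, a2, a3, a4, a5, a6, a7, a8]
      refine ⟨rfl, rfl, rfl, ?_, ?_⟩
      · push_cast; linear_combination (8 + 6 * ζ) * hs
      · push_cast; linear_combination (18 + 20 * ζ) * hs
    · right; right; right; right
      rw [tV, tL, a0, a1, a2, a3, a4, a5, a6, a7, a8]
      refine ⟨rfl, rfl, rfl, ?_, ?_⟩
      · push_cast; linear_combination (6 + 8 * ζ) * hs
      · push_cast; linear_combination (24 + 16 * ζ) * hs
  four_i := by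
    rintro hp x hx ⟨g, hg⟩ i hi
    have hc := cop4 p hp
    have h2 : (-1 : K) ≠ 1 := by
      intro h
      have h1 : ((2 : ℕ) : K) = 0 := by push_cast; linear_combination -h
      have h2 : p ∣ 2 := (CharP.cast_eq_zero_iff K p 2).1 h1
      exact hp ((Nat.prime_dvd_prime_iff_eq Fact.out Nat.prime_two).1 h2)
    have hζ : IsPrimitiveRoot i 4 := by
      have h3 : orderOf i = 2 ^ (1 + 1) := orderOf_eq_prime_pow (x := i) (p := 2) (n := 1)
        (by rw [pow_one, pow_two, hi]; exact h2)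
        (by show i ^ 4 = 1; rw [show i ^ 4 = (i * i) * (i * i) by ring, hi]; ring)
      have h4 := IsPrimitiveRoot.orderOf i
      rwa [h3] at h4
    obtain ⟨q, hq, M⟩ := exists_mult p hK (by simp) hc hζ hx
    have e1 := M.evV 1 (by norm_num)
    have e3 := M.evV 3 (by norm_num)
    have h1 := M.conjV 3 (by norm_num) ⟨g, by rw [hg]; exact inv_eq_pow hx⟩ 1 (by norm_num)
    have h3 : i ^ 3 = -i := by rw [pow_succ, pow_two, hi]; ring
    rw [pow_one] at e1
    rw [h3] at e3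
    rw [e1, e3]
    exact h1.symm
  five := by
    rintro hp x hx1 hx ⟨g, hg⟩
    have hc := cop p Nat.prime_five hp
    obtain ⟨ζ, hζ⟩ := exists_prim (K := K) p hc
    obtain ⟨q, hq, M⟩ := exists_mult p hK (by simp) hc hζ hx
    have e0 := M.evV 0 (by norm_num)
    have f0 := M.evL 0 (by norm_num)
    rw [pow_zero] at e0 f0
    have hr : g * x * g⁻¹ = x ^ 4 := by rw [hg]; exact inv_eq_pow hx
    have h1 := M.conjV 4 (by norm_num) ⟨g, hr⟩ 1 (by norm_num)
    have h2 := M.conjV 4 (by norm_num) ⟨g, hr⟩ 2 (by norm_num)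
    rw [e0, f0]
    rcases spec5 q hq h1 h2 with h | h
    · rw [h] at e0
      exact absurd (V_one_of_ev e0) hx1
    · exact h
  five_eig := by
    rintro hp x hx ⟨g, hg⟩ μ hμ1 hμ5
    have hc := cop p Nat.prime_five hp
    have hζ : IsPrimitiveRoot μ 5 := by
      have h3 : orderOf μ = 5 := orderOf_eq_prime hμ5 hμ1
      have h4 := IsPrimitiveRoot.orderOf μ
      rwa [h3] at h4
    obtain ⟨q, hq, M⟩ := exists_mult p hK (by simp) hc hζ hx
    have e0 := M.evV 0 (by norm_num)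
    have f0 := M.evL 0 (by norm_num)
    have e1 := M.evV 1 (by norm_num)
    have f1 := M.evL 1 (by norm_num)
    have e2 := M.evV 2 (by norm_num)
    have f2 := M.evL 2 (by norm_num)
    rw [pow_zero] at e0 f0
    rw [pow_one] at e1 f1
    have hr : g * x * g⁻¹ = x ^ 4 := by rw [hg]; exact inv_eq_pow hx
    have h1 := M.conjV 4 (by norm_num) ⟨g, hr⟩ 1 (by norm_num)
    have h2 := M.conjV 4 (by norm_num) ⟨g, hr⟩ 2 (by norm_num)
    rw [e0, f0, e1, f1, e2, f2]
    exact ⟨spec5e1 q hq h1 h2, spec5e2 q hq h1 h2, spec5e3 q hq h1 h2, spec5e4 q hq h1 h2, spec5e5 q hq h1 h2⟩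
  five_rat := by
    rintro hp x hx1 hx ⟨g, hg⟩
    have hc := cop p Nat.prime_five hp
    obtain ⟨ζ, hζ⟩ := exists_prim (K := K) p hc
    obtain ⟨q, hq, M⟩ := exists_mult p hK (by simp) hc hζ hx
    have hs := hζ.geom_sum_eq_zero (by norm_num)
    simp only [Finset.sum_range_succ, Finset.sum_range_zero, pow_zero, pow_one, zero_add] at hs
    have e0 := M.evV 0 (by norm_num)
    have f0 := M.evL 0 (by norm_num)
    have tV := M.trV
    have tL := M.trL
    rw [pow_zero] at e0 f0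
    simp only [Finset.sum_range_succ, Finset.sum_range_zero, pow_zero, pow_one, zero_add, mul_one] at tV tL
    have h1 := M.conjV 2 (by norm_num) ⟨g, hg⟩ 1 (by norm_num)
    have h2 := M.conjV 2 (by norm_num) ⟨g, hg⟩ 2 (by norm_num)
    have h3 := M.conjV 2 (by norm_num) ⟨g, hg⟩ 3 (by norm_num)
    rcases spec5r q hq h1 h2 h3 with h | ⟨a0, a1, a2, a3, a4, b0, b1, b2, b3, b4⟩
    · rw [h] at e0
      exact absurd (V_one_of_ev e0) hx1
    · rw [tV, tL, e0, f0, a0, a1, a2, a3, a4, b0, b1, b2, b3, b4]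
      refine ⟨rfl, rfl, ?_, ?_⟩
      · push_cast; linear_combination (5 : K) * hs
      · push_cast; linear_combination (15 : K) * hs
  seven_rat := by
    rintro hp x hx1 hx ⟨g, hg⟩
    have hc := cop p (by norm_num : (7 : ℕ).Prime) hp
    obtain ⟨ζ, hζ⟩ := exists_prim (K := K) p hc
    obtain ⟨q, hq, M⟩ := exists_mult p hK (by simp) hc hζ hx
    have hs := hζ.geom_sum_eq_zero (by norm_num)
    simp only [Finset.sum_range_succ, Finset.sum_range_zero, pow_zero, pow_one, zero_add] at hs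
    have e0 := M.evV 0 (by norm_num)
    have f0 := M.evL 0 (by norm_num)
    have tV := M.trV
    have tL := M.trL
    rw [pow_zero] at e0 f0
    simp only [Finset.sum_range_succ, Finset.sum_range_zero, pow_zero, pow_one, zero_add, mul_one] at tV tL
    have h1 := M.conjV 2 (by norm_num) ⟨g, hg⟩ 1 (by norm_num)
    have h2 := M.conjV 2 (by norm_num) ⟨g, hg⟩ 2 (by norm_num)
    have h3 := M.conjV 2 (by norm_num) ⟨g, hg⟩ 3 (by norm_num)
    have h5 := M.conjV 2 (by norm_num) ⟨g, hg⟩ 5 (by norm_num)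
    rcases spec7r q hq h1 h2 h3 h5 with h | ⟨a0, a1, a2, a3, a4, a5, a6, b0, b1, b2, b3, b4, b5, b6⟩ |
      ⟨a0, a1, a2, a3, a4, a5, a6, b0, b1, b2, b3, b4, b5, b6⟩ | ⟨a0, b0, b1, b2, b3, b4, b5, b6⟩
    · rw [h] at e0
      exact absurd (V_one_of_ev e0) hx1
    · left
      rw [tV, tL, e0, f0, a0, a1, a2, a3, a4, a5, a6, b0, b1, b2, b3, b4, b5, b6]
      refine ⟨rfl, rfl, ?_, ?_⟩
      · push_cast; linear_combination (3 : K) * hs
      · push_cast; linear_combination (10 : K) * hs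
    · right; left
      rw [tV, tL, e0, f0, a0, a1, a2, a3, a4, a5, a6, b0, b1, b2, b3, b4, b5, b6]
      refine ⟨rfl, rfl, ?_, ?_⟩
      · push_cast; linear_combination (4 : K) * hs
      · push_cast; linear_combination (11 : K) * hs
    · right; right
      rw [tL, e0, f0, a0, b0, b1, b2, b3, b4, b5, b6]
      refine ⟨rfl, rfl, ?_⟩
      push_cast; linear_combination (8 : K) * hs

end closed

/-! ### change of fields -/

section chg

variable {F K : Type u} [Field F] [Field K] (f : F →+* K)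

theorem zM_map (r : ℕ) (t : F) : (zM r t).map f = zM r (f t) := by
  ext x y
  simp only [zM_def, Matrix.map_apply, Matrix.add_apply, Matrix.smul_apply, Nm_apply, Matrix.one_apply, map_add,
    smul_eq_mul, map_mul, apply_ite f, map_one, map_zero, map_intCast]

/-- the map of matrices -/
def gm : GL I27 F →* GL I27 K := Units.map (f.mapMatrix : Matrix I27 I27 F →+* Matrix I27 I27 K).toMonoidHom

theorem coe_gm (g : GL I27 F) : ((gm f g : GL I27 K) : Matrix I27 I27 K) = (g : Matrix I27 I27 F).map f := rfl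

theorem gm_mem {g : GL I27 F} (hg : g ∈ Zgrp F) : gm f g ∈ Zgrp K := by
  have h : Zgrp F ≤ (Zgrp K).comap (gm f) := by
    unfold Zgrp
    rw [Subgroup.closure_le]
    rintro g ⟨r, t, hr, hg⟩
    refine Subgroup.subset_closure ⟨r, f t, hr, ?_⟩
    rw [coe_gm, hg, zM_map]
  exact h hg

/-- **The homomorphism of the simply connected groups given by a homomorphism of fields.** -/
def jm : ↥(Zgrp F) →* ↥(Zgrp K) := ((gm f).comp (Zgrp F).subtype).codRestrict (Zgrp K) fun g => gm_mem f g.2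

theorem coe_jm (g : ↥(Zgrp F)) : (((jm f g : ↥(Zgrp K)) : GL I27 K) : Matrix I27 I27 K) =
    ((g : GL I27 F) : Matrix I27 I27 F).map f := rfl

theorem jm_injective : Function.Injective (jm f) := by
  intro a b hab
  apply Subtype.ext
  apply Units.ext
  have h1 : ((a : GL I27 F) : Matrix I27 I27 F).map f = ((b : GL I27 F) : Matrix I27 I27 F).map f := by
    rw [← coe_jm, ← coe_jm, hab]
  exact Matrix.map_injective f.injective h1

theorem B_map (c : chevE6.Idx) : (B F c).map f = B K c := by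
  rcases c with i | r
  · rw [B_inl, B_inl]
    ext x y
    simp only [Matrix.map_apply, Hm_apply, apply_ite f, map_zero, map_intCast]
  · rw [B_inr, B_inr]
    ext x y
    simp only [Matrix.map_apply, Nm_apply, apply_ite f, map_zero, map_intCast]

theorem comb_map (c : chevE6.Idx → F) : (comb c).map f = comb (fun i => f (c i)) := by
  ext x y
  rw [Matrix.map_apply, comb_def, comb_def, Matrix.sum_apply, Matrix.sum_apply, map_sum]
  refine Finset.sum_congr rfl fun i _ => ?_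
  rw [Matrix.smul_apply, Matrix.smul_apply, smul_eq_mul, smul_eq_mul, map_mul, ← B_map f i, Matrix.map_apply]

/-- compatibility with the adjoint representation -/
theorem ad_jm (g : ↥(Zgrp F)) : ad K (jm f g) = Cfsg.Agent.GpExc.Field.emb inE6 f (ad F g) := by
  apply Subtype.ext
  apply Units.ext
  refine P_unique (g := ((jm f g : ↥(Zgrp K)) : GL I27 K)) (ad_P (jm f g)) ?_
  intro col
  have h : (((g : GL I27 F) : Matrix I27 I27 F) * B F col).map f = (comb (fun row =>
      ((((ad F g : ↥(chevE6.group F)) : GL chevE6.Idx F) : Matrix chevE6.Idx chevE6.Idx F)) row col) *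
        ((g : GL I27 F) : Matrix I27 I27 F)).map f := congrArg (fun X : Matrix I27 I27 F => X.map f) (ad_P g col)
  rw [Matrix.map_mul, Matrix.map_mul, B_map, comb_map] at h
  rw [coe_jm, h]
  rfl

theorem ev_V (g : ↥(Zgrp F)) (μ : F) : ev (V K (jm f g)) (f μ) = ev (V F g) μ :=
  H815.F4Chg.ev_map f ((g : GL I27 F) : Matrix I27 I27 F) μ

theorem trace_V (g : ↥(Zgrp F)) : LinearMap.trace K _ (V K (jm f g)) = f (LinearMap.trace F _ (V F g)) :=
  H815.F4Chg.trace_map f ((g : GL I27 F) : Matrix I27 I27 F)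

theorem L_jm (g : ↥(Zgrp F)) : L K (jm f g) = Matrix.toLin'
    ((((ad F g : ↥(chevE6.group F)) : GL chevE6.Idx F) : Matrix chevE6.Idx chevE6.Idx F).map f) := by
  rw [Cfsg.Agent.H163.E6.L_eq, ad_jm]
  rfl

theorem ev_L (g : ↥(Zgrp F)) (μ : F) : ev (L K (jm f g)) (f μ) = ev (L F g) μ := by
  rw [L_jm]
  exact H815.F4Chg.ev_map f _ μ

theorem trace_L (g : ↥(Zgrp F)) : LinearMap.trace K _ (L K (jm f g)) = f (LinearMap.trace F _ (L F g)) := by
  rw [L_jm]
  exact H815.F4Chg.trace_map f _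

include f in
/-- **Descent of the class tables.** -/
theorem tab_descend (p : ℕ) (T : Tab p K) : Tab p F := by
  have hfi : Function.Injective f := f.injective
  have eV1 : ∀ x, ev (V K (jm f x)) 1 = ev (V F x) 1 := fun x => by rw [← ev_V f, map_one]
  have eL1 : ∀ x, ev (L K (jm f x)) 1 = ev (L F x) 1 := fun x => by rw [← ev_L f, map_one]
  have eVn : ∀ x, ev (V K (jm f x)) (-1) = ev (V F x) (-1) := fun x => by rw [← ev_V f, map_neg, map_one]
  have eLn : ∀ x, ev (L K (jm f x)) (-1) = ev (L F x) (-1) := fun x => by rw [← ev_L f, map_neg, map_one]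
  have ne : ∀ {x : ↥(Zgrp F)}, x ≠ 1 → jm f x ≠ 1 := fun h h' => h (jm_injective f (by rw [h', map_one]))
  have nead : ∀ {x : ↥(Zgrp F)}, ad F x ≠ 1 → ad K (jm f x) ≠ 1 := fun h h' => by
    rw [ad_jm] at h'
    exact h (Cfsg.Agent.GpExc.Field.emb_injective inE6 f (by rw [h', map_one]))
  have po : ∀ {x : ↥(Zgrp F)} {k : ℕ}, x ^ k = 1 → (jm f x) ^ k = 1 := fun h => by rw [← map_pow, h, map_one]
  have ct : ∀ {a : F} (n : ℤ), f a = (n : K) → a = n := fun {a} n h => hfi (by rw [h, map_intCast])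
  have re : ∀ {x : ↥(Zgrp F)}, (∃ g, g * x * g⁻¹ = x⁻¹) → ∃ g, g * jm f x * g⁻¹ = (jm f x)⁻¹ := by
    rintro x ⟨g, hg⟩
    exact ⟨jm f g, by rw [← map_inv, ← map_mul, ← map_mul, hg, map_inv]⟩
  refine ⟨?_, ?_, ?_, ?_, ?_, ?_, ?_, ?_, ?_, ?_⟩
  · intro hp x hx1 hx
    have h := T.two hp (jm f x) (ne hx1) (by rw [← map_mul, hx, map_one])
    rw [eV1, eL1, trace_V, trace_L] at h
    rcases h with ⟨h1, h2, h3, h4⟩ | ⟨h1, h2, h3, h4⟩
    · left
      refine ⟨h1, h2, ?_, ?_⟩
      · exact_mod_cast ct 3 (by exact_mod_cast h3)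
      · exact_mod_cast ct (-2) (by exact_mod_cast h4)
    · right
      refine ⟨h1, h2, ?_, ?_⟩
      · exact_mod_cast ct (-5) (by exact_mod_cast h3)
      · exact_mod_cast ct 14 (by exact_mod_cast h4)
  · intro hp x hx1 hx
    have h := T.three hp (jm f x) (nead hx1) (po hx)
    rw [eV1, eL1, trace_V, trace_L] at h
    rcases h with ⟨h1, h2, h3, h4⟩ | ⟨h1, h2, h3, h4⟩ | ⟨h1, h2, h3, h4⟩ | ⟨h1, h2, h3, h4⟩
    · left
      refine ⟨h1, h2, ?_, ?_⟩
      · exact_mod_cast ct 9 (by exact_mod_cast h3)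
      · exact_mod_cast ct 15 (by exact_mod_cast h4)
    · right; left
      refine ⟨h1, h2, ?_, ?_⟩
      · exact_mod_cast ct 0 (by exact_mod_cast h3)
      · exact_mod_cast ct 6 (by exact_mod_cast h4)
    · right; right; left
      refine ⟨h1, h2, ?_, ?_⟩
      · exact_mod_cast ct 0 (by exact_mod_cast h3)
      · exact_mod_cast ct (-3) (by exact_mod_cast h4)
    · right; right; right
      refine ⟨h1, h2, ?_, ?_⟩
      · intro h5
        apply h3
        rw [h5]
        exact map_ofNat f 9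
      · exact_mod_cast ct 15 (by exact_mod_cast h4)
  · intro hp x hx1 hx hr
    have h := T.three_real hp (jm f x) (nead hx1) (po hx) (re hr)
    rwa [eV1] at h
  · intro hp x hx1 hx
    have h := T.four hp (jm f x) (by rw [← map_mul]; exact ne hx1) (po hx)
    rw [← map_mul, eV1, eL1, eV1, eVn, eL1, eLn] at h
    exact h
  · intro hp x hx1 hx hr
    have h := T.four_real hp (jm f x) (by rw [← map_mul]; exact ne hx1) (po hx) (re hr)
    rw [← map_mul, eV1, eV1, eL1, trace_V, trace_L] at h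
    rcases h with ⟨h1, h2, h3, h4, h5⟩ | ⟨h1, h2, h3, h4, h5⟩ | ⟨h1, h2, h3, h4, h5⟩ | ⟨h1, h2, h3, h4, h5⟩ |
      ⟨h1, h2, h3, h4, h5⟩
    · left
      refine ⟨h1, h2, h3, ?_, ?_⟩
      · exact_mod_cast ct 15 (by exact_mod_cast h4)
      · exact_mod_cast ct 34 (by exact_mod_cast h5)
    · right; left
      refine ⟨h1, h2, h3, ?_, ?_⟩
      · exact_mod_cast ct 7 (by exact_mod_cast h4)
      · exact_mod_cast ct 14 (by exact_mod_cast h5)
    · right; right; left
      refine ⟨h1, h2, h3, ?_, ?_⟩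
      · exact_mod_cast ct 3 (by exact_mod_cast h4)
      · exact_mod_cast ct 2 (by exact_mod_cast h5)
    · right; right; right; left
      refine ⟨h1, h2, h3, ?_, ?_⟩
      · exact_mod_cast ct (-1) (by exact_mod_cast h4)
      · exact_mod_cast ct 2 (by exact_mod_cast h5)
    · right; right; right; right
      refine ⟨h1, h2, h3, ?_, ?_⟩
      · exact_mod_cast ct (-1) (by exact_mod_cast h4)
      · exact_mod_cast ct (-2) (by exact_mod_cast h5)
  · intro hp x hx hr i hi
    have h := T.four_i hp (jm f x) (po hx) (re hr) (f i) (by rw [← map_mul, hi, map_neg, map_one])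
    rw [← map_neg, ev_V, ev_V] at h
    exact h
  · intro hp x hx1 hx hr
    have h := T.five hp (jm f x) (ne hx1) (po hx) (re hr)
    rw [eV1, eL1] at h
    exact h
  · intro hp x hx hr μ hμ1 hμ5
    have h := T.five_eig hp (jm f x) (po hx) (re hr) (f μ) (fun h => hμ1 (hfi (by rw [h, map_one])))
      (by rw [← map_pow, hμ5, map_one])
    rw [← map_pow, ev_V, ev_V, ev_L, ev_L, eV1, eL1] at h
    exact h
  · rintro hp x hx1 hx ⟨g, hg⟩
    have h := T.five_rat hp (jm f x) (ne hx1) (po hx) ⟨jm f g, by rw [← map_inv, ← map_mul, ← map_mul, hg, map_pow]⟩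
    rw [eV1, eL1, trace_V, trace_L] at h
    obtain ⟨h1, h2, h3, h4⟩ := h
    refine ⟨h1, h2, ?_, ?_⟩
    · exact_mod_cast ct 2 (by exact_mod_cast h3)
    · exact_mod_cast ct 3 (by exact_mod_cast h4)
  · rintro hp x hx1 hx ⟨g, hg⟩
    have h := T.seven_rat hp (jm f x) (ne hx1) (po hx) ⟨jm f g, by rw [← map_inv, ← map_mul, ← map_mul, hg, map_pow]⟩
    rw [eV1, eL1, trace_V, trace_L] at h
    rcases h with ⟨h1, h2, h3, h4⟩ | ⟨h1, h2, h3, h4⟩ | ⟨h1, h2, h4⟩
    · left
      refine ⟨h1, h2, ?_, ?_⟩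
      · exact_mod_cast ct 6 (by exact_mod_cast h3)
      · exact_mod_cast ct 8 (by exact_mod_cast h4)
    · right; left
      refine ⟨h1, h2, ?_, ?_⟩
      · exact_mod_cast ct (-1) (by exact_mod_cast h3)
      · exact_mod_cast ct 1 (by exact_mod_cast h4)
    · right; right
      refine ⟨h1, h2, ?_⟩
      exact_mod_cast ct 22 (by exact_mod_cast h4)

end chg

end Cfsg.Agent.H944.E6T

namespace Cfsg.Agent.H163.E6.Tor

open Cfsg Cfsg.Lie Module
open Cfsg.Agent.BpExc.TorAll

universe u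

theorem tab_closed (p : ℕ) [Fact p.Prime] {F : Type u} [Field F] [Finite F] [CharP F p] :
    Tab p (AlgebraicClosure F) := by
  have hch : CharP (AlgebraicClosure F) p := charP_of_injective_algebraMap
    (algebraMap F (AlgebraicClosure F)).injective p
  have hK : HAlg p (AlgebraicClosure F) := Cfsg.Agent.H944.RootVals.hAlg_closure p F
  exact H944.E6T.tab_of p hK

theorem tab (p : ℕ) [Fact p.Prime] {F : Type u} [Field F] [Finite F] [CharP F p] : Tab p F :=
  H944.E6T.tab_descend (algebraMap F (AlgebraicClosure F)) p (tab_closed p)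

end Cfsg.Agent.H163.E6.Tor
end

private theorem dce_835eac453bc3 : _root_.True := by
  try have : _root_.True := by simp only [_root_.Cfsg.Agent.H944.E6T.look.eq_def]
  try have : _root_.True := by simp only [_root_.Cfsg.Agent.H944.E6T.look.eq_2]
  try have : _root_.True := by simp only [_root_.Cfsg.Agent.H944.E6T.look.eq_1]
  try have : _root_.True := by simp only [_root_.Cfsg.Agent.ChevalleyStructure.E6Min.Tables.code.eq_1]
  try have : _root_.True := by simp only [_root_.Cfsg.Agent.H944.E6T.psi.eq_1]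
  try have : _root_.True := by simp only [_root_.Cfsg.Agent.H944.E6T.frm.eq_1]
  exact _root_.True.intro
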