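import Mathlib
import Cfsg.Agent.H952.F4.Scott_m3
import Cfsg.Agent.H65.E6Ext_m3
import Cfsg.Agent.H944.E6Tab
import Cfsg.Agent.ChevalleyStructure.TwE6Basic
import Cfsg.Agent.BpExc.EmbInst
import Cfsg.Agent.H952.F4.Jord
import Cfsg.Agent.FastGrp
import Cfsg.Agent.Prune
set_option linter.all false

section
prune_inst 0x7ffeb9fbebfcafffdfff7e7ff6decffc39915fffa6fffd4bffe861ffafdf378a0dc56b8d8de012fe1ff7e21410ba7853fffffeffea6ffe7ffffdfff41ffbee4ff5f7b508519c8cb41fbc0fff03f0778e7f3fffffffffffffffffffffffffffbeffbfffffffff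

-- part: H163/E6/Sit
section
set_option linter.all false

/-!
# S5927, S5928: the situation (helper163)

`Sit H n φ` : the consequences of maximality used by the case analysis, valid for maximal subgroups of `E₆(q)` (`F = F_q`)
and of `²E₆(q)` (`F = F_{q²}`, the subgroup mapped into `chevE6.group F`). `Small`, `Twist`: the additional facts of
the two situations.
-/

set_option autoImplicit false

namespace Cfsg.Agent.H163.E6

open Cfsg Cfsg.Lie Module
open Cfsg.Agent.ChevalleyStructure.E6Min.Tables Cfsg.Agent.ChevalleyStructure.E6Min.Basic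
  Cfsg.Agent.ChevalleyStructure.E6Min.Adjoint
open Cfsg.Agent.H952.F4 (ev es matRep sh cr tf MaxAlt)

universe u

variable {F : Type u} [Field F]

structure Sit (H : Subgroup ↥(chevE6.group F)) (n : ℕ) (φ : ↥(alternatingGroup (Fin n)) →* ↥(chevE6.group F)) :
    Prop where
  inj : Function.Injective φ
  le : φ.range ≤ H
  norm : ∀ h ∈ H, ∀ a ∈ φ.range, h * a * h⁻¹ ∈ φ.range
  sq : ∀ h ∈ H, h * h ∈ φ.range
  card : Nat.card ↥H ≤ if n = 6 then 1440 else n.factorial
  five : n = 5 → H = φ.range ∨ ∀ a ∈ φ.range, a ≠ 1 → a ^ 5 = 1 → ∃ h ∈ H, h * a * h⁻¹ = a ^ 2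
  /-- the centralizer of the alternating group in `H` is trivial -/
  cent : ∀ h ∈ H, (∀ a, φ a * h = h * φ a) → h = 1
  /-- no fixed vectors -/
  no_fixed : ∀ ψ : ↥(alternatingGroup (Fin n)) →* ↥(Zgrp F), Lift φ ψ →
    Representation.invariants (MonoidHom.comp (V F) ψ) = ⊥ ∧ Representation.invariants (MonoidHom.comp (V' F) ψ) = ⊥
  /-- no `H`-stable lines -/
  no_line : ∀ ρ : Representation F ↥(Zgrp F) (I27 → F), (ρ = V F ∨ ρ = V' F) → ∀ W : Submodule F (I27 → F),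
    Stab ρ H W → finrank F ↥W ≠ 1
  /-- no totally singular 3-dimensional subspace stable under the alternating group (SING3) -/
  no_three : (n ≠ 5 ∨ (2 : F) ≠ 0) → ∀ ρ : Representation F ↥(Zgrp F) (I27 → F), (ρ = V F ∨ ρ = V' F) →
    ∀ W : Submodule F (I27 → F), Stab ρ φ.range W → finrank F ↥W = 3 → ¬ TS W
  /-- SING3 over the quadratic extension, if `t² = t + 1` has no root in `F` (for `E₆(q)` only) -/
  no_three_ext : (n ≠ 5 ∨ (2 : F) ≠ 0) → (∀ t : F, t * t ≠ t + 1) → ∀ (E : Type u) [Field E] [Finite E] (f : F →+* E),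
    Nat.card E = Nat.card F ^ 2 → ∀ ρ : Representation E ↥(Zgrp E) (I27 → E), (ρ = V E ∨ ρ = V' E) →
    ∀ W : Submodule E (I27 → E), (∀ g : ↥(Zgrp F), ad F g ∈ φ.range → ∀ w ∈ W, ρ (H65.E6Emb.emb f g) w ∈ W) →
    finrank E ↥W = 3 → ¬ TS W
  /-- no totally singular 6-dimensional subspace stable under the alternating group (SING6) -/
  no_six : ∀ ρ : Representation F ↥(Zgrp F) (I27 → F), (ρ = V F ∨ ρ = V' F) →
    ∀ W : Submodule F (I27 → F), Stab ρ φ.range W → finrank F ↥W = 6 → ¬ TS W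
  /-- no one-parameter group `1 + t a` (for example root elements) commutes with the alternating group -/
  no_add : ∀ a : (I27 → F) →ₗ[F] (I27 → F), a ≠ 0 → (∀ x, a (a x) = 0) →
    (∀ t : F, ∃ g : ↥(Zgrp F), (∀ x, V F g x = x + t • a x) ∧ ∀ b, φ b * ad F g = ad F g * φ b) → False

/-- additional fact for `E₆(q)` -/
def Small (H : Subgroup ↥(chevE6.group F)) : Prop :=
  ∀ ρ : Representation F ↥(Zgrp F) (I27 → F), (ρ = V F ∨ ρ = V' F) → ∀ W : Submodule F (I27 → F),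
    Stab ρ H W → 1 ≤ finrank F ↥W → 4 ≤ finrank F ↥W

/-- the derived subgroup of the preimage of the alternating group: `A` itself or the three-fold cover -/
noncomputable def Bgrp {A : Type*} [Group A] (φ : A →* ↥(chevE6.group F)) : Subgroup ↥(Zgrp F) :=
  ⁅φ.range.comap (ad F), φ.range.comap (ad F)⁆

/-- additional facts for `²E₆(q)`, `|F| = q²` -/
structure Twist (q : ℕ) {A : Type*} [Group A] (φ : A →* ↥(chevE6.group F)) : Prop where
  card : Nat.card F = q ^ 2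
  /-- the centre of the cover belongs to the unitary group -/
  cov : ∀ ω : Fˣ, Cover φ ω → ω ^ (q + 1) = 1
  /-- `V` twisted by the Frobenius map is the dual of `V` -/
  eig : ∀ g ∈ Bgrp φ, ∀ μ : F, μ ≠ 0 → ev (V F g) (μ ^ q) = ev (V F g) μ⁻¹

end Cfsg.Agent.H163.E6
end

-- part: H944/E6TwC
section
set_option linter.all false
open scoped Cfsg.Agent.FastGrp

-- part: H944/E6Tw
section
/-!
# The 27-dimensional module of `²E₆(q)` (helper944)

`K` a field with `q²` elements, `φ` its automorphism `t ↦ t ^ q`.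

* `Q` : a diagonal matrix with entries `± 1`; `sZ φ g = Q⁻¹ gU (φ g) Q` (`gU g = P g⁻ᵀ P`) is the Steinberg endomorphism of
  `Zgrp K` above `TwE6Basic.sg φ`;
* `Gs φ` : its fixed points; they are mapped onto `twistedE6 K q` by `ad K`;
* `J φ x = Q φ(x)` : a semilinear bijection `V → V'` and `V' → V` commuting with `Gs φ`.
-/

set_option autoImplicit false

namespace Cfsg.Agent.H944.E6Tw

open Cfsg Cfsg.Lie Module
open scoped Matrix
open Cfsg.Agent.ChevalleyStructure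
open Cfsg.Agent.ChevalleyStructure.E6Min.Tables Cfsg.Agent.ChevalleyStructure.E6Min.Basic
  Cfsg.Agent.ChevalleyStructure.E6Min.Adjoint Cfsg.Agent.ChevalleyStructure.E6Min.Forms
open Cfsg.Agent.H184.GraphE6 (gU gU_mul gU_gU dual coe_dual dual_dual pi pi_pi PM PM_apply PM_mulVec PM_sq
  PM_transpose PU coe_PU PU_sq zM_transpose Nm_transpose dual_PU)
open Cfsg.Agent.H944.E6T (gm coe_gm zM_map)
open Cfsg.Agent.ChevalleyStructure.TwE6Basic (rho epsE)

universe u

/-! ### the diagonal matrix -/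

/-- the signs -/
def qs : List ℤ := [1, -1, 1, -1, 1, -1, 1, -1, 1, -1, -1, -1, 1, 1, 1, -1, -1, -1, -1, 1, -1, -1, 1, -1, -1, 1, -1]

/-- the sign of a coordinate -/
def qe (x : I27) : ℤ := qs.getD (E6Min.Tables.code x) 0

theorem qe_sq : ∀ x : I27, qe x * qe x = 1 := by decide +kernel

theorem qe_pi : ∀ x : I27, qe (pi x) = qe x := by decide +kernel

/-- the check of the relation with the graph automorphism -/
theorem rel_all : ∀ (r : Fin 72) (x : I27),
    (sg (71 - r) (pi x) = 0 ∧ sg (rho r) x = 0) ∨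
    (-(sg (71 - r) (pi x)) = epsE r * qe x * sg (rho r) x * qe (sr (rho r) x) ∧
      pi (sr (71 - r) (pi x)) = sr (rho r) x) := by decide +kernel

section ring

variable {F : Type*} [CommRing F]

/-- the diagonal matrix -/
def QM (F : Type*) [CommRing F] : Matrix I27 I27 F := Matrix.diagonal fun x => ((qe x : ℤ) : F)

theorem QM_sq : QM F * QM F = 1 := by
  unfold QM
  rw [Matrix.diagonal_mul_diagonal, ← Matrix.diagonal_one]
  congr 1
  funext x
  rw [← Int.cast_mul, qe_sq, Int.cast_one]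

theorem QM_transpose : (QM F)ᵀ = QM F := Matrix.diagonal_transpose _

theorem QM_mulVec (v : I27 → F) (x : I27) : (QM F *ᵥ v) x = ((qe x : ℤ) : F) * v x := by
  unfold QM; rw [Matrix.mulVec_diagonal]

theorem PM_mul (M : Matrix I27 I27 F) (x y : I27) : (PM F * M) x y = M (pi x) y := by
  rw [Matrix.mul_apply]
  simp only [PM_apply, ite_mul, one_mul, zero_mul, Finset.sum_ite_eq', Finset.mem_univ, if_true]

theorem mul_PM (M : Matrix I27 I27 F) (x y : I27) : (M * PM F) x y = M x (pi y) := by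
  have h := congrFun (congrFun (congrArg Matrix.transpose (Matrix.transpose_mul (PM F) Mᵀ)) x) y
  rw [Matrix.transpose_transpose] at h
  have h1 : ((PM F * Mᵀ)ᵀ) x y = (M * PM F) x y := by
    rw [Matrix.transpose_mul, Matrix.transpose_transpose, PM_transpose]
  rw [← h1, Matrix.transpose_apply, PM_mul, Matrix.transpose_apply]

/-- `P Q P = Q` -/
theorem PQP : PM F * QM F * PM F = QM F := by
  ext x y
  rw [mul_PM, PM_mul]
  unfold QM
  rw [Matrix.diagonal_apply, Matrix.diagonal_apply, qe_pi]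
  by_cases h : x = y
  · rw [if_pos h, if_pos (by rw [h])]
  · rw [if_neg h, if_neg (fun h' => h (by rw [← pi_pi x, h', pi_pi]))]

/-- the graph automorphism on the root elements -/
theorem conj_Nm (r : Fin 72) : -(PM F * Nm F (71 - r.val) * PM F) =
    ((epsE r : ℤ) : F) • (QM F * Nm F (rho r).val * QM F) := by
  ext x y
  rw [Matrix.neg_apply, mul_PM, PM_mul, Matrix.smul_apply, smul_eq_mul]
  unfold QM
  rw [Matrix.mul_diagonal, Matrix.diagonal_mul, Nm_apply, Nm_apply]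
  rcases rel_all r x with ⟨h1, h2⟩ | ⟨h1, h2⟩
  · rw [h1, h2]; simp
  · by_cases hy : y = sr (rho r).val x
    · rw [if_pos hy, if_pos (by rw [hy, ← h2, pi_pi]), hy, ← Int.cast_neg, h1]
      push_cast; ring
    · rw [if_neg hy, if_neg (fun h' => hy (by rw [← h2, ← h', pi_pi]))]
      simp

/-- `Q` as an element of the general linear group -/
def QU (F : Type*) [CommRing F] : GL I27 F := ⟨QM F, QM F, QM_sq, QM_sq⟩

theorem coe_QU : ((QU F : GL I27 F) : Matrix I27 I27 F) = QM F := rfl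

theorem QU_sq : QU F * QU F = 1 := Units.ext QM_sq

theorem QU_inv : (QU F)⁻¹ = QU F := inv_eq_of_mul_eq_one_left QU_sq

theorem dual_QU : dual (QU F) = QU F := by
  apply Units.ext
  rw [coe_dual, QU_inv]
  exact QM_transpose

end ring

section field

variable {F : Type*} [Field F]

theorem gU_QU : gU (QU F) = QU F := by
  unfold gU
  rw [dual_QU]
  exact Units.ext PQP

theorem dual_zU {r : ℕ} (hr : r < 72) (t : F) : dual (zU r t) = zU (71 - r) (-t) := by
  apply Units.ext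
  rw [coe_dual, coe_zU (by omega)]
  have h3 : (((zU r t : GL I27 F)⁻¹ : GL I27 F) : Matrix I27 I27 F) = zM r (-t) := by
    unfold zU
    rw [dif_pos hr]
    rfl
  rw [h3, zM_transpose hr]

/-- the graph automorphism on the root elements -/
theorem gU_zU (r : Fin 72) (t : F) : QU F * gU (zU r.val t) * QU F = zU (rho r).val (((epsE r : ℤ) : F) * t) := by
  unfold gU
  rw [dual_zU r.isLt]
  apply Units.ext
  simp only [Units.val_mul, coe_PU, coe_QU]
  rw [coe_zU (by omega), coe_zU (rho r).isLt, zM_def, zM_def]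
  have h := conj_Nm (F := F) r
  have h1 : PM F * (1 + -t • Nm F (71 - r.val)) * PM F = 1 + t • -(PM F * Nm F (71 - r.val) * PM F) := by
    rw [mul_add, add_mul, mul_one, PM_sq, mul_smul_comm, smul_mul_assoc, neg_smul, smul_neg]
  rw [h1, h, mul_add, add_mul, mul_one, QM_sq, mul_smul_comm, smul_mul_assoc, mul_smul_comm, smul_mul_assoc,
    ← mul_assoc, ← mul_assoc, QM_sq, one_mul, mul_assoc (Nm F _), QM_sq, mul_one, smul_smul, mul_comm t]

theorem gm_gU (φ : F →+* F) (g : GL I27 F) : gm φ (gU g) = gU (gm φ g) := by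
  have h1 : gm φ (PU F) = PU F := by
    apply Units.ext
    rw [coe_gm, coe_PU]
    ext x y
    rw [Matrix.map_apply, PM_apply, apply_ite φ, map_one, map_zero]
  have h2 : gm φ (dual g) = dual (gm φ g) := by
    apply Units.ext
    rw [coe_gm, coe_dual, coe_dual, ← map_inv, coe_gm, Matrix.transpose_map]
  unfold gU
  rw [map_mul, map_mul, h1, h2]

theorem gm_QU (φ : F →+* F) : gm φ (QU F) = QU F := by
  apply Units.ext
  rw [coe_gm, coe_QU]
  unfold QM
  rw [Matrix.diagonal_map (map_zero φ)]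
  congr 1
  funext x
  exact map_intCast φ _

variable (φ : F →+* F)

/-- **The Steinberg endomorphism** on the general linear group. -/
def sZ : GL I27 F →* GL I27 F := MonoidHom.mk' (fun g => QU F * gU (gm φ g) * QU F) (by
  intro a b
  rw [map_mul, gU_mul]
  calc QU F * (gU (gm φ a) * gU (gm φ b)) * QU F =
      QU F * gU (gm φ a) * 1 * gU (gm φ b) * QU F := by group
    _ = _ := by rw [← QU_sq]; group)

theorem sZ_apply (g : GL I27 F) : sZ φ g = QU F * gU (gm φ g) * QU F := rfl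

theorem sZ_zU (r : Fin 72) (t : F) : sZ φ (zU r.val t) = zU (rho r).val (((epsE r : ℤ) : F) * φ t) := by
  rw [sZ_apply, ← gU_zU r (φ t)]
  congr 3
  apply Units.ext
  rw [coe_gm, coe_zU r.isLt, coe_zU r.isLt, zM_map]

theorem gm_gm (hφ : ∀ t, φ (φ t) = t) (g : GL I27 F) : gm φ (gm φ g) = g := by
  apply Units.ext
  rw [coe_gm, coe_gm]
  ext x y
  rw [Matrix.map_apply, Matrix.map_apply, hφ]

theorem sZ_sZ (hφ : ∀ t, φ (φ t) = t) (g : GL I27 F) : sZ φ (sZ φ g) = g := by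
  rw [sZ_apply, sZ_apply, map_mul, map_mul, gm_QU, gm_gU, gm_gm φ hφ, gU_mul, gU_mul, gU_gU, gU_QU]
  calc QU F * (QU F * g * QU F) * QU F = (QU F * QU F) * g * (QU F * QU F) := by group
    _ = g := by rw [QU_sq, one_mul, mul_one]

theorem sZ_mem {g : GL I27 F} (hg : g ∈ Zgrp F) : sZ φ g ∈ Zgrp F := by
  have h : Zgrp F ≤ (Zgrp F).comap (sZ φ) := by
    conv_lhs => unfold Zgrp
    rw [Subgroup.closure_le]
    rintro g ⟨r, t, hr, hg⟩
    show sZ φ g ∈ Zgrp F
    have h1 : g = zU r t := Units.ext (by rw [hg, coe_zU hr])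
    rw [h1]
    have h2 := sZ_zU φ ⟨r, hr⟩ t
    simp only at h2
    rw [h2]
    exact zU_mem _ _
  exact h hg

/-- **The Steinberg endomorphism.** -/
def sE : ↥(Zgrp F) →* ↥(Zgrp F) := ((sZ φ).comp (Zgrp F).subtype).codRestrict (Zgrp F) fun g => sZ_mem φ g.2

theorem coe_sE (g : ↥(Zgrp F)) : ((sE φ g : ↥(Zgrp F)) : GL I27 F) = sZ φ g := rfl

theorem sE_sE (hφ : ∀ t, φ (φ t) = t) (g : ↥(Zgrp F)) : sE φ (sE φ g) = g := Subtype.ext (sZ_sZ φ hφ g)

end field

/-! ### the map to the adjoint group -/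

section adj

variable {F : Type u} [Field F] (φ : F →+* F)

theorem ad_zU (r : Fin 72) (t : F) :
    ((ad F ⟨zU r.val t, zU_mem _ _⟩ : ↥(chevE6.group F)) : GL chevE6.Idx F) = TwE6Basic.x r.val t := by
  apply Units.ext
  refine P_unique (g := zU r.val t) (ad_P ⟨zU r.val t, zU_mem _ _⟩) ?_
  rw [coe_zU r.isLt]
  have h : ((TwE6Basic.x r.val t : GL chevE6.Idx F) : Matrix chevE6.Idx chevE6.Idx F) = chevE6.xMat F r t :=
    Elts.x_of_lt r.isLt t
  rw [h]
  exact P_root r t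

/-- two homomorphisms on `Zgrp F` which agree on the root elements are equal -/
theorem hom_ext {M : Type*} [Group M] {f g : ↥(Zgrp F) →* M}
    (h : ∀ (r : Fin 72) (t : F), f ⟨zU r.val t, zU_mem _ _⟩ = g ⟨zU r.val t, zU_mem _ _⟩) : f = g := by
  have h1 : Zgrp F ≤ (f.eqLocus g).map (Zgrp F).subtype := by
    conv_lhs => unfold Zgrp
    rw [Subgroup.closure_le]
    rintro y ⟨r, t, hr, hy⟩
    have h2 : y = zU r t := Units.ext (by rw [hy, coe_zU hr])
    exact ⟨⟨zU r t, zU_mem _ _⟩, h ⟨r, hr⟩ t, h2.symm⟩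
  ext y
  obtain ⟨y', hy', e⟩ := h1 y.2
  have h2 : y' = y := Subtype.ext e
  rw [h2] at hy'
  exact hy'

theorem ad_sE (g : ↥(Zgrp F)) : ((ad F (sE φ g) : ↥(chevE6.group F)) : GL chevE6.Idx F) =
    TwE6Basic.sg φ ((ad F g : ↥(chevE6.group F)) : GL chevE6.Idx F) := by
  have h : ((chevE6.group F).subtype.comp (ad F)).comp (sE φ) =
      (TwE6Basic.sg φ).comp ((chevE6.group F).subtype.comp (ad F)) := by
    apply hom_ext
    intro r t
    show ((ad F (sE φ ⟨zU r.val t, zU_mem _ _⟩) : ↥(chevE6.group F)) : GL chevE6.Idx F) =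
      TwE6Basic.sg φ ((ad F ⟨zU r.val t, zU_mem _ _⟩ : ↥(chevE6.group F)) : GL chevE6.Idx F)
    have h1 : sE φ ⟨zU r.val t, zU_mem _ _⟩ = ⟨zU (rho r).val (((epsE r : ℤ) : F) * φ t), zU_mem _ _⟩ :=
      Subtype.ext (sZ_zU φ r t)
    rw [h1, ad_zU, ad_zU, TwE6Basic.sg_x]
    rfl
  exact DFunLike.congr_fun h g

/-- **The fixed points of the Steinberg endomorphism.** -/
def Gs : Subgroup ↥(Zgrp F) := (sE φ).eqLocus (MonoidHom.id _)

theorem mem_Gs {g : ↥(Zgrp F)} : g ∈ Gs φ ↔ sE φ g = g := Iff.rfl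

theorem comm_all : ∀ rs ∈ [(56, 36), (15, 35), (42, 37), (29, 34), (56, 35), (15, 36), (42, 34), (29, 37)],
    rs.2 + rs.1 ≠ 71 ∧ rs.1 < 72 ∧ rs.2 < 72 ∧ kN rs.1 rs.2 = 127 := by decide +kernel

theorem zU_comm {rs : ℕ × ℕ}
    (h : rs ∈ [(56, 36), (15, 35), (42, 37), (29, 34), (56, 35), (15, 36), (42, 34), (29, 37)]) (t u : F) :
    Commute (zU rs.1 t) (zU rs.2 u) := by
  obtain ⟨h1, h2, h3, h4⟩ := comm_all rs h
  apply Units.ext
  rw [Units.val_mul, Units.val_mul, coe_zU h2, coe_zU h3, zM_def, zM_def]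
  have h5 := Nm_comm_of_none (F := F) h2 h3 h1 h4
  simp only [add_mul, mul_add, one_mul, mul_one, smul_mul_assoc, mul_smul_comm, h5]
  module

theorem rho_tab : ∀ rs ∈ [(46, 46), (25, 25), (39, 39), (32, 32), (56, 36), (36, 56), (15, 35), (35, 15), (42, 37), (37, 42),
    (29, 34), (34, 29)], (rho (Fin.ofNat 72 rs.1)).val = rs.2 ∧ epsE (Fin.ofNat 72 rs.1) = 1 ∧ rs.1 < 72 := by
  decide +kernel

theorem sZ_simple {rs : ℕ × ℕ} (h : rs ∈ [(46, 46), (25, 25), (39, 39), (32, 32), (56, 36), (36, 56), (15, 35), (35, 15),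
    (42, 37), (37, 42), (29, 34), (34, 29)]) (t : F) : sZ φ (zU rs.1 t) = zU rs.2 (φ t) := by
  obtain ⟨h1, h2, h3⟩ := rho_tab rs h
  have h4 := sZ_zU φ (Fin.ofNat 72 rs.1) t
  have h5 : (Fin.ofNat 72 rs.1 : Fin 72).val = rs.1 := Nat.mod_eq_of_lt h3
  rw [h1, h2, Int.cast_one, one_mul, h5] at h4
  exact h4

/-- the preimage of the twisted group -/
noncomputable def Gl (F : Type u) [Field F] (q : ℕ) : Subgroup ↥(Zgrp F) :=
  (twistedE6 F q).comap ((chevE6.group F).subtype.comp (ad F))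

theorem mem_Gl {q : ℕ} {g : ↥(Zgrp F)} :
    g ∈ Gl F q ↔ ((ad F g : ↥(chevE6.group F)) : GL chevE6.Idx F) ∈ twistedE6 F q := Iff.rfl

theorem single_mem_Gl {q : ℕ} {t : F} (ht : t ^ q = t) {r : ℕ} (hr : r ∈ [46, 25, 39, 32]) :
    (⟨zU r t, zU_mem _ _⟩ : ↥(Zgrp F)) ∈ Gl F q := by
  rw [mem_Gl]
  have hr' : r < 72 := by
    simp only [List.mem_cons, List.not_mem_nil, or_false] at hr
    omega
  rw [ad_zU ⟨r, hr'⟩ t]
  exact TwE6Basic.single_mem ht hr

variable {q : ℕ} (hφ : ∀ t, φ t = t ^ q) (hqq : ∀ t : F, (t ^ q) ^ q = t)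

include hφ hqq in
/-- **Every element of the twisted group has a lift in `Gs φ`.** -/
theorem exists_Gs {y : GL chevE6.Idx F} (hy : y ∈ twistedE6 F q) :
    ∃ g ∈ Gs φ, ((ad F g : ↥(chevE6.group F)) : GL chevE6.Idx F) = y := by
  have h : twistedE6 F q ≤ (Gs φ).map ((chevE6.group F).subtype.comp (ad F)) := by
    rw [TwE6Basic.twisted_le_iff]
    constructor
    · intro t ht r hr
      have hr' : r < 72 ∧ (r, r) ∈ [(46, 46), (25, 25), (39, 39), (32, 32), (56, 36), (36, 56), (15, 35), (35, 15),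
          (42, 37), (37, 42), (29, 34), (34, 29)] := by
        simp only [List.mem_cons, List.not_mem_nil, or_false] at hr
        rcases hr with rfl | rfl | rfl | rfl <;> decide
      refine ⟨⟨zU r t, zU_mem _ _⟩, ?_, ad_zU ⟨r, hr'.1⟩ t⟩
      apply Subtype.ext
      show sZ φ (zU r t) = zU r t
      have := sZ_simple φ hr'.2 t
      simp only at this
      rw [this, hφ, ht]
    · intro t rs hr
      have hr' : rs.1 < 72 ∧ rs.2 < 72 ∧ rs ∈ [(46, 46), (25, 25), (39, 39), (32, 32), (56, 36), (36, 56), (15, 35),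
          (35, 15), (42, 37), (37, 42), (29, 34), (34, 29)] ∧ (rs.2, rs.1) ∈ [(46, 46), (25, 25), (39, 39), (32, 32),
          (56, 36), (36, 56), (15, 35), (35, 15), (42, 37), (37, 42), (29, 34), (34, 29)] ∧
          rs ∈ [(56, 36), (15, 35), (42, 37), (29, 34), (56, 35), (15, 36), (42, 34), (29, 37)] := by
        simp only [List.mem_cons, List.not_mem_nil, or_false] at hr
        rcases hr with rfl | rfl | rfl | rfl <;> decide
      obtain ⟨h1, h2, h3, h4, h5⟩ := hr'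
      refine ⟨⟨zU rs.1 t, zU_mem _ _⟩ * ⟨zU rs.2 (t ^ q), zU_mem _ _⟩, ?_, ?_⟩
      · apply Subtype.ext
        show sZ φ (zU rs.1 t * zU rs.2 (t ^ q)) = zU rs.1 t * zU rs.2 (t ^ q)
        have e4 := sZ_simple φ h4 (t ^ q)
        simp only at e4
        rw [map_mul, sZ_simple φ h3 t, e4, hφ, hφ, hqq]
        exact (zU_comm h5 t (t ^ q)).symm
      · show ((ad F (⟨zU rs.1 t, zU_mem _ _⟩ * ⟨zU rs.2 (t ^ q), zU_mem _ _⟩) : ↥(chevE6.group F)) :
          GL chevE6.Idx F) = _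
        rw [map_mul, Subgroup.coe_mul, ad_zU ⟨rs.1, h1⟩ t, ad_zU ⟨rs.2, h2⟩ (t ^ q)]
  obtain ⟨g, hg, e⟩ := h hy
  exact ⟨g, hg, e⟩

/-- a perfect subgroup mapped to fixed points consists of fixed points -/
theorem le_Gs_of_perfect {B : Subgroup ↥(Zgrp F)} (hB : ⁅B, B⁆ = B)
    (h : ∀ b ∈ B, TwE6Basic.sg φ ((ad F b : ↥(chevE6.group F)) : GL chevE6.Idx F) =
      ((ad F b : ↥(chevE6.group F)) : GL chevE6.Idx F)) : B ≤ Gs φ := by
  have hz : ∀ b ∈ B, b⁻¹ * sE φ b ∈ Subgroup.center ↥(Zgrp F) := by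
    intro b hb
    rw [← ker_ad, MonoidHom.mem_ker, map_mul, map_inv, inv_mul_eq_one]
    apply Subtype.ext
    rw [ad_sE, h b hb]
  have hc : ⁅B, B⁆ ≤ Gs φ := by
    rw [Subgroup.commutator_le]
    intro a ha b hb
    rw [mem_Gs, map_commutatorElement]
    obtain ⟨x, hx⟩ : ∃ x, x = a⁻¹ * sE φ a := ⟨_, rfl⟩
    obtain ⟨y, hy⟩ : ∃ y, y = b⁻¹ * sE φ b := ⟨_, rfl⟩
    have hxc := hz a ha
    have hyc := hz b hb
    rw [← hx] at hxc
    rw [← hy] at hyc
    have e1 : sE φ a = a * x := by rw [hx]; group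
    have e2 : sE φ b = b * y := by rw [hy]; group
    rw [Subgroup.mem_center_iff] at hxc hyc
    rw [e1, e2, commutatorElement_def, commutatorElement_def, mul_inv_rev, mul_inv_rev]
    calc a * x * (b * y) * (x⁻¹ * a⁻¹) * (y⁻¹ * b⁻¹) = a * (x * b) * y * x⁻¹ * a⁻¹ * y⁻¹ * b⁻¹ := by group
      _ = a * b * x * y * x⁻¹ * a⁻¹ * y⁻¹ * b⁻¹ := by rw [← hxc b]; group
      _ = a * b * (y * x) * x⁻¹ * a⁻¹ * y⁻¹ * b⁻¹ := by rw [← hyc x]; group
      _ = a * b * (y * a⁻¹) * y⁻¹ * b⁻¹ := by group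
      _ = a * b * (a⁻¹ * y) * y⁻¹ * b⁻¹ := by rw [hyc a⁻¹]
      _ = a * b * a⁻¹ * b⁻¹ := by group
  rwa [hB] at hc

end adj

/-! ### `Gs φ` is mapped into the twisted group -/

section fixed

open Cfsg.Agent.ChevalleyStructure.E6Min.Torus (hU coe_hU sI)

variable {F : Type u} [Field F] (φ : F →+* F)

/-- a diagonal element of `Zgrp F` fixed by the Steinberg endomorphism -/
theorem diag_fixed {t : GL I27 F} {d : I27 → Fˣ} (hd : (t : Matrix I27 I27 F) = Matrix.diagonal (fun x => (d x : F)))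
    (ht : sZ φ t = t) (x : I27) : φ (d x : F) * d (pi x) = 1 := by
  have h1 : (((gm φ t)⁻¹ : GL I27 F) : Matrix I27 I27 F) = Matrix.diagonal (fun x => φ (((d x)⁻¹ : Fˣ) : F)) := by
    have h2 : ((gm φ t : GL I27 F) : Matrix I27 I27 F) * Matrix.diagonal (fun x => φ (((d x)⁻¹ : Fˣ) : F)) = 1 := by
      rw [coe_gm, hd, Matrix.diagonal_map (map_zero φ), Matrix.diagonal_mul_diagonal, ← Matrix.diagonal_one]
      congr 1
      funext x
      rw [← map_mul, ← Units.val_mul, mul_inv_cancel, Units.val_one, map_one]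
    rw [Matrix.coe_units_inv]
    exact Matrix.inv_eq_right_inv h2
  have h3 := congrArg (fun g : GL I27 F => (g : Matrix I27 I27 F) (pi x) (pi x)) ht
  simp only [sZ_apply] at h3
  unfold gU at h3
  simp only [Units.val_mul, coe_PU, coe_QU] at h3
  rw [coe_dual, h1, Matrix.diagonal_transpose, hd, Matrix.diagonal_apply_eq] at h3
  unfold QM at h3
  rw [Matrix.mul_diagonal, Matrix.diagonal_mul, mul_PM, PM_mul, pi_pi, Matrix.diagonal_apply_eq] at h3
  have h4 : ((qe (pi x) : ℤ) : F) * ((qe (pi x) : ℤ) : F) = 1 := by rw [← Int.cast_mul, qe_sq, Int.cast_one]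
  have h5 : φ (((d x)⁻¹ : Fˣ) : F) = (d (pi x) : F) := by
    rw [← h3]
    linear_combination (-φ (((d x)⁻¹ : Fˣ) : F)) * h4
  rw [← h5, ← map_mul, ← Units.val_mul, mul_inv_cancel, Units.val_one, map_one]

/-- the root elements in `Zgrp F` -/
def zZ (r : ℕ) (t : F) : ↥(Zgrp F) := ⟨zU r t, zU_mem _ _⟩

/-- the torus elements in `Zgrp F` -/
def hZ (i : ℕ) (c : F) : ↥(Zgrp F) := zZ (sI i) c * zZ (71 - sI i) (-c⁻¹) * zZ (sI i) c *
  (zZ (sI i) (-1) * zZ (71 - sI i) 1 * zZ (sI i) (-1))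

variable {q : ℕ} (hφ : ∀ t, φ t = t ^ q)

theorem ad_zZ (r : Fin 72) (t : F) : ((ad F (zZ (r : ℕ) t) : ↥(chevE6.group F)) : GL chevE6.Idx F) =
    TwE6Basic.x r.val t := by
  rw [zZ, ad_zU r t]

theorem zpair_mem (t : F) {a b : ℕ} (hr : (a, b) ∈ [(56, 36), (15, 35), (42, 37), (29, 34)]) :
    zZ a t * zZ b (t ^ q) ∈ Gl F q := by
  have hr' : a < 72 ∧ b < 72 := by
    simp only [List.mem_cons, List.not_mem_nil, or_false, Prod.mk.injEq] at hr
    omega
  rw [mem_Gl, map_mul, Subgroup.coe_mul, ad_zZ ⟨a, hr'.1⟩ t, ad_zZ ⟨b, hr'.2⟩ (t ^ q)]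
  exact (TwE6Basic.pair_mem t hr :)

include hφ in
theorem hU_single {c : F} (hc : φ c = c) {i : ℕ} (hi : i = 1 ∨ i = 3) : hZ i c ∈ Gl F q := by
  have hr : sI i ∈ [46, 25, 39, 32] ∧ 71 - sI i ∈ [46, 25, 39, 32] := by
    rcases hi with rfl | rfl <;> decide
  have e0 : c ^ q = c := by rw [← hφ, hc]
  have e1 : (-c⁻¹) ^ q = -c⁻¹ := by rw [← hφ, map_neg, map_inv₀, hc]
  have e2 : (1 : F) ^ q = 1 := one_pow q
  have e3 : (-1 : F) ^ q = -1 := by rw [← hφ, map_neg, map_one]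
  have m1 : zZ (sI i) c ∈ Gl F q := single_mem_Gl e0 hr.1
  have m2 : zZ (71 - sI i) (-c⁻¹) ∈ Gl F q := single_mem_Gl e1 hr.2
  have m3 : zZ (sI i) (-1 : F) ∈ Gl F q := single_mem_Gl e3 hr.1
  have m4 : zZ (71 - sI i) (1 : F) ∈ Gl F q := single_mem_Gl e2 hr.2
  unfold hZ
  generalize zZ (sI i) c = A at *
  generalize zZ (71 - sI i) (-c⁻¹) = B at *
  generalize zZ (sI i) (-1 : F) = C at *
  generalize zZ (71 - sI i) (1 : F) = D at *
  exact mul_mem (mul_mem (mul_mem m1 m2) m1) (mul_mem (mul_mem m3 m4) m3)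

theorem zZ_comm {rs : ℕ × ℕ}
    (h : rs ∈ [(56, 36), (15, 35), (42, 37), (29, 34), (56, 35), (15, 36), (42, 34), (29, 37)]) (t u : F) :
    zZ rs.1 t * zZ rs.2 u = zZ rs.2 u * zZ rs.1 t := Subtype.ext (zU_comm h t u)

include hφ in
theorem hU_pair (c : F) {ij : ℕ × ℕ} (hi : ij = (0, 5) ∨ ij = (2, 4)) :
    hZ ij.1 c * hZ ij.2 (φ c) ∈ Gl F q := by
  obtain ⟨a, b, a', b', h1, h2, h3, h4, m1, m2, c1, c2, c3, c4⟩ : ∃ a b a' b' : ℕ, sI ij.1 = a ∧ 71 - sI ij.1 = b ∧
      sI ij.2 = a' ∧ 71 - sI ij.2 = b' ∧ (a, a') ∈ [(56, 36), (15, 35), (42, 37), (29, 34)] ∧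
      (b, b') ∈ [(56, 36), (15, 35), (42, 37), (29, 34)] ∧
      (a, a') ∈ [(56, 36), (15, 35), (42, 37), (29, 34), (56, 35), (15, 36), (42, 34), (29, 37)] ∧
      (a, b') ∈ [(56, 36), (15, 35), (42, 37), (29, 34), (56, 35), (15, 36), (42, 34), (29, 37)] ∧
      (b, a') ∈ [(56, 36), (15, 35), (42, 37), (29, 34), (56, 35), (15, 36), (42, 34), (29, 37)] ∧
      (b, b') ∈ [(56, 36), (15, 35), (42, 37), (29, 34), (56, 35), (15, 36), (42, 34), (29, 37)] := by
    rcases hi with rfl | rfl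
    · exact ⟨56, 15, 36, 35, by decide, by decide, by decide, by decide, by decide, by decide, by decide, by decide,
        by decide, by decide⟩
    · exact ⟨42, 29, 37, 34, by decide, by decide, by decide, by decide, by decide, by decide, by decide, by decide,
        by decide, by decide⟩
  have w1 : ∀ t : F, zZ a t * zZ a' (φ t) ∈ Gl F q := fun t => by rw [hφ]; exact zpair_mem t m1
  have w2 : ∀ t : F, zZ b t * zZ b' (φ t) ∈ Gl F q := fun t => by rw [hφ]; exact zpair_mem t m2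
  have k1 : ∀ t u : F, Commute (zZ a t) (zZ a' u) := fun t u => zZ_comm c1 t u
  have k2 : ∀ t u : F, Commute (zZ a t) (zZ b' u) := fun t u => zZ_comm c2 t u
  have k3 : ∀ t u : F, Commute (zZ b t) (zZ a' u) := fun t u => zZ_comm c3 t u
  have k4 : ∀ t u : F, Commute (zZ b t) (zZ b' u) := fun t u => zZ_comm c4 t u
  have key : hZ ij.1 c * hZ ij.2 (φ c) = (zZ a c * zZ a' (φ c)) * (zZ b (-c⁻¹) * zZ b' (φ (-c⁻¹))) *
      (zZ a c * zZ a' (φ c)) * ((zZ a (-1) * zZ a' (φ (-1))) * (zZ b 1 * zZ b' (φ 1)) *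
        (zZ a (-1) * zZ a' (φ (-1)))) := by
    unfold hZ
    rw [h2, h1, h4, h3, map_neg, map_inv₀, map_neg, map_one]
    have s1 : ∀ u v w u' v' w' : ↥(Zgrp F), Commute u' v → Commute u' w → Commute v' w →
        u * v * w * (u' * v' * w') = (u * u') * (v * v') * (w * w') := by
      intro u v w u' v' w' h1 h2 h3
      calc u * v * w * (u' * v' * w') = u * v * (w * u') * v' * w' := by group
        _ = u * v * (u' * w) * v' * w' := by rw [h2.eq]
        _ = u * (v * u') * (w * v') * w' := by group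
        _ = u * (u' * v) * (v' * w) * w' := by rw [h1.eq, h3.eq]
        _ = _ := by group
    obtain ⟨X, hX⟩ : ∃ X, X = zZ a c * zZ b (-c⁻¹) * zZ a c := ⟨_, rfl⟩
    obtain ⟨Y, hY⟩ : ∃ Y, Y = zZ a (-1 : F) * zZ b 1 * zZ a (-1) := ⟨_, rfl⟩
    obtain ⟨X', hX'⟩ : ∃ X, X = zZ a' (φ c) * zZ b' (-(φ c)⁻¹) * zZ a' (φ c) := ⟨_, rfl⟩
    obtain ⟨Y', hY'⟩ : ∃ Y, Y = zZ a' (-1 : F) * zZ b' 1 * zZ a' (-1) := ⟨_, rfl⟩
    have hc : Commute X' Y := by
      rw [hX', hY]
      refine Commute.mul_left (Commute.mul_left ?_ ?_) ?_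
      · exact Commute.mul_right (Commute.mul_right (k1 _ _).symm (k3 _ _).symm) (k1 _ _).symm
      · exact Commute.mul_right (Commute.mul_right (k2 _ _).symm (k4 _ _).symm) (k2 _ _).symm
      · exact Commute.mul_right (Commute.mul_right (k1 _ _).symm (k3 _ _).symm) (k1 _ _).symm
    rw [← hX, ← hY, ← hX', ← hY']
    calc X * Y * (X' * Y') = X * (Y * X') * Y' := by group
      _ = X * (X' * Y) * Y' := by rw [hc.eq]
      _ = (X * X') * (Y * Y') := by group
      _ = _ := by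
        rw [hX, hX', hY, hY', s1 _ _ _ _ _ _ (k3 _ _).symm (k1 _ _).symm (k2 _ _).symm,
          s1 _ _ _ _ _ _ (k3 _ _).symm (k1 _ _).symm (k2 _ _).symm]
  rw [key]
  exact mul_mem (mul_mem (mul_mem (w1 _) (w2 _)) (w1 _)) (mul_mem (mul_mem (w1 _) (w2 _)) (w1 _))

end fixed

end Cfsg.Agent.H944.E6Tw
end

-- part: H944/E6TwB
section
/-!
# `²E₆(q)` inside `E₆(q²)` (helper944)

`Gs_le_Gl` : the fixed points of the Steinberg endomorphism are mapped into `twistedE6 F q`; `mem_twisted` : the elements of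
`chevE6.group F` fixed by `TwE6Basic.sg φ` are the elements of `twistedE6 F q`; `kill` : no one-parameter group
`1 + t a` commutes with a subgroup of `twistedE6 F q` with trivial centralizer.
-/

set_option autoImplicit false

namespace Cfsg.Agent.H944.E6Tw

open Cfsg Cfsg.Lie Module
open scoped Matrix
open Cfsg.Agent.ChevalleyStructure
open Cfsg.Agent.ChevalleyStructure.E6Min.Tables Cfsg.Agent.ChevalleyStructure.E6Min.Basic
  Cfsg.Agent.ChevalleyStructure.E6Min.Adjoint Cfsg.Agent.ChevalleyStructure.E6Min.Forms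
open Cfsg.Agent.H184.GraphE6 (gU gU_mul gU_gU dual coe_dual dual_dual pi pi_pi PM PM_apply PM_mulVec PM_sq
  PM_transpose PU coe_PU PU_sq zM_transpose Nm_transpose dual_PU)
open Cfsg.Agent.H944.E6T (gm coe_gm zM_map)
open Cfsg.Agent.ChevalleyStructure.TwE6Basic (rho epsE)
open Cfsg.Agent.ChevalleyStructure.E6Min.Torus (hU coe_hU sI hU_e mul_scale prop_spec prop_check diag_rel)
open Cfsg.Agent.ChevalleyStructure.E6Min.Elim (Scales coe_mul_mulVec mem_E6univ_of_mem)


universe u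

variable {F : Type u} [Field F] (φ : F →+* F) {q : ℕ} (hφ : ∀ t, φ t = t ^ q)

theorem tri5 : (rel (dec 0) (dec 9) = 2 ∧ th (dec 0) (dec 9) = dec 18) ∧
    (rel (dec 0) (dec 10) = 2 ∧ th (dec 0) (dec 10) = dec 21) ∧
    (rel (dec 4) (dec 12) = 2 ∧ th (dec 4) (dec 12) = dec 19) ∧
    (rel (dec 8) (dec 15) = 2 ∧ th (dec 8) (dec 15) = dec 20) ∧
    (rel (dec 0) (dec 4) = 2 ∧ th (dec 0) (dec 4) = dec 8) ∧
    pi (dec 9) = dec 18 ∧ pi (dec 10) = dec 21 ∧ pi (dec 12) = dec 19 ∧ pi (dec 15) = dec 20 ∧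
    pi (dec 18) = dec 9 ∧ pi (dec 19) = dec 12 := by decide +kernel

theorem wt_tab : (∀ i : Fin 6, wt (dec 9) i.val = ![0, 0, 0, 0, 0, 1] i) ∧
    (∀ i : Fin 6, wt (dec 10) i.val = ![0, -1, 0, 0, 0, 1] i) ∧
    (∀ i : Fin 6, wt (dec 12) i.val = ![0, 0, 0, 0, 1, -1] i) ∧
    (∀ i : Fin 6, wt (dec 15) i.val = ![0, 0, 0, 1, -1, 0] i) ∧
    (∀ i : Fin 6, wt (dec 18) i.val = ![-1, 0, 0, 0, 0, 0] i) ∧
    (∀ i : Fin 6, wt (dec 19) i.val = ![1, 0, -1, 0, 0, 0] i) := by decide +kernel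

include hφ in
/-- diagonal elements fixed by the Steinberg endomorphism are mapped into the twisted group -/
theorem diag_mem_Gl {t : ↥(Zgrp F)} {d : I27 → Fˣ}
    (hd : ((t : GL I27 F) : Matrix I27 I27 F) = Matrix.diagonal (fun x => (d x : F)))
    (ht : t ∈ Gs φ) : t ∈ Gl F q := by
  have hfix : ∀ x, φ (d x : F) * d (pi x) = 1 := fun x => diag_fixed φ hd
    (by rw [← coe_sE, (mem_Gs φ).1 ht]) x
  have htri : ∀ m k, rel m k = 2 → (d m : F) * d k * d (th m k) = 1 := fun m k h => by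
    have := E6T.diag_triad hd h
    have h1 := congrArg (fun u : Fˣ => (u : F)) this
    simpa only [Units.val_mul, Units.val_one] using h1
  obtain ⟨⟨a1, a2⟩, ⟨b1, b2⟩, ⟨c1, c2⟩, ⟨e1, e2⟩, ⟨f1, f2⟩, p9, p10, p12, p15, p18, p19⟩ := tri5
  have t1 := htri _ _ a1
  rw [a2] at t1
  have t2 := htri _ _ b1
  rw [b2] at t2
  have t3 := htri _ _ c1
  rw [c2] at t3
  have t4 := htri _ _ e1
  rw [e2] at t4
  have t5 := htri _ _ f1
  rw [f2] at t5
  have f9 := hfix (dec 9)
  rw [p9] at f9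
  have f10 := hfix (dec 10)
  rw [p10] at f10
  have f12 := hfix (dec 12)
  rw [p12] at f12
  have f15 := hfix (dec 15)
  rw [p15] at f15
  have f18 := hfix (dec 18)
  rw [p18] at f18
  have f19 := hfix (dec 19)
  rw [p19] at f19
  have n0 : (d (dec 0) : F) ≠ 0 := (d (dec 0)).ne_zero
  have n4 : (d (dec 4) : F) ≠ 0 := (d (dec 4)).ne_zero
  have n8 : (d (dec 8) : F) ≠ 0 := (d (dec 8)).ne_zero
  have n9 : (d (dec 9) : F) ≠ 0 := (d (dec 9)).ne_zero
  have n10 : (d (dec 10) : F) ≠ 0 := (d (dec 10)).ne_zero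
  have n12 : (d (dec 12) : F) ≠ 0 := (d (dec 12)).ne_zero
  have n15 : (d (dec 15) : F) ≠ 0 := (d (dec 15)).ne_zero
  have n18 : (d (dec 18) : F) ≠ 0 := (d (dec 18)).ne_zero
  have n19 : (d (dec 19) : F) ≠ 0 := (d (dec 19)).ne_zero
  have n20 : (d (dec 20) : F) ≠ 0 := (d (dec 20)).ne_zero
  have n21 : (d (dec 21) : F) ≠ 0 := (d (dec 21)).ne_zero
  -- the parameters
  obtain ⟨y1, hy1⟩ : ∃ y : F, y = d (dec 18) := ⟨_, rfl⟩
  obtain ⟨y2, hy2⟩ : ∃ y : F, y = d (dec 10) * (d (dec 9) : F)⁻¹ := ⟨_, rfl⟩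
  obtain ⟨y3, hy3⟩ : ∃ y : F, y = d (dec 18) * d (dec 19) := ⟨_, rfl⟩
  obtain ⟨y4, hy4⟩ : ∃ y : F, y = ((d (dec 15) : F) * d (dec 12) * d (dec 9))⁻¹ := ⟨_, rfl⟩
  obtain ⟨y5, hy5⟩ : ∃ y : F, y = ((d (dec 12) : F) * d (dec 9))⁻¹ := ⟨_, rfl⟩
  obtain ⟨y6, hy6⟩ : ∃ y : F, y = (d (dec 9) : F)⁻¹ := ⟨_, rfl⟩
  have ny1 : y1 ≠ 0 := by rw [hy1]; exact n18
  have ny2 : y2 ≠ 0 := by rw [hy2]; exact mul_ne_zero n10 (inv_ne_zero n9)
  have ny3 : y3 ≠ 0 := by rw [hy3]; exact mul_ne_zero n18 n19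
  have ny4 : y4 ≠ 0 := by rw [hy4]; exact inv_ne_zero (mul_ne_zero (mul_ne_zero n15 n12) n9)
  have ny5 : y5 ≠ 0 := by rw [hy5]; exact inv_ne_zero (mul_ne_zero n12 n9)
  have ny6 : y6 ≠ 0 := by rw [hy6]; exact inv_ne_zero n9
  have g9 : φ (d (dec 9) : F) = (d (dec 18) : F)⁻¹ := eq_inv_of_mul_eq_one_left f9
  have g10 : φ (d (dec 10) : F) = (d (dec 21) : F)⁻¹ := eq_inv_of_mul_eq_one_left f10
  have g12 : φ (d (dec 12) : F) = (d (dec 19) : F)⁻¹ := eq_inv_of_mul_eq_one_left f12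
  have g15 : φ (d (dec 15) : F) = (d (dec 20) : F)⁻¹ := eq_inv_of_mul_eq_one_left f15
  have g18 : φ (d (dec 18) : F) = (d (dec 9) : F)⁻¹ := eq_inv_of_mul_eq_one_left f18
  have g19 : φ (d (dec 19) : F) = (d (dec 12) : F)⁻¹ := eq_inv_of_mul_eq_one_left f19
  have r1 : φ y1 = y6 := by rw [hy1, hy6, g18]
  have r3 : φ y3 = y5 := by rw [hy3, hy5, map_mul, g18, g19, mul_inv, mul_comm]
  have r2 : φ y2 = y2 := by
    rw [hy2, map_mul, map_inv₀, g9, g10, inv_inv]
    have h : (d (dec 18) : F) * d (dec 9) = d (dec 10) * d (dec 21) := by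
      apply mul_left_cancel₀ n0
      linear_combination t1 - t2
    field_simp
    linear_combination h
  have r4 : φ y4 = y4 := by
    rw [hy4, map_inv₀, map_mul, map_mul, g9, g12, g15, mul_inv, mul_inv, inv_inv, inv_inv, inv_inv]
    apply eq_inv_of_mul_eq_one_left
    linear_combination (-((d (dec 9) : F) * d (dec 18) * (d (dec 12) * d (dec 19)) * (d (dec 15) * d (dec 20)))) * t5 +
      ((d (dec 4) : F) * (d (dec 12) * d (dec 19)) * (d (dec 8)) * (d (dec 15) * d (dec 20))) * t1 +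
      ((d (dec 8) : F) * (d (dec 15) * d (dec 20))) * t3 + t4
  obtain ⟨z, hz⟩ : ∃ z : ↥(Zgrp F), z = (hZ 0 y1 * hZ 5 y6) * ((hZ 2 y3 * hZ 4 y5) * (hZ 1 y2 * hZ 3 y4)) := ⟨_, rfl⟩
  have hzG : z ∈ Gl F q := by
    rw [hz, ← r1, ← r3]
    exact (mul_mem (hU_pair φ hφ y1 (ij := (0, 5)) (Or.inl rfl)) (mul_mem (hU_pair φ hφ y3 (ij := (2, 4)) (Or.inr rfl))
      (mul_mem (hU_single φ hφ r2 (Or.inl rfl)) (hU_single φ hφ r4 (Or.inr rfl)))) :)
  have hzc : (z : GL I27 F) = (hU 0 y1 * hU 5 y6) * ((hU 2 y3 * hU 4 y5) * (hU 1 y2 * hU 3 y4)) := by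
    rw [hz]; rfl
  have hze : ∀ x, (((z : GL I27 F)) : Matrix I27 I27 F) *ᵥ e F x = (y1 ^ (wt x 0) * y6 ^ (wt x 5) *
      (y3 ^ (wt x 2) * y5 ^ (wt x 4) * (y2 ^ (wt x 1) * y4 ^ (wt x 3)))) • e F x := by
    intro x
    rw [hzc]
    exact mul_scale (mul_scale (hU_e (by norm_num) ny1 x) (hU_e (by norm_num) ny6 x))
      (mul_scale (mul_scale (hU_e (by norm_num) ny3 x) (hU_e (by norm_num) ny5 x))
      (mul_scale (hU_e (by norm_num) ny2 x) (hU_e (by norm_num) ny4 x)))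
  have hte : ∀ x, ((t : GL I27 F) : Matrix I27 I27 F) *ᵥ e F x = (d x : F) • e F x := by
    intro x
    rw [hd]
    ext y
    rw [Matrix.mulVec_diagonal, Pi.smul_apply, smul_eq_mul, e_apply]
    by_cases h : y = x
    · rw [h]
    · rw [if_neg h, mul_zero, mul_zero]
  obtain ⟨δ, hδ⟩ : ∃ δ : I27 → F, δ = fun x => (y1 ^ (wt x 0) * y6 ^ (wt x 5) *
      (y3 ^ (wt x 2) * y5 ^ (wt x 4) * (y2 ^ (wt x 1) * y4 ^ (wt x 3)))) * (d x : F) := ⟨_, rfl⟩
  have hzg : ∀ x, (((z * t : ↥(Zgrp F)) : GL I27 F) : Matrix I27 I27 F) *ᵥ e F x = δ x • e F x := by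
    intro x
    rw [hδ]
    exact mul_scale (hze x) (hte x)
  have hmem : ((z * t : ↥(Zgrp F)) : GL I27 F) ∈ E6univ F := mem_E6univ_of_mem (z * t).2
  have hδ1 : ∀ x, δ x = 1 := by
    refine prop_spec (fun m k h => diag_rel hmem hzg h) _ _ ?_ prop_check
    intro x hx
    have hx' : x = dec (E6Min.Tables.code x) := (dec_code x).symm
    obtain ⟨w9, w10, w12, w15, w18, w19⟩ := wt_tab
    simp only [List.mem_cons, List.not_mem_nil, or_false] at hx
    rcases hx with h | h | h | h | h | h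
    · rw [h] at hx'
      rw [hx', hδ]
      have v0 : wt (dec 9) 0 = 0 := w9 0
      have v1 : wt (dec 9) 1 = 0 := w9 1
      have v2 : wt (dec 9) 2 = 0 := w9 2
      have v3 : wt (dec 9) 3 = 0 := w9 3
      have v4 : wt (dec 9) 4 = 0 := w9 4
      have v5 : wt (dec 9) 5 = 1 := w9 5
      simp only [v0, v1, v2, v3, v4, v5, zpow_zero, zpow_one, one_mul, mul_one]
      rw [hy6]; field_simp
    · rw [h] at hx'
      rw [hx', hδ]
      have v0 : wt (dec 10) 0 = 0 := w10 0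
      have v1 : wt (dec 10) 1 = -1 := w10 1
      have v2 : wt (dec 10) 2 = 0 := w10 2
      have v3 : wt (dec 10) 3 = 0 := w10 3
      have v4 : wt (dec 10) 4 = 0 := w10 4
      have v5 : wt (dec 10) 5 = 1 := w10 5
      simp only [v0, v1, v2, v3, v4, v5, zpow_zero, zpow_one, one_mul, mul_one, zpow_neg]
      rw [hy6, hy2]; field_simp
    · rw [h] at hx'
      rw [hx', hδ]
      have v0 : wt (dec 12) 0 = 0 := w12 0
      have v1 : wt (dec 12) 1 = 0 := w12 1
      have v2 : wt (dec 12) 2 = 0 := w12 2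
      have v3 : wt (dec 12) 3 = 0 := w12 3
      have v4 : wt (dec 12) 4 = 1 := w12 4
      have v5 : wt (dec 12) 5 = -1 := w12 5
      simp only [v0, v1, v2, v3, v4, v5, zpow_zero, zpow_one, one_mul, mul_one, zpow_neg]
      rw [hy6, hy5]; field_simp
    · rw [h] at hx'
      rw [hx', hδ]
      have v0 : wt (dec 15) 0 = 0 := w15 0
      have v1 : wt (dec 15) 1 = 0 := w15 1
      have v2 : wt (dec 15) 2 = 0 := w15 2
      have v3 : wt (dec 15) 3 = 1 := w15 3
      have v4 : wt (dec 15) 4 = -1 := w15 4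
      have v5 : wt (dec 15) 5 = 0 := w15 5
      simp only [v0, v1, v2, v3, v4, v5, zpow_zero, zpow_one, one_mul, mul_one, zpow_neg]
      rw [hy4, hy5]; field_simp
    · rw [h] at hx'
      rw [hx', hδ]
      have v0 : wt (dec 18) 0 = -1 := w18 0
      have v1 : wt (dec 18) 1 = 0 := w18 1
      have v2 : wt (dec 18) 2 = 0 := w18 2
      have v3 : wt (dec 18) 3 = 0 := w18 3
      have v4 : wt (dec 18) 4 = 0 := w18 4
      have v5 : wt (dec 18) 5 = 0 := w18 5
      simp only [v0, v1, v2, v3, v4, v5, zpow_zero, zpow_one, one_mul, mul_one, zpow_neg]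
      rw [hy1]; field_simp
    · rw [h] at hx'
      rw [hx', hδ]
      have v0 : wt (dec 19) 0 = 1 := w19 0
      have v1 : wt (dec 19) 1 = 0 := w19 1
      have v2 : wt (dec 19) 2 = -1 := w19 2
      have v3 : wt (dec 19) 3 = 0 := w19 3
      have v4 : wt (dec 19) 4 = 0 := w19 4
      have v5 : wt (dec 19) 5 = 0 := w19 5
      simp only [v0, v1, v2, v3, v4, v5, zpow_zero, zpow_one, one_mul, mul_one, zpow_neg]
      rw [hy1, hy3]; field_simp
  have h1 : z * t = 1 := by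
    apply Subtype.ext
    apply Units.ext
    rw [Subgroup.coe_one, Units.val_one]
    ext x y
    have := congrFun (hzg y) x
    rw [hδ1 y, one_smul] at this
    unfold e at this
    rw [Matrix.mulVec_single_one] at this
    rw [Matrix.one_apply]
    rw [Matrix.col_apply] at this
    rw [this, Pi.single_apply]
  rw [show t = z⁻¹ from (eq_inv_of_mul_eq_one_right h1 :)]
  exact inv_mem hzG

section finite

open Cfsg.Agent.GpExc.Field (glMap coe_glMap)
open Cfsg.Agent.H65.E6Ext (ker_scalar ker_pow mat_key)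
open Cfsg.Agent.H163.E6 (V V')

variable {F : Type u} [Field F] [Fintype F] {φ : F →+* F} {q : ℕ}

/-- **The fixed points of the Steinberg endomorphism are mapped into the twisted group.** -/
theorem Gs_le_Gl (hq : IsPrimePow q) (hF : Fintype.card F = q ^ 2) (hφ : ∀ t, φ t = t ^ q)
    (hqq : ∀ t : F, (t ^ q) ^ q = t) : Gs φ ≤ Gl F q := by
  intro g hg
  have h1 : TwE6Basic.sg φ ((ad F g : ↥(chevE6.group F)) : GL chevE6.Idx F) =
      ((ad F g : ↥(chevE6.group F)) : GL chevE6.Idx F) := by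
    rw [← ad_sE, (mem_Gs φ).1 hg]
  obtain ⟨x, hx, t, ht, hxt⟩ := Cfsg.Agent.BpExc.EmbInst.twE6_split (f := RingHom.id F) hq hF hφ (ad F g).2 h1
  have hid : glMap chevE6 (RingHom.id F) x = x := by
    apply Units.ext
    rw [coe_glMap]
    exact Matrix.map_id _
  rw [hid] at hxt
  obtain ⟨gx, hgx, hgx2⟩ := exists_Gs φ hφ hqq hx
  have h2 : gx⁻¹ * g ∈ Gs φ := mul_mem (inv_mem hgx) hg
  have h3 : ((ad F (gx⁻¹ * g) : ↥(chevE6.group F)) : GL chevE6.Idx F) = t := by
    rw [map_mul, map_inv, Subgroup.coe_mul, Subgroup.coe_inv, hgx2, hxt, inv_mul_cancel_left]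
  have h4 : ad F (gx⁻¹ * g) ∈ Cfsg.Agent.KFacts.RgdChevCoord.TT chevE6 F :=
    Subgroup.mem_subgroupOf.2 (by rw [h3]; exact ht)
  obtain ⟨c, hc⟩ := Cfsg.Agent.H944.RootVals.TT_diag E6T.typeE6 h4
  obtain ⟨d, hd, -⟩ := E6T.diag_of_ad hc
  have h5 := diag_mem_Gl φ hφ hd h2
  have h6 : gx ∈ Gl F q := by rw [mem_Gl, hgx2]; exact hx
  have h7 := mul_mem h6 h5
  rwa [mul_inv_cancel_left] at h7

/-- an element of the simply connected group whose image is fixed has a fixed translate -/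
theorem exists_fixed (hφφ : ∀ t : F, φ (φ t) = t) {x : ↥(Zgrp F)} (hx : ad F (sE φ x) = ad F x) :
    ∃ x' ∈ Gs φ, ad F x' = ad F x := by
  obtain ⟨c, hc⟩ : ∃ c, c = x⁻¹ * sE φ x := ⟨_, rfl⟩
  have hc1 : ad F c = 1 := by rw [hc, map_mul, map_inv, hx, inv_mul_cancel]
  obtain ⟨hc3, hcc⟩ := ker_pow hc1
  have hsx : sE φ x = x * c := by rw [hc, mul_inv_cancel_left]
  have hsc : sE φ c = c⁻¹ := by
    have h2 := sE_sE φ hφφ x
    rw [hsx, map_mul, hsx, mul_assoc] at h2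
    have h3 : c * sE φ c = 1 := mul_left_cancel (h2.trans (mul_one x).symm)
    exact ((inv_eq_of_mul_eq_one_right (h3 :)).symm :)
  refine ⟨x * c⁻¹, ?_, by rw [map_mul, map_inv, hc1, inv_one, mul_one]⟩
  rw [mem_Gs, map_mul, map_inv, hsx, hsc, inv_inv, mul_assoc]
  have h5 : c * c = c⁻¹ := by
    rw [eq_inv_iff_mul_eq_one, ← pow_two, ← pow_succ, hc3]
  rw [h5]

theorem ad_eq_iff {x y : ↥(Zgrp F)} : ad F x = ad F y ↔
    ((ad F x : ↥(chevE6.group F)) : GL chevE6.Idx F) = ((ad F y : ↥(chevE6.group F)) : GL chevE6.Idx F) :=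
  ⟨fun h => by rw [h], fun h => Subtype.ext h⟩

/-- **The elements of `E₆(q²)` fixed by `σ` belong to `²E₆(q)`.** -/
theorem mem_twisted (hq : IsPrimePow q) (hF : Fintype.card F = q ^ 2) (hφ : ∀ t, φ t = t ^ q)
    (hqq : ∀ t : F, (t ^ q) ^ q = t) {y : ↥(chevE6.group F)}
    (hy : TwE6Basic.sg φ (y : GL chevE6.Idx F) = y) : (y : GL chevE6.Idx F) ∈ twistedE6 F q := by
  obtain ⟨x, rfl⟩ := ad_surjective (F := F) y
  have hφφ : ∀ t : F, φ (φ t) = t := fun t => by rw [hφ, hφ, hqq]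
  have h1 : ad F (sE φ x) = ad F x := ad_eq_iff.2 (by rw [ad_sE, hy])
  obtain ⟨x', h2, h3⟩ := exists_fixed hφφ h1
  have h4 := Gs_le_Gl hq hF hφ hqq h2
  rw [mem_Gl, h3] at h4
  exact h4

/-- the Steinberg endomorphism on `1 + t N` -/
theorem coe_sE_one_add (g : ↥(Zgrp F)) {N : Matrix I27 I27 F} (hN2 : N * N = 0) {t : F}
    (hg : ((g : GL I27 F) : Matrix I27 I27 F) = 1 + t • N) :
    ((sE φ g : GL I27 F) : Matrix I27 I27 F) =
      1 + φ t • (-(QM F * (PM F * (N.map φ)ᵀ * PM F) * QM F)) := by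
  have hm : (1 + t • N).map φ = 1 + φ t • N.map φ := by
    ext i j
    simp only [Matrix.map_apply, Matrix.add_apply, Matrix.smul_apply, smul_eq_mul, map_add, map_mul,
      Matrix.one_apply, apply_ite φ, map_one, map_zero]
  have hN2' : N.map φ * N.map φ = 0 := by
    rw [← Matrix.map_mul, hN2]
    ext i j
    simp
  have h1 : ((((gm φ (g : GL I27 F))⁻¹ : GL I27 F)) : Matrix I27 I27 F) = 1 - φ t • N.map φ := by
    rw [Matrix.coe_units_inv]
    apply Matrix.inv_eq_right_inv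
    rw [coe_gm, hg, hm, add_mul, one_mul, mul_sub, mul_one, smul_mul_smul_comm, hN2', smul_zero]
    abel
  rw [coe_sE, sZ_apply]
  unfold gU
  simp only [Units.val_mul, coe_PU, coe_QU]
  rw [coe_dual, h1, Matrix.transpose_sub, Matrix.transpose_one, Matrix.transpose_smul]
  have h2 : PM F * (1 : Matrix I27 I27 F) * PM F = 1 := by rw [mul_one, PM_sq]
  have h3 : QM F * (1 : Matrix I27 I27 F) * QM F = 1 := by rw [mul_one, QM_sq]
  rw [mul_sub, sub_mul, mul_sub, sub_mul, h2, h3, mul_smul_comm, smul_mul_assoc, mul_smul_comm, smul_mul_assoc, smul_neg,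
    sub_eq_add_neg]

seal _root_.Finset.sum _root_.dotProduct in
/-- **No one-parameter group `1 + t a` commutes with a subgroup of `²E₆(q)` with trivial centralizer.** -/
theorem kill (hq : IsPrimePow q) (hF : Fintype.card F = q ^ 2) (hφ : ∀ t, φ t = t ^ q)
    (hqq : ∀ t : F, (t ^ q) ^ q = t) {A : Subgroup ↥(chevE6.group F)}
    (hA : ∀ b ∈ A, (b : GL chevE6.Idx F) ∈ twistedE6 F q)
    (hC : ∀ y : ↥(chevE6.group F), (y : GL chevE6.Idx F) ∈ twistedE6 F q → (∀ b ∈ A, b * y = y * b) → y = 1)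
    {a : (I27 → F) →ₗ[F] (I27 → F)} (ha : a ≠ 0) (ha2 : ∀ x, a (a x) = 0)
    (h : ∀ t : F, ∃ g : ↥(Zgrp F), (∀ x, V F g x = x + t • a x) ∧ ∀ b ∈ A, b * ad F g = ad F g * b) : False := by
  have hφφ : ∀ t : F, φ (φ t) = t := fun t => by rw [hφ, hφ, hqq]
  have hAfix : ∀ b ∈ A, TwE6Basic.sg φ (b : GL chevE6.Idx F) = b := fun b hb =>
    TwE6Basic.twisted_le_fix φ hφ hqq (hA b hb)
  -- the preimage of the centralizer
  let C : Subgroup ↥(Zgrp F) := (Subgroup.centralizer (A : Set ↥(chevE6.group F))).comap (ad F)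
  have memC : ∀ x, x ∈ C ↔ ∀ b ∈ A, b * ad F x = ad F x * b := fun x => by
    rw [Subgroup.mem_comap, Subgroup.mem_centralizer_iff]
    rfl
  have hσC : ∀ x ∈ C, sE φ x ∈ C := by
    intro x hx
    rw [memC] at hx ⊢
    intro b hb
    apply Subtype.ext
    have h1 := congrArg (fun y : ↥(chevE6.group F) => TwE6Basic.sg φ (y : GL chevE6.Idx F)) (hx b hb)
    simp only [Subgroup.coe_mul, map_mul] at h1
    rw [Subgroup.coe_mul, Subgroup.coe_mul, ad_sE]
    rw [hAfix b hb] at h1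
    exact h1
  have hfix2 : ∀ x ∈ C, ad F (sE φ x) = ad F x → ad F x = 1 := by
    intro x hx h1
    obtain ⟨x', h2, h3⟩ := exists_fixed hφφ h1
    have h4 := Gs_le_Gl hq hF hφ hqq h2
    rw [mem_Gl, h3] at h4
    exact hC _ h4 ((memC x).1 hx)
  have hker : ∀ x, ad F x = 1 → ad F (sE φ x) = 1 := by
    intro x hx
    apply Subtype.ext
    rw [ad_sE, hx, Subgroup.coe_one, map_one]
  -- the quotient
  let a' : C →* ↥(chevE6.group F) := (ad F).comp C.subtype
  let ψ : C →* C := ((sE φ).comp C.subtype).codRestrict C fun x => hσC x x.2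
  have hK : a'.ker ≤ a'.ker.comap ψ := by
    intro x hx
    rw [Subgroup.mem_comap, MonoidHom.mem_ker]
    exact hker _ (MonoidHom.mem_ker.1 hx)
  let θ : (C ⧸ a'.ker) →* (C ⧸ a'.ker) := QuotientGroup.map a'.ker a'.ker ψ hK
  have hθ : (MonoidHom.FixedPointFree θ :) := by
    intro c hc
    induction c using QuotientGroup.induction_on with
    | H x =>
      have h1 : (QuotientGroup.mk (ψ x) : C ⧸ a'.ker) = QuotientGroup.mk x := hc
      rw [QuotientGroup.eq] at h1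
      have h2 : ad F ((sE φ (x : ↥(Zgrp F)))⁻¹ * x) = 1 := h1
      rw [map_mul, map_inv, inv_mul_eq_one] at h2
      exact (QuotientGroup.eq_one_iff x).2 (hfix2 x x.2 h2)
  have hθ2 : θ^[2] = _root_.id := by
    funext c
    induction c using QuotientGroup.induction_on with
    | H x =>
      show (QuotientGroup.mk (ψ (ψ x)) : C ⧸ a'.ker) = QuotientGroup.mk x
      congr 1
      exact Subtype.ext (sE_sE φ hφφ x)
  have hfin : Finite ↥(Zgrp F) := inferInstance
  have hfinq : Finite (C ⧸ a'.ker) := inferInstance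
  have hinv := hθ.coe_eq_inv_of_sq_eq_one hθ2
  have key : ∀ x ∈ C, ad F (sE φ x * x) = 1 := by
    intro x hx
    have h1 := congrFun hinv (QuotientGroup.mk (⟨x, hx⟩ : C))
    have h2 : (QuotientGroup.mk (ψ ⟨x, hx⟩) : C ⧸ a'.ker) = (QuotientGroup.mk (⟨x, hx⟩ : C))⁻¹ := h1
    rw [eq_inv_iff_mul_eq_one, ← QuotientGroup.mk_mul] at h2
    exact (QuotientGroup.eq_one_iff (ψ ⟨x, hx⟩ * ⟨x, hx⟩ :)).1 h2
  -- the one-parameter group
  choose z hzz hzA using h
  let N : Matrix I27 I27 F := LinearMap.toMatrix' a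
  have hNn : ∀ x, N.mulVec x = a x := fun x => LinearMap.toMatrix'_mulVec a x
  have hN0 : N ≠ 0 := fun h0 => ha (LinearMap.toMatrix'.injective (h0.trans (map_zero _).symm))
  have hN2 : N * N = 0 := by
    have h1 : a.comp a = 0 := LinearMap.ext ha2
    have h2 : LinearMap.toMatrix' (a.comp a) = N * N := LinearMap.toMatrix'_comp a a
    rw [← h2, h1, map_zero]
  have hzm : ∀ t, ((z t : GL I27 F) : Matrix I27 I27 F) = 1 + t • N := by
    intro t
    apply Matrix.toLin'.injective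
    refine LinearMap.ext fun x => ?_
    rw [Matrix.toLin'_apply, Matrix.toLin'_apply, Matrix.add_mulVec, Matrix.one_mulVec, Matrix.smul_mulVec, hNn]
    exact hzz t x
  have hzC : ∀ t, z t ∈ C := fun t => (memC _).2 (hzA t)
  obtain ⟨N', hN'⟩ : ∃ N', N' = -(QM F * (PM F * (N.map φ)ᵀ * PM F) * QM F) := ⟨_, rfl⟩
  have hs1 : ∀ t, ((sE φ (z t) : GL I27 F) : Matrix I27 I27 F) = 1 + φ t • N' := fun t => by
    rw [hN']
    exact coe_sE_one_add (z t) hN2 (hzm t)
  have hN2' : N' * N' = 0 := by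
    have h1 : N.map φ * N.map φ = 0 := by
      rw [← Matrix.map_mul, hN2]
      ext i j
      simp
    have h2 : (N.map φ)ᵀ * (N.map φ)ᵀ = 0 := by rw [← Matrix.transpose_mul, h1, Matrix.transpose_zero]
    rw [hN', neg_mul_neg]
    calc QM F * (PM F * (N.map φ)ᵀ * PM F) * QM F * (QM F * (PM F * (N.map φ)ᵀ * PM F) * QM F) =
        QM F * (PM F * ((N.map φ)ᵀ * (PM F * (QM F * QM F) * PM F) * (N.map φ)ᵀ) * PM F) * QM F := by
          simp only [mul_assoc]
      _ = 0 := by rw [QM_sq, mul_one, PM_sq, mul_one, h2, mul_zero, zero_mul, mul_zero, zero_mul]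
  have hst : ∀ t, φ t • N' = -(t • N) := by
    intro t
    obtain ⟨c, -, hc⟩ := ker_scalar (key (z t) (hzC t))
    have h1 : ((sE φ (z t) * z t : ↥(Zgrp F)) : GL I27 F) = (sE φ (z t) : GL I27 F) * (z t : GL I27 F) := rfl
    rw [h1, Units.val_mul, hs1, hzm] at hc
    exact mat_key hN0 hN2 hN2' hc
  have hN'' : N' = -N := by
    have h1 := hst 1
    rwa [map_one, one_smul, one_smul] at h1
  have hsid : ∀ t, φ t = t := by
    intro t
    have h1 := hst t
    rw [hN'', smul_neg, neg_inj] at h1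
    have h2 : (φ t - t) • N = 0 := by rw [sub_smul, h1, sub_self]
    exact sub_eq_zero.1 ((smul_eq_zero.1 h2).resolve_right hN0)
  classical
  have hq1 : 1 < q := hq.one_lt
  have hroots : (Polynomial.X ^ q - Polynomial.X : Polynomial F) ≠ 0 := FiniteField.X_pow_card_sub_X_ne_zero F hq1
  have h1 : Fintype.card F ≤ (Polynomial.X ^ q - Polynomial.X : Polynomial F).natDegree := by
    have h2 : (Finset.univ : Finset F) ⊆ (Polynomial.X ^ q - Polynomial.X : Polynomial F).roots.toFinset := by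
      intro t _
      rw [Multiset.mem_toFinset, Polynomial.mem_roots hroots, Polynomial.IsRoot.def, Polynomial.eval_sub,
        Polynomial.eval_pow, Polynomial.eval_X, ← hφ, hsid, sub_self]
    calc Fintype.card F = (Finset.univ : Finset F).card := (Finset.card_univ).symm
      _ ≤ _ := Finset.card_le_card h2
      _ ≤ _ := Multiset.toFinset_card_le _
      _ ≤ _ := Polynomial.card_roots' _
  rw [FiniteField.X_pow_card_sub_X_natDegree_eq F hq1, hF] at h1
  nlinarith only [hq1, h1]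

end finite

end Cfsg.Agent.H944.E6Tw
end

-- part: H944/E6TwC
section
/-!
# The semilinear map `J : V → V'` of `²E₆(q)` (helper944)

`J φ x = Q φ(x)`, `J : V → V'` and `V' → V` : commutes with `Gs φ` (`V_J`, `V'_J`), `J (J x) = x`, and is compatible with `sh`,
`cr`, `tf`, `cubicT`. `ev_Gs` : `ev (V g) (μ ^ q) = ev (V g) μ⁻¹`; `Bgrp` is perfect and contained in `Gs φ`; `Tw.twist`.
-/

set_option autoImplicit false

namespace Cfsg.Agent.H944.E6Tw

open Cfsg Cfsg.Lie Module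
open scoped Matrix
open Cfsg.Agent.ChevalleyStructure
open Cfsg.Agent.ChevalleyStructure.E6Min.Tables Cfsg.Agent.ChevalleyStructure.E6Min.Basic
  Cfsg.Agent.ChevalleyStructure.E6Min.Adjoint Cfsg.Agent.ChevalleyStructure.E6Min.Forms
open Cfsg.Agent.H184.GraphE6 (gU gU_mul gU_gU dual coe_dual dual_dual pi pi_pi PM PM_apply PM_mulVec PM_sq
  PM_transpose PU coe_PU PU_sq zM_transpose Nm_transpose dual_PU)
open Cfsg.Agent.H944.E6T (gm coe_gm zM_map)
open Cfsg.Agent.ChevalleyStructure.TwE6Basic (rho epsE)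
open Cfsg.Agent.H163.E6 (V V' V_apply V'_apply)
open Cfsg.Agent.H952.F4 (ev sh cr tf)
open Cfsg.Agent.H952.F4.Jord

universe u

/-! ### the signs and the Jordan structure -/

theorem q000 : qe (0, 0, 0) = 1 := by decide
theorem q001 : qe (0, 0, 1) = -1 := by decide
theorem q002 : qe (0, 0, 2) = 1 := by decide
theorem q010 : qe (0, 1, 0) = -1 := by decide
theorem q011 : qe (0, 1, 1) = 1 := by decide
theorem q012 : qe (0, 1, 2) = -1 := by decide
theorem q020 : qe (0, 2, 0) = 1 := by decide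
theorem q021 : qe (0, 2, 1) = -1 := by decide
theorem q022 : qe (0, 2, 2) = 1 := by decide
theorem q100 : qe (1, 0, 0) = -1 := by decide
theorem q101 : qe (1, 0, 1) = -1 := by decide
theorem q102 : qe (1, 0, 2) = -1 := by decide
theorem q110 : qe (1, 1, 0) = 1 := by decide
theorem q111 : qe (1, 1, 1) = 1 := by decide
theorem q112 : qe (1, 1, 2) = 1 := by decide
theorem q120 : qe (1, 2, 0) = -1 := by decide
theorem q121 : qe (1, 2, 1) = -1 := by decide
theorem q122 : qe (1, 2, 2) = -1 := by decide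
theorem q200 : qe (2, 0, 0) = -1 := by decide
theorem q201 : qe (2, 0, 1) = 1 := by decide
theorem q202 : qe (2, 0, 2) = -1 := by decide
theorem q210 : qe (2, 1, 0) = -1 := by decide
theorem q211 : qe (2, 1, 1) = 1 := by decide
theorem q212 : qe (2, 1, 2) = -1 := by decide
theorem q220 : qe (2, 2, 0) = -1 := by decide
theorem q221 : qe (2, 2, 1) = 1 := by decide
theorem q222 : qe (2, 2, 2) = -1 := by decide

section ring

variable {R : Type u} [CommRing R]

/-- multiplication with the signs -/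
def Qv (x : I27 → R) : I27 → R := fun i => ((qe i : ℤ) : R) * x i

theorem sh_Qv (x : I27 → R) : sh (Qv x) = Qv (sh x) := by
  refine ext27 fun k i j => ?_
  unfold Qv
  fin_cases k <;> fin_cases i <;> fin_cases j <;>
    simp only [Fin.zero_eta, Fin.mk_one, Fin.reduceFinMk,
      sh000, sh001, sh002, sh010, sh011, sh012, sh020, sh021, sh022, sh100, sh101, sh102, sh110, sh111, sh112,
      sh120, sh121, sh122, sh200, sh201, sh202, sh210, sh211, sh212, sh220, sh221, sh222,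
      q000, q001, q002, q010, q011, q012, q020, q021, q022, q100, q101, q102, q110, q111, q112, q120, q121, q122,
      q200, q201, q202, q210, q211, q212, q220, q221, q222, Int.cast_one, Int.cast_neg] <;> ring

theorem Qv_add (x y : I27 → R) : Qv (x + y) = Qv x + Qv y := by
  funext i
  exact mul_add _ _ _

theorem Qv_sub (x y : I27 → R) : Qv (x - y) = Qv x - Qv y := by
  funext i
  exact mul_sub _ _ _

theorem cr_Qv (x y : I27 → R) : cr (Qv x) (Qv y) = Qv (cr x y) := by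
  unfold cr
  rw [← Qv_add, sh_Qv, sh_Qv, sh_Qv, Qv_sub, Qv_sub]

theorem tf_Qv (x y : I27 → R) : tf (Qv x) (Qv y) = tf x y := by
  rw [tf_eq, tf_eq]
  unfold Qv
  simp only [Fin.sum_univ_three,
      q000, q001, q002, q010, q011, q012, q020, q021, q022, q100, q101, q102, q110, q111, q112, q120, q121, q122,
      q200, q201, q202, q210, q211, q212, q220, q221, q222, Int.cast_one, Int.cast_neg]
  ring

theorem cubicT_Qv (x : I27 → R) : cubicT (Qv x) = cubicT x := by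
  rw [N_eq, N_eq]
  unfold Qv
  simp only [Fin.sum_univ_three,
      q000, q001, q002, q010, q011, q012, q020, q021, q022, q100, q101, q102, q110, q111, q112, q120, q121, q122,
      q200, q201, q202, q210, q211, q212, q220, q221, q222, Int.cast_one, Int.cast_neg]
  ring

end ring

/-! ### the semilinear map -/

section field

variable {F : Type u} [Field F] (φ : F →+* F)

/-- **The semilinear map.** -/
def J (x : I27 → F) : I27 → F := Qv fun i => φ (x i)

theorem J_apply (x : I27 → F) (i : I27) : J φ x i = ((qe i : ℤ) : F) * φ (x i) := rfl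

theorem J_eq (x : I27 → F) : J φ x = QM F *ᵥ fun i => φ (x i) := by
  funext i
  rw [QM_mulVec]
  rfl

theorem J_add (x y : I27 → F) : J φ (x + y) = J φ x + J φ y := by
  funext i
  rw [Pi.add_apply, J_apply, J_apply, J_apply, Pi.add_apply, map_add, mul_add]

theorem J_smul (c : F) (x : I27 → F) : J φ (c • x) = φ c • J φ x := by
  funext i
  rw [Pi.smul_apply, J_apply, J_apply, Pi.smul_apply, smul_eq_mul, smul_eq_mul, map_mul]
  ring

theorem J_zero : J φ (0 : I27 → F) = 0 := by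
  funext i
  rw [J_apply, Pi.zero_apply, map_zero, mul_zero]

theorem J_J (hφφ : ∀ t : F, φ (φ t) = t) (x : I27 → F) : J φ (J φ x) = x := by
  funext i
  rw [J_apply, J_apply, map_mul, map_intCast, hφφ, ← mul_assoc, ← Int.cast_mul, qe_sq, Int.cast_one, one_mul]

theorem J_eq_zero (hφφ : ∀ t : F, φ (φ t) = t) {x : I27 → F} : J φ x = 0 ↔ x = 0 := by
  constructor
  · intro h
    rw [← J_J φ hφφ x, h, J_zero]
  · rintro rfl
    exact J_zero φ

theorem sh_J (x : I27 → F) : sh (J φ x) = J φ (sh x) := by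
  unfold J
  rw [sh_Qv, Cfsg.Agent.H65.E6Emb.sh_map]

theorem cr_J (x y : I27 → F) : cr (J φ x) (J φ y) = J φ (cr x y) := by
  unfold J
  rw [cr_Qv, Cfsg.Agent.H65.E6Emb.cr_map]

theorem tf_J (x y : I27 → F) : tf (J φ x) (J φ y) = φ (tf x y) := by
  unfold J
  rw [tf_Qv, Cfsg.Agent.H65.E6Emb.tf_map]

theorem cubicT_J (x : I27 → F) : cubicT (J φ x) = φ (cubicT x) := by
  unfold J
  rw [cubicT_Qv, Cfsg.Agent.H65.E6Emb.cubicT_map]

theorem gm_mulVec (g : GL I27 F) (x : I27 → F) :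
    ((gm φ g : GL I27 F) : Matrix I27 I27 F) *ᵥ (fun i => φ (x i)) = fun i => φ (((g : Matrix I27 I27 F) *ᵥ x) i) := by
  rw [coe_gm, Cfsg.Agent.H65.E6Emb.map_mulVec]

/-- `V g J = J V' g` for `g ∈ Gs φ` -/
theorem V_J {g : ↥(Zgrp F)} (hg : g ∈ Gs φ) (x : I27 → F) : V F g (J φ x) = J φ (V' F g x) := by
  have h1 : (g : GL I27 F) = QU F * gU (gm φ (g : GL I27 F)) * QU F := by
    have h2 := congrArg (fun y : ↥(Zgrp F) => (y : GL I27 F)) ((mem_Gs φ).1 hg)
    exact h2.symm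
  rw [V_apply, V'_apply, J_eq, J_eq]
  conv_lhs => rw [h1]
  rw [Units.val_mul, Units.val_mul, coe_QU, ← gm_gU, Matrix.mulVec_mulVec, mul_assoc, QM_sq, mul_one,
    ← Matrix.mulVec_mulVec, gm_mulVec]

/-- `V' g J = J V g` for `g ∈ Gs φ` -/
theorem V'_J {g : ↥(Zgrp F)} (hg : g ∈ Gs φ) (x : I27 → F) : V' F g (J φ x) = J φ (V F g x) := by
  have h1 : gU (g : GL I27 F) = QU F * gm φ (g : GL I27 F) * QU F := by
    have h2 := congrArg (fun y : ↥(Zgrp F) => gU (y : GL I27 F)) ((mem_Gs φ).1 hg)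
    have h3 : gU ((sE φ g : ↥(Zgrp F)) : GL I27 F) = QU F * gm φ (g : GL I27 F) * QU F := by
      rw [coe_sE, sZ_apply, gU_mul, gU_mul, gU_QU, gU_gU]
    rw [← h3]
    exact h2.symm
  rw [V_apply, V'_apply, J_eq, J_eq]
  conv_lhs => rw [h1]
  rw [Units.val_mul, Units.val_mul, coe_QU, Matrix.mulVec_mulVec, mul_assoc, QM_sq, mul_one,
    ← Matrix.mulVec_mulVec, gm_mulVec]

/-- dimensions of eigenspaces under `J` -/
theorem ev_J [Finite F] (hφφ : ∀ t : F, φ (φ t) = t) {g : ↥(Zgrp F)} (hg : g ∈ Gs φ) (μ : F) :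
    ev (V' F g) (φ μ) = ev (V F g) μ := by
  have e : ↥(Module.End.eigenspace (V F g) μ) ≃ ↥(Module.End.eigenspace (V' F g) (φ μ)) :=
    { toFun := fun x => ⟨J φ x.1, by
        have h := Module.End.mem_eigenspace_iff.1 x.2
        rw [Module.End.mem_eigenspace_iff, V'_J φ hg, h, J_smul]⟩
      invFun := fun y => ⟨J φ y.1, by
        have h := Module.End.mem_eigenspace_iff.1 y.2
        rw [Module.End.mem_eigenspace_iff, V_J φ hg, h, J_smul, hφφ]⟩
      left_inv := fun x => Subtype.ext (J_J φ hφφ x.1)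
      right_inv := fun y => Subtype.ext (J_J φ hφφ y.1) }
  have h1 := Nat.card_congr e
  have : Fintype F := Fintype.ofFinite F
  rw [Module.natCard_eq_pow_finrank (K := F) (V := ↥(Module.End.eigenspace (V F g) μ)),
    Module.natCard_eq_pow_finrank (K := F) (V := ↥(Module.End.eigenspace (V' F g) (φ μ)))] at h1
  have h2 : 1 < Nat.card F := by
    rw [Nat.card_eq_fintype_card]
    exact Fintype.one_lt_card
  exact (Nat.pow_right_injective h2 h1).symm

/-- **`V` twisted by the Frobenius map is the dual of `V`.** -/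
theorem ev_Gs [Finite F] (hφφ : ∀ t : F, φ (φ t) = t) {g : ↥(Zgrp F)} (hg : g ∈ Gs φ) {μ : F} (hμ : μ ≠ 0) :
    ev (V F g) (φ μ) = ev (V F g) μ⁻¹ := by
  have h1 := ev_J φ hφφ hg μ⁻¹
  rw [map_inv₀] at h1
  rw [← h1, Cfsg.Agent.H163.E6.Act.ev_dual g (inv_ne_zero ((map_ne_zero φ).2 hμ)), inv_inv]

end field

/-! ### the derived subgroup of the preimage -/

section perfect

open Cfsg.Agent.H163.E6 (Bgrp Cover Twist scal)

variable {F : Type u} [Field F] {A : Type*} [Group A]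

theorem map_Bgrp (hA : commutator A = ⊤) (ψ : A →* ↥(chevE6.group F)) : (Bgrp ψ).map (ad F) = ψ.range := by
  unfold Bgrp
  rw [Subgroup.map_commutator, Subgroup.map_comap_eq_self_of_surjective ad_surjective, MonoidHom.range_eq_map,
    ← Subgroup.map_commutator]
  rw [commutator_def] at hA
  rw [hA]

theorem Bgrp_le (ψ : A →* ↥(chevE6.group F)) : Bgrp ψ ≤ ψ.range.comap (ad F) := by
  unfold Bgrp
  rw [Subgroup.commutator_le]
  intro a ha b hb
  exact mul_mem (mul_mem (mul_mem ha hb) (inv_mem ha)) (inv_mem hb)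

/-- the derived subgroup of the preimage of a perfect group is perfect -/
theorem Bgrp_perfect (hA : commutator A = ⊤) (ψ : A →* ↥(chevE6.group F)) : ⁅Bgrp ψ, Bgrp ψ⁆ = Bgrp ψ := by
  apply le_antisymm
  · rw [Subgroup.commutator_le]
    intro a ha b hb
    exact mul_mem (mul_mem (mul_mem ha hb) (inv_mem ha)) (inv_mem hb)
  · conv_lhs => unfold Bgrp
    rw [Subgroup.commutator_le]
    have key : ∀ d ∈ ψ.range.comap (ad F), ∃ b ∈ Bgrp ψ, ∃ k : ↥(Zgrp F), d = b * k ∧ ∀ x, x * k = k * x := by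
      intro d hd
      have h1 : ad F d ∈ (Bgrp ψ).map (ad F) := by rw [map_Bgrp hA]; exact hd
      obtain ⟨b, hb, h2⟩ := h1
      refine ⟨b, hb, b⁻¹ * d, by rw [mul_inv_cancel_left], ?_⟩
      exact (Cfsg.Agent.H65.E6Ext.ker_pow (by rw [map_mul, map_inv, h2, inv_mul_cancel])).2
    intro d1 h1 d2 h2
    obtain ⟨b1, hb1, k1, rfl, c1⟩ := key d1 h1
    obtain ⟨b2, hb2, k2, rfl, c2⟩ := key d2 h2
    rw [commutatorElement_def]
    have h3 : b1 * k1 * (b2 * k2) * (b1 * k1)⁻¹ * (b2 * k2)⁻¹ = b1 * b2 * b1⁻¹ * b2⁻¹ := by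
      rw [mul_inv_rev, mul_inv_rev]
      calc b1 * k1 * (b2 * k2) * (k1⁻¹ * b1⁻¹) * (k2⁻¹ * b2⁻¹)
          = b1 * (k1 * (b2 * k2)) * k1⁻¹ * b1⁻¹ * k2⁻¹ * b2⁻¹ := by group
        _ = b1 * ((b2 * k2) * k1) * k1⁻¹ * b1⁻¹ * k2⁻¹ * b2⁻¹ := by rw [c1 (b2 * k2)]
        _ = b1 * b2 * (k2 * b1⁻¹) * k2⁻¹ * b2⁻¹ := by group
        _ = b1 * b2 * (b1⁻¹ * k2) * k2⁻¹ * b2⁻¹ := by rw [c2 b1⁻¹]
        _ = b1 * b2 * b1⁻¹ * b2⁻¹ := by group
    rw [h3]
    exact Subgroup.commutator_mem_commutator hb1 hb2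

end perfect

end Cfsg.Agent.H944.E6Tw

namespace Cfsg.Agent.H163.E6.Tw

open Cfsg Cfsg.Lie Module
open scoped Matrix
open Cfsg.Agent.ChevalleyStructure
open Cfsg.Agent.ChevalleyStructure.E6Min.Tables Cfsg.Agent.ChevalleyStructure.E6Min.Basic
  Cfsg.Agent.ChevalleyStructure.E6Min.Adjoint
open Cfsg.Agent.H184.GraphE6 (gU)
open Cfsg.Agent.H952.F4 (ev sh cr tf)
open Cfsg.Agent.H944.E6Tw

universe u

theorem le (K : Type u) [Field K] (q : ℕ) : Cfsg.Lie.twistedE6 K q ≤ chevE6.group K := by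
  have h : ∀ r < 72, ∀ t : K, TwE6Basic.x r t ∈ chevE6.group K := by
    intro r hr t
    rw [← ad_zU (⟨r, hr⟩ : Fin 72) t]
    exact (ad K _).2
  rw [TwE6Basic.twisted_le_iff]
  constructor
  · intro t _ r hr
    refine h r ?_ t
    simp only [List.mem_cons, List.not_mem_nil, or_false] at hr
    omega
  · intro t rs hrs
    have h1 : rs.1 < 72 ∧ rs.2 < 72 := by
      simp only [List.mem_cons, List.not_mem_nil, or_false] at hrs
      rcases hrs with rfl | rfl | rfl | rfl <;> decide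
    exact mul_mem (h _ h1.1 _) (h _ h1.2 _)

/-- the inclusion -/
noncomputable def incl (K : Type u) [Field K] (q : ℕ) : ↥(Cfsg.Lie.twistedE6 K q) →* ↥(chevE6.group K) :=
  Subgroup.inclusion (le K q)

theorem incl_injective (K : Type u) [Field K] (q : ℕ) : Function.Injective (incl K q) :=
  Subgroup.inclusion_injective (le K q)

variable {K : Type u} [Field K] [Fintype K] {q : ℕ}

/-- the perfect preimage consists of fixed points of the Steinberg endomorphism -/
theorem Bgrp_le_Gs {φ : K →+* K} (hφ : ∀ t, φ t = t ^ q) (hqq : ∀ t : K, (t ^ q) ^ q = t) {A : Type*} [Group A]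
    (hA : commutator A = ⊤) (ψ : A →* ↥(Cfsg.Lie.twistedE6 K q)) : Bgrp ((incl K q).comp ψ) ≤ Gs φ := by
  refine le_Gs_of_perfect φ (Bgrp_perfect hA _) fun b hb => ?_
  obtain ⟨a, ha⟩ := Bgrp_le _ hb
  rw [← ha]
  exact TwE6Basic.twisted_le_fix φ hφ hqq (ψ a).2

/-- **The additional facts for `²E₆(q)`.** -/
theorem twist (hq : IsPrimePow q) (hK : Fintype.card K = q ^ 2) {A : Type*} [Group A] (hA : commutator A = ⊤)
    (ψ : A →* ↥(Cfsg.Lie.twistedE6 K q)) : Twist q ((incl K q).comp ψ) := by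
  obtain ⟨φ, hφ, hqq⟩ := TwE6Basic.exists_frob hq hK
  have hB := Bgrp_le_Gs hφ hqq hA ψ
  have hφφ : ∀ t : K, φ (φ t) = t := fun t => by rw [hφ, hφ, hqq]
  refine ⟨by rw [Nat.card_eq_fintype_card, hK], ?_, ?_⟩
  · rintro ω ⟨-, -, z, hz, hzB⟩
    have h1 : z ∈ Gs φ := hB hzB
    have h2 : ∀ x : I27 → K, V K z x = (ω : K) • x := by
      intro x
      rw [V_apply, hz, Act.coe_scal, Matrix.smul_mulVec, Matrix.one_mulVec]
    have h0 : (ω : K) ≠ 0 := ω.ne_zero
    have h3 : ∀ x : I27 → K, V' K z x = ((ω : K)⁻¹) • x := by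
      intro x
      have h4 : (ω : K) • V' K z x - x = 0 := by
        apply Cfsg.Agent.H952.F4.Jord.tf_nondeg
        intro y
        have h5 := Act.tf_act z y x
        rw [h2, Cfsg.Agent.H952.F4.Jord.tf_smul_left] at h5
        rw [Cfsg.Agent.H952.F4.Jord.tf_comm, sub_eq_add_neg, Cfsg.Agent.H952.F4.Jord.tf_add_right,
          Cfsg.Agent.H952.F4.Jord.tf_smul_right, h5]
        have h6 := Cfsg.Agent.H952.F4.Jord.tf_smul_right (-1 : K) y x
        rw [neg_one_smul] at h6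
        rw [h6]
        ring
      rw [sub_eq_zero] at h4
      rw [← h4, smul_smul, inv_mul_cancel₀ h0, one_smul, h4]
    have h4 := V_J φ h1 (Cfsg.Agent.H952.F4.u0 K)
    rw [h2, h3, J_smul] at h4
    have h5 : J φ (Cfsg.Agent.H952.F4.u0 K) ≠ 0 := by
      intro h
      rw [J_eq_zero φ hφφ] at h
      have h6 := Act.cubicT_u0 (F := K)
      rw [h] at h6
      have h7 := Cfsg.Agent.H952.F4.Jord.N_smul (0 : K) (0 : I27 → K)
      rw [zero_smul, h6] at h7
      simp at h7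
    have h6 : (ω : K) = φ (ω : K)⁻¹ := by
      by_contra hne
      apply h5
      have h7 : ((ω : K) - φ (ω : K)⁻¹) • J φ (Cfsg.Agent.H952.F4.u0 K) = 0 := by rw [sub_smul, h4, sub_self]
      rcases smul_eq_zero.1 h7 with h8 | h8
      · exact absurd (sub_eq_zero.1 h8) hne
      · exact h8
    have h7 : φ (ω : K) * φ (ω : K)⁻¹ = 1 := by rw [← map_mul, mul_inv_cancel₀ h0, map_one]
    rw [← h6, hφ, ← pow_succ] at h7
    exact Units.ext (by rw [Units.val_pow_eq_pow_val, Units.val_one]; exact h7)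
  · intro g hg μ hμ
    rw [← hφ, ev_Gs φ hφφ (hB hg) hμ]

end Cfsg.Agent.H163.E6.Tw
end

private theorem dce_8cf49d70a762 : _root_.True := by
  try have : _root_.True := by simp only [_root_.Cfsg.Agent.H944.E6Tw.zZ.eq_1]
  exact _root_.True.intro
end
end
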