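import Mathlib
import Cfsg.Agent.H944.E6TwC
import Cfsg.Agent.H952.F4.Scott_m3
import Cfsg.Agent.H16.E6.Cov
import Cfsg.Agent.H65.E6Root_m3
import Cfsg.Agent.H952.F4.Jord
import Cfsg.Agent.ChevalleyStructure.E6Min.Torus
import Cfsg.Agent.S1054
import Cfsg.Agent.S1063
import Cfsg.Agent.S1070
import Cfsg.Agent.H191.AltElts
import Cfsg.Agent.FastGrp
import Cfsg.Agent.Prune
set_option linter.all false

section
prune_inst 0x7ffca9f9abbca1dfdfff7e7fa6decffc39901fffa6dff94bffe061ff0bdf13800bc56b8d09e010fe0ed7e21410b87853fbffdfffea6bfc7ffffd5ff41ffbee4fe5f7b50851948c340f380fff03f0778e7f3fffffffffffffffffffffffffffbeffbfffffffff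

-- part: H944/E6Elev
section
set_option linter.all false
open scoped Cfsg.Agent.FastGrp

/-!
# Elements of order 11 of `E₆`; alternating groups of degree at least 11 fixing a vector `v` with `N(v) ≠ 0` (helper944)

* `eleven` : in characteristic different from 11 an element `x` with `x ^ 11 = 1`, conjugate to `x ^ 3` and with
  `ev (V x) μ = ev (V x) μ⁻¹` for all `μ`, is trivial (the nine parameters modulo 11, `chk11`);
* `black_real` : `V g v = v`, `N(v) ≠ 0` implies `ev (V g) μ = ev (V g) μ⁻¹` (a `g`-isomorphism `V → V'`);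
* `no_black` : the preimage of `A_n`, `n ≥ 11`, does not fix a vector `v` with `N(v) ≠ 0`.
-/

set_option autoImplicit false

namespace Cfsg.Agent.H944.E6T

open Cfsg.Lie Module
open Cfsg.Agent.ChevalleyStructure Cfsg.Agent.ChevalleyStructure.Elts
open Cfsg.Agent.ChevalleyStructure.E6Min.Tables Cfsg.Agent.ChevalleyStructure.E6Min.Basic
  Cfsg.Agent.ChevalleyStructure.E6Min.Checks Cfsg.Agent.ChevalleyStructure.E6Min.Adjoint
  Cfsg.Agent.ChevalleyStructure.E6Min.Forms
open Cfsg.Agent.H952.F4 (ev es matRep)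
open Cfsg.Agent.H163.E6 (V L)
open Cfsg.Agent.BpExc.TorAll

universe u

/-- not one of the packed multiplicities `(7, 2, ..., 2)`, `(17, 1, ..., 1)` -/
def ok11 (v : ℕ) : Bool := !(Nat.beq v 2427333410363490735096327) && !(Nat.beq v 1213666705181745367548177)

/-- the check -/
def chkV (m s : ℕ) (p : ℕ → Bool) : Bool :=
  all3 m s fun x0 x1 x2 => all3 m s fun y0 y1 y2 => all3 m s fun z0 z1 z2 => p (nV m x0 x1 x2 y0 y1 y2 z0 z1 z2)

/-- the sorted triples with sum `0` modulo `11` -/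
private def T11 : List (ℕ × ℕ × ℕ) := [(0, 0, 0), (3, 4, 4), (3, 3, 5), (2, 4, 5), (1, 5, 5), (2, 3, 6), (1, 4, 6), (0, 5, 6), (2, 2, 7), (1, 3, 7), (0, 4, 7), (1, 2, 8), (0, 3, 8), (7, 7, 8), (6, 8, 8), (1, 1, 9), (0, 2, 9), (6, 7, 9), (5, 8, 9), (4, 9, 9), (0, 1, 10), (6, 6, 10), (5, 7, 10), (4, 8, 10), (3, 9, 10), (2, 10, 10)]

private noncomputable def allT (p : ℕ → ℕ → ℕ → Bool) (L : List (ℕ × ℕ × ℕ)) : Bool :=
  List.rec true (fun t _ ih => Bool.rec false ih (Prod.rec (fun a u => Prod.rec (fun b c => p a b c) u) t)) L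

private theorem allT_spec {p : ℕ → ℕ → ℕ → Bool} : ∀ {L : List (ℕ × ℕ × ℕ)}, allT p L = true →
    ∀ t ∈ L, p t.1 t.2.1 t.2.2 = true
  | [], _, _, ht => absurd ht List.not_mem_nil
  | s :: L, h, t, ht => by
    have h1 : (Bool.rec false (allT p L) (p s.1 s.2.1 s.2.2) : Bool) = true := h
    cases hp : p s.1 s.2.1 s.2.2 with
    | false => rw [hp] at h1; exact absurd h1 Bool.false_ne_true
    | true =>
      rw [hp] at h1
      rcases List.mem_cons.1 ht with rfl | ht
      · exact hp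
      · exact allT_spec h1 t ht

private theorem T11_all : all3 11 0 (fun a b c => T11.contains (a, b, c)) = true := by decide +kernel

private theorem all3_of {p : ℕ → ℕ → ℕ → Bool} (h : allT p T11 = true) : all3 11 0 p = true := by
  refine allLt_intro fun c hc => allLt_intro fun b hb => allLt_intro fun a ha => ?_
  have h1 := allLt_spec (allLt_spec (allLt_spec T11_all c hc) b hb) a ha
  rw [Bool.or_eq_true] at h1 ⊢
  exact h1.imp id fun h2 => allT_spec h (a, b, c) (List.contains_iff_mem.1 h2)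

private theorem chk11T : allT (fun x0 x1 x2 => allT (fun y0 y1 y2 => allT (fun z0 z1 z2 =>
    ok11 (nV 11 x0 x1 x2 y0 y1 y2 z0 z1 z2)) T11) T11) T11 = true := by decide +kernel

private theorem allT_mono {p q : ℕ → ℕ → ℕ → Bool} (hpq : ∀ a b c, p a b c = true → q a b c = true) :
    ∀ {L : List (ℕ × ℕ × ℕ)}, allT p L = true → allT q L = true
  | [], _ => rfl
  | s :: L, h => by
    have h1 : (Bool.rec false (allT p L) (p s.1 s.2.1 s.2.2) : Bool) = true := h
    have h2 := allT_spec h s List.mem_cons_self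
    rw [h2] at h1
    show (Bool.rec false (allT q L) (q s.1 s.2.1 s.2.2) : Bool) = true
    rw [hpq _ _ _ h2]
    exact allT_mono hpq h1

theorem chk11 : chkV 11 0 ok11 = true :=
  all3_of (allT_mono (fun _ _ _ h => all3_of (allT_mono (fun _ _ _ h => all3_of h) h)) chk11T)

theorem core_natV {m : ℕ} [NeZero m] {s : ℕ} (hs : s < m) {p : ℕ → Bool} (hp : chkV m s p = true) (X Y Z : Fin 3 → ZMod m)
    (hX : X 0 + X 1 + X 2 = (s : ZMod m)) (hY : Y 0 + Y 1 + Y 2 = (s : ZMod m))
    (hZ : Z 0 + Z 1 + Z 2 = (s : ZMod m)) : p (sV W8 X Y Z) = true := by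
  obtain ⟨σ, hσ1, hσ2⟩ := exists_sort X
  obtain ⟨τ, hτ1, hτ2⟩ := exists_sort Y
  obtain ⟨υ, hυ1, hυ2⟩ := exists_sort Z
  rw [← sV_perm W8 X Y Z σ τ υ, sV_eq]
  exact all3_spec (all3_spec (all3_spec hp hσ1 hσ2 (ZMod.val_lt _) (sum_mod X hs σ hX))
    hτ1 hτ2 (ZMod.val_lt _) (sum_mod Y hs τ hY)) hυ1 hυ2 (ZMod.val_lt _) (sum_mod Z hs υ hZ)

theorem core11 {b : I27 → ZMod 11} (hb : ∀ x y, rel x y = 2 → b x + b y + b (th x y) = 0) :
    ok11 (∑ x : I27, W8 (b x)) = true := by
  have hP := par_par hb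
  rw [sum_coord hb]
  obtain ⟨t, ht⟩ : ∃ t : ZMod 11, par b 9 + 3 * t = ((0 : ℕ) : ZMod 11) :=
    (by decide : ∀ a : ZMod 11, ∃ t : ZMod 11, a + 3 * t = ((0 : ℕ) : ZMod 11)) (par b 9)
  rw [← sV_shift W8 _ _ _ t]
  refine core_natV (by omega) chk11 _ _ _ ?_ ?_ ?_
  · rw [← ht]
    have := hP.x
    show par b 0 + t + (par b 1 + t) + (par b 2 + t) = _
    linear_combination this
  · rw [← ht]
    have := hP.y
    show par b 3 + t + (par b 4 + t) + (par b 5 + t) = _
    linear_combination this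
  · rw [← ht]
    have := hP.z
    show par b 6 + t + (par b 7 + t) + (par b 8 + t) = _
    linear_combination this

variable {K : Type u} [Field K]

/-- elements of order 11 whose non-trivial eigenvalues have equal multiplicities -/
theorem eleven_closed [IsAlgClosed K] (p : ℕ) [Fact p.Prime] [CharP K p] (hK : HAlg p K) (hmp : (11 : ℕ).Coprime p)
    {ζ : K} (hζ : IsPrimitiveRoot ζ 11) {x : ↥(Zgrp K)} (hx : x ^ 11 = 1)
    (he : ∀ j < 11, j ≠ 0 → ev (V K x) (ζ ^ j) = ev (V K x) ζ) : x = 1 := by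
  classical
  have hm0 : (11 : ℕ) ≠ 0 := by norm_num
  obtain ⟨g, d, hdV, hdL, hdm, htri⟩ := exists_diag p hK hm0 hmp hx
  set t := g * x * g⁻¹ with ht
  have hζ0 : ζ ≠ 0 := hζ.ne_zero hm0
  let z : Kˣ := Units.mk0 ζ hζ0
  have hzu : IsPrimitiveRoot z 11 := by
    rw [← IsPrimitiveRoot.coe_units_iff]
    exact hζ
  have hex : ∀ i, ∃ a < 11, z ^ a = d i := by
    intro i
    have h1 : ((d i : Kˣ) : K) ^ 11 = 1 := by
      rw [← Units.val_pow_eq_pow_val, hdm i, Units.val_one]
    obtain ⟨a, ha', ha⟩ := hζ.eq_pow_of_pow_eq_one h1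
    refine ⟨a, ha', Units.ext ?_⟩
    rw [Units.val_pow_eq_pow_val, ← ha]
    rfl
  choose a ha' ha using hex
  let b : I27 → ZMod 11 := fun i => (a i : ZMod 11)
  have hzp : ∀ n : ℤ, z ^ n = z ^ ((n : ZMod 11).val) := by
    intro n
    rw [← zpow_natCast, ZMod.val_intCast]
    have h1 : z ^ ((11 : ℕ) : ℤ) = 1 := by rw [zpow_natCast]; exact hzu.pow_eq_one
    conv_lhs => rw [← Int.emod_add_mul_ediv n (11 : ℕ)]
    rw [zpow_add, zpow_mul, h1, one_zpow, mul_one]
  have hzinj : ∀ {c c' : ZMod 11}, z ^ c.val = z ^ c'.val → c = c' := by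
    intro c c' h
    exact ZMod.val_injective 11 (hzu.pow_inj (ZMod.val_lt _) (ZMod.val_lt _) h)
  have hdb : ∀ i, d i = z ^ (b i).val := by
    intro i
    rw [← ha i, ← zpow_natCast, hzp]
    simp [b]
  have hb : ∀ x y, rel x y = 2 → b x + b y + b (th x y) = 0 := by
    intro x y hxy
    have h1 := htri x y hxy
    apply hzinj
    rw [hdb, hdb, hdb, ← pow_add, ← pow_add] at h1
    rw [ZMod.val_zero, pow_zero, ← h1, ← zpow_natCast z ((b x).val + (b y).val + (b (th x y)).val), hzp]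
    congr 2
    push_cast
    simp
  have hcore := core11 hb
  set dV : I27 → K := fun i => (d i : K) with hdVd
  have hV : ∀ k : ℕ, V K (t ^ k) = Matrix.toLin' (Matrix.diagonal fun i => dV i ^ k) := by
    intro k
    show Matrix.toLin' (((t ^ k : ↥(Zgrp K)) : GL I27 K) : Matrix I27 I27 K) = _
    rw [Subgroup.coe_pow, Units.val_pow_eq_pow_val, hdV, Matrix.diagonal_pow]
    rfl
  have hzm : ∀ c : ZMod 11, ((z ^ c.val : Kˣ) : K) ^ 11 = 1 := by
    intro c
    rw [← Units.val_pow_eq_pow_val, ← pow_mul, mul_comm, pow_mul, hzu.pow_eq_one, one_pow, Units.val_one]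
  have hζz : ∀ j : ℕ, ζ ^ j = ((z ^ j : Kˣ) : K) := fun j => by
    rw [Units.val_pow_eq_pow_val]
    rfl
  obtain ⟨v1, -, -, -⟩ := diag_facts (V K) hζ hm0 (x := x) (g := g) (d := dV) hV (fun i => by
    rw [hdVd]; show (d i : K) ^ 11 = 1; rw [hdb]; exact hzm _)
  have eV : ∀ j < 11, ev (V K x) (ζ ^ j) = (Finset.univ.filter fun i : I27 => (b i).val = j).card := by
    intro j hj
    rw [v1]
    refine congrArg Finset.card (Finset.filter_congr fun i _ => ?_)
    rw [hζz]
    change ((d i : Kˣ) : K) = _ ↔ _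
    rw [hdb]
    constructor
    · intro h
      exact hzu.pow_inj (ZMod.val_lt _) hj (Units.ext h)
    · intro h
      rw [h]
  obtain ⟨c, hc⟩ : ∃ c, c = ev (V K x) ζ := ⟨_, rfl⟩
  have e0 := eV 0 (by norm_num)
  rw [pow_zero] at e0
  have hcount : ∀ j < 11, j ≠ 0 → (Finset.univ.filter fun i : I27 => (b i).val = j).card = c := by
    intro j hj hj0
    rw [← eV j hj, he j hj hj0, hc]
  have hsum : ∑ x : I27, W8 (b x) = (Finset.univ.filter fun i : I27 => (b i).val = 0).card +
      c * ∑ j ∈ Finset.range 10, 256 ^ (j + 1) := by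
    have h1 : ∑ j ∈ Finset.range 10, (Finset.univ.filter fun i : I27 => (b i).val = j + 1).card * 256 ^ (j + 1) =
        c * ∑ j ∈ Finset.range 10, 256 ^ (j + 1) := by
      rw [Finset.mul_sum]
      refine Finset.sum_congr rfl fun j hj => ?_
      rw [hcount (j + 1) (by have := Finset.mem_range.1 hj; omega) (by omega)]
    rw [sum_levels, Finset.sum_range_succ', h1, pow_zero, mul_one, Nat.add_comm]
  have htot : (Finset.univ.filter fun i : I27 => (b i).val = 0).card + c * 10 = 27 := by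
    have h1 : ∑ j ∈ Finset.range 11, (Finset.univ.filter fun i : I27 => (b i).val = j).card = 27 := by
      have h2 := Finset.card_eq_sum_card_fiberwise (s := (Finset.univ : Finset I27)) (t := Finset.range 11)
        (f := fun i => (b i).val) (fun i _ => Finset.mem_coe.2 (Finset.mem_range.2 (ZMod.val_lt _)))
      rw [← h2, Finset.card_univ]
      decide
    rw [Finset.sum_range_succ'] at h1
    rw [Finset.sum_congr rfl (g := fun _ => c) (fun j hj =>
      hcount (j + 1) (by have := Finset.mem_range.1 hj; omega) (by omega)), Finset.sum_const, Finset.card_range,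
      smul_eq_mul] at h1
    omega
  have hcc : c = 0 ∨ c = 1 ∨ c = 2 := by omega
  rcases hcc with h | h | h
  · apply V_one_of_ev
    rw [e0]
    omega
  · exfalso
    rw [h] at hsum htot
    have h0 : (Finset.univ.filter fun i : I27 => (b i).val = 0).card = 17 := by omega
    rw [hsum, h0] at hcore
    revert hcore
    decide +kernel
  · exfalso
    rw [h] at hsum htot
    have h0 : (Finset.univ.filter fun i : I27 => (b i).val = 0).card = 7 := by omega
    rw [hsum, h0] at hcore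
    revert hcore
    decide +kernel

/-- **elements of order 11 conjugate to their third power are not real on `V`** -/
theorem eleven [IsAlgClosed K] (p : ℕ) [Fact p.Prime] [CharP K p] (hK : HAlg p K) (hp : p ≠ 11)
    {x : ↥(Zgrp K)} (hx : x ^ 11 = 1) (h3 : ∃ g, g * x * g⁻¹ = x ^ 3)
    (hr : ∀ μ : K, μ ≠ 0 → ev (V K x) μ = ev (V K x) μ⁻¹) : x = 1 := by
  have hc : (11 : ℕ).Coprime p := cop p (by norm_num : (11 : ℕ).Prime) hp
  obtain ⟨ζ, hζ⟩ := exists_prim (K := K) p hc
  have hζ0 : ζ ≠ 0 := hζ.ne_zero (by norm_num)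
  obtain ⟨g, hg⟩ := h3
  have hcube : ∀ μ : K, μ ≠ 0 → μ ^ 11 = 1 → ev (V K x) μ = ev (V K x) (μ ^ 3) := by
    intro μ hμ0 hμ
    -- the eigenspace of `x ^ 3` for `μ ^ 3` is the eigenspace of `x` for `μ`
    have h1 : Module.End.eigenspace (V K x) μ = Module.End.eigenspace (V K (x ^ 3)) (μ ^ 3) := by
      have hpow : ∀ (k : ℕ) (y : ↥(Zgrp K)) (ν : K) (v : I27 → K), V K y v = ν • v → V K (y ^ k) v = ν ^ k • v := by
        intro k y ν v hv
        induction k with
        | zero => rw [pow_zero, map_one, pow_zero, one_smul]; rfl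
        | succ k ih =>
          rw [pow_succ', map_mul]
          show V K y (V K (y ^ k) v) = _
          rw [ih, map_smul, hv, smul_smul, pow_succ]
      ext v
      rw [Module.End.mem_eigenspace_iff, Module.End.mem_eigenspace_iff]
      constructor
      · exact hpow 3 x μ v
      · intro hv
        have h2 := hpow 4 (x ^ 3) (μ ^ 3) v hv
        have e12 : x ^ 12 = x := by rw [show (12 : ℕ) = 11 + 1 from rfl, pow_succ x, hx, one_mul]
        have f12 : μ ^ 12 = μ := by rw [show (12 : ℕ) = 11 + 1 from rfl, pow_succ μ, hμ, one_mul]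
        rw [← pow_mul, ← pow_mul] at h2
        change V K (x ^ 12) v = μ ^ 12 • v at h2
        rwa [e12, f12] at h2
    have h2 : ev (V K x) μ = ev (V K (x ^ 3)) (μ ^ 3) := by
      unfold Cfsg.Agent.H952.F4.ev
      rw [h1]
    rw [h2, ← hg, ev_conj]
  have hpp : ∀ j : ℕ, ev (V K x) (ζ ^ j) = ev (V K x) (ζ ^ (3 * j)) := by
    intro j
    rw [hcube (ζ ^ j) (pow_ne_zero _ hζ0) (by rw [← pow_mul, mul_comm, pow_mul, hζ.pow_eq_one, one_pow]), ← pow_mul,
      mul_comm]
  have hmod : ∀ n : ℕ, ζ ^ n = ζ ^ (n % 11) := by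
    intro n
    conv_lhs => rw [← Nat.mod_add_div n 11, pow_add, pow_mul, hζ.pow_eq_one, one_pow, mul_one]
  have hneg : ∀ j k : ℕ, j + k = 11 → ev (V K x) (ζ ^ j) = ev (V K x) (ζ ^ k) := by
    intro j k hjk
    rw [hr _ (pow_ne_zero _ hζ0)]
    congr 1
    apply inv_eq_of_mul_eq_one_right
    rw [← pow_add, hjk, hζ.pow_eq_one]
  have a1 := hpp 1
  have a3 := hpp 3
  have a9 := hpp 9
  have a5 := hpp 5
  have b1 := hneg 1 10 rfl
  have b2 := hneg 2 9 rfl
  have b3 := hneg 3 8 rfl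
  have b4 := hneg 4 7 rfl
  have b5 := hneg 5 6 rfl
  rw [hmod (3 * 1)] at a1
  rw [hmod (3 * 3)] at a3
  rw [hmod (3 * 9)] at a9
  rw [hmod (3 * 5)] at a5
  simp only [Nat.reduceMul, Nat.reduceMod] at a1 a3 a9 a5
  refine eleven_closed p hK hc hζ hx fun j hj hj0 => ?_
  have e1 : ζ ^ 1 = ζ := pow_one ζ
  rw [e1] at a1 b1
  interval_cases j
  · exact absurd rfl hj0
  · rw [e1]
  · rw [b2, ← a3, ← a1]
  · rw [← a1]
  · rw [← a5, ← a9, ← a3, ← a1]
  · rw [← a9, ← a3, ← a1]
  · rw [← b5, ← a9, ← a3, ← a1]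
  · rw [← b4, ← a5, ← a9, ← a3, ← a1]
  · rw [← b3, ← a1]
  · rw [← a3, ← a1]
  · rw [← b1]

end Cfsg.Agent.H944.E6T

namespace Cfsg.Agent.H944.E6Tw

open Cfsg Cfsg.Lie Module
open Cfsg.Agent.ChevalleyStructure.E6Min.Tables Cfsg.Agent.ChevalleyStructure.E6Min.Basic
  Cfsg.Agent.ChevalleyStructure.E6Min.Adjoint
open Cfsg.Agent.H163.E6
open Cfsg.Agent.H952.F4 (ev sh cr tf MaxAlt)
open Cfsg.Agent.H952.F4.Jord

universe u

/-! ### vectors `v` with `N(v) ≠ 0` -/

section black

variable {F : Type u} [Field F]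

/-- the map `V → V'` given by a vector `v` with `N(v) ≠ 0` -/
def bl (v : I27 → F) : (I27 → F) →ₗ[F] (I27 → F) where
  toFun y := ((cubicT v)⁻¹ * tf (sh v) y) • sh v - cr v y
  map_add' y z := by
    rw [tf_add_right, cr_add_right, mul_add, add_smul]
    abel
  map_smul' c y := by
    rw [tf_smul_right, cr_smul_right, RingHom.id_apply, smul_sub, smul_smul]
    congr 2
    ring

theorem bl_apply (v y : I27 → F) : bl v y = ((cubicT v)⁻¹ * tf (sh v) y) • sh v - cr v y := rfl

theorem bl_eq_zero {v : I27 → F} (hv : cubicT v ≠ 0) {y : I27 → F} (h : bl v y = 0) : y = 0 := by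
  obtain ⟨τ, hτ⟩ : ∃ τ, τ = (cubicT v)⁻¹ * tf (sh v) y := ⟨_, rfl⟩
  rw [bl_apply, ← hτ, sub_eq_zero] at h
  have hNτ : cubicT v * τ = tf (sh v) y := by rw [hτ, ← mul_assoc, mul_inv_cancel₀ hv, one_mul]
  have h1 := cr_sh_cr v y
  rw [← h, cr_smul_right, cr_self, sh_sh, ← hNτ] at h1
  have h2 : y = τ • v := by
    have h3 : cubicT v • y = cubicT v • (τ • v) := by
      have h4 : cubicT v • y = τ • (2 : F) • cubicT v • v - (cubicT v * τ) • v := by rw [h1]; abel
      rw [h4, smul_smul, smul_smul, smul_smul, ← sub_smul]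
      congr 1
      ring
    exact smul_right_injective _ hv h3
  have hsh : sh v ≠ 0 := by
    intro h3
    have h4 := sh_sh v
    have h5 : sh (0 : I27 → F) = 0 := by
      have := sh_smul (0 : F) (0 : I27 → F)
      rwa [zero_smul, zero_pow (by norm_num), zero_smul] at this
    rw [h3, h5] at h4
    rcases smul_eq_zero.1 h4.symm with h6 | h6
    · exact hv h6
    · apply hv
      rw [h6]
      have := N_smul (0 : F) (0 : I27 → F)
      rwa [zero_smul, zero_pow (by norm_num), zero_mul] at this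
  rw [h2, cr_smul_right, cr_self] at h
  have h3 : τ • sh v = 0 := by
    have h4 : τ • sh v = (2 * τ) • sh v := by
      conv_lhs => rw [h]
      rw [smul_smul, mul_comm]
    rw [two_mul, add_smul] at h4
    exact (left_eq_add.1 h4)
  rcases smul_eq_zero.1 h3 with h4 | h4
  · rw [h2, h4, zero_smul]
  · exact absurd h4 hsh

theorem bl_V {v : I27 → F} {g : ↥(Zgrp F)} (hg : V F g v = v) (y : I27 → F) :
    bl v (V F g y) = V' F g (bl v y) := by
  have h1 : V' F g (sh v) = sh v := by rw [← Act.sh_act, hg]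
  have h2 : tf (sh v) (V F g y) = tf (sh v) y := by
    rw [tf_comm, ← h1, Act.tf_act, tf_comm, h1]
  have h3 : cr v (V F g y) = V' F g (cr v y) := by
    rw [← Act.cr_act, hg]
  rw [bl_apply, bl_apply, map_sub, map_smul, h1, h2, h3]

theorem ev_eq_of_bl {v : I27 → F} (hv : cubicT v ≠ 0) {g : ↥(Zgrp F)} (hg : V F g v = v) (μ : F) :
    ev (V F g) μ = ev (V' F g) μ := by
  have hinj : Function.Injective (bl v) := (injective_iff_map_eq_zero (bl v)).2 fun y hy => bl_eq_zero hv hy
  have hsur : Function.Surjective (bl v) := LinearMap.injective_iff_surjective.1 hinj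
  have h1 : (Module.End.eigenspace (V F g) μ).map (bl v) = Module.End.eigenspace (V' F g) μ := by
    ext w
    rw [Submodule.mem_map, Module.End.mem_eigenspace_iff]
    constructor
    · rintro ⟨y, hy, rfl⟩
      rw [Module.End.mem_eigenspace_iff] at hy
      rw [← bl_V hg, hy, map_smul]
    · intro hw
      obtain ⟨y, rfl⟩ := hsur w
      refine ⟨y, ?_, rfl⟩
      rw [Module.End.mem_eigenspace_iff]
      apply hinj
      rw [bl_V hg, hw, map_smul]
  unfold Cfsg.Agent.H952.F4.ev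
  rw [← h1]
  exact (Submodule.equivMapOfInjective (bl v) hinj _).finrank_eq

/-- **an element fixing a vector `v` with `N(v) ≠ 0` is real on `V`** -/
theorem black_real {v : I27 → F} (hv : cubicT v ≠ 0) {g : ↥(Zgrp F)} (hg : V F g v = v) {μ : F} (hμ : μ ≠ 0) :
    ev (V F g) μ = ev (V F g) μ⁻¹ := by
  rw [ev_eq_of_bl hv hg, Act.ev_dual g hμ]

end black

/-! ### alternating groups of degree at least 11 -/

section alt

open Equiv

/-- the 11-cycle -/
def c11 : Perm (Fin 11) := ⟨fun i => i + 1, fun i => i + 10, by decide, by decide⟩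

/-- multiplication by 5 -/
def m5 : Perm (Fin 11) := ⟨fun i => 5 * i, fun i => 9 * i, by decide, by decide⟩

theorem c11_pow : c11 ^ 11 = 1 := by decide
theorem c11_ne : c11 ≠ 1 := by decide
theorem c11_sq : c11 = c11 ^ 6 * c11 ^ 6 := by
  rw [← pow_add, show 6 + 6 = 11 + 1 from rfl, pow_succ, c11_pow, one_mul]
theorem m5_conj : (m5 * m5) * c11 * (m5 * m5)⁻¹ = c11 ^ 3 := by decide

theorem sign_sq (σ : Perm (Fin 11)) : Perm.sign (σ * σ) = 1 := by
  rw [map_mul, Int.units_mul_self]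

theorem exists_eleven {n : ℕ} (hn : 11 ≤ n) : ∃ a h : ↥(alternatingGroup (Fin n)), a ≠ 1 ∧ a ^ 11 = 1 ∧
    h * a * h⁻¹ = a ^ 3 := by
  obtain ⟨j, hj⟩ := Cfsg.Agent.H163.E6.Two.exists_alt hn
  let a : ↥(alternatingGroup (Fin 11)) := ⟨c11, by rw [Perm.mem_alternatingGroup, c11_sq, sign_sq]⟩
  let h : ↥(alternatingGroup (Fin 11)) := ⟨m5 * m5, by rw [Perm.mem_alternatingGroup, sign_sq]⟩
  refine ⟨j a, j h, ?_, ?_, ?_⟩
  · intro h1
    have h2 : a = 1 := hj (by rw [h1, map_one])
    exact c11_ne (congrArg Subtype.val h2)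
  · rw [← map_pow, show a ^ 11 = 1 from Subtype.ext c11_pow, map_one]
  · rw [← map_inv, ← map_mul, ← map_mul, ← map_pow]
    congr 1
    exact Subtype.ext m5_conj

variable {F : Type u} [Field F] [Finite F]

/-- **The preimage of an alternating group of degree at least 11 does not fix a vector `v` with `N(v) ≠ 0`.** -/
theorem no_black (p : ℕ) [Fact p.Prime] [CharP F p] (hp : p ≠ 11) {n : ℕ} (hn : 11 ≤ n)
    {φ : ↥(alternatingGroup (Fin n)) →* ↥(chevE6.group F)} (hinj : Function.Injective φ) {v : I27 → F}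
    (hv : cubicT v ≠ 0) (hfix : ∀ b ∈ Bgrp φ, V F b v = v) : False := by
  obtain ⟨a, h, ha1, ha11, hah⟩ := exists_eleven hn
  have hA : commutator ↥(alternatingGroup (Fin n)) = ⊤ :=
    commutator_alternatingGroup_eq_top (by rw [Nat.card_eq_fintype_card, Fintype.card_fin]; omega)
  have h1 : φ a ∈ (Bgrp φ).map (ad F) := by
    rw [map_Bgrp hA]
    exact ⟨a, rfl⟩
  obtain ⟨b, hb, hba⟩ := h1
  obtain ⟨g, hg⟩ := ad_surjective (F := F) (φ h)
  obtain ⟨x, hx⟩ : ∃ x, x = b ^ 12 := ⟨_, rfl⟩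
  have hxB : x ∈ Bgrp φ := by rw [hx]; exact pow_mem hb 12
  have hadx : ad F x = φ a := by
    rw [hx, map_pow, hba, ← map_pow, show (12 : ℕ) = 11 + 1 from rfl, pow_succ, ha11, one_mul]
  have hx11 : x ^ 11 = 1 := by
    have h2 : ad F (b ^ 11) = 1 := by rw [map_pow, hba, ← map_pow, ha11, map_one]
    have h3 := (Cfsg.Agent.H65.E6Ext.ker_pow h2).1
    rw [hx, ← pow_mul, show 12 * 11 = 11 * 3 * 4 from rfl, pow_mul, pow_mul, h3, one_pow]
  have hconj : g * x * g⁻¹ = x ^ 3 := by
    obtain ⟨k, hk⟩ : ∃ k, k = (x ^ 3)⁻¹ * (g * x * g⁻¹) := ⟨_, rfl⟩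
    have h2 : ad F k = 1 := by
      have h3 : ad F (g * x * g⁻¹) = ad F (x ^ 3) := by
        rw [map_mul, map_mul, map_inv, hg, map_pow, hadx, ← map_inv, ← map_mul, ← map_mul, hah, map_pow]
      rw [hk, map_mul, map_inv, h3, inv_mul_cancel]
    obtain ⟨h3, h4⟩ := Cfsg.Agent.H65.E6Ext.ker_pow h2
    have h5 : g * x * g⁻¹ = x ^ 3 * k := by rw [hk, mul_inv_cancel_left]
    have h6 : (g * x * g⁻¹) ^ 11 = 1 := by rw [conj_pow, hx11, mul_one, mul_inv_cancel]
    have h7 : (x ^ 3 * k) ^ 11 = (x ^ 3) ^ 11 * k ^ 11 := (show Commute (x ^ 3) k from h4 _).mul_pow 11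
    rw [← h5, h6, ← pow_mul, mul_comm 3 11, pow_mul, hx11, one_pow, one_mul] at h7
    have h8 : k = 1 := by
      have h9 : k ^ 12 = 1 := by rw [show (12 : ℕ) = 3 * 4 from rfl, pow_mul, h3, one_pow]
      rwa [show (12 : ℕ) = 11 + 1 from rfl, pow_succ, ← h7, one_mul] at h9
    rw [h5, h8, mul_one]
  have hch : CharP (AlgebraicClosure F) p := charP_of_injective_algebraMap
    (algebraMap F (AlgebraicClosure F)).injective p
  have hK : Cfsg.Agent.BpExc.TorAll.HAlg p (AlgebraicClosure F) := Cfsg.Agent.H944.RootVals.hAlg_closure p F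
  obtain ⟨f, hf⟩ : ∃ f : F →+* AlgebraicClosure F, f = algebraMap F (AlgebraicClosure F) := ⟨_, rfl⟩
  have hV : V (AlgebraicClosure F) (E6T.jm f x) (fun i => f (v i)) = fun i => f (v i) := by
    have h2 : V (AlgebraicClosure F) (E6T.jm f x) (fun i => f (v i)) = fun i => f (V F x v i) := by
      rw [V_apply, E6T.coe_jm, Cfsg.Agent.H65.E6Emb.map_mulVec]
      rfl
    rw [h2, hfix x hxB]
  have hN : cubicT (fun i => f (v i)) ≠ 0 := by
    rw [Cfsg.Agent.H65.E6Emb.cubicT_map]
    exact (map_ne_zero f).2 hv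
  have h2 := E6T.eleven p hK hp (x := E6T.jm f x) (by rw [← map_pow, hx11, map_one])
    ⟨E6T.jm f g, by rw [← map_inv, ← map_mul, ← map_mul, hconj, map_pow]⟩ (fun μ hμ => black_real hN hV hμ)
  have h3 : x = 1 := E6T.jm_injective f (by rw [h2, map_one])
  apply ha1
  apply hinj
  rw [← hadx, h3, map_one, map_one]

end alt

end Cfsg.Agent.H944.E6Tw
end

-- part: H163/E6/Bgrp
section
set_option linter.all false
open scoped Cfsg.Agent.FastGrp

/-!
# The group `Bgrp φ` and the fields `no_three`, `no_six` of `Sit` (helper163)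
-/

set_option autoImplicit false

namespace Cfsg.Agent.H163.E6

open Cfsg Cfsg.Lie Module
open Cfsg.Agent.ChevalleyStructure.E6Min.Tables Cfsg.Agent.ChevalleyStructure.E6Min.Basic
  Cfsg.Agent.ChevalleyStructure.E6Min.Adjoint
open Cfsg.Agent.H952.F4 (ev es matRep sh cr tf MaxAlt)

universe u

section
variable {F : Type u} [Field F] {n : ℕ} {φ : ↥(alternatingGroup (Fin n)) →* ↥(chevE6.group F)}

theorem range_commutator (hn : 5 ≤ n) : ⁅φ.range, φ.range⁆ = φ.range := by
  have h1 := Cov.alt_perfect hn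
  rw [commutator_def] at h1
  rw [MonoidHom.range_eq_map, ← Subgroup.map_commutator, h1]

/-- `Bgrp φ` is mapped onto the alternating group -/
theorem map_Bgrp (hn : 5 ≤ n) : (Bgrp φ).map (ad F) = φ.range := by
  rw [Bgrp, Subgroup.map_commutator, Subgroup.map_comap_eq_self_of_surjective ad_surjective, range_commutator hn]

theorem exists_Bgrp (hn : 5 ≤ n) {g : ↥(Zgrp F)} (hg : ad F g ∈ φ.range) : ∃ b ∈ Bgrp φ, ad F b = ad F g := by
  rw [← map_Bgrp hn] at hg
  exact hg

open scoped commutatorElement in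
theorem comm_le_self {G : Type*} [Group G] (P : Subgroup G) : ⁅P, P⁆ ≤ P := by
  rw [Subgroup.commutator_le]
  intro g hg h hh
  rw [commutatorElement_def]
  exact P.mul_mem (P.mul_mem (P.mul_mem hg hh) (P.inv_mem hg)) (P.inv_mem hh)

theorem Bgrp_le : Bgrp φ ≤ φ.range.comap (ad F) := comm_le_self _

theorem ad_mem_of_Bgrp {b : ↥(Zgrp F)} (hb : b ∈ Bgrp φ) : ad F b ∈ φ.range := Bgrp_le hb

open scoped commutatorElement in
/-- `Bgrp φ` is perfect -/
theorem Bgrp_perfect (hn : 5 ≤ n) : ⁅Bgrp φ, Bgrp φ⁆ = Bgrp φ := by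
  apply le_antisymm (comm_le_self _)
  conv_lhs => rw [Bgrp]
  rw [Subgroup.commutator_le]
  intro g hg g' hg'
  obtain ⟨b, hb, hbg⟩ := exists_Bgrp hn hg
  obtain ⟨b', hb', hbg'⟩ := exists_Bgrp hn hg'
  have h1 : ad F (b⁻¹ * g) = 1 := by rw [map_mul, map_inv, hbg, inv_mul_cancel]
  have h2 : ad F (b'⁻¹ * g') = 1 := by rw [map_mul, map_inv, hbg', inv_mul_cancel]
  have q1 := Cov.ker_comm h1
  have q2 := Cov.ker_comm h2
  set c := b⁻¹ * g with hc
  set c' := b'⁻¹ * g' with hc'
  have e1 : g = b * c := by rw [hc]; group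
  have e2 : g' = b' * c' := by rw [hc']; group
  have h3 : ⁅g, g'⁆ = ⁅b, b'⁆ := by
    rw [e1, e2, commutatorElement_def, commutatorElement_def, mul_inv_rev, mul_inv_rev]
    calc b * c * (b' * c') * (c⁻¹ * b⁻¹) * (c'⁻¹ * b'⁻¹)
        = b * (c * (b' * c' * (c⁻¹ * b⁻¹))) * (c'⁻¹ * b'⁻¹) := by group
      _ = b * (b' * c' * (c⁻¹ * b⁻¹) * c) * (c'⁻¹ * b'⁻¹) := by rw [q1]
      _ = b * b' * (c' * (c⁻¹ * b⁻¹ * c * c'⁻¹)) * b'⁻¹ := by group
      _ = b * b' * (c⁻¹ * b⁻¹ * c * c'⁻¹ * c') * b'⁻¹ := by rw [q2]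
      _ = b * b' * (c⁻¹ * (b⁻¹ * c)) * b'⁻¹ := by group
      _ = b * b' * (c⁻¹ * (c * b⁻¹)) * b'⁻¹ := by rw [q1]
      _ = b * b' * b⁻¹ * b'⁻¹ := by group
  rw [h3]
  exact Subgroup.commutator_mem_commutator hb hb'

/-- an element with trivial image acts by a scalar -/
theorem exists_smul {z : ↥(Zgrp F)} (hz : ad F z = 1) {ρ : Representation F ↥(Zgrp F) (I27 → F)}
    (hρ : ρ = V F ∨ ρ = V' F) : ∃ d : F, ∀ w, ρ z w = d • w := by
  rcases hρ with rfl | rfl
  · obtain ⟨c, -, hc⟩ := (Act.ad_eq_one_iff z).1 hz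
    refine ⟨c, fun w => ?_⟩
    rw [V_apply, hc, Act.coe_scal, Matrix.smul_mulVec, Matrix.one_mulVec]
  · have h1 : ad F (Act.gz z) = 1 := by
      have h2 := Cov.ker_comm hz
      have h3 : Act.gz z ∈ (ad F).ker := by
        rw [ker_ad, Subgroup.mem_center_iff]
        intro g
        have h4 := congrArg Act.gz (h2 (Act.gz g))
        rw [Act.gz_mul, Act.gz_mul, Act.gz_gz] at h4
        exact h4
      exact h3
    obtain ⟨c, -, hc⟩ := (Act.ad_eq_one_iff (Act.gz z)).1 h1
    refine ⟨c, fun w => ?_⟩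
    rw [← Act.V_gz, V_apply, hc, Act.coe_scal, Matrix.smul_mulVec, Matrix.one_mulVec]

theorem rho_mul (ρ : Representation F ↥(Zgrp F) (I27 → F)) (g h : ↥(Zgrp F)) (w : I27 → F) :
    ρ (g * h) w = ρ g (ρ h w) := by
  rw [map_mul]
  rfl

/-- stability under a lift gives stability under the whole preimage -/
theorem stab_of_lift {ρ : Representation F ↥(Zgrp F) (I27 → F)} (hρ : ρ = V F ∨ ρ = V' F)
    {ψ : ↥(alternatingGroup (Fin n)) →* ↥(Zgrp F)} (hψ : Lift φ ψ) {W : Submodule F (I27 → F)}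
    (hW : ∀ a, ∀ w ∈ W, ρ (ψ a) w ∈ W) : Stab ρ φ.range W := by
  rintro g ⟨a, ha⟩ w hw
  obtain ⟨d, hd⟩ := exists_smul (z := g * (ψ a)⁻¹) (by rw [map_mul, map_inv, hψ a, ha, mul_inv_cancel]) hρ
  have h1 : ρ g w = d • ρ (ψ a) w := by
    rw [← hd, ← rho_mul, inv_mul_cancel_right]
  rw [h1]
  exact W.smul_mem _ (hW a w hw)

/-- `Bgrp φ` has no non-trivial 2-dimensional representation -/
theorem Bgrp_two {E : Type*} [Field E] (hn : 5 ≤ n) (hφ : Function.Injective φ) (hc : n ≠ 5 ∨ (2 : E) ≠ 0)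
    (θ : ↥(Bgrp φ) →* GL (Fin 2) E) : ∀ b, θ b = 1 := by
  have hcomm : commutator ↥(Bgrp φ) = ⊤ := by
    have h1 := Bgrp_perfect (φ := φ) hn
    have h2 : (commutator ↥(Bgrp φ)).map (Bgrp φ).subtype = (⊤ : Subgroup ↥(Bgrp φ)).map (Bgrp φ).subtype := by
      rw [commutator_def, Subgroup.map_commutator, ← MonoidHom.range_eq_map, Subgroup.range_subtype, h1]
    exact Subgroup.map_injective (Subgroup.subtype_injective _) h2
  have hle : Bgrp φ ≤ φ.range.comap (ad F) := Bgrp_le
  let π : ↥(Bgrp φ) →* ↥(alternatingGroup (Fin n)) := (Cov.pr hφ).comp (Subgroup.inclusion hle)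
  have hπ : ∀ b : ↥(Bgrp φ), φ (π b) = ad F b := fun b => Cov.phi_pr hφ _
  refine Two.hom_eq_one hcomm hn hc π ?_ ?_ θ
  · intro a
    obtain ⟨b, hb, hba⟩ : ∃ b ∈ Bgrp φ, ad F b = φ a := by
      have : φ a ∈ (Bgrp φ).map (ad F) := by rw [map_Bgrp hn]; exact ⟨a, rfl⟩
      exact this
    exact ⟨⟨b, hb⟩, hφ (by rw [hπ]; exact hba)⟩
  · intro b hb
    have h1 : ad F b = 1 := by rw [← hπ, hb, map_one]
    refine ⟨?_, ?_⟩
    · rw [Subgroup.mem_center_iff]
      intro g
      exact Subtype.ext (Cov.ker_comm h1 _)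
    · exact Subtype.ext (Cov.ker_pow h1)

/-- the field `no_add` of `Sit` -/
def NoAdd (φ : ↥(alternatingGroup (Fin n)) →* ↥(chevE6.group F)) : Prop :=
  ∀ a : (I27 → F) →ₗ[F] (I27 → F), a ≠ 0 → (∀ x, a (a x) = 0) →
    (∀ t : F, ∃ g : ↥(Zgrp F), (∀ x, V F g x = x + t • a x) ∧ ∀ b, φ b * ad F g = ad F g * φ b) → False

theorem V_injective {g h : ↥(Zgrp F)} (H : ∀ x, V F g x = V F h x) : g = h := by
  apply Subtype.ext
  apply Units.ext
  apply Matrix.toLin'.injective
  exact LinearMap.ext H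

theorem false_of_root (hn : 5 ≤ n) (hadd : NoAdd φ) {m : (I27 → F) →ₗ[F] (I27 → F)} (h1 : m ≠ 0)
    (h2 : ∀ x, m (m x) = 0) (h3 : ∀ t : F, ∃ z : ↥(Zgrp F), ∀ x, V F z x = x + t • m x)
    (h4 : ∀ b ∈ Bgrp φ, ∀ x, V F b (m x) = m (V F b x)) : False := by
  refine hadd m h1 h2 fun t => ?_
  obtain ⟨z, hz⟩ := h3 t
  refine ⟨z, hz, fun a => ?_⟩
  obtain ⟨b, hb, hba⟩ : ∃ b ∈ Bgrp φ, ad F b = φ a := by
    have : φ a ∈ (Bgrp φ).map (ad F) := by rw [map_Bgrp hn]; exact ⟨a, rfl⟩
    exact this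
  have h5 : b * z = z * b := by
    apply V_injective
    intro x
    rw [rho_mul, rho_mul, hz, hz, map_add, map_smul, h4 b hb]
  rw [← hba, ← map_mul, h5, map_mul]

theorem no_three_of_add (hn : 5 ≤ n) (hφ : Function.Injective φ) (hadd : NoAdd φ) (hc : n ≠ 5 ∨ (2 : F) ≠ 0)
    (ρ : Representation F ↥(Zgrp F) (I27 → F)) (hρ : ρ = V F ∨ ρ = V' F) (W : Submodule F (I27 → F))
    (hst : Stab ρ φ.range W) (h3 : finrank F ↥W = 3) : ¬ TS W := by
  intro hW
  obtain ⟨m, h1, h2, h3, h4⟩ := H65.E6Root.three_root ρ hρ (B := Bgrp φ) (Bgrp_two hn hφ hc) h3 hW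
    fun b hb w hw => hst b (ad_mem_of_Bgrp hb) w hw
  exact false_of_root hn hadd h1 h2 h3 h4

theorem no_six_of_add (hn : 5 ≤ n) (hadd : NoAdd φ)
    (ρ : Representation F ↥(Zgrp F) (I27 → F)) (hρ : ρ = V F ∨ ρ = V' F) (W : Submodule F (I27 → F))
    (hst : Stab ρ φ.range W) (h6 : finrank F ↥W = 6) : ¬ TS W := by
  intro hW
  obtain ⟨m, h1, h2, h3, h4⟩ := H65.E6Root.six_root ρ hρ (B := Bgrp φ) (Bgrp_perfect hn) h6 hW
    fun b hb w hw => hst b (ad_mem_of_Bgrp hb) w hw
  exact false_of_root hn hadd h1 h2 h3 h4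

/-- `no_add` from the centralizer -/
theorem noAdd_of_cent (hcent : ∀ z : ↥(chevE6.group F), (∀ a, φ a * z = z * φ a) → z = 1) : NoAdd φ := by
  intro a ha h2 h
  obtain ⟨g, hg, hgc⟩ := h 1
  have h1 : ad F g = 1 := hcent _ hgc
  obtain ⟨d, hd⟩ := exists_smul h1 (Or.inl rfl : V F = V F ∨ V F = V' F)
  apply ha
  have h3 : ∀ x, a x = (d - 1) • x := by
    intro x
    have h4 := hg x
    rw [hd, one_smul] at h4
    rw [sub_smul, one_smul, h4]
    abel
  have h5 : d - 1 = 0 := by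
    have h6 := h2 (Pi.single 0 1)
    rw [h3, h3, smul_smul] at h6
    have h7 := congrFun h6 0
    simp only [Pi.smul_apply, Pi.single_eq_same, smul_eq_mul, mul_one, Pi.zero_apply] at h7
    exact mul_self_eq_zero.1 h7
  apply LinearMap.ext
  intro x
  rw [h3, h5, zero_smul, LinearMap.zero_apply]

end

end Cfsg.Agent.H163.E6

private theorem dce_b20eddf0c17e : _root_.True := by
  try have : _root_.True := by simp only [_root_.Cfsg.Agent.H163.E6.Bgrp.eq_1]
  exact _root_.True.intro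
end

-- part: H927/E6Cnt
section
prune_inst 0x5002004014000000000058211001c068800040200480000c0200a000640284209022060080010120008000000000000000000000000000000000400000001000080000031000000020006000000000000000000000000000000000000000004000000000
set_option linter.all false
open scoped Cfsg.Agent.FastGrp

/-!
# S5927: counting (helper927)

* `irred`, `irred'` : `V`, `V'` are irreducible;
* `centralizer_eq`, `card_lt`, `no_line`, `no_fixed`, `no_small`.
-/

set_option autoImplicit false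
set_option linter.unusedSectionVars false
set_option linter.unusedVariables false

namespace Cfsg.Agent.H163.E6.Cnt

open Cfsg Cfsg.Lie Module
open Cfsg.Agent.ChevalleyStructure.E6Min.Tables Cfsg.Agent.ChevalleyStructure.E6Min.Basic
  Cfsg.Agent.ChevalleyStructure.E6Min.Adjoint
open Cfsg.Agent.ChevalleyStructure.E6Min.Forms (rel rt e e_apply)
open Cfsg.Agent.ChevalleyStructure.E6Min.Elim (rt_spec)
open Cfsg.Agent.H952.F4 (matRep MaxAlt)
open scoped Matrix

universe u

variable {F : Type u} [Field F]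

/-! ### irreducibility -/

theorem conn_all : ∀ x y : I27, x = y ∨ rel x y = 1 ∨ ∃ k, rel x k = 1 ∧ rel k y = 1 := by
  decide +kernel

section irr

variable {W : Submodule F (I27 → F)} (hW : ∀ g : ↥(Zgrp F), ∀ w ∈ W, V F g w ∈ W)

include hW

theorem Nm_stable {r : ℕ} (hr : r < 72) {w : I27 → F} (hw : w ∈ W) : Nm F r *ᵥ w ∈ W := by
  have h1 := hW ⟨zU r 1, zU_mem r 1⟩ w hw
  rw [V_apply] at h1
  have h2 : ((zU r (1 : F) : GL I27 F) : Matrix I27 I27 F) *ᵥ w = w + Nm F r *ᵥ w := by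
    rw [coe_zU hr, zM_def, Matrix.add_mulVec, Matrix.one_mulVec, one_smul]
  have h3 : w + Nm F r *ᵥ w ∈ W := by rw [← h2]; exact h1
  have h4 := sub_mem h3 hw
  rwa [add_sub_cancel_left] at h4

theorem diag_stable {r : ℕ} (hr : r < 72) {w : I27 → F} (hw : w ∈ W) : (fun y => ((ind r y : ℤ) : F) * w y) ∈ W := by
  have h1 := Nm_stable hW hr (Nm_stable hW (r := 71 - r) (by omega) hw)
  rw [Matrix.mulVec_mulVec, Nm_mul_opp hr] at h1
  have h2 : (Matrix.diagonal (fun x => ((ind r x : ℤ) : F)) *ᵥ w) = fun y => ((ind r y : ℤ) : F) * w y := by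
    funext y
    rw [Matrix.mulVec_diagonal]
  rwa [h2] at h1

omit hW in
theorem ind_cases (r : ℕ) (x : I27) : ind r x = 0 ∨ ind r x = 1 := by
  by_cases h : sg r x = 0
  · exact Or.inl (ind_of_eq h)
  · exact Or.inr (ind_of_ne h)

theorem proj_stable (x : I27) {w : I27 → F} (hw : w ∈ W) : ∀ n, n ≤ 72 →
    (fun y => (∏ r ∈ Finset.range n, if ind r y = ind r x then (1 : F) else 0) * w y) ∈ W := by
  intro n
  induction n with
  | zero =>
    intro _
    simpa using hw
  | succ n ih =>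
    intro hn
    have h1 := ih (by omega)
    have h2 := diag_stable hW (r := n) (by omega) h1
    rcases ind_cases n x with h3 | h3
    · have h4 := sub_mem h1 h2
      convert h4 using 1
      funext y
      rw [Finset.prod_range_succ, Pi.sub_apply, h3]
      rcases ind_cases n y with h5 | h5
      · rw [h5, if_pos rfl]; push_cast; ring
      · rw [h5, if_neg (by norm_num)]; push_cast; ring
    · convert h2 using 1
      funext y
      rw [Finset.prod_range_succ, h3]
      rcases ind_cases n y with h5 | h5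
      · rw [h5, if_neg (by norm_num)]; push_cast; ring
      · rw [h5, if_pos rfl]; push_cast; ring

omit hW in
theorem ind_sep {x y : I27} (h : x ≠ y) : ∃ r < 72, ind r y ≠ ind r x := by
  have h1 := allLt_spec (allLt_spec Act.sep_all _ (code_lt y)) _ (code_lt x)
  rw [Bool.or_eq_true, beq_iff_eq] at h1
  rcases h1 with h1 | h1
  · exfalso
    apply h
    rw [← dec_code x, ← dec_code y, h1]
  · obtain ⟨r, hr, h2⟩ := Act.exists_of_not_allLt h1
    exact ⟨r, hr, by rw [beq_eq_false_iff_ne] at h2; exact h2⟩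

theorem basis_mem {x : I27} {w : I27 → F} (hw : w ∈ W) (hx : w x ≠ 0) : e F x ∈ W := by
  have h1 := proj_stable hW x hw 72 le_rfl
  have h2 : (fun y => (∏ r ∈ Finset.range 72, if ind r y = ind r x then (1 : F) else 0) * w y) = w x • e F x := by
    funext y
    rw [Pi.smul_apply, e_apply, smul_eq_mul]
    by_cases h : y = x
    · rw [h, if_pos rfl, mul_one, Finset.prod_eq_one, one_mul]
      intro r _
      rw [if_pos rfl]
    · obtain ⟨r, hr, h3⟩ := ind_sep (Ne.symm h)
      rw [if_neg h, mul_zero, Finset.prod_eq_zero (Finset.mem_range.2 hr), zero_mul]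
      rw [if_neg h3]
  rw [h2] at h1
  have h3 := W.smul_mem (w x)⁻¹ h1
  rwa [smul_smul, inv_mul_cancel₀ hx, one_smul] at h3

theorem step_mem {i j : I27} (h : rel i j = 1) (hi : e F i ∈ W) : e F j ∈ W := by
  obtain ⟨hr, hsg, hsr, -⟩ := rt_spec h
  have h1 := Nm_stable hW hr hi
  refine basis_mem hW h1 (x := j) ?_
  rw [Nm_mulVec, hsr, e_apply, if_pos rfl, mul_one]
  exact Act.cast_sg_ne hsg

theorem irred (h0 : W ≠ ⊥) : W = ⊤ := by
  obtain ⟨w, hw, hw0⟩ := Submodule.exists_mem_ne_zero_of_ne_bot h0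
  obtain ⟨x, hx⟩ : ∃ x, w x ≠ 0 := by
    by_contra hcon
    push Not at hcon
    exact hw0 (funext hcon)
  have h1 := basis_mem hW hw hx
  have h2 : ∀ y, e F y ∈ W := by
    intro y
    rcases conn_all x y with rfl | h | ⟨k, hk, hk'⟩
    · exact h1
    · exact step_mem hW h h1
    · exact step_mem hW hk' (step_mem hW hk h1)
  rw [eq_top_iff]
  intro v _
  have h3 : v = ∑ k, v k • e F k := by
    funext j
    rw [Finset.sum_apply, Finset.sum_eq_single j]
    · rw [Pi.smul_apply, e_apply, if_pos rfl, smul_eq_mul, mul_one]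
    · intro k _ hk
      rw [Pi.smul_apply, e_apply, if_neg (Ne.symm hk), smul_zero]
    · intro h; exact absurd (Finset.mem_univ _) h
  rw [h3]
  exact Submodule.sum_mem _ fun k _ => W.smul_mem _ (h2 k)

end irr

theorem irred' {W : Submodule F (I27 → F)} (hW : ∀ g : ↥(Zgrp F), ∀ w ∈ W, V' F g w ∈ W) (h0 : W ≠ ⊥) : W = ⊤ := by
  refine irred (fun g w hw => ?_) h0
  rw [← Act.V'_gz]
  exact hW _ w hw

/-! ### the maximal subgroup and its preimage -/

variable {H : Subgroup ↥(chevE6.group F)} {n : ℕ} {φ : ↥(alternatingGroup (Fin n)) →* ↥(chevE6.group F)}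

theorem simpleE6 : IsSimpleGroup ↥(chevE6.group F) := (S1054.result chevE6 (by simp)).1

theorem alt_nonab (hn : 5 ≤ n) : ∃ a b : ↥(alternatingGroup (Fin n)), a * b ≠ b * a := by
  by_contra hcon
  push Not at hcon
  have h4 : 4 ≤ Nat.card (Fin n) := by rw [Nat.card_eq_fintype_card, Fintype.card_fin]; omega
  have h1 := alternatingGroup.center_eq_bot h4
  have h2 : Subgroup.center ↥(alternatingGroup (Fin n)) = ⊤ := by
    rw [eq_top_iff]
    intro x _
    rw [Subgroup.mem_center_iff]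
    intro y
    exact hcon y x
  have h3 : Nontrivial ↥(alternatingGroup (Fin n)) :=
    alternatingGroup.nontrivial_of_three_le_card (by rw [Nat.card_eq_fintype_card, Fintype.card_fin]; omega)
  rw [h1] at h2
  exact bot_ne_top h2

/-- the centralizer of the alternating group is trivial -/
theorem centralizer_eq (hM : MaxAlt H n φ) (hn : 5 ≤ n) {z : ↥(chevE6.group F)} (hz : ∀ a, φ a * z = z * φ a) :
    z = 1 := by
  have hs : IsSimpleGroup ↥(chevE6.group F) := simpleE6
  set C : Subgroup ↥(chevE6.group F) := Subgroup.centralizer (φ.range : Set ↥(chevE6.group F)) with hC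
  have memC : ∀ x, x ∈ C ↔ ∀ a, φ a * x = x * φ a := by
    intro x
    rw [hC, Subgroup.mem_centralizer_iff]
    constructor
    · intro h a; exact h _ ⟨a, rfl⟩
    · rintro h _ ⟨a, rfl⟩; exact h a
  obtain ⟨a, b, hab⟩ := alt_nonab hn
  have hCn : ∀ h ∈ H, ∀ c ∈ C, h * c * h⁻¹ ∈ C := by
    intro h hh c hc
    rw [memC] at hc ⊢
    intro a
    obtain ⟨a', ha'⟩ := hM.norm h⁻¹ (inv_mem hh) (φ a) ⟨a, rfl⟩
    rw [inv_inv] at ha'
    have h1 := hc a'
    rw [ha'] at h1
    calc φ a * (h * c * h⁻¹) = h * ((h⁻¹ * φ a * h) * c) * h⁻¹ := by group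
      _ = h * (c * (h⁻¹ * φ a * h)) * h⁻¹ := by rw [h1]
      _ = h * c * h⁻¹ * φ a := by group
  have hCH : C ≤ H := by
    by_contra hcon
    have h1 : H ⊔ C = ⊤ := by
      apply hM.coatom.2
      refine lt_of_le_of_ne le_sup_left fun h => hcon ?_
      rw [h]; exact le_sup_right
    have h2 : φ.range.Normal := by
      constructor
      intro x hx g
      have hg : g ∈ H ⊔ C := by rw [h1]; trivial
      have h3 : ∀ g ∈ H ⊔ C, ∀ x ∈ φ.range, g * x * g⁻¹ ∈ φ.range := by
        intro g hg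
        rw [Subgroup.sup_eq_closure] at hg
        induction hg using Subgroup.closure_induction with
        | mem y hy =>
          intro x hx
          rcases hy with hy | hy
          · exact hM.norm y hy x hx
          · obtain ⟨a, rfl⟩ := hx
            have := (memC y).1 hy a
            rw [← this, mul_inv_cancel_right]
            exact ⟨a, rfl⟩
        | one => intro x hx; simpa only [_root_.one_mul, _root_.inv_one, _root_.mul_one, _root_.MonoidHom.mem_range, _root_.Subtype.exists, _root_.Equiv.Perm.mem_alternatingGroup] using hx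
        | mul y z _ _ hy hz =>
          intro x hx
          have := hy _ (hz x hx)
          have e : y * (z * x * z⁻¹) * y⁻¹ = y * z * x * (y * z)⁻¹ := by group
          rwa [e] at this
        | inv y hy hy' =>
          -- conjugation by `y` maps the finite group `φ.range` onto itself
          intro x hx
          have hinj : Function.Injective fun x : φ.range => (⟨y * x.1 * y⁻¹, hy' x.1 x.2⟩ : φ.range) := by
            intro x x' h
            have h4 := congrArg Subtype.val h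
            apply Subtype.ext
            simpa only [_root_.SetLike.coe_eq_coe, _root_.mul_left_inj, _root_.mul_right_inj] using h4
          have hfin : Finite φ.range := Finite.of_surjective φ.rangeRestrict φ.rangeRestrict_surjective
          obtain ⟨x', hx'⟩ := Finite.surjective_of_injective hinj ⟨x, hx⟩
          have h5 : y * x'.1 * y⁻¹ = x := congrArg Subtype.val hx'
          have h6 : y⁻¹ * x * y⁻¹⁻¹ = x'.1 := by rw [← h5]; group
          rw [h6]
          exact x'.2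
      exact h3 g hg x hx
    rcases h2.eq_bot_or_eq_top with h3 | h3
    · apply hab
      apply hM.inj
      have h4 : ∀ a, φ a = 1 := fun a => by
        have : φ a ∈ φ.range := ⟨a, rfl⟩
        rwa [h3, Subgroup.mem_bot] at this
      rw [h4, h4]
    · exact hM.coatom.1 (top_le_iff.1 (h3 ▸ hM.le))
  have hbot : C = ⊥ := by
    by_contra hcon
    have h1 := hM.min C hCH hCn hcon
    apply hab
    apply hM.inj
    rw [map_mul, map_mul]
    exact (memC _).1 (h1 ⟨b, rfl⟩) a
  have h1 : z ∈ C := (memC z).2 hz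
  rwa [hbot, Subgroup.mem_bot] at h1

section card

variable [Finite F]

theorem card_le (hM : MaxAlt H n φ) (hn' : n ≤ 12) : Nat.card ↥H ≤ 479001600 := by
  refine hM.card.trans ?_
  split_ifs
  · norm_num
  · exact (Nat.factorial_le hn').trans (by decide)

theorem two_le_card : 2 ≤ Nat.card F := by
  have : Nontrivial F := inferInstance
  exact Finite.one_lt_card

theorem order : Nat.gcd 3 (Nat.card F - 1) * Nat.card ↥(chevE6.group F) = Nat.card F ^ 36 * (Nat.card F ^ 2 - 1) *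
    (Nat.card F ^ 5 - 1) * (Nat.card F ^ 6 - 1) * (Nat.card F ^ 8 - 1) * (Nat.card F ^ 9 - 1) * (Nat.card F ^ 12 - 1) := by
  have := Fintype.ofFinite F
  exact S1063.result (F := F) Nat.card_eq_fintype_card.symm

/-- bounds for `n` and the order of `H` -/
theorem card_lt (hn : 5 ≤ n) (hn' : n ≤ 12) (hM : MaxAlt H n φ) :
    2 * Nat.card ↥H * Nat.card F ^ 27 < Nat.card ↥(chevE6.group F) := by
  have h1 := card_le hM hn'
  have hq := two_le_card (F := F)
  have ho := order (F := F)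
  set q := Nat.card F with hqdef
  have hg : Nat.gcd 3 (q - 1) ≤ 3 := Nat.gcd_le_left _ (by norm_num)
  have h2 : q ^ 27 * (2 ^ 9 * 3 * 31 * 63 * 255 * 511 * 4095) ≤ 3 * Nat.card ↥(chevE6.group F) := by
    refine le_trans ?_ (Nat.mul_le_mul_right _ hg)
    rw [ho]
    have a2 : 2 ^ 2 ≤ q ^ 2 := Nat.pow_le_pow_left hq 2
    have a5 : 2 ^ 5 ≤ q ^ 5 := Nat.pow_le_pow_left hq 5
    have a6 : 2 ^ 6 ≤ q ^ 6 := Nat.pow_le_pow_left hq 6
    have a8 : 2 ^ 8 ≤ q ^ 8 := Nat.pow_le_pow_left hq 8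
    have a9 : 2 ^ 9 ≤ q ^ 9 := Nat.pow_le_pow_left hq 9
    have a12 : 2 ^ 12 ≤ q ^ 12 := Nat.pow_le_pow_left hq 12
    calc q ^ 27 * (2 ^ 9 * 3 * 31 * 63 * 255 * 511 * 4095)
        = q ^ 27 * 2 ^ 9 * 3 * 31 * 63 * 255 * 511 * 4095 := by ring
      _ ≤ q ^ 27 * q ^ 9 * (q ^ 2 - 1) * (q ^ 5 - 1) * (q ^ 6 - 1) * (q ^ 8 - 1) * (q ^ 9 - 1) * (q ^ 12 - 1) := by
        gcongr <;> (clear * - a2 a5 a6 a8 a9 a12; omega)
      _ = _ := by ring
  have hpos : 0 < q ^ 27 := by positivity
  have h3 : 2 * Nat.card ↥H * q ^ 27 ≤ 2 * 479001600 * q ^ 27 := by gcongr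
  linarith only [h2, hpos, h3]

/-! ### counting subspaces -/

/-- the diagonal representation on `k`-tuples -/
noncomputable def rk (k : ℕ) (ρ : Representation F ↥(Zgrp F) (I27 → F)) :
    Representation F ↥(Zgrp F) (Fin k → (I27 → F)) where
  toFun g := { toFun := fun b i => ρ g (b i)
               map_add' := fun b c => by funext i; exact map_add (ρ g) _ _
               map_smul' := fun t b => by funext i; exact map_smul (ρ g) _ _ }
  map_one' := by
    refine LinearMap.ext fun b => ?_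
    funext i
    show ρ 1 (b i) = b i
    rw [map_one]; rfl
  map_mul' g h := by
    refine LinearMap.ext fun b => ?_
    funext i
    show ρ (g * h) (b i) = ρ g (ρ h (b i))
    rw [map_mul]; rfl

theorem rk_apply (k : ℕ) (ρ : Representation F ↥(Zgrp F) (I27 → F)) (g : ↥(Zgrp F)) (b : Fin k → (I27 → F)) (i : Fin k) :
    rk k ρ g b i = ρ g (b i) := rfl

/-- the stabilizer of a subspace -/
def St (ρ : Representation F ↥(Zgrp F) (I27 → F)) (W : Submodule F (I27 → F)) : Subgroup ↥(Zgrp F) where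
  carrier := {g | ∀ w, ρ g w ∈ W ↔ w ∈ W}
  one_mem' := by intro w; rw [map_one]; rfl
  mul_mem' := by
    intro g h hg hh w
    rw [map_mul, Module.End.mul_apply, hg, hh]
  inv_mem' := by
    intro g hg w
    have h1 := hg (ρ g⁻¹ w)
    rw [← Module.End.mul_apply, ← map_mul, mul_inv_cancel, map_one, Module.End.one_apply] at h1
    exact h1.symm

theorem ρ_inv (ρ : Representation F ↥(Zgrp F) (I27 → F)) (g : ↥(Zgrp F)) (w : I27 → F) : ρ g⁻¹ (ρ g w) = w := by
  rw [← Module.End.mul_apply, ← map_mul, inv_mul_cancel, map_one, Module.End.one_apply]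

theorem ρ_inv' (ρ : Representation F ↥(Zgrp F) (I27 → F)) (g : ↥(Zgrp F)) (w : I27 → F) : ρ g (ρ g⁻¹ w) = w := by
  rw [← Module.End.mul_apply, ← map_mul, mul_inv_cancel, map_one, Module.End.one_apply]

theorem comap_le_St {ρ : Representation F ↥(Zgrp F) (I27 → F)} {W : Submodule F (I27 → F)} (hW : Stab ρ H W) :
    H.comap (ad F) ≤ St ρ W := by
  intro g hg w
  constructor
  · intro h
    have h1 := hW g⁻¹ (by rw [map_inv]; exact inv_mem hg) _ h
    rwa [ρ_inv] at h1
  · exact hW g hg w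

/-- the stabilizer of a proper non-zero `H`-stable subspace -/
theorem St_eq (hM : IsCoatom H) {ρ : Representation F ↥(Zgrp F) (I27 → F)} (hρ : ρ = V F ∨ ρ = V' F)
    {W : Submodule F (I27 → F)} (hW : Stab ρ H W) (h0 : W ≠ ⊥) (h1 : W ≠ ⊤) : St ρ W = H.comap (ad F) := by
  have h2 := comap_le_St hW
  have h3 : H ≤ (St ρ W).map (ad F) := by
    intro h hh
    obtain ⟨g, rfl⟩ := ad_surjective h
    exact ⟨g, h2 hh, rfl⟩
  have hker : ∀ g, ad F g = 1 → g ∈ St ρ W := fun g hg => h2 (by rw [Subgroup.mem_comap, hg]; exact one_mem _)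
  rcases eq_or_lt_of_le h3 with h4 | h4
  · refine le_antisymm (fun g hg => ?_) h2
    rw [Subgroup.mem_comap, h4]
    exact ⟨g, hg, rfl⟩
  · exfalso
    apply h1
    have h5 : (St ρ W).map (ad F) = ⊤ := hM.2 _ h4
    have h6 : ∀ g, g ∈ St ρ W := by
      intro g
      have h7 : ad F g ∈ (St ρ W).map (ad F) := by rw [h5]; trivial
      obtain ⟨s, hs, hs'⟩ := h7
      have h8 : s⁻¹ * g ∈ St ρ W := hker _ (by rw [map_mul, map_inv, hs', inv_mul_cancel])
      have h9 := mul_mem hs h8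
      rwa [mul_inv_cancel_left] at h9
    rcases hρ with rfl | rfl
    · exact irred (fun g w hw => (h6 g w).2 hw) h0
    · exact irred' (fun g w hw => (h6 g w).2 hw) h0

/-- counting the bases of `W` -/
theorem count_sub (hM : IsCoatom H) {ρ : Representation F ↥(Zgrp F) (I27 → F)} (hρ : ρ = V F ∨ ρ = V' F)
    {W : Submodule F (I27 → F)} (hW : Stab ρ H W) {k : ℕ} (hk : finrank F ↥W = k) (h1 : 1 ≤ k) (h27 : k < 27) :
    (∏ i : Fin k, (Nat.card F ^ k - Nat.card F ^ i.val)) * Nat.card ↥(chevE6.group F) ≤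
      Nat.card ↥H * Nat.card F ^ (27 * k) := by
  classical
  have h9 : finrank F (I27 → F) = 27 := by rw [finrank_fintype_fun_eq_card]; rfl
  have hbot : W ≠ ⊥ := by
    rintro rfl
    rw [finrank_bot] at hk
    omega
  have htop : W ≠ ⊤ := by
    rintro rfl
    rw [finrank_top, h9] at hk
    omega
  have hSt := St_eq hM hρ hW hbot htop
  have hfinF := Fintype.ofFinite F
  -- the set of bases
  set S : Set (Fin k → (I27 → F)) := Set.range fun s : {s : Fin k → ↥W // LinearIndependent F s} =>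
    fun i => ((s.1 i : ↥W) : I27 → F) with hS
  have hinj : Function.Injective fun s : {s : Fin k → ↥W // LinearIndependent F s} =>
      (fun i => ((s.1 i : ↥W) : I27 → F) : Fin k → (I27 → F)) := by
    intro s s' h
    apply Subtype.ext
    funext i
    exact Subtype.ext (congrFun h i)
  have hcardS : Nat.card S = ∏ i : Fin k, (Nat.card F ^ k - Nat.card F ^ i.val) := by
    rw [Nat.card_congr (Equiv.ofInjective _ hinj).symm]
    have := card_linearIndependent (K := F) (V := ↥W) (k := k) (le_of_eq hk.symm)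
    rw [this, hk]
    simp only [Nat.card_eq_fintype_card]
  have hspan : ∀ s : {s : Fin k → ↥W // LinearIndependent F s},
      Submodule.span F (Set.range fun i => ((s.1 i : ↥W) : I27 → F)) = W := by
    intro s
    have hne : Nonempty (Fin k) := ⟨⟨0, h1⟩⟩
    have h2 : Submodule.span F (Set.range s.1) = ⊤ :=
      s.2.span_eq_top_of_card_eq_finrank (by rw [Fintype.card_fin, hk])
    have h3 : (Set.range fun i => ((s.1 i : ↥W) : I27 → F)) = W.subtype '' Set.range s.1 := by
      rw [← Set.range_comp]; rfl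
    rw [h3, ← Submodule.map_span, h2, Submodule.map_top, Submodule.range_subtype]
  have hcount := H952.F4.MaxA.count (ρ := rk k ρ) (H.comap (ad F)) S (by
    rintro ⟨s, hs⟩
    have h2 : s.1 ⟨0, h1⟩ = 0 := Subtype.ext (congrFun hs ⟨0, h1⟩)
    exact s.2.ne_zero _ h2) (by
    rintro _ ⟨s, rfl⟩ _ ⟨s', rfl⟩ x hx
    rw [← hSt]
    have key : ∀ w ∈ W, ρ x w ∈ W := by
      intro w hw
      rw [← hspan s] at hw
      induction hw using Submodule.span_induction with
      | mem y hy =>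
        obtain ⟨i, rfl⟩ := hy
        have h2 := congrFun hx i
        rw [rk_apply] at h2
        show ρ x (s.1 i : I27 → F) ∈ W
        rw [h2]
        exact (s'.1 i).2
      | zero => rw [map_zero]; exact zero_mem _
      | add y z _ _ hy hz => rw [map_add]; exact add_mem hy hz
      | smul t y _ hy => rw [map_smul]; exact W.smul_mem t hy
    have key' : ∀ w ∈ W, ρ x⁻¹ w ∈ W := by
      intro w hw
      rw [← hspan s'] at hw
      induction hw using Submodule.span_induction with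
      | mem y hy =>
        obtain ⟨i, rfl⟩ := hy
        have h2 : ρ x (s.1 i : I27 → F) = (s'.1 i : I27 → F) := congrFun hx i
        show ρ x⁻¹ (s'.1 i : I27 → F) ∈ W
        rw [← h2, ρ_inv]
        exact (s.1 i).2
      | zero => rw [map_zero]; exact zero_mem _
      | add y z _ _ hy hz => rw [map_add]; exact add_mem hy hz
      | smul t y _ hy => rw [map_smul]; exact W.smul_mem t hy
    intro w
    constructor
    · intro h
      have := key' _ h
      rwa [ρ_inv] at this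
    · exact key w)
  have hfr : finrank F (Fin k → (I27 → F)) = 27 * k := by
    rw [finrank_pi_fintype, Finset.sum_const, Finset.card_univ, Fintype.card_fin, h9, smul_eq_mul, mul_comm]
  rw [hcardS, hfr] at hcount
  set s := ∏ i : Fin k, (Nat.card F ^ k - Nat.card F ^ i.val) with hs
  set X := Nat.card F ^ (27 * k) with hX
  have e1 := Subgroup.card_mul_index (H.comap (ad F))
  have e2 := Subgroup.card_mul_index H
  rw [Subgroup.index_comap_of_surjective H ad_surjective] at e1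
  have hpos : 0 < Nat.card ↥(H.comap (ad F)) := Nat.card_pos
  have h4 : s * H.index ≤ X := by
    have h5 : Nat.card ↥(H.comap (ad F)) * (s * H.index) ≤ Nat.card ↥(H.comap (ad F)) * X := by
      calc Nat.card ↥(H.comap (ad F)) * (s * H.index) = s * (Nat.card ↥(H.comap (ad F)) * H.index) := by ring
        _ = s * Nat.card ↥(Zgrp F) := by rw [e1]
        _ ≤ Nat.card ↥(H.comap (ad F)) * (X - 1) := hcount
        _ ≤ _ := Nat.mul_le_mul_left _ (Nat.sub_le _ _)
    exact Nat.le_of_mul_le_mul_left h5 hpos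
  calc s * Nat.card ↥(chevE6.group F) = Nat.card ↥H * (s * H.index) := by rw [← e2]; ring
    _ ≤ Nat.card ↥H * X := Nat.mul_le_mul_left _ h4

/-- no stable subspace of dimension 1 -/
theorem no_line' (hM : MaxAlt H n φ) (hn : 5 ≤ n) (hn' : n ≤ 12) {ρ : Representation F ↥(Zgrp F) (I27 → F)}
    (hρ : ρ = V F ∨ ρ = V' F) {W : Submodule F (I27 → F)} (hW : Stab ρ H W) : finrank F ↥W ≠ 1 := by
  intro h1
  have h2 := count_sub hM.coatom hρ hW h1 le_rfl (by norm_num)
  have h3 := card_lt hn hn' hM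
  have hq := two_le_card (F := F)
  simp only [Finset.univ_unique, Fin.default_eq_zero, Fin.val_zero, Finset.prod_singleton, pow_one, pow_zero, mul_one]
    at h2
  have h4 : 1 * Nat.card ↥(chevE6.group F) ≤ (Nat.card F - 1) * Nat.card ↥(chevE6.group F) :=
    Nat.mul_le_mul_right _ (by omega)
  have h5 : Nat.card ↥H * Nat.card F ^ 27 ≤ 2 * Nat.card ↥H * Nat.card F ^ 27 := by linarith only [h2, h4]
  omega

theorem no_small' (hM : MaxAlt H n φ) (hn : 5 ≤ n) (hq : 6 * Nat.card ↥H ≤ Nat.card F ^ 6)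
    {ρ : Representation F ↥(Zgrp F) (I27 → F)} (hρ : ρ = V F ∨ ρ = V' F)
    {W : Submodule F (I27 → F)} (hW : Stab ρ H W) (h1 : 1 ≤ finrank F ↥W) : 4 ≤ finrank F ↥W := by
  by_contra hcon
  have h3 : finrank F ↥W ≤ 3 := by omega
  have h2 := count_sub hM.coatom hρ hW rfl h1 (by omega)
  have hq2 := two_le_card (F := F)
  -- `q ≥ 3`
  have hcardA : 60 ≤ Nat.card ↥H := by
    have h4 : Nat.card φ.range ≤ Nat.card ↥H := Nat.card_le_card_of_injective _ (Subgroup.inclusion_injective hM.le)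
    have h5 : Nat.card φ.range = Nat.card ↥(alternatingGroup (Fin n)) :=
      (Nat.card_congr (MonoidHom.ofInjective hM.inj).toEquiv).symm
    have h6 : 2 * Nat.card ↥(alternatingGroup (Fin n)) = n.factorial := by
      have : Nontrivial (Fin n) := Fin.nontrivial_iff_two_le.2 (by omega)
      rw [two_mul_nat_card_alternatingGroup, Nat.card_perm, Nat.card_eq_fintype_card, Fintype.card_fin]
    have h7 : Nat.factorial 5 ≤ n.factorial := Nat.factorial_le hn
    have h8 : Nat.factorial 5 = 120 := rfl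
    omega
  have ho := order (F := F)
  set q := Nat.card F with hqdef
  have hq3 : 3 ≤ q := by
    by_contra hlt
    have h4 : q = 2 := by omega
    rw [h4] at hq
    omega
  have hg : Nat.gcd 3 (q - 1) ≤ 3 := Nat.gcd_le_left _ (by norm_num)
  set N := Nat.card ↥(chevE6.group F) with hN
  set h := Nat.card ↥H with hh
  have key : ∀ a, 3 ^ a * (q ^ a - 1) ≥ (3 ^ a - 1) * q ^ a := by
    intro a
    have h4 : 3 ^ a ≤ q ^ a := Nat.pow_le_pow_left hq3 a
    have h5 : 1 ≤ 3 ^ a := Nat.one_le_pow _ _ (by norm_num)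
    rw [Nat.mul_sub, Nat.sub_mul, mul_one, one_mul]
    omega
  -- `3 N ≥ q^36 Π`
  have hN3 : q ^ 36 * (q ^ 2 - 1) * (q ^ 5 - 1) * (q ^ 6 - 1) * (q ^ 8 - 1) * (q ^ 9 - 1) * (q ^ 12 - 1) ≤ 3 * N := by
    rw [← ho]; exact Nat.mul_le_mul_right _ hg
  have k1 := key 1
  have k2 := key 2
  have k3 := key 3
  have k5 := key 5
  have k6 := key 6
  have k8 := key 8
  have k9 := key 9
  have k12 := key 12
  have hqpos : 0 < q := by omega
  -- the order
  have hbig : (3 ^ 42 * 3) * N ≥ (3 ^ 2 - 1) * (3 ^ 5 - 1) * (3 ^ 6 - 1) * (3 ^ 8 - 1) * (3 ^ 9 - 1) * (3 ^ 12 - 1) * q ^ 78 := by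
    calc (3 ^ 42 * 3) * N = 3 ^ 42 * (3 * N) := by ring
      _ ≥ 3 ^ 42 * (q ^ 36 * (q ^ 2 - 1) * (q ^ 5 - 1) * (q ^ 6 - 1) * (q ^ 8 - 1) * (q ^ 9 - 1) * (q ^ 12 - 1)) :=
        Nat.mul_le_mul_left _ hN3
      _ = q ^ 36 * (3 ^ 2 * (q ^ 2 - 1)) * (3 ^ 5 * (q ^ 5 - 1)) * (3 ^ 6 * (q ^ 6 - 1)) * (3 ^ 8 * (q ^ 8 - 1)) *
          (3 ^ 9 * (q ^ 9 - 1)) * (3 ^ 12 * (q ^ 12 - 1)) := by ring
      _ ≥ q ^ 36 * ((3 ^ 2 - 1) * q ^ 2) * ((3 ^ 5 - 1) * q ^ 5) * ((3 ^ 6 - 1) * q ^ 6) * ((3 ^ 8 - 1) * q ^ 8) *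
          ((3 ^ 9 - 1) * q ^ 9) * ((3 ^ 12 - 1) * q ^ 12) := by gcongr
      _ = _ := by ring
  have hN0 : 0 < N := Nat.card_pos
  -- `k = 1, 2`: trivial estimate; `k = 3`: exact estimate
  have hP : finrank F ↥W ≤ 2 → False := by
    intro h4
    have h5 : 1 * N ≤ (∏ i : Fin (finrank F ↥W), (q ^ finrank F ↥W - q ^ i.val)) * N := by
      apply Nat.mul_le_mul_right
      rw [Nat.succ_le_iff]
      apply Finset.prod_pos
      intro i _
      have : q ^ i.val < q ^ finrank F ↥W := Nat.pow_lt_pow_right (by omega) i.2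
      omega
    have h6 : N ≤ h * q ^ 54 := by
      calc N = 1 * N := (one_mul N).symm
        _ ≤ _ := h5
        _ ≤ _ := h2
        _ ≤ h * q ^ 54 := Nat.mul_le_mul_left _ (Nat.pow_le_pow_right hqpos (by omega))
    have h7 : 6 * N ≤ q ^ 60 := by
      calc 6 * N ≤ 6 * (h * q ^ 54) := Nat.mul_le_mul_left _ h6
        _ = (6 * h) * q ^ 54 := by ring
        _ ≤ q ^ 6 * q ^ 54 := Nat.mul_le_mul_right _ hq
        _ = q ^ 60 := by ring
    have h8 : 3 ^ 18 ≤ q ^ 18 := Nat.pow_le_pow_left hq3 18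
    have h9 : (3 ^ 42 * 3) * q ^ 60 ≥ (3 ^ 42 * 3) * N := Nat.mul_le_mul_left _ (by omega)
    have h10 : (3 ^ 2 - 1) * (3 ^ 5 - 1) * (3 ^ 6 - 1) * (3 ^ 8 - 1) * (3 ^ 9 - 1) * (3 ^ 12 - 1) * q ^ 78 ≥
        (3 ^ 2 - 1) * (3 ^ 5 - 1) * (3 ^ 6 - 1) * (3 ^ 8 - 1) * (3 ^ 9 - 1) * (3 ^ 12 - 1) * (3 ^ 18 * q ^ 60) := by
      have : q ^ 78 = q ^ 18 * q ^ 60 := by ring
      rw [this]
      exact Nat.mul_le_mul_left _ (Nat.mul_le_mul_right _ h8)
    have h11 : 0 < q ^ 60 := by positivity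
    have h12 : (3 ^ 42 * 3) * q ^ 60 ≥ (3 ^ 2 - 1) * (3 ^ 5 - 1) * (3 ^ 6 - 1) * (3 ^ 8 - 1) * (3 ^ 9 - 1) * (3 ^ 12 - 1) *
      (3 ^ 18 * q ^ 60) := h10.trans (hbig.trans h9)
    norm_num at h12
    omega
  have hk3 : finrank F ↥W = 3 := by
    by_contra hne
    exact hP (by omega)
  rw [hk3] at h2
  simp only [Fin.prod_univ_three, Fin.val_zero, Fin.val_one, Fin.val_two, pow_zero, pow_one] at h2
  have e1 : q ^ 3 - q = q * (q ^ 2 - 1) := by
    rw [Nat.mul_sub, mul_one]; ring_nf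
  have e2 : q ^ 3 - q ^ 2 = q ^ 2 * (q ^ 1 - 1) := by
    rw [Nat.mul_sub, mul_one]; ring_nf
  rw [e1, e2] at h2
  have h5 : (3 ^ 6) * ((q ^ 3 - 1) * (q * (q ^ 2 - 1)) * (q ^ 2 * (q ^ 1 - 1))) ≥
      (3 ^ 3 - 1) * (3 ^ 2 - 1) * (3 ^ 1 - 1) * q ^ 9 := by
    calc (3 ^ 6) * ((q ^ 3 - 1) * (q * (q ^ 2 - 1)) * (q ^ 2 * (q ^ 1 - 1)))
        = (3 ^ 3 * (q ^ 3 - 1)) * (3 ^ 2 * (q ^ 2 - 1)) * (3 ^ 1 * (q ^ 1 - 1)) * q ^ 3 := by ring
      _ ≥ ((3 ^ 3 - 1) * q ^ 3) * ((3 ^ 2 - 1) * q ^ 2) * ((3 ^ 1 - 1) * q ^ 1) * q ^ 3 := by gcongr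
      _ = _ := by ring
  set A := (q ^ 3 - 1) * (q * (q ^ 2 - 1)) * (q ^ 2 * (q ^ 1 - 1)) with hA
  have h6 : 6 * (A * N) ≤ q ^ 87 := by
    calc 6 * (A * N) ≤ 6 * (h * q ^ (27 * 3)) := Nat.mul_le_mul_left _ h2
      _ = (6 * h) * q ^ 81 := by ring
      _ ≤ q ^ 6 * q ^ 81 := Nat.mul_le_mul_right _ hq
      _ = q ^ 87 := by ring
  have h7 : (3 ^ 6 * A) * ((3 ^ 42 * 3) * N) ≥ ((3 ^ 3 - 1) * (3 ^ 2 - 1) * (3 ^ 1 - 1) * q ^ 9) *
      ((3 ^ 2 - 1) * (3 ^ 5 - 1) * (3 ^ 6 - 1) * (3 ^ 8 - 1) * (3 ^ 9 - 1) * (3 ^ 12 - 1) * q ^ 78) :=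
    Nat.mul_le_mul h5 hbig
  have h8 : 2 * ((3 ^ 6 * A) * ((3 ^ 42 * 3) * N)) ≤ 3 ^ 48 * q ^ 87 := by
    calc 2 * ((3 ^ 6 * A) * ((3 ^ 42 * 3) * N)) = 3 ^ 48 * (6 * (A * N)) := by ring
      _ ≤ _ := Nat.mul_le_mul_left _ h6
  have h9 : 2 * (((3 ^ 3 - 1) * (3 ^ 2 - 1) * (3 ^ 1 - 1) * q ^ 9) *
      ((3 ^ 2 - 1) * (3 ^ 5 - 1) * (3 ^ 6 - 1) * (3 ^ 8 - 1) * (3 ^ 9 - 1) * (3 ^ 12 - 1) * q ^ 78)) ≤ 3 ^ 48 * q ^ 87 :=
    (Nat.mul_le_mul_left 2 h7).trans h8
  have h10 : 2 * (((3 ^ 3 - 1) * (3 ^ 2 - 1) * (3 ^ 1 - 1) * q ^ 9) *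
      ((3 ^ 2 - 1) * (3 ^ 5 - 1) * (3 ^ 6 - 1) * (3 ^ 8 - 1) * (3 ^ 9 - 1) * (3 ^ 12 - 1) * q ^ 78)) =
      2 * ((3 ^ 3 - 1) * (3 ^ 2 - 1) * (3 ^ 1 - 1) * ((3 ^ 2 - 1) * (3 ^ 5 - 1) * (3 ^ 6 - 1) * (3 ^ 8 - 1) * (3 ^ 9 - 1) *
        (3 ^ 12 - 1))) * q ^ 87 := by ring
  rw [h10] at h9
  have h11 : 0 < q ^ 87 := by positivity
  have h12 := Nat.le_of_mul_le_mul_right h9 h11
  norm_num at h12

/-- no stable subspace of dimension at most 3 -/
theorem no_small (hM : MaxAlt H n φ) (hn : 5 ≤ n) (hn' : n ≤ 12) (hq : 6 * Nat.card ↥H ≤ Nat.card F ^ 6)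
    {W : Submodule F (I27 → F)} (hW : Stab (V F) H W ∨ Stab (V' F) H W) (h1 : 1 ≤ finrank F ↥W) : 4 ≤ finrank F ↥W := by
  rcases hW with hW | hW
  · exact no_small' hM hn hq (Or.inl rfl) hW h1
  · exact no_small' hM hn hq (Or.inr rfl) hW h1

/-- no stable subspace of dimension 1 -/
theorem no_line (hM : MaxAlt H n φ) (hn : 5 ≤ n) (hn' : n ≤ 12) {W : Submodule F (I27 → F)}
    (hW : Stab (V F) H W ∨ Stab (V' F) H W) : finrank F ↥W ≠ 1 := by
  rcases hW with hW | hW
  · exact no_line' hM hn hn' (Or.inl rfl) hW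
  · exact no_line' hM hn hn' (Or.inr rfl) hW

/-! ### fixed vectors -/

theorem ker_scalar {ρ : Representation F ↥(Zgrp F) (I27 → F)} (hρ : ρ = V F ∨ ρ = V' F) {z : ↥(Zgrp F)}
    (hz : ad F z = 1) : ∃ c : F, c ≠ 0 ∧ c ^ 3 = 1 ∧ ∀ x, ρ z x = c • x := by
  obtain ⟨c, hc, hzc⟩ := (Act.ad_eq_one_iff z).1 hz
  have h1 : ∀ x, V F z x = (c : F) • x := by
    intro x
    rw [V_apply, hzc, Act.coe_scal, Matrix.smul_mulVec, Matrix.one_mulVec]
  have hc3 : (c : F) ^ 3 = 1 := by rw [← Units.val_pow_eq_pow_val, hc, Units.val_one]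
  rcases hρ with rfl | rfl
  · exact ⟨c, c.ne_zero, hc3, h1⟩
  · refine ⟨(c : F)⁻¹, inv_ne_zero c.ne_zero, by rw [inv_pow, hc3, inv_one], fun x => ?_⟩
    have h2 : ∀ y, Cfsg.Agent.H952.F4.tf (V' F z x - (c : F)⁻¹ • x) y = 0 := by
      intro y
      have h3 := Act.tf_act z ((c : F)⁻¹ • y) x
      rw [map_smul, h1, smul_smul, inv_mul_cancel₀ c.ne_zero, one_smul] at h3
      rw [sub_eq_add_neg, H952.F4.Jord.tf_add_left, ← neg_one_smul F ((c : F)⁻¹ • x), H952.F4.Jord.tf_smul_left,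
        H952.F4.Jord.tf_smul_left, H952.F4.Jord.tf_comm (V' F z x), h3, H952.F4.Jord.tf_smul_left,
        H952.F4.Jord.tf_comm x]
      ring
    exact sub_eq_zero.1 (H952.F4.Jord.tf_nondeg h2)

theorem no_fixed' (hM : MaxAlt H n φ) (hn : 5 ≤ n) (hn' : n ≤ 12) {ψ : ↥(alternatingGroup (Fin n)) →* ↥(Zgrp F)}
    (hψ : Lift φ ψ) {ρ : Representation F ↥(Zgrp F) (I27 → F)} (hρ : ρ = V F ∨ ρ = V' F) :
    Representation.invariants (MonoidHom.comp ρ ψ) = ⊥ := by
  by_contra hne
  set W : Submodule F (I27 → F) := Representation.invariants (MonoidHom.comp ρ ψ) with hWdef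
  have memW : ∀ w, w ∈ W ↔ ∀ a, ρ (ψ a) w = w := by
    intro w
    rw [hWdef, Representation.mem_invariants]
    rfl
  have hcom : commutator ↥(alternatingGroup (Fin n)) = ⊤ :=
    commutator_alternatingGroup_eq_top (by rw [Nat.card_eq_fintype_card, Fintype.card_fin]; exact hn)
  set Ĥ : Subgroup ↥(Zgrp F) := H.comap (ad F) with hH
  -- elements of the preimage of the alternating group act as scalars on `W`
  have hscal : ∀ g, ad F g ∈ φ.range → ∃ c : F, c ≠ 0 ∧ c ^ 3 = 1 ∧ ∀ w ∈ W, ρ g w = c • w := by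
    intro g hg
    obtain ⟨a, ha⟩ := hg
    have h1 : ad F ((ψ a)⁻¹ * g) = 1 := by rw [map_mul, map_inv, hψ, ha, inv_mul_cancel]
    obtain ⟨c, hc0, hc3, hc⟩ := ker_scalar hρ h1
    refine ⟨c, hc0, hc3, fun w hw => ?_⟩
    have h2 : g = ψ a * ((ψ a)⁻¹ * g) := by rw [mul_inv_cancel_left]
    rw [h2, map_mul, Module.End.mul_apply, hc, map_smul, (memW w).1 hw]
  -- `W` is stable under the preimage of `H`
  have hst : ∀ x ∈ Ĥ, ∀ w ∈ W, ρ x w ∈ W := by
    intro x hx w hw
    by_cases hw0 : w = 0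
    · rw [hw0, map_zero]; exact zero_mem _
    -- every element of `A` acts on `ρ x w` as a scalar
    have h1 : ∀ a, ψ a ∈ H952.F4.MaxA.LS ρ (ρ x w) := by
      intro a
      have h2 : ad F (x⁻¹ * ψ a * x) ∈ φ.range := by
        rw [map_mul, map_mul, map_inv, hψ]
        have := hM.norm (ad F x)⁻¹ (inv_mem hx) (φ a) ⟨a, rfl⟩
        rwa [inv_inv] at this
      obtain ⟨c, hc0, -, hc⟩ := hscal _ h2
      refine ⟨Units.mk0 c hc0, ?_⟩
      have h3 : ρ (ψ a) (ρ x w) = ρ x (ρ (x⁻¹ * ψ a * x) w) := by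
        rw [← Module.End.mul_apply, ← map_mul, ← Module.End.mul_apply, ← map_mul]
        congr 2
        group
      rw [h3, hc w hw, map_smul]; rfl
    have h2 : (⊤ : Subgroup ↥(alternatingGroup (Fin n))) ≤ (H952.F4.MaxA.VS ρ (ρ x w)).comap ψ := by
      rw [← hcom, commutator_def, Subgroup.commutator_le]
      intro a _ b _
      rw [Subgroup.mem_comap, commutatorElement_def, map_mul, map_mul, map_mul, map_inv, map_inv]
      exact H952.F4.MaxA.comm_mem (h1 a) (h1 b)
    rw [memW]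
    intro a
    exact h2 (Subgroup.mem_top a)
  -- squares are scalars
  have hsq : ∀ x ∈ Ĥ, ∃ c : F, c ≠ 0 ∧ c ^ 3 = 1 ∧ ∀ w ∈ W, ρ x (ρ x w) = c • w := by
    intro x hx
    obtain ⟨c, hc0, hc3, hc⟩ := hscal (x * x) (by rw [map_mul]; exact hM.sq _ hx)
    refine ⟨c, hc0, hc3, fun w hw => ?_⟩
    rw [← Module.End.mul_apply, ← map_mul]
    exact hc w hw
  have hcomm : ∀ x ∈ Ĥ, ∀ y ∈ Ĥ, ∀ w ∈ W, ρ y (ρ x w) = ρ x (ρ y w) := by
    intro x hx y hy
    obtain ⟨cx, hx0, hx3, hcx⟩ := hsq x hx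
    obtain ⟨cy, hy0, hy3, hcy⟩ := hsq y hy
    obtain ⟨cz, hz0, hz3, hcz⟩ := hsq (x * y) (mul_mem hx hy)
    have hmul : ∀ w, ρ (x * y) w = ρ x (ρ y w) := fun w => by rw [map_mul]; rfl
    -- `ρ y ρ x w = d ρ x ρ y w`
    have h1 : ∀ w ∈ W, ρ y (ρ x w) = (cz * cx⁻¹ * cy⁻¹) • ρ x (ρ y w) := by
      intro w hw
      have hyw := hst y hy w hw
      have e1 : ρ x (ρ y (ρ x (ρ y (ρ y w)))) = cz • ρ y w := by
        have := hcz (ρ y w) hyw
        rwa [hmul, hmul] at this
      rw [hcy w hw, map_smul, map_smul, map_smul] at e1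
      have e2 : ρ x (cy • ρ x (ρ y (ρ x w))) = ρ x (cz • ρ y w) := by rw [e1]
      rw [map_smul, map_smul, hcx _ (hst y hy _ (hst x hx w hw)), smul_smul] at e2
      have e3 : ((cx⁻¹ * cy⁻¹) * (cy * cx)) • ρ y (ρ x w) = ((cx⁻¹ * cy⁻¹) * cz) • ρ x (ρ y w) := by
        rw [mul_smul, e2, smul_smul]
      have e4 : (cx⁻¹ * cy⁻¹) * (cy * cx) = 1 := by field_simp
      rw [e4, one_smul] at e3
      rw [e3]
      congr 1
      ring
    set d := cz * cx⁻¹ * cy⁻¹ with hd
    have hd3 : d ^ 3 = 1 := by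
      rw [hd, mul_pow, mul_pow, inv_pow, inv_pow, hx3, hy3, hz3]; norm_num
    intro w hw
    by_cases hw0 : w = 0
    · simp only [hw0, map_zero]
    have h2 := h1 (ρ x w) (hst x hx w hw)
    rw [h1 w hw, map_smul, hcx w hw, map_smul, hcx _ (hst y hy w hw), smul_smul, smul_smul] at h2
    have h3 : ρ y w ≠ 0 := by
      intro h0
      apply hw0
      rw [← ρ_inv ρ y w, h0, map_zero]
    have h4 : (cx - d * d * cx) • ρ y w = 0 := by
      rw [sub_smul, sub_eq_zero]
      exact h2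
    have h5 := (smul_eq_zero.1 h4).resolve_right h3
    have h6 : d ^ 2 = 1 := by
      have : cx * (1 - d ^ 2) = 0 := by linear_combination h5
      have := (mul_eq_zero.1 this).resolve_left hx0
      linear_combination -this
    have h7 : d = 1 := by
      calc d = d ^ 3 * 1 * d := by rw [hd3]; ring
        _ = d ^ 2 * d ^ 2 := by ring
        _ = 1 := by rw [h6]; ring
    rw [h1 w hw, h7, one_smul]
  -- the subgroup of elements acting as involutions
  let K : Subgroup ↥(Zgrp F) :=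
    { carrier := {x | x ∈ Ĥ ∧ ∀ w ∈ W, ρ x (ρ x w) = w}
      one_mem' := ⟨one_mem _, fun w _ => by rw [map_one]; rfl⟩
      mul_mem' := by
        rintro x y ⟨hx, hx'⟩ ⟨hy, hy'⟩
        refine ⟨mul_mem hx hy, fun w hw => ?_⟩
        have hmul : ∀ w, ρ (x * y) w = ρ x (ρ y w) := fun w => by rw [map_mul]; rfl
        rw [hmul, hmul, hcomm x hx y hy _ (hst y hy w hw), hy' w hw, hx' w hw]
      inv_mem' := by
        rintro x ⟨hx, hx'⟩
        refine ⟨inv_mem hx, fun w hw => ?_⟩
        have h1 : ρ x⁻¹ w = ρ x w := by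
          conv_lhs => rw [← hx' w hw]
          rw [ρ_inv]
        rw [h1]
        rw [ρ_inv] }
  obtain ⟨w, hw, hw0, hw'⟩ := H952.F4.MaxA.exists_line (ρ := ρ) K W hne (fun x hx => hst x hx.1) (fun x hx => hx.2)
  -- the line spanned by `w`
  have hline : ∀ x ∈ Ĥ, ∃ c : F, ρ x w = c • w := by
    intro x hx
    obtain ⟨c, hc0, hc3, hc⟩ := hsq x hx
    have hcube : ∀ v ∈ W, ρ (x * x * x) v = c • ρ x v := by
      intro v hv
      rw [map_mul, map_mul, Module.End.mul_apply, Module.End.mul_apply, hc _ (hst x hx v hv)]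
    have hK : x * x * x ∈ K := by
      refine ⟨mul_mem (mul_mem hx hx) hx, fun v hv => ?_⟩
      rw [hcube v hv, map_smul, hcube _ (hst x hx v hv), hc v hv, smul_smul, smul_smul,
        show c * c * c = c ^ 3 by ring, hc3, one_smul]
    have h1 := hw' _ hK
    rw [hcube w hw] at h1
    rcases h1 with h1 | h1
    · refine ⟨c⁻¹, ?_⟩
      calc ρ x w = c⁻¹ • (c • ρ x w) := by rw [smul_smul, inv_mul_cancel₀ hc0, one_smul]
        _ = c⁻¹ • w := by rw [h1]
    · refine ⟨-c⁻¹, ?_⟩
      calc ρ x w = c⁻¹ • (c • ρ x w) := by rw [smul_smul, inv_mul_cancel₀ hc0, one_smul]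
        _ = -c⁻¹ • w := by rw [h1, smul_neg, neg_smul]
  refine no_line' hM hn hn' hρ (W := Submodule.span F {w}) ?_ (finrank_span_singleton hw0)
  intro g hg v hv
  obtain ⟨t, rfl⟩ := Submodule.mem_span_singleton.1 hv
  obtain ⟨c, hc⟩ := hline g hg
  rw [map_smul, hc]
  exact Submodule.smul_mem _ _ (Submodule.smul_mem _ _ (Submodule.mem_span_singleton_self w))

/-- no fixed vectors -/
theorem no_fixed (hM : MaxAlt H n φ) (hn : 5 ≤ n) (hn' : n ≤ 12) {ψ : ↥(alternatingGroup (Fin n)) →* ↥(Zgrp F)}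
    (hψ : Lift φ ψ) : Representation.invariants (MonoidHom.comp (V F) ψ) = ⊥ ∧
      Representation.invariants (MonoidHom.comp (V' F) ψ) = ⊥ :=
  ⟨no_fixed' hM hn hn' hψ (Or.inl rfl), no_fixed' hM hn hn' hψ (Or.inr rfl)⟩

end card

end Cfsg.Agent.H163.E6.Cnt
end

-- part: H944/E6TwE
section
prune_inst 0x1440250405c000000018008001000000300000000000000000600200020080022902284000000102000000000000000002000000400000000a0004000000010000800000b1080008400006000080000000000000000000000000000000000000000000000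
set_option linter.all false
open scoped Cfsg.Agent.FastGrp

-- part: H944/E6TwD
section
/-!
# `Sit` for `²E₆(q)` from `Tw.no_line` and `Tw.no_fixed` (helper944)

* `centralizer_eq` : `C_G(A) = 1` for `MaxAlt H n φ` in a simple group `G`;
* `no_three_of`, `no_six_of` : the fields `no_three`, `no_six` of `Sit` from the field `no_add`;
* `Tw.golden` : `t² = t + 1` has a root in a field with `q²` elements;
* `Tw.sit_of` : `Sit` and `Twist` for `²E₆(q)`.
-/

set_option autoImplicit false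

namespace Cfsg.Agent.H944.E6Tw

open Cfsg Cfsg.Lie Module
open Cfsg.Agent.ChevalleyStructure.E6Min.Tables Cfsg.Agent.ChevalleyStructure.E6Min.Basic
  Cfsg.Agent.ChevalleyStructure.E6Min.Adjoint
open Cfsg.Agent.H163.E6
open Cfsg.Agent.H952.F4 (ev sh cr tf MaxAlt)

universe u

/-- **The centralizer of the alternating group is trivial.** -/
theorem centralizer_eq {G : Type u} [Group G] [IsSimpleGroup G] {H : Subgroup G} {n : ℕ}
    {φ : ↥(alternatingGroup (Fin n)) →* G} (hM : MaxAlt H n φ) (hn : 5 ≤ n) {z : G} (hz : ∀ a, φ a * z = z * φ a) :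
    z = 1 := by
  have h4 : 4 ≤ Nat.card (Fin n) := by rw [Nat.card_eq_fintype_card, Fintype.card_fin]; omega
  have hnt : Nontrivial ↥(alternatingGroup (Fin n)) :=
    alternatingGroup.nontrivial_of_three_le_card (by rw [Nat.card_eq_fintype_card, Fintype.card_fin]; omega)
  let C : Subgroup G := Subgroup.centralizer (φ.range : Set G)
  have memC : ∀ x, x ∈ C ↔ ∀ a, φ a * x = x * φ a := by
    intro x
    rw [Subgroup.mem_centralizer_iff]
    constructor
    · exact fun h a => h _ ⟨a, rfl⟩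
    · rintro h _ ⟨a, rfl⟩
      exact h a
  have hNle : H ≤ Subgroup.normalizer (φ.range : Set G) := by
    intro h hh
    rw [Subgroup.mem_normalizer_iff]
    intro a
    constructor
    · exact fun ha => hM.norm h hh a ha
    · intro ha
      have h1 := hM.norm h⁻¹ (inv_mem hh) _ ha
      have h2 : h⁻¹ * (h * a * h⁻¹) * h⁻¹⁻¹ = a := by group
      rwa [h2] at h1
  have hCle : C ≤ Subgroup.normalizer (φ.range : Set G) := by
    intro x hx
    rw [memC] at hx
    rw [Subgroup.mem_normalizer_iff]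
    intro a
    constructor
    · rintro ⟨b, rfl⟩
      exact ⟨b, by rw [← hx b, mul_inv_cancel_right]⟩
    · rintro ⟨b, hb⟩
      refine ⟨b, ?_⟩
      have h1 : a = x⁻¹ * (φ b * x) := by rw [hb]; group
      rw [h1, hx b, inv_mul_cancel_left]
  have hN : Subgroup.normalizer (φ.range : Set G) = H := by
    rcases eq_or_lt_of_le hNle with h | h
    · exact h.symm
    · exfalso
      have h1 : φ.range.Normal := Subgroup.normalizer_eq_top_iff.1 (hM.coatom.2 _ h)
      rcases h1.eq_bot_or_eq_top with h2 | h2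
      · obtain ⟨a, ha⟩ := exists_ne (1 : ↥(alternatingGroup (Fin n)))
        apply ha
        apply hM.inj
        have h3 : φ a ∈ φ.range := ⟨a, rfl⟩
        rw [h2, Subgroup.mem_bot] at h3
        rw [h3, map_one]
      · have h3 := hM.le
        rw [h2, top_le_iff] at h3
        exact hM.coatom.1 h3
  have hCH : C ≤ H := hCle.trans hN.le
  by_contra hne
  have hCb : C ≠ ⊥ := by
    intro h
    apply hne
    have h1 : z ∈ C := (memC z).2 hz
    rwa [h, Subgroup.mem_bot] at h1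
  have h1 := hM.min C hCH (by
    intro h hh x hx
    rw [memC] at hx ⊢
    intro a
    obtain ⟨b, hb⟩ := hM.norm h⁻¹ (inv_mem hh) (φ a) ⟨a, rfl⟩
    have h2 : φ a = h * φ b * h⁻¹ := by rw [hb]; group
    rw [h2]
    calc h * φ b * h⁻¹ * (h * x * h⁻¹) = h * (φ b * x) * h⁻¹ := by group
      _ = h * (x * φ b) * h⁻¹ := by rw [hx b]
      _ = h * x * h⁻¹ * (h * φ b * h⁻¹) := by group) hCb
  have h2 : Subgroup.center ↥(alternatingGroup (Fin n)) = ⊤ := by
    rw [eq_top_iff]
    intro x _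
    rw [Subgroup.mem_center_iff]
    intro y
    apply hM.inj
    rw [map_mul, map_mul]
    exact (memC (φ x)).1 (h1 ⟨x, rfl⟩) y
  rw [alternatingGroup.center_eq_bot h4] at h2
  exact bot_ne_top h2

section core

variable {F : Type u} [Field F] {n : ℕ} {φ : ↥(alternatingGroup (Fin n)) →* ↥(chevE6.group F)}

theorem alt_perfect (hn : 5 ≤ n) : commutator ↥(alternatingGroup (Fin n)) = ⊤ :=
  commutator_alternatingGroup_eq_top (by rw [Nat.card_eq_fintype_card, Fintype.card_fin]; exact hn)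

/-- a one-parameter group commuting with the derived subgroup of the preimage -/
theorem false_of_root (hn : 5 ≤ n) (no_add : ∀ a : (I27 → F) →ₗ[F] (I27 → F), a ≠ 0 → (∀ x, a (a x) = 0) →
      (∀ t : F, ∃ g : ↥(Zgrp F), (∀ x, V F g x = x + t • a x) ∧ ∀ b, φ b * ad F g = ad F g * φ b) → False)
    {a : (I27 → F) →ₗ[F] (I27 → F)} (ha : a ≠ 0) (ha2 : ∀ x, a (a x) = 0)
    (hz : ∀ t : F, ∃ z : ↥(Zgrp F), ∀ x, V F z x = x + t • a x)
    (hc : ∀ b ∈ Bgrp φ, ∀ x, V F b (a x) = a (V F b x)) : False := by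
  refine no_add a ha ha2 fun t => ?_
  obtain ⟨z, hz⟩ := hz t
  refine ⟨z, hz, fun b => ?_⟩
  have h1 : φ b ∈ (Bgrp φ).map (ad F) := by
    rw [map_Bgrp (alt_perfect hn)]
    exact ⟨b, rfl⟩
  obtain ⟨c, hcB, hcb⟩ := h1
  rw [← hcb, ← map_mul, ← map_mul]
  congr 1
  apply Cfsg.Agent.H65.E6Ext.V_injective
  intro x
  rw [map_mul, map_mul]
  show V F c (V F z x) = V F z (V F c x)
  rw [hz, hz, map_add, map_smul, hc c hcB]

theorem no_six_of (hn : 5 ≤ n) (no_add : ∀ a : (I27 → F) →ₗ[F] (I27 → F), a ≠ 0 → (∀ x, a (a x) = 0) →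
      (∀ t : F, ∃ g : ↥(Zgrp F), (∀ x, V F g x = x + t • a x) ∧ ∀ b, φ b * ad F g = ad F g * φ b) → False)
    (ρ : Representation F ↥(Zgrp F) (I27 → F)) (hρ : ρ = V F ∨ ρ = V' F) (W : Submodule F (I27 → F))
    (hst : Stab ρ φ.range W) (h6 : finrank F ↥W = 6) : ¬ TS W := by
  intro hW
  obtain ⟨a, h1, h2, h3, h4⟩ := Cfsg.Agent.H65.E6Root.six_root ρ hρ (Bgrp_perfect (alt_perfect hn) φ) h6 hW
    (fun b hb w hw => hst b (Bgrp_le φ hb) w hw)
  exact false_of_root hn no_add h1 h2 h3 h4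

theorem no_three_of (hn : 5 ≤ n) (hinj : Function.Injective φ)
    (no_add : ∀ a : (I27 → F) →ₗ[F] (I27 → F), a ≠ 0 → (∀ x, a (a x) = 0) →
      (∀ t : F, ∃ g : ↥(Zgrp F), (∀ x, V F g x = x + t • a x) ∧ ∀ b, φ b * ad F g = ad F g * φ b) → False)
    (h2 : n ≠ 5 ∨ (2 : F) ≠ 0)
    (ρ : Representation F ↥(Zgrp F) (I27 → F)) (hρ : ρ = V F ∨ ρ = V' F) (W : Submodule F (I27 → F))
    (hst : Stab ρ φ.range W) (h3 : finrank F ↥W = 3) : ¬ TS W := by
  intro hW
  have hA := alt_perfect hn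
  let e : ↥(alternatingGroup (Fin n)) ≃* φ.range := MonoidHom.ofInjective hinj
  have hmem : ∀ b : ↥(Bgrp φ), ad F (b : ↥(Zgrp F)) ∈ φ.range := fun b => Bgrp_le φ b.2
  let π : ↥(Bgrp φ) →* ↥(alternatingGroup (Fin n)) :=
    e.symm.toMonoidHom.comp (((ad F).comp (Bgrp φ).subtype).codRestrict φ.range hmem)
  have hπ : ∀ b, φ (π b) = ad F (b : ↥(Zgrp F)) := by
    intro b
    have h1 : (e (π b) : ↥(chevE6.group F)) = ad F (b : ↥(Zgrp F)) := by
      show ((e (e.symm _) : φ.range) : ↥(chevE6.group F)) = _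
      rw [MulEquiv.apply_symm_apply]
      rfl
    exact h1
  have hB : commutator ↥(Bgrp φ) = ⊤ := by
    have h1 := Bgrp_perfect hA φ
    rw [eq_top_iff]
    intro b _
    have h3 : (commutator ↥(Bgrp φ)).map (Bgrp φ).subtype = Bgrp φ := by
      rw [commutator_def, Subgroup.map_commutator, ← MonoidHom.range_eq_map, Subgroup.range_subtype, h1]
    have h4 : (b : ↥(Zgrp F)) ∈ (commutator ↥(Bgrp φ)).map (Bgrp φ).subtype := by rw [h3]; exact b.2
    obtain ⟨c, hc, hcb⟩ := h4
    have h5 : c = b := Subtype.ext hcb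
    rwa [← h5]
  have hs : Function.Surjective π := by
    intro x
    have h1 : φ x ∈ (Bgrp φ).map (ad F) := by
      rw [map_Bgrp hA]
      exact ⟨x, rfl⟩
    obtain ⟨c, hc, hcx⟩ := h1
    exact ⟨⟨c, hc⟩, hinj (by rw [hπ]; exact hcx)⟩
  have hk : ∀ b, π b = 1 → b ∈ Subgroup.center ↥(Bgrp φ) ∧ b ^ 3 = 1 := by
    intro b hb
    have h1 : ad F (b : ↥(Zgrp F)) = 1 := by rw [← hπ, hb, map_one]
    obtain ⟨h3, h4⟩ := Cfsg.Agent.H65.E6Ext.ker_pow h1
    refine ⟨?_, Subtype.ext h3⟩
    rw [Subgroup.mem_center_iff]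
    exact fun x => Subtype.ext (h4 x)
  obtain ⟨a, h4, h5, h6, h7⟩ := Cfsg.Agent.H65.E6Root.three_root ρ hρ
    (fun θ b => Cfsg.Agent.H163.E6.Two.hom_eq_one hB hn h2 π hs hk θ b) h3 hW
    (fun b hb w hw => hst b (Bgrp_le φ hb) w hw)
  exact false_of_root hn no_add h4 h5 h6 h7

end core

end Cfsg.Agent.H944.E6Tw

namespace Cfsg.Agent.H163.E6.Tw

open Cfsg Cfsg.Lie Module
open Cfsg.Agent.ChevalleyStructure
open Cfsg.Agent.ChevalleyStructure.E6Min.Tables Cfsg.Agent.ChevalleyStructure.E6Min.Basic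
  Cfsg.Agent.ChevalleyStructure.E6Min.Adjoint
open Cfsg.Agent.H952.F4 (ev sh cr tf MaxAlt)
open Cfsg.Agent.H944.E6Tw

universe u

variable {K : Type u} [Field K] [Fintype K] {q : ℕ}

/-- `t² = t + 1` has a root in a field with `q²` elements -/
theorem golden (hq : IsPrimePow q) (hK : Fintype.card K = q ^ 2) : ∃ t : K, t * t = t + 1 := by
  classical
  obtain ⟨φ, hφ, hqq⟩ := TwE6Basic.exists_frob hq hK
  by_cases h2 : (2 : K) = 0
  · -- characteristic 2: primitive third roots of unity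
    have hchar : ringChar K = 2 := by
      have h3 := CharP.ringChar_of_prime_eq_zero Nat.prime_two (R := K) (by exact_mod_cast h2)
      exact h3
    have hcard : 3 ∣ Fintype.card Kˣ := by
      rw [Fintype.card_units, hK]
      have h3 : ¬ 3 ∣ q := by
        intro h3
        obtain ⟨p, k, hp, hk, rfl⟩ := (isPrimePow_nat_iff _).1 hq
        have h4 : 3 = p := (Nat.prime_dvd_prime_iff_eq Nat.prime_three hp).1 (Nat.prime_three.dvd_of_dvd_pow h3)
        subst h4
        have h5 : ((Fintype.card K : ℕ) : K) = 0 := FiniteField.cast_card_eq_zero K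
        rw [hK] at h5
        have h6 : (3 : K) = 0 := by
          have : ((3 : ℕ) : K) ^ (k * 2) = 0 := by
            rw [← h5]
            push_cast
            rw [pow_mul]
          exact_mod_cast pow_eq_zero_iff (by omega) |>.1 this
        exact one_ne_zero (α := K) (by linear_combination h6 - h2)
      have h4 : q % 3 = 1 ∨ q % 3 = 2 := by omega
      have h5 : q ^ 2 % 3 = 1 := by
        rcases h4 with h | h <;> simp [Nat.pow_mod, h]
      have hq1 : 1 ≤ q ^ 2 := Nat.one_le_pow _ _ hq.pos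
      omega
    have : Fact (Nat.Prime 3) := ⟨Nat.prime_three⟩
    obtain ⟨x, hx⟩ := exists_prime_orderOf_dvd_card 3 hcard
    refine ⟨(x : K), ?_⟩
    have h3 : (x : K) ^ 3 = 1 := by
      have h4 := pow_orderOf_eq_one x
      rw [hx] at h4
      rw [← Units.val_pow_eq_pow_val, h4, Units.val_one]
    have h4 : (x : K) ≠ 1 := by
      intro h
      have h5 : x = 1 := Units.ext h
      rw [h5, orderOf_one] at hx
      norm_num at hx
    have h5 : ((x : K) - 1) * ((x : K) * x + x + 1) = 0 := by linear_combination h3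
    rcases mul_eq_zero.1 h5 with h6 | h6
    · exact absurd (sub_eq_zero.1 h6) h4
    · linear_combination h6 - ((x : K) + 1) * h2
  · -- 5 is a square
    have hodd : ringChar K ≠ 2 := by
      intro h
      apply h2
      have := ringChar.Nat.cast_ringChar (R := K)
      rw [h] at this
      exact_mod_cast this
    obtain ⟨s, hs⟩ : IsSquare (5 : K) := by
      by_cases h5 : (5 : K) = 0
      · exact ⟨0, by rw [h5, mul_zero]⟩
      · rw [FiniteField.isSquare_iff hodd h5, hK]
        have h6 : (5 : K) ^ q = 5 := by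
          rw [← hφ]
          exact map_ofNat φ 5
        have h7 : (5 : K) ^ (q - 1) = 1 := by
          have h8 : (5 : K) ^ (q - 1) * 5 = 1 * 5 := by
            rw [← pow_succ, Nat.sub_add_cancel hq.pos, h6, one_mul]
          exact mul_right_cancel₀ h5 h8
        have h9 : Odd q := by
          rw [← Nat.not_even_iff_odd]
          intro he
          have h11 : Fintype.card K % 2 = 1 := FiniteField.odd_card_of_char_ne_two hodd
          rw [hK] at h11
          have : q ^ 2 % 2 = 0 := by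
            obtain ⟨k, hk⟩ := he
            rw [hk, pow_two]
            have : (k + k) * (k + k) = 2 * (2 * k * k) := by ring
            omega
          omega
        obtain ⟨k, hk⟩ := h9
        have h10 : q ^ 2 / 2 = (q - 1) * (k + 1) := by
          rw [hk]
          have e1 : (2 * k + 1) ^ 2 = 2 * (2 * k * (k + 1)) + 1 := by ring
          have e2 : 2 * k + 1 - 1 = 2 * k := by omega
          rw [e1, e2]
          omega
        rw [h10, pow_mul, h7, one_pow]
    refine ⟨(1 + s) / 2, ?_⟩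
    field_simp
    linear_combination -hs

variable {H : Subgroup ↥(Cfsg.Lie.twistedE6 K q)} {n : ℕ} {ψ : ↥(alternatingGroup (Fin n)) →* ↥(Cfsg.Lie.twistedE6 K q)}

/-- **`Sit` and `Twist` for `²E₆(q)`.** -/
theorem sit_of (hq : IsPrimePow q) (hK : Fintype.card K = q ^ 2) (hM : MaxAlt H n ψ) (hn : 5 ≤ n)
    (hfix : ∀ ψ' : ↥(alternatingGroup (Fin n)) →* ↥(Zgrp K), Lift ((incl K q).comp ψ) ψ' →
      Representation.invariants (MonoidHom.comp (V K) ψ') = ⊥ ∧
        Representation.invariants (MonoidHom.comp (V' K) ψ') = ⊥)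
    (hline : ∀ ρ : Representation K ↥(Zgrp K) (I27 → K), (ρ = V K ∨ ρ = V' K) → ∀ W : Submodule K (I27 → K),
      Stab ρ (H.map (incl K q)) W → finrank K ↥W ≠ 1) :
    Sit (H.map (incl K q)) n ((incl K q).comp ψ) ∧ Twist q ((incl K q).comp ψ) := by
  have hsim : IsSimpleGroup ↥(Cfsg.Lie.twistedE6 K q) := (Cfsg.Agent.S1070.result hq hK).1
  obtain ⟨φ, hφ, hqq⟩ := TwE6Basic.exists_frob hq hK
  have hA := alt_perfect hn
  have hinj : Function.Injective ((incl K q).comp ψ) := (incl_injective K q).comp hM.inj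
  have no_add : ∀ a : (I27 → K) →ₗ[K] (I27 → K), a ≠ 0 → (∀ x, a (a x) = 0) →
      (∀ t : K, ∃ g : ↥(Zgrp K), (∀ x, V K g x = x + t • a x) ∧
        ∀ b, ((incl K q).comp ψ) b * ad K g = ad K g * ((incl K q).comp ψ) b) → False := by
    intro a ha ha2 h
    refine kill hq hK hφ hqq (A := ((incl K q).comp ψ).range) ?_ ?_ ha ha2 ?_
    · rintro _ ⟨b, rfl⟩
      exact (ψ b).2
    · intro y hy hc
      have h1 : (⟨y, hy⟩ : ↥(Cfsg.Lie.twistedE6 K q)) = 1 := by
        refine centralizer_eq hM hn fun b => ?_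
        apply incl_injective K q
        rw [map_mul, map_mul]
        exact hc _ ⟨b, rfl⟩
      have h2 := congrArg (fun z : ↥(Cfsg.Lie.twistedE6 K q) => (z : GL chevE6.Idx K)) h1
      exact Subtype.ext h2
    · intro t
      obtain ⟨g, h1, h2⟩ := h t
      refine ⟨g, h1, ?_⟩
      rintro _ ⟨b, rfl⟩
      exact h2 b
  refine ⟨⟨hinj, ?_, ?_, ?_, ?_, ?_, ?_, hfix, hline, ?_, ?_, ?_, no_add⟩, twist hq hK hA ψ⟩
  · rintro _ ⟨a, rfl⟩
    exact ⟨ψ a, hM.le ⟨a, rfl⟩, rfl⟩
  · rintro _ ⟨h, hh, rfl⟩ _ ⟨a, rfl⟩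
    obtain ⟨b, hb⟩ := hM.norm h hh (ψ a) ⟨a, rfl⟩
    exact ⟨b, by rw [MonoidHom.comp_apply, hb, map_mul, map_mul, map_inv]; rfl⟩
  · rintro _ ⟨h, hh, rfl⟩
    obtain ⟨b, hb⟩ := hM.sq h hh
    exact ⟨b, by rw [MonoidHom.comp_apply, hb, map_mul]⟩
  · rw [Nat.card_congr (H.equivMapOfInjective _ (incl_injective K q)).symm.toEquiv]
    exact hM.card
  · intro h5
    rcases hM.five h5 with h | h
    · left
      rw [MonoidHom.range_comp, h]
    · right
      rintro _ ⟨a, rfl⟩ ha1 ha5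
      obtain ⟨x, hx, h1⟩ := h (ψ a) ⟨a, rfl⟩ (fun h0 => ha1 (by rw [MonoidHom.comp_apply, h0, map_one]))
        (incl_injective K q (by rw [map_pow, map_one]; exact ha5))
      exact ⟨incl K q x, ⟨x, hx, rfl⟩, by
        rw [MonoidHom.comp_apply, ← map_inv, ← map_mul, ← map_mul, h1, map_pow]⟩
  · rintro _ ⟨h, hh, rfl⟩ hc
    have h1 : h = 1 := centralizer_eq hM hn fun a => incl_injective K q (by rw [map_mul, map_mul]; exact hc a)
    rw [h1, map_one]
  · exact fun h2 ρ hρ W hst h3 => no_three_of hn hinj no_add h2 ρ hρ W hst h3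
  · intro _ ht
    obtain ⟨t, h⟩ := golden hq hK
    exact absurd h (ht t)
  · exact fun ρ hρ W hst h6 => no_six_of hn no_add ρ hρ W hst h6

end Cfsg.Agent.H163.E6.Tw
end

-- part: H944/E6TwE
section
/-!
# `²E₆(q)`: no stable lines, no fixed vectors (helper944)

* `eq_zero_of_Gs` : no line of `V` is stable under `Gs φ`;
* `count_le` : if the line of `v` is stable under a maximal subgroup `H` and `X` is a `Gs φ`-stable finite set containing
  `v`, then `|²E₆(q)| ≤ |H| |X|`;
* `no_fixed_of` : no fixed vectors, from the absence of stable lines (any `H`; after helper927).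
-/

set_option autoImplicit false

namespace Cfsg.Agent.H944.E6Tw

open Cfsg Cfsg.Lie Module
open scoped Matrix
open Cfsg.Agent.ChevalleyStructure
open Cfsg.Agent.ChevalleyStructure.E6Min.Tables Cfsg.Agent.ChevalleyStructure.E6Min.Basic
  Cfsg.Agent.ChevalleyStructure.E6Min.Adjoint
open Cfsg.Agent.H163.E6
open Cfsg.Agent.H952.F4 (ev sh cr tf MaxAlt)
open Cfsg.Agent.H952.F4.Jord
open Cfsg.Agent.H952.F4.MaxA (LS VS mem_LS mem_VS comm_mem rmul rinv)

universe u

section lines

variable {F : Type u} [Field F] {φ : F →+* F} {q : ℕ}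

theorem V_zZ {r : ℕ} (hr : r < 72) (t : F) (v : I27 → F) : V F (zZ r t) v = v + t • (Nm F r *ᵥ v) := by
  rw [V_apply]
  show ((zU r t : GL I27 F) : Matrix I27 I27 F) *ᵥ v = _
  rw [coe_zU hr, zM_def, Matrix.add_mulVec, Matrix.one_mulVec, Matrix.smul_mulVec]

theorem zZ_mem_Gs (hφ : ∀ t, φ t = t ^ q) {t : F} (ht : t ^ q = t) {r : ℕ} (hr : r ∈ [46, 25, 39, 32]) :
    zZ r t ∈ Gs φ := by
  have hr' : r < 72 ∧ (r, r) ∈ [(46, 46), (25, 25), (39, 39), (32, 32), (56, 36), (36, 56), (15, 35), (35, 15),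
      (42, 37), (37, 42), (29, 34), (34, 29)] := by
    simp only [List.mem_cons, List.not_mem_nil, or_false] at hr
    rcases hr with rfl | rfl | rfl | rfl <;> decide
  apply Subtype.ext
  show sZ φ (zU r t) = zU r t
  have := sZ_simple φ hr'.2 t
  simp only at this
  rw [this, hφ, ht]

theorem zZ_pair_mem_Gs (hφ : ∀ t, φ t = t ^ q) (hqq : ∀ t : F, (t ^ q) ^ q = t) (t : F) {rs : ℕ × ℕ}
    (hr : rs ∈ [(56, 36), (15, 35), (42, 37), (29, 34)]) : zZ rs.1 t * zZ rs.2 (t ^ q) ∈ Gs φ := by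
  have hr' : rs ∈ [(46, 46), (25, 25), (39, 39), (32, 32), (56, 36), (36, 56), (15, 35),
      (35, 15), (42, 37), (37, 42), (29, 34), (34, 29)] ∧ (rs.2, rs.1) ∈ [(46, 46), (25, 25), (39, 39), (32, 32),
      (56, 36), (36, 56), (15, 35), (35, 15), (42, 37), (37, 42), (29, 34), (34, 29)] ∧
      rs ∈ [(56, 36), (15, 35), (42, 37), (29, 34), (56, 35), (15, 36), (42, 34), (29, 37)] := by
    simp only [List.mem_cons, List.not_mem_nil, or_false] at hr
    rcases hr with rfl | rfl | rfl | rfl <;> decide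
  obtain ⟨h3, h4, h5⟩ := hr'
  apply Subtype.ext
  show sZ φ (zU rs.1 t * zU rs.2 (t ^ q)) = zU rs.1 t * zU rs.2 (t ^ q)
  have e4 := sZ_simple φ h4 (t ^ q)
  simp only at e4
  rw [map_mul, sZ_simple φ h3 t, e4, hφ, hφ, hqq]
  exact (zU_comm h5 t (t ^ q)).symm

/-- every coordinate is moved by one of the twelve roots -/
theorem cover_all : ∀ y : I27, ∃ r ∈ [46, 25, 39, 32, 56, 36, 15, 35, 42, 37, 29, 34], ∃ x : I27,
    sg r x ≠ 0 ∧ sr r x = y := by decide +kernel

theorem eq_zero_of_twelve {v : I27 → F}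
    (h : ∀ r ∈ [46, 25, 39, 32, 56, 36, 15, 35, 42, 37, 29, 34], Nm F r *ᵥ v = 0) : v = 0 := by
  funext y
  obtain ⟨r, hr, x, h1, h2⟩ := cover_all y
  have h3 := congrFun (h r hr) x
  have h4 : (Nm F r *ᵥ v) x = ((sg r x : ℤ) : F) * v (sr r x) := by
    rw [Matrix.mulVec, dotProduct, Finset.sum_eq_single (sr r x)]
    · rw [Nm_apply, if_pos rfl]
    · intro z _ hz
      rw [Nm_apply, if_neg (by tauto), zero_mul]
    · intro h; exact absurd (Finset.mem_univ _) h
  rw [h4, h2, Pi.zero_apply] at h3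
  rcases mul_eq_zero.1 h3 with h5 | h5
  · exact absurd h5 (E6T.sg_cast_ne_zero h1)
  · exact h5

/-- nilpotent operators have no non-zero eigenvalue -/
theorem eig_zero {M : Type*} [AddCommGroup M] [Module F M] {T : M →ₗ[F] M} {v : M} (hv : v ≠ 0)
    (h3 : T (T (T v)) = 0) {c : F} (hc : T v = c • v) : T v = 0 := by
  rw [hc, map_smul, map_smul, hc, map_smul, hc, smul_smul, smul_smul] at h3
  rcases smul_eq_zero.1 h3 with h | h
  · have h1 : c ^ 3 = 0 := by linear_combination h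
    have h2 : c = 0 := (pow_eq_zero_iff (by norm_num)).1 h1
    rw [hc, h2, zero_smul]
  · exact absurd h hv

/-- **no line of `V` is stable under `Gs φ`** -/
theorem eq_zero_of_Gs [Fintype F] (hq : IsPrimePow q) (hF : Fintype.card F = q ^ 2) (hφ : ∀ t, φ t = t ^ q)
    (hqq : ∀ t : F, (t ^ q) ^ q = t) {v : I27 → F} (hv : ∀ g ∈ Gs φ, ∃ c : F, V F g v = c • v) : v = 0 := by
  by_contra hv0
  -- a value with `t ^ q ≠ t`
  obtain ⟨t0, ht0⟩ : ∃ t : F, t ^ q ≠ t := by
    classical
    by_contra hne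
    push Not at hne
    have hq1 : 1 < q := hq.one_lt
    have hroots : (Polynomial.X ^ q - Polynomial.X : Polynomial F) ≠ 0 := FiniteField.X_pow_card_sub_X_ne_zero F hq1
    have h1 : Fintype.card F ≤ (Polynomial.X ^ q - Polynomial.X : Polynomial F).natDegree := by
      have h2 : (Finset.univ : Finset F) ⊆ (Polynomial.X ^ q - Polynomial.X : Polynomial F).roots.toFinset := by
        intro t _
        rw [Multiset.mem_toFinset, Polynomial.mem_roots hroots, Polynomial.IsRoot.def, Polynomial.eval_sub,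
          Polynomial.eval_pow, Polynomial.eval_X, hne, sub_self]
      calc Fintype.card F = (Finset.univ : Finset F).card := (Finset.card_univ).symm
        _ ≤ _ := Finset.card_le_card h2
        _ ≤ _ := Multiset.toFinset_card_le _
        _ ≤ _ := Polynomial.card_roots' _
    rw [FiniteField.X_pow_card_sub_X_natDegree_eq F hq1, hF] at h1
    nlinarith
  have hsq : ∀ r < 72, ∀ w : I27 → F, Nm F r *ᵥ (Nm F r *ᵥ w) = 0 := by
    intro r hr w
    rw [Matrix.mulVec_mulVec, Nm_sq hr, Matrix.zero_mulVec]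
  have hsingle : ∀ r ∈ [46, 25, 39, 32], Nm F r *ᵥ v = 0 := by
    intro r hr
    have hr' : r < 72 := by
      simp only [List.mem_cons, List.not_mem_nil, or_false] at hr
      omega
    obtain ⟨c, hc⟩ := hv _ (zZ_mem_Gs hφ (one_pow q) hr)
    rw [V_zZ hr', one_smul] at hc
    have h1 : Matrix.toLin' (Nm F r) v = (c - 1) • v := by
      rw [Matrix.toLin'_apply, sub_smul, one_smul, ← hc]
      abel
    refine eig_zero (T := Matrix.toLin' (Nm F r)) hv0 ?_ h1
    rw [Matrix.toLin'_apply, Matrix.toLin'_apply, Matrix.toLin'_apply, hsq r hr']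
  have hpair : ∀ rs ∈ [(56, 36), (15, 35), (42, 37), (29, 34)], Nm F rs.1 *ᵥ v = 0 ∧ Nm F rs.2 *ᵥ v = 0 := by
    intro rs hrs
    have hr' : rs.1 < 72 ∧ rs.2 < 72 ∧ rs ∈ [(56, 36), (15, 35), (42, 37), (29, 34), (56, 35), (15, 36), (42, 34),
        (29, 37)] := by
      simp only [List.mem_cons, List.not_mem_nil, or_false] at hrs
      rcases hrs with rfl | rfl | rfl | rfl <;> decide
    obtain ⟨ha, hb, hl⟩ := hr'
    obtain ⟨k1, k2, k3, k4⟩ := comm_all rs hl
    have hcomm : ∀ w : I27 → F, Nm F rs.1 *ᵥ (Nm F rs.2 *ᵥ w) = Nm F rs.2 *ᵥ (Nm F rs.1 *ᵥ w) := by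
      intro w
      rw [Matrix.mulVec_mulVec, Matrix.mulVec_mulVec, Nm_comm_of_none (F := F) ha hb k1 k4]
    obtain ⟨A, hA⟩ : ∃ A, A = Matrix.toLin' (Nm F rs.1) := ⟨_, rfl⟩
    obtain ⟨B, hB⟩ : ∃ B, B = Matrix.toLin' (Nm F rs.2) := ⟨_, rfl⟩
    have hAA : ∀ w, A (A w) = 0 := fun w => by rw [hA, Matrix.toLin'_apply, Matrix.toLin'_apply, hsq _ ha]
    have hBB : ∀ w, B (B w) = 0 := fun w => by rw [hB, Matrix.toLin'_apply, Matrix.toLin'_apply, hsq _ hb]
    have hAB : ∀ w, A (B w) = B (A w) := fun w => by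
      rw [hA, hB]
      simp only [Matrix.toLin'_apply]
      exact hcomm w
    have key : ∀ t : F, t • A v + t ^ q • B v + (t * t ^ q) • A (B v) = 0 := by
      intro t
      obtain ⟨c, hc⟩ := hv _ (zZ_pair_mem_Gs hφ hqq t hrs)
      rw [map_mul, Module.End.mul_apply, V_zZ hb, V_zZ ha] at hc
      let T : (I27 → F) →ₗ[F] (I27 → F) := t • A + t ^ q • B + (t * t ^ q) • (A ∘ₗ B)
      have hTa : ∀ w, T w = t • A w + t ^ q • B w + (t * t ^ q) • A (B w) := fun w => rfl
      have h1 : T v = (c - 1) • v := by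
        rw [hTa, sub_smul, one_smul, ← hc, hA, hB]
        simp only [Matrix.toLin'_apply, Matrix.mulVec_add, Matrix.mulVec_smul, smul_add, smul_smul]
        abel
      have h2 : T (T (T v)) = 0 := by
        simp only [hTa, map_add, map_smul, hAA, hBB, hAB, smul_zero, add_zero, zero_add, map_zero]
      exact eig_zero hv0 h2 h1
    have hC : A (B v) = 0 := by
      have h1 := congrArg A (key 1)
      simp only [one_pow, one_smul, mul_one, map_add, hAA, map_zero, zero_add, add_zero] at h1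
      exact h1
    have h2 : ∀ t : F, t • A v + t ^ q • B v = 0 := by
      intro t
      have := key t
      rwa [hC, smul_zero, add_zero] at this
    have h3 := h2 1
    rw [one_pow, one_smul, one_smul] at h3
    have h4 : B v = -A v := by rw [eq_neg_iff_add_eq_zero, add_comm]; exact h3
    have h5 := h2 t0
    rw [h4, smul_neg, ← sub_eq_add_neg, ← sub_smul] at h5
    have h6 : A v = 0 := by
      rcases smul_eq_zero.1 h5 with h | h
      · exact absurd (sub_eq_zero.1 h).symm ht0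
      · exact h
    have h7 : B v = 0 := by rw [h4, h6, neg_zero]
    rw [hA, Matrix.toLin'_apply] at h6
    rw [hB, Matrix.toLin'_apply] at h7
    exact ⟨h6, h7⟩
  apply hv0
  apply eq_zero_of_twelve
  intro r hr
  have h56 := hpair (56, 36) (by decide)
  have h15 := hpair (15, 35) (by decide)
  have h42 := hpair (42, 37) (by decide)
  have h29 := hpair (29, 34) (by decide)
  simp only [List.mem_cons, List.not_mem_nil, or_false] at hr
  rcases hr with rfl | rfl | rfl | rfl | rfl | rfl | rfl | rfl | rfl | rfl | rfl | rfl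
  · exact hsingle 46 (by decide)
  · exact hsingle 25 (by decide)
  · exact hsingle 39 (by decide)
  · exact hsingle 32 (by decide)
  · exact h56.1
  · exact h56.2
  · exact h15.1
  · exact h15.2
  · exact h42.1
  · exact h42.2
  · exact h29.1
  · exact h29.2

end lines

section counting

variable {F : Type u} [Field F] [Fintype F] {φ : F →+* F} {q : ℕ}

/-- the orbit of a vector has at most `|X|` elements -/
theorem card_le_orbit {G V : Type*} [Group G] [Finite G] {F : Type*} [Field F] [AddCommGroup V] [Module F V]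
    (ρ : Representation F G V) (v : V) (X : Set V) [Finite X] (hX : ∀ g, ρ g v ∈ X) :
    Nat.card G ≤ Nat.card ↥(VS ρ v) * Nat.card X := by
  rw [← Subgroup.card_mul_index (VS ρ v)]
  refine Nat.mul_le_mul_left _ ?_
  let f : G ⧸ VS ρ v → X := Quotient.lift (fun g => (⟨ρ g v, hX g⟩ : X)) (by
    intro a b hab
    have h1 : a⁻¹ * b ∈ VS ρ v := QuotientGroup.leftRel_apply.1 hab
    rw [mem_VS, rmul] at h1
    apply Subtype.ext
    show ρ a v = ρ b v
    have h2 : ρ a (ρ a⁻¹ (ρ b v)) = ρ a v := by rw [h1]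
    rw [← rmul, mul_inv_cancel, map_one] at h2
    exact h2.symm)
  have hf : Function.Injective f := by
    intro a b hab
    induction a using QuotientGroup.induction_on with
    | H a =>
      induction b using QuotientGroup.induction_on with
      | H b =>
        have h1 : ρ a v = ρ b v := congrArg Subtype.val hab
        rw [QuotientGroup.eq, mem_VS, rmul, ← h1, rinv]
  exact Nat.card_le_card_of_injective f hf

theorem scal_smul {z : ↥(Zgrp F)} (hz : ad F z = 1) : ∃ c : F, c ≠ 0 ∧ ∀ x, V F z x = c • x := by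
  obtain ⟨c, hc0, -, hc⟩ := Cfsg.Agent.H163.E6.Cnt.ker_scalar (Or.inl rfl) hz
  exact ⟨c, hc0, hc⟩

variable {H : Subgroup ↥(Cfsg.Lie.twistedE6 F q)} {n : ℕ} {ψ : ↥(alternatingGroup (Fin n)) →* ↥(Cfsg.Lie.twistedE6 F q)}

/-- the counting lemma -/
theorem count_le (hq : IsPrimePow q) (hF : Fintype.card F = q ^ 2) (hφ : ∀ t, φ t = t ^ q)
    (hqq : ∀ t : F, (t ^ q) ^ q = t) (hH : IsCoatom H) {v : I27 → F} (hv0 : v ≠ 0)
    (hv : ∀ g ∈ Gs φ, ad F g ∈ H.map (Tw.incl F q) → ∃ c : F, V F g v = c • v) (X : Set (I27 → F))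
    (hX : ∀ g ∈ Gs φ, V F g v ∈ X) :
    Nat.card ↥(Cfsg.Lie.twistedE6 F q) ≤ Nat.card ↥H * Nat.card X := by
  have hfin : Finite ↥(Zgrp F) := inferInstance
  -- the line stabilizer
  let S : Subgroup ↥(Cfsg.Lie.twistedE6 F q) := ((Gs φ ⊓ LS (V F) v).map (ad F)).comap (Tw.incl F q)
  have hunit : ∀ {g : ↥(Zgrp F)} {c : F}, V F g v = c • v → g ∈ LS (V F) v := by
    intro g c hc
    have hc0 : c ≠ 0 := by
      rintro rfl
      rw [zero_smul] at hc
      apply hv0
      rw [← rinv (V F) g v, hc, map_zero]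
    exact ⟨Units.mk0 c hc0, hc⟩
  have hHS : H ≤ S := by
    intro y hy
    obtain ⟨g, hg, hgy⟩ := exists_Gs φ hφ hqq y.2
    have h1 : ad F g = Tw.incl F q y := Subtype.ext hgy
    obtain ⟨c, hc⟩ := hv g hg ⟨y, hy, h1.symm⟩
    exact ⟨g, ⟨hg, hunit hc⟩, h1⟩
  have hS : S = H := by
    rcases eq_or_lt_of_le hHS with h | h
    · exact h.symm
    · exfalso
      have h1 : S = ⊤ := hH.2 _ h
      apply hv0
      refine eq_zero_of_Gs hq hF hφ hqq fun g hg => ?_
      have h2 := Gs_le_Gl hq hF hφ hqq hg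
      rw [mem_Gl] at h2
      have h3 : (⟨_, h2⟩ : ↥(Cfsg.Lie.twistedE6 F q)) ∈ S := by rw [h1]; trivial
      obtain ⟨g', ⟨-, c, hc⟩, hg'⟩ := h3
      have h4 : ad F g' = ad F g := Subtype.ext (congrArg (fun y : ↥(chevE6.group F) => (y : GL chevE6.Idx F)) hg')
      obtain ⟨d, -, hd⟩ := scal_smul (z := g'⁻¹ * g) (by rw [map_mul, map_inv, h4, inv_mul_cancel])
      refine ⟨d * c, ?_⟩
      have h5 : g = g' * (g'⁻¹ * g) := by rw [mul_inv_cancel_left]
      rw [h5, rmul, hd, map_smul, hc, smul_smul]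
  -- the stabilizer of the vector
  let ρ : Representation F ↥(Gs φ) (I27 → F) := MonoidHom.comp (V F) (Gs φ).subtype
  have h1 := card_le_orbit ρ v X (fun g => hX g g.2)
  have hinj : Nat.card ↥(VS ρ v) ≤ Nat.card ↥H := by
    have key : ∀ g : ↥(VS ρ v), ∃ y ∈ H, Tw.incl F q y = ad F (g : ↥(Gs φ)) := by
      rintro ⟨⟨g, hg⟩, hgv⟩
      have h2 := Gs_le_Gl hq hF hφ hqq hg
      rw [mem_Gl] at h2
      refine ⟨⟨_, h2⟩, ?_, Subtype.ext rfl⟩
      rw [← hS]
      have h3 : V F g v = (1 : F) • v := by rw [one_smul]; exact hgv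
      exact ⟨g, ⟨hg, hunit h3⟩, Subtype.ext rfl⟩
    choose f hf hf' using key
    refine Nat.card_le_card_of_injective (fun g => (⟨f g, hf g⟩ : ↥H)) ?_
    rintro g g' hgg
    have h2 : f g = f g' := congrArg Subtype.val hgg
    have h3 : ad F ((g : ↥(Gs φ)) : ↥(Zgrp F)) = ad F ((g' : ↥(Gs φ)) : ↥(Zgrp F)) := by rw [← hf', ← hf', h2]
    obtain ⟨z, hz⟩ : ∃ z : ↥(Zgrp F), z = ((g : ↥(Gs φ)) : ↥(Zgrp F))⁻¹ * ((g' : ↥(Gs φ)) : ↥(Zgrp F)) := ⟨_, rfl⟩
    have hz1 : ad F z = 1 := by rw [hz, map_mul, map_inv, h3, inv_mul_cancel]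
    obtain ⟨c, -, hc⟩ := scal_smul hz1
    have hgv : V F ((g : ↥(Gs φ)) : ↥(Zgrp F)) v = v := g.2
    have hgv' : V F ((g' : ↥(Gs φ)) : ↥(Zgrp F)) v = v := g'.2
    have h4 : V F z v = v := by
      have h5 := rinv (V F) ((g : ↥(Gs φ)) : ↥(Zgrp F)) v
      rw [hgv] at h5
      rw [hz, rmul, hgv', h5]
    have h5 : c = 1 := by
      rw [hc] at h4
      have h6 : (c - 1) • v = 0 := by rw [sub_smul, h4, one_smul, sub_self]
      rcases smul_eq_zero.1 h6 with h | h
      · exact sub_eq_zero.1 h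
      · exact absurd h hv0
    have h6 : z = 1 := Cfsg.Agent.H65.E6Ext.V_injective fun x => by
      rw [hc, h5, one_smul, map_one]
      rfl
    rw [h6] at hz
    exact Subtype.ext (Subtype.ext (inv_mul_eq_one.1 hz.symm))
  have h2 : Nat.card ↥(Cfsg.Lie.twistedE6 F q) ≤ Nat.card ↥(Gs φ) := by
    refine Nat.card_le_card_of_surjective
      (fun g : ↥(Gs φ) => (⟨_, (mem_Gl.1 (Gs_le_Gl hq hF hφ hqq g.2))⟩ : ↥(Cfsg.Lie.twistedE6 F q))) ?_
    intro y
    obtain ⟨g, hg, hgy⟩ := exists_Gs φ hφ hqq y.2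
    exact ⟨⟨g, hg⟩, Subtype.ext hgy⟩
  exact h2.trans (h1.trans (Nat.mul_le_mul_right _ hinj))

end counting

/-! ### no fixed vectors -/

section nofixed

open Cfsg.Agent.H163.E6.Cnt (ρ_inv ρ_inv')

variable {F : Type u} [Field F] {H : Subgroup ↥(chevE6.group F)} {n : ℕ}
  {φ : ↥(alternatingGroup (Fin n)) →* ↥(chevE6.group F)}

/-- no fixed vectors, from the absence of stable lines (proof of helper927) -/
theorem no_fixed_of [Finite F] (hnorm : ∀ h ∈ H, ∀ a ∈ φ.range, h * a * h⁻¹ ∈ φ.range)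
    (hMsq : ∀ h ∈ H, h * h ∈ φ.range) (hn : 5 ≤ n) {ψ : ↥(alternatingGroup (Fin n)) →* ↥(Zgrp F)}
    (hψ : Lift φ ψ) {ρ : Representation F ↥(Zgrp F) (I27 → F)} (hρ : ρ = V F ∨ ρ = V' F)
    (no_line : ∀ W : Submodule F (I27 → F), Stab ρ H W → finrank F ↥W ≠ 1) :
    Representation.invariants (MonoidHom.comp ρ ψ) = ⊥ := by
  by_contra hne
  set W : Submodule F (I27 → F) := Representation.invariants (MonoidHom.comp ρ ψ) with hWdef
  have memW : ∀ w, w ∈ W ↔ ∀ a, ρ (ψ a) w = w := by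
    intro w
    rw [hWdef, Representation.mem_invariants]
    rfl
  have hcom : commutator ↥(alternatingGroup (Fin n)) = ⊤ :=
    commutator_alternatingGroup_eq_top (by rw [Nat.card_eq_fintype_card, Fintype.card_fin]; exact hn)
  set Ĥ : Subgroup ↥(Zgrp F) := H.comap (ad F) with hH
  have hscal : ∀ g, ad F g ∈ φ.range → ∃ c : F, c ≠ 0 ∧ c ^ 3 = 1 ∧ ∀ w ∈ W, ρ g w = c • w := by
    intro g hg
    obtain ⟨a, ha⟩ := hg
    have h1 : ad F ((ψ a)⁻¹ * g) = 1 := by rw [map_mul, map_inv, hψ, ha, inv_mul_cancel]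
    obtain ⟨c, hc0, hc3, hc⟩ := Cfsg.Agent.H163.E6.Cnt.ker_scalar hρ h1
    refine ⟨c, hc0, hc3, fun w hw => ?_⟩
    have h2 : g = ψ a * ((ψ a)⁻¹ * g) := by rw [mul_inv_cancel_left]
    rw [h2, map_mul, Module.End.mul_apply, hc, map_smul, (memW w).1 hw]
  have hst : ∀ x ∈ Ĥ, ∀ w ∈ W, ρ x w ∈ W := by
    intro x hx w hw
    by_cases hw0 : w = 0
    · rw [hw0, map_zero]; exact zero_mem _
    have h1 : ∀ a, ψ a ∈ LS ρ (ρ x w) := by
      intro a
      have h2 : ad F (x⁻¹ * ψ a * x) ∈ φ.range := by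
        rw [map_mul, map_mul, map_inv, hψ]
        have := hnorm (ad F x)⁻¹ (inv_mem hx) (φ a) ⟨a, rfl⟩
        rwa [inv_inv] at this
      obtain ⟨c, hc0, -, hc⟩ := hscal _ h2
      refine ⟨Units.mk0 c hc0, ?_⟩
      have h3 : ρ (ψ a) (ρ x w) = ρ x (ρ (x⁻¹ * ψ a * x) w) := by
        rw [← Module.End.mul_apply, ← map_mul, ← Module.End.mul_apply, ← map_mul]
        congr 2
        group
      rw [h3, hc w hw, map_smul]; rfl
    have h2 : (⊤ : Subgroup ↥(alternatingGroup (Fin n))) ≤ (VS ρ (ρ x w)).comap ψ := by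
      rw [← hcom, commutator_def, Subgroup.commutator_le]
      intro a _ b _
      rw [Subgroup.mem_comap, commutatorElement_def, map_mul, map_mul, map_mul, map_inv, map_inv]
      exact comm_mem (h1 a) (h1 b)
    rw [memW]
    intro a
    exact h2 (Subgroup.mem_top a)
  have hsq : ∀ x ∈ Ĥ, ∃ c : F, c ≠ 0 ∧ c ^ 3 = 1 ∧ ∀ w ∈ W, ρ x (ρ x w) = c • w := by
    intro x hx
    obtain ⟨c, hc0, hc3, hc⟩ := hscal (x * x) (by rw [map_mul]; exact hMsq _ hx)
    refine ⟨c, hc0, hc3, fun w hw => ?_⟩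
    rw [← Module.End.mul_apply, ← map_mul]
    exact hc w hw
  have hcomm : ∀ x ∈ Ĥ, ∀ y ∈ Ĥ, ∀ w ∈ W, ρ y (ρ x w) = ρ x (ρ y w) := by
    intro x hx y hy
    obtain ⟨cx, hx0, hx3, hcx⟩ := hsq x hx
    obtain ⟨cy, hy0, hy3, hcy⟩ := hsq y hy
    obtain ⟨cz, hz0, hz3, hcz⟩ := hsq (x * y) (mul_mem hx hy)
    have hmul : ∀ w, ρ (x * y) w = ρ x (ρ y w) := fun w => by rw [map_mul]; rfl
    have h1 : ∀ w ∈ W, ρ y (ρ x w) = (cz * cx⁻¹ * cy⁻¹) • ρ x (ρ y w) := by
      intro w hw
      have hyw := hst y hy w hw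
      have e1 : ρ x (ρ y (ρ x (ρ y (ρ y w)))) = cz • ρ y w := by
        have := hcz (ρ y w) hyw
        rwa [hmul, hmul] at this
      rw [hcy w hw, map_smul, map_smul, map_smul] at e1
      have e2 : ρ x (cy • ρ x (ρ y (ρ x w))) = ρ x (cz • ρ y w) := by rw [e1]
      rw [map_smul, map_smul, hcx _ (hst y hy _ (hst x hx w hw)), smul_smul] at e2
      have e3 : ((cx⁻¹ * cy⁻¹) * (cy * cx)) • ρ y (ρ x w) = ((cx⁻¹ * cy⁻¹) * cz) • ρ x (ρ y w) := by
        rw [mul_smul, e2, smul_smul]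
      have e4 : (cx⁻¹ * cy⁻¹) * (cy * cx) = 1 := by field_simp
      rw [e4, one_smul] at e3
      rw [e3]
      congr 1
      ring
    set d := cz * cx⁻¹ * cy⁻¹ with hd
    have hd3 : d ^ 3 = 1 := by
      rw [hd, mul_pow, mul_pow, inv_pow, inv_pow, hx3, hy3, hz3]; norm_num
    intro w hw
    by_cases hw0 : w = 0
    · simp only [hw0, map_zero]
    have h2 := h1 (ρ x w) (hst x hx w hw)
    rw [h1 w hw, map_smul, hcx w hw, map_smul, hcx _ (hst y hy w hw), smul_smul, smul_smul] at h2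
    have h3 : ρ y w ≠ 0 := by
      intro h0
      apply hw0
      rw [← ρ_inv ρ y w, h0, map_zero]
    have h4 : (cx - d * d * cx) • ρ y w = 0 := by
      rw [sub_smul, sub_eq_zero]
      exact h2
    have h5 := (smul_eq_zero.1 h4).resolve_right h3
    have h6 : d ^ 2 = 1 := by
      have : cx * (1 - d ^ 2) = 0 := by linear_combination h5
      have := (mul_eq_zero.1 this).resolve_left hx0
      linear_combination -this
    have h7 : d = 1 := by
      calc d = d ^ 3 * 1 * d := by rw [hd3]; ring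
        _ = d ^ 2 * d ^ 2 := by ring
        _ = 1 := by rw [h6]; ring
    rw [h1 w hw, h7, one_smul]
  let K : Subgroup ↥(Zgrp F) :=
    { carrier := {x | x ∈ Ĥ ∧ ∀ w ∈ W, ρ x (ρ x w) = w}
      one_mem' := ⟨one_mem _, fun w _ => by rw [map_one]; rfl⟩
      mul_mem' := by
        rintro x y ⟨hx, hx'⟩ ⟨hy, hy'⟩
        refine ⟨mul_mem hx hy, fun w hw => ?_⟩
        have hmul : ∀ w, ρ (x * y) w = ρ x (ρ y w) := fun w => by rw [map_mul]; rfl
        rw [hmul, hmul, hcomm x hx y hy _ (hst y hy w hw), hy' w hw, hx' w hw]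
      inv_mem' := by
        rintro x ⟨hx, hx'⟩
        refine ⟨inv_mem hx, fun w hw => ?_⟩
        have h1 : ρ x⁻¹ w = ρ x w := by
          conv_lhs => rw [← hx' w hw]
          rw [ρ_inv]
        rw [h1]
        rw [ρ_inv] }
  obtain ⟨w, hw, hw0, hw'⟩ := H952.F4.MaxA.exists_line (ρ := ρ) K W hne (fun x hx => hst x hx.1) (fun x hx => hx.2)
  have hline : ∀ x ∈ Ĥ, ∃ c : F, ρ x w = c • w := by
    intro x hx
    obtain ⟨c, hc0, hc3, hc⟩ := hsq x hx
    have hcube : ∀ v ∈ W, ρ (x * x * x) v = c • ρ x v := by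
      intro v hv
      rw [map_mul, map_mul, Module.End.mul_apply, Module.End.mul_apply, hc _ (hst x hx v hv)]
    have hK : x * x * x ∈ K := by
      refine ⟨mul_mem (mul_mem hx hx) hx, fun v hv => ?_⟩
      rw [hcube v hv, map_smul, hcube _ (hst x hx v hv), hc v hv, smul_smul, smul_smul,
        show c * c * c = c ^ 3 by ring, hc3, one_smul]
    have h1 := hw' _ hK
    rw [hcube w hw] at h1
    rcases h1 with h1 | h1
    · refine ⟨c⁻¹, ?_⟩
      calc ρ x w = c⁻¹ • (c • ρ x w) := by rw [smul_smul, inv_mul_cancel₀ hc0, one_smul]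
        _ = c⁻¹ • w := by rw [h1]
    · refine ⟨-c⁻¹, ?_⟩
      calc ρ x w = c⁻¹ • (c • ρ x w) := by rw [smul_smul, inv_mul_cancel₀ hc0, one_smul]
        _ = -c⁻¹ • w := by rw [h1, smul_neg, neg_smul]
  refine no_line (Submodule.span F {w}) ?_ (finrank_span_singleton hw0)
  intro g hg v hv
  obtain ⟨t, rfl⟩ := Submodule.mem_span_singleton.1 hv
  obtain ⟨c, hc⟩ := hline g hg
  rw [map_smul, hc]
  exact Submodule.smul_mem _ _ (Submodule.smul_mem _ _ (Submodule.mem_span_singleton_self w))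

end nofixed

/-! ### no stable lines -/

section noline

variable {F : Type u} [Field F] [Fintype F] {q : ℕ} {H : Subgroup ↥(Cfsg.Lie.twistedE6 F q)} {n : ℕ}
  {ψ : ↥(alternatingGroup (Fin n)) →* ↥(Cfsg.Lie.twistedE6 F q)}

/-- **no stable lines** -/
theorem no_line_of (hq : IsPrimePow q) (hF : Fintype.card F = q ^ 2) (hM : MaxAlt H n ψ) (hn : 5 ≤ n) (hn' : n ≤ 12)
    (hA1 : (n ≤ 10 ∨ 3 ≤ q) → (if n = 6 then 1440 else n.factorial) * q ^ 54 < Nat.card ↥(Cfsg.Lie.twistedE6 F q))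
    (hA2 : q = 2 → (12).factorial * (27 * 4 ^ 17) < Nat.card ↥(Cfsg.Lie.twistedE6 F q))
    (hB : Nat.card {v : I27 → F // v ≠ 0 ∧ sh v = 0} ≤ 27 * Nat.card F ^ 17)
    (ρ : Representation F ↥(Zgrp F) (I27 → F)) (hρ : ρ = V F ∨ ρ = V' F) (W : Submodule F (I27 → F))
    (hst : Stab ρ (H.map (Tw.incl F q)) W) : finrank F ↥W ≠ 1 := by
  obtain ⟨φ, hφ, hqq⟩ := TwE6Basic.exists_frob hq hF
  have hφφ : ∀ t : F, φ (φ t) = t := fun t => by rw [hφ, hφ, hqq]
  -- reduction to an eigenvector in `V`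
  have main : ∀ v : I27 → F, v ≠ 0 →
      (∀ g ∈ Gs φ, ad F g ∈ H.map (Tw.incl F q) → ∃ c : F, V F g v = c • v) → False := by
    intro v hv0 hv
    by_cases h10 : n ≤ 10 ∨ 3 ≤ q
    · -- counting all vectors
      have h1 := count_le hq hF hφ hqq hM.coatom hv0 hv Set.univ (fun g _ => Set.mem_univ _)
      have h2 : Nat.card (Set.univ : Set (I27 → F)) = q ^ 54 := by
        rw [Nat.card_univ, Nat.card_eq_fintype_card, Fintype.card_fun, hF, ← pow_mul]
        rfl
      rw [h2] at h1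
      have h3 := h1.trans (Nat.mul_le_mul_right _ hM.card)
      exact absurd (hA1 h10) (not_lt.2 h3)
    · push Not at h10
      obtain ⟨h11, hq3⟩ := h10
      have hq2 : q = 2 := by
        have := hq.two_le
        omega
      -- no singular vector
      have hsing : ∀ w : I27 → F, w ≠ 0 → sh w = 0 →
          (∀ g ∈ Gs φ, ad F g ∈ H.map (Tw.incl F q) → ∃ c : F, V F g w = c • w) → False := by
        intro w hw0 hws hw
        have h1 := count_le hq hF hφ hqq hM.coatom hw0 hw {v | v ≠ 0 ∧ sh v = 0} (fun g _ => by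
          refine ⟨?_, ?_⟩
          · intro h
            apply hw0
            rw [← rinv (V F) g w, h, map_zero]
          · rw [Act.sh_act, hws, map_zero])
        have h2 : Nat.card ↥H ≤ (12).factorial := by
          refine hM.card.trans ?_
          rw [if_neg (by omega)]
          exact Nat.factorial_le hn'
        have h3 : Nat.card F = 4 := by rw [Nat.card_eq_fintype_card, hF, hq2]; norm_num
        rw [h3] at hB
        have h4 : Nat.card {v : I27 → F | v ≠ 0 ∧ sh v = 0} ≤ 27 * 4 ^ 17 := hB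
        have h5 := h1.trans (Nat.mul_le_mul h2 h4)
        exact absurd (hA2 hq2) (not_lt.2 h5)
      by_cases hN : cubicT v = 0
      · by_cases hs : sh v = 0
        · exact hsing v hv0 hs hv
        · refine hsing (J φ (sh v)) (fun h => hs ((J_eq_zero φ hφφ).1 h)) ?_ ?_
          · rw [sh_J, sh_sh, hN, zero_smul, J_zero]
          · intro g hg hgH
            obtain ⟨c, hc⟩ := hv g hg hgH
            refine ⟨φ (c ^ 2), ?_⟩
            rw [V_J φ hg, ← Act.sh_act, hc, sh_smul, J_smul]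
      · -- `N(v) ≠ 0`
        obtain ⟨p, hp⟩ := CharP.exists F
        have hp2 : p = 2 := by
          have h1 : ((Fintype.card F : ℕ) : F) = 0 := FiniteField.cast_card_eq_zero F
          rw [hF, hq2] at h1
          have h2 : (p : ℕ) ∣ 2 ^ 2 := (CharP.cast_eq_zero_iff F p _).1 h1
          have h3 : p.Prime := by
            rcases CharP.char_is_prime_or_zero F p with h | h
            · exact h
            · rw [h] at h2
              norm_num at h2
          exact (Nat.prime_dvd_prime_iff_eq h3 Nat.prime_two).1 (h3.dvd_of_dvd_pow h2)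
        have hp' : Fact p.Prime := ⟨by rw [hp2]; exact Nat.prime_two⟩
        have hA := alt_perfect hn
        have hBG := Tw.Bgrp_le_Gs hφ hqq hA ψ
        have hinj : Function.Injective ((Tw.incl F q).comp ψ) := (Tw.incl_injective F q).comp hM.inj
        have hLS : ∀ b ∈ Bgrp ((Tw.incl F q).comp ψ), b ∈ LS (V F) v := by
          intro b hb
          obtain ⟨a, ha⟩ := Cfsg.Agent.H944.E6Tw.Bgrp_le _ hb
          obtain ⟨c, hc⟩ := hv b (hBG hb) ⟨ψ a, hM.le ⟨a, rfl⟩, ha⟩
          have hc0 : c ≠ 0 := by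
            rintro rfl
            rw [zero_smul] at hc
            apply hv0
            rw [← rinv (V F) b v, hc, map_zero]
          exact ⟨Units.mk0 c hc0, hc⟩
        have hVS : Bgrp ((Tw.incl F q).comp ψ) ≤ VS (V F) v := by
          rw [← Cfsg.Agent.H944.E6Tw.Bgrp_perfect hA ((Tw.incl F q).comp ψ), Subgroup.commutator_le]
          intro a ha b hb
          exact comm_mem (hLS a ha) (hLS b hb)
        exact no_black p (by rw [hp2]; norm_num) (by omega) hinj hN (fun b hb => hVS hb)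
  intro h1
  obtain ⟨⟨w, hw⟩, hw0, hw1⟩ := finrank_eq_one_iff'.1 h1
  have hw0' : w ≠ 0 := fun h => hw0 (Subtype.ext h)
  have heig : ∀ g, ad F g ∈ H.map (Tw.incl F q) → ∃ c : F, ρ g w = c • w := by
    intro g hg
    obtain ⟨c, hc⟩ := hw1 ⟨ρ g w, hst g hg w hw⟩
    exact ⟨c, (congrArg Subtype.val hc).symm⟩
  rcases hρ with rfl | rfl
  · exact main w hw0' fun g _ hg => heig g hg
  · refine main (J φ w) (fun h => hw0' ((J_eq_zero φ hφφ).1 h)) fun g hg hgH => ?_
    obtain ⟨c, hc⟩ := heig g hgH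
    exact ⟨φ c, by rw [V_J φ hg, hc, J_smul]⟩

end noline

end Cfsg.Agent.H944.E6Tw
end
end

-- part: H927/E6Der
section
prune_inst 0x3140450035a202000018001012001c62b2000002004800002080020006c1ec4080430820b2200110008094440030004002000000400000000a000000011b01800000020080080008420008000000000000000000000000000000000000000000000000000
set_option linter.all false
open scoped Cfsg.Agent.FastGrp

/-!
# S5927: the Lie algebra acts on `V` by derivations of the cubic form (helper927)

* `D c` : the element `c` of the Lie algebra as an endomorphism of `V`; `D_injective`, `D_act`;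
* `tf_sh_D`, `tf_cr_D`, `tri_D` : derivations of the cubic form and the polarizations;
* `sq_mem` : characteristic 2: the Lie algebra is closed under squares;
* `sh_D_eq_zero` : `D c ∘ D c = 0` and rank at most 6: the image is totally singular; `one_add_mem`.
-/

set_option autoImplicit false

namespace Cfsg.Agent.H163.E6.Der

open Cfsg Cfsg.Lie Module
open Cfsg.Agent.ChevalleyStructure.E6Min.Tables Cfsg.Agent.ChevalleyStructure.E6Min.Basic
  Cfsg.Agent.ChevalleyStructure.E6Min.Adjoint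
open Cfsg.Agent.H952.F4 (sh cr tf matRep)
open Cfsg.Agent.H952.F4.Jord
open scoped Matrix

universe u

/-! ### the basis vectors over an arbitrary ring -/

section Ring

variable {R : Type u} [CommRing R]

open Polynomial in
theorem Nm_cst (r : ℕ) (x : I27 → R) : Nm R[X] r *ᵥ cst x = cst (Nm R r *ᵥ x) := by
  funext a
  rw [Nm_mulVec, cst_apply, cst_apply, Nm_mulVec, map_mul, map_intCast]

open Polynomial in
theorem Hm_cst (i : ℕ) (x : I27 → R) : Hm R[X] i *ᵥ cst x = cst (Hm R i *ᵥ x) := by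
  funext a
  unfold Hm
  rw [cst_apply, Matrix.mulVec_diagonal, Matrix.mulVec_diagonal, cst_apply, map_mul, map_intCast]

open Polynomial in
theorem coeff_aux {a0 a1 a2 a3 b : R} (h : (C a0 + X * C a1 + X ^ 2 * C a2 + X ^ 3 * C a3 : R[X]) = C b) : a1 = 0 := by
  have h1 := congrArg (fun p : R[X] => p.coeff 1) h
  simp only [coeff_add, coeff_X_pow_mul', coeff_C] at h1
  rw [show (1 : ℕ) = 0 + 1 from rfl, coeff_X_mul] at h1
  simpa using h1

open Polynomial in
theorem der_N {r : ℕ} (hr : r < 72) (x : I27 → R) : tf (sh x) (Nm R r *ᵥ x) = 0 := by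
  have h1 := Cfsg.Agent.ChevalleyStructure.E6Min.Inv.cubicT_zM hr (X : R[X]) (cst x)
  rw [zM_def, Matrix.add_mulVec, Matrix.one_mulVec, Matrix.smul_mulVec, Nm_cst, N_add, sh_smul, cst_sh, cst_sh, N_smul,
    tf_smul_right, tf_smul_right, cst_N, cst_tf, cst_tf, cst_N] at h1
  exact coeff_aux h1

open Polynomial in
/-- polarization of `tf (sh x) (A x) = 0` -/
theorem polar_aux {A : Matrix I27 I27 R} {A' : Matrix I27 I27 R[X]} (hA : ∀ x, A' *ᵥ cst x = cst (A *ᵥ x))
    (h : ∀ x, tf (sh x) (A' *ᵥ x) = 0) (x y : I27 → R) : tf (cr x y) (A *ᵥ x) + tf (sh x) (A *ᵥ y) = 0 := by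
  have h1 := h (cst x + (X : R[X]) • cst y)
  rw [Matrix.mulVec_add, Matrix.mulVec_smul, hA, hA, sh_add, sh_smul, cst_sh, cst_sh, cr_smul_right, cst_cr,
    tf_add_right, tf_add_left, tf_add_left, tf_add_left, tf_add_left, tf_smul_right, tf_smul_right, tf_smul_right,
    tf_smul_left, tf_smul_left, tf_smul_left, tf_smul_left, cst_tf, cst_tf, cst_tf, cst_tf, cst_tf, cst_tf] at h1
  refine coeff_aux (a0 := tf (sh x) (A *ᵥ x)) (a2 := tf (sh y) (A *ᵥ x) + tf (cr x y) (A *ᵥ y)) (a3 := tf (sh y) (A *ᵥ y))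
    (b := 0) ?_
  rw [map_zero, ← h1, map_add, map_add]
  ring

theorem der2_N {r : ℕ} (hr : r < 72) (x y : I27 → R) :
    tf (cr x y) (Nm R r *ᵥ x) + tf (sh x) (Nm R r *ᵥ y) = 0 :=
  polar_aux (Nm_cst r) (fun x => der_N hr x) x y

theorem tri_comm (x y z : I27 → R) : tf (cr x y) z = tf (cr x z) y := by
  rw [tf_cr, cr_comm y z, ← tf_cr]

/-- `H_i` is the bracket of root vectors -/
theorem Hm_eq {i : ℕ} (hi : i < 6) : Hm R i =
    Nm R (Cfsg.Agent.ChevalleyStructure.E6Min.Torus.sI i) * Nm R (71 - Cfsg.Agent.ChevalleyStructure.E6Min.Torus.sI i) -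
      Nm R (71 - Cfsg.Agent.ChevalleyStructure.E6Min.Torus.sI i) * Nm R (Cfsg.Agent.ChevalleyStructure.E6Min.Torus.sI i) := by
  have hr := Cfsg.Agent.ChevalleyStructure.E6Min.Torus.sI_lt hi
  rw [Nm_mul_opp hr, Nm_opp_mul hr]
  ext x y
  rw [Hm_apply, Matrix.sub_apply, Matrix.diagonal_apply, Matrix.diagonal_apply]
  by_cases hxy : x = y
  · simp only [hxy, if_true]
    have := allLt_spec Cfsg.Agent.ChevalleyStructure.E6Min.Torus.sI_all i hi
    rw [Bool.and_eq_true] at this
    have := allLt_spec this.2 _ (code_lt y)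
    simp only [Bool.or_eq_true, Bool.and_eq_true, beq_iff_eq] at this
    unfold ind wt
    rcases this with (⟨⟨h1, h2⟩, h3⟩ | ⟨⟨h1, h2⟩, h3⟩) | ⟨⟨h1, h2⟩, h3⟩
    · rw [h1, h2, h3]; simp
    · rw [h1, h2, h3]; simp
    · rw [h1, h2, h3]; simp
  · simp only [hxy, if_false]; simp

theorem der_H {i : ℕ} (hi : i < 6) (x : I27 → R) : tf (sh x) (Hm R i *ᵥ x) = 0 := by
  have hr := Cfsg.Agent.ChevalleyStructure.E6Min.Torus.sI_lt hi
  set r := Cfsg.Agent.ChevalleyStructure.E6Min.Torus.sI i with hrdef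
  have hr' : 71 - r < 72 := by omega
  have e1 := der2_N hr x (Nm R (71 - r) *ᵥ x)
  have e2 := der2_N hr' x (Nm R r *ᵥ x)
  rw [tri_comm x (Nm R (71 - r) *ᵥ x)] at e1
  rw [Hm_eq hi, Matrix.sub_mulVec, ← Matrix.mulVec_mulVec, ← Matrix.mulVec_mulVec, ← hrdef, sub_eq_add_neg,
    ← neg_one_smul R, tf_add_right, tf_smul_right]
  linear_combination e1 - e2

theorem der2_H {i : ℕ} (hi : i < 6) (x y : I27 → R) :
    tf (cr x y) (Hm R i *ᵥ x) + tf (sh x) (Hm R i *ᵥ y) = 0 :=
  polar_aux (Hm_cst i) (fun x => der_H hi x) x y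

theorem tf_zero_right (x : I27 → R) : tf x 0 = 0 := by
  have := tf_smul_right (0 : R) x 0
  rwa [zero_smul, zero_mul] at this

theorem tf_zero_left (x : I27 → R) : tf 0 x = 0 := by rw [tf_comm, tf_zero_right]

theorem tf_neg_right (x y : I27 → R) : tf x (-y) = -tf x y := by
  rw [← neg_one_smul R y, tf_smul_right, neg_one_mul]

theorem tf_sum_right {ι : Type*} (s : Finset ι) (x : I27 → R) (f : ι → I27 → R) :
    tf x (∑ i ∈ s, f i) = ∑ i ∈ s, tf x (f i) := by
  classical
  induction s using Finset.induction_on with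
  | empty => rw [Finset.sum_empty, Finset.sum_empty, tf_zero_right]
  | insert a s ha ih => rw [Finset.sum_insert ha, Finset.sum_insert ha, tf_add_right, ih]

end Ring

variable {F : Type u} [Field F]

/-- the element of the Lie algebra as an endomorphism of `V` -/
noncomputable def D (c : chevE6.Idx → F) : (I27 → F) →ₗ[F] (I27 → F) := Matrix.toLin' (comb c)

theorem D_apply (c : chevE6.Idx → F) (x : I27 → F) : D c x = comb c *ᵥ x := Matrix.toLin'_apply _ _

theorem D_injective : Function.Injective (D (F := F)) := by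
  intro c c' h
  exact comb_injective (Matrix.toLin'.injective h)

theorem D_act (g : ↥(Zgrp F)) (c : chevE6.Idx → F) (x : I27 → F) : V F g (D c x) = D (L F g c) (V F g x) := by
  rw [D_apply, D_apply, V_apply, V_apply, Matrix.mulVec_mulVec, Matrix.mulVec_mulVec, comb_mul_of (ad_P g) c]
  rfl

theorem D_sum (c : chevE6.Idx → F) (x : I27 → F) : D c x = ∑ row, c row • (B F row *ᵥ x) := by
  rw [D_apply, comb_def, Matrix.sum_mulVec]
  refine Finset.sum_congr rfl fun row _ => ?_
  rw [Matrix.smul_mulVec]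

/-- derivations of the cubic form -/
theorem tf_sh_D (c : chevE6.Idx → F) (x : I27 → F) : tf (sh x) (D c x) = 0 := by
  rw [D_sum, tf_sum_right]
  refine Finset.sum_eq_zero fun row _ => ?_
  rw [tf_smul_right]
  rcases row with i | r
  · rw [B_inl, der_H (lt6 i), mul_zero]
  · rw [B_inr, der_N (lt72 r), mul_zero]

/-- the polarization -/
theorem tf_cr_D (c : chevE6.Idx → F) (x y : I27 → F) : tf (cr x y) (D c x) + tf (sh x) (D c y) = 0 := by
  rw [D_sum, D_sum, tf_sum_right, tf_sum_right, ← Finset.sum_add_distrib]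
  refine Finset.sum_eq_zero fun row _ => ?_
  rw [tf_smul_right, tf_smul_right, ← mul_add]
  rcases row with i | r
  · rw [B_inl, der2_H (lt6 i), mul_zero]
  · rw [B_inr, der2_N (lt72 r), mul_zero]

/-- the full polarization -/
theorem tri_D (c : chevE6.Idx → F) (x y z : I27 → F) :
    tf (cr y z) (D c x) + tf (cr x z) (D c y) + tf (cr x y) (D c z) = 0 := by
  have h1 := tf_cr_D c (x + z) y
  have h2 := tf_cr_D c x y
  have h3 := tf_cr_D c z y
  rw [cr_add_left, map_add, tf_add_left, tf_add_right, tf_add_right, sh_add, tf_add_left, tf_add_left] at h1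
  rw [cr_comm y z]
  linear_combination h1 - h2 - h3

/-! ### squares in characteristic 2 -/

/-- the Lie algebra as a space of matrices -/
noncomputable def LA (F : Type*) [Field F] : Submodule F (Matrix I27 I27 F) := Submodule.span F (Set.range (B F))

theorem mem_LA_iff {M : Matrix I27 I27 F} : M ∈ LA F ↔ ∃ c : chevE6.Idx → F, comb c = M := by
  unfold LA
  rw [Submodule.mem_span_range_iff_exists_fun]
  rfl

theorem B_mem (a : chevE6.Idx) : B F a ∈ LA F := Submodule.subset_span ⟨a, rfl⟩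

theorem Nm_mem {r : ℕ} (hr : r < 72) : Nm F r ∈ LA F := B_mem (Sum.inr ⟨r, hr⟩)

theorem Hm_mem {i : ℕ} (hi : i < 6) : Hm F i ∈ LA F := B_mem (Sum.inl ⟨i, hi⟩)

/-- the Lie algebra is closed under brackets (basis vectors) -/
theorem bracket_B (a b : chevE6.Idx) : B F a * B F b - B F b * B F a ∈ LA F := by
  rcases a with i | r <;> rcases b with j | s
  · rw [B_inl, B_inl]
    unfold Hm
    rw [Matrix.diagonal_mul_diagonal, Matrix.diagonal_mul_diagonal]
    have : (fun x => (((wt x i.val : ℤ) : F)) * ((wt x j.val : ℤ) : F)) =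
        fun x => ((wt x j.val : ℤ) : F) * ((wt x i.val : ℤ) : F) := by
      funext x; exact mul_comm _ _
    rw [this, sub_self]
    exact zero_mem _
  · rw [B_inl, B_inr, Hm_comm (lt72 s) (lt6 i)]
    exact Submodule.smul_mem _ _ (Nm_mem (lt72 s))
  · rw [B_inl, B_inr, ← neg_sub, Hm_comm (lt72 r) (lt6 j)]
    exact Submodule.neg_mem _ (Submodule.smul_mem _ _ (Nm_mem (lt72 r)))
  · rw [B_inr, B_inr]
    by_cases h : s.val + r.val = 71
    · have hs : s.val = 71 - r.val := by omega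
      rw [hs, Nm_bracket_opp (lt72 r)]
      refine Submodule.sum_mem _ fun i hi => ?_
      exact Submodule.smul_mem _ _ (Hm_mem (Finset.mem_range.1 hi))
    · by_cases hk : kN r.val s.val = 127
      · rw [Nm_comm_of_none (lt72 r) (lt72 s) h hk, sub_self]
        exact zero_mem _
      · rw [Nm_comm_of_some (lt72 r) (lt72 s) h hk]
        exact Submodule.smul_mem _ _ (Nm_mem (kN_lt (lt72 r) (lt72 s) hk))

theorem bracket_mem {M N : Matrix I27 I27 F} (hM : M ∈ LA F) (hN : N ∈ LA F) : M * N - N * M ∈ LA F := by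
  unfold LA at hM hN
  induction hM using Submodule.span_induction with
  | mem x hx =>
    obtain ⟨a, rfl⟩ := hx
    induction hN using Submodule.span_induction with
    | mem y hy =>
      obtain ⟨b, rfl⟩ := hy
      exact bracket_B a b
    | zero => rw [mul_zero, zero_mul, sub_zero]; exact zero_mem _
    | add y z _ _ h1 h2 =>
      have : B F a * (y + z) - (y + z) * B F a = (B F a * y - y * B F a) + (B F a * z - z * B F a) := by
        rw [mul_add, add_mul]; abel
      rw [this]; exact add_mem h1 h2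
    | smul t y _ h1 =>
      have : B F a * (t • y) - (t • y) * B F a = t • (B F a * y - y * B F a) := by
        rw [mul_smul_comm, smul_mul_assoc, smul_sub]
      rw [this]; exact Submodule.smul_mem _ _ h1
  | zero => rw [mul_zero, zero_mul, sub_zero]; exact zero_mem _
  | add y z _ _ h1 h2 =>
    have : (y + z) * N - N * (y + z) = (y * N - N * y) + (z * N - N * z) := by
      rw [mul_add, add_mul]; abel
    rw [this]; exact add_mem h1 h2
  | smul t y _ h1 =>
    have : (t • y) * N - N * (t • y) = t • (y * N - N * y) := by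
      rw [mul_smul_comm, smul_mul_assoc, smul_sub]
    rw [this]; exact Submodule.smul_mem _ _ h1

/-! ### the cubic form as a sum over triads -/

open Cfsg.Agent.ChevalleyStructure.E6Min.Forms (T3 T3_polar T3_inv D_inv rel th e e_apply T3_basis_eq_zero D_basis tsN_ne_zero
  rel_cases th_spec tn)

section Ring2

variable {R : Type u} [CommRing R]

theorem T3_eq (x y z : I27 → R) : T3 x y z = tf (cr x y) z := by
  rw [T3_polar, N_add (x + y) z, N_add x y, N_add x z, N_add y z, sh_add, tf_add_left, tf_add_left, tf_add_left]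
  ring

open Polynomial in
theorem DF_eq (v w : I27 → R) : Cfsg.Agent.ChevalleyStructure.E6Min.Forms.D v w = tf (sh v) w := by
  have h1 := Cfsg.Agent.ChevalleyStructure.E6Min.Forms.cubicT_add_smul (cst v) (cst w) (X : R[X])
  have e : ∀ a b : I27 → R, Cfsg.Agent.ChevalleyStructure.E6Min.Forms.D (cst a) (cst b) =
      C (Cfsg.Agent.ChevalleyStructure.E6Min.Forms.D a b) := by
    intro a b
    unfold Cfsg.Agent.ChevalleyStructure.E6Min.Forms.D
    simp only [map_sum, map_mul, map_add, cst_apply, map_intCast]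
  rw [N_add, sh_smul, tf_smul_right, tf_smul_right, cst_sh, cst_sh, cst_tf, cst_tf, e, e, N_smul] at h1
  have h2 : (C 0 + X * C (tf (sh v) w - Cfsg.Agent.ChevalleyStructure.E6Min.Forms.D v w) +
      X ^ 2 * C (tf v (sh w) - Cfsg.Agent.ChevalleyStructure.E6Min.Forms.D w v) + X ^ 3 * C 0 : R[X]) = C 0 := by
    rw [map_zero, map_sub, map_sub]
    linear_combination h1
  have h3 := coeff_aux h2
  exact (sub_eq_zero.1 h3).symm

end Ring2

theorem exists_tf_ne {s : I27 → F} (hs : s ≠ 0) : ∃ z, tf s z = 1 := by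
  by_contra hcon
  push Not at hcon
  apply hs
  apply tf_nondeg
  intro y
  by_contra hy
  apply hcon ((tf s y)⁻¹ • y)
  rw [tf_smul_right, inv_mul_cancel₀ hy]

/-- coordinates through the trace form -/
theorem eq_zero_of_tf_basis {y : I27 → F} {z : GL I27 F}
    (h : ∀ k, tf y (((z⁻¹ : GL I27 F) : Matrix I27 I27 F) *ᵥ e F k) = 0) : y = 0 := by
  apply tf_nondeg
  intro u
  have h1 : u = ((z⁻¹ : GL I27 F) : Matrix I27 I27 F) *ᵥ ((z : Matrix I27 I27 F) *ᵥ u) := by
    rw [Matrix.mulVec_mulVec, ← Units.val_mul, inv_mul_cancel, Units.val_one, Matrix.one_mulVec]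
  rw [h1]
  generalize ((z : Matrix I27 I27 F) *ᵥ u) = w
  have h2 : w = ∑ k, w k • e F k := by
    funext j
    rw [Finset.sum_apply, Finset.sum_eq_single j]
    · rw [Pi.smul_apply, e_apply, if_pos rfl, smul_eq_mul, mul_one]
    · intro k _ hk
      rw [Pi.smul_apply, e_apply, if_neg (Ne.symm hk), smul_zero]
    · intro h; exact absurd (Finset.mem_univ _) h
  rw [h2, Matrix.mulVec_sum, tf_sum_right]
  refine Finset.sum_eq_zero fun k _ => ?_
  rw [Matrix.mulVec_smul, tf_smul_right, h k, mul_zero]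

/-- a singular vector is equivalent to a multiple of a basis vector -/
theorem exists_basis [Finite F] (h3 : 3 ≤ Nat.card F) {s : I27 → F} (hs : s ≠ 0) (hss : sh s = 0) :
    ∃ z ∈ Zgrp F, ∃ i : I27, ∃ c : F, c ≠ 0 ∧ (z : Matrix I27 I27 F) *ᵥ s = c • e F i := by
  obtain ⟨i, hi⟩ : ∃ i, s i ≠ 0 := by
    by_contra hcon
    push Not at hcon
    exact hs (funext hcon)
  classical
  have := Fintype.ofFinite F
  have hF : 3 ≤ Fintype.card F := by rwa [← Nat.card_eq_fintype_card]
  obtain ⟨z, hz, -, h1, h2, -⟩ := Cfsg.Agent.ChevalleyStructure.E6Min.Elim.clear_aux s hi [] (by simp)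
    (fun m hm => by simp at hm) (Finset.univ.toList.filter fun j => rel i j = 1) (by
      intro j hj
      simpa using hj)
  have h2' : ∀ j, rel i j = 1 → ((z : Matrix I27 I27 F) *ᵥ s) j = 0 := fun j hj => h2 j (by simpa using hj)
  refine ⟨z, hz, i, s i, hi, ?_⟩
  funext j
  rw [Pi.smul_apply, e_apply]
  by_cases hji : j = i
  · rw [if_pos hji, hji, h1, smul_eq_mul, mul_one]
  · rw [if_neg hji, smul_zero]
    rcases rel_cases i j with h | h | h
    · exact absurd h.symm hji
    · exact h2' j h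
    · obtain ⟨-, -, -, -, e1, -, e2⟩ := th_spec h
      have h4 := D_basis (F := F) e1 ((z : Matrix I27 I27 F) *ᵥ s) h2'
      have h5 : Cfsg.Agent.ChevalleyStructure.E6Min.Forms.D ((z : Matrix I27 I27 F) *ᵥ s) (e F (th i j)) = 0 := by
        have h6 : e F (th i j) = (z : Matrix I27 I27 F) *ᵥ (((z⁻¹ : GL I27 F) : Matrix I27 I27 F) *ᵥ e F (th i j)) := by
          rw [Matrix.mulVec_mulVec, ← Units.val_mul, mul_inv_cancel, Units.val_one, Matrix.one_mulVec]
        rw [h6, D_inv hF (Cfsg.Agent.ChevalleyStructure.E6Min.Elim.mem_E6univ_of_mem hz), DF_eq, hss, tf_zero_left]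
      rw [h5, h1, e2] at h4
      rcases mul_eq_zero.1 h4.symm with h7 | h7
      · exact absurd h7 (tsN_ne_zero _)
      · exact (mul_eq_zero.1 h7).resolve_left hi

theorem card_rel : ∀ i : I27, Fintype.card {k : I27 // rel i k = 2} ≤ 10 := by
  decide +kernel

/-- the subspace of `w'` with `w' = cr s v` for some `v`, `s` singular, has dimension at most 10 -/
theorem finrank_le [Finite F] (h3 : 3 ≤ Nat.card F) {s : I27 → F} (hs : s ≠ 0) (hss : sh s = 0)
    (K : Submodule F (I27 → F)) (hK : ∀ y ∈ K, ∃ v, y = cr s v) : finrank F ↥K ≤ 10 := by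
  obtain ⟨z, hz, i, c, hc, hzs⟩ := exists_basis h3 hs hss
  let f : ↥K →ₗ[F] ({k : I27 // rel i k = 2} → F) :=
    { toFun := fun y k => tf y.1 (((z⁻¹ : GL I27 F) : Matrix I27 I27 F) *ᵥ e F k.1)
      map_add' := by
        intro y y'
        funext k
        exact tf_add_left _ _ _
      map_smul' := by
        intro c y
        funext k
        exact tf_smul_left _ _ _ }
  have hf : Function.Injective f := by
    rw [← LinearMap.ker_eq_bot, LinearMap.ker_eq_bot']
    intro y hy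
    apply Subtype.ext
    apply eq_zero_of_tf_basis (z := z)
    intro k
    by_cases hk : rel i k = 2
    · exact congrFun hy ⟨k, hk⟩
    · obtain ⟨v, hv⟩ := hK y.1 y.2
      rw [hv, ← T3_eq, ← T3_inv (Cfsg.Agent.ChevalleyStructure.E6Min.Elim.mem_E6univ_of_mem hz)]
      rw [Matrix.mulVec_mulVec (e F k), ← Units.val_mul, mul_inv_cancel, Units.val_one, Matrix.one_mulVec, hzs,
        Cfsg.Agent.ChevalleyStructure.E6Min.Forms.T3_smul_left, T3_basis_eq_zero hk, mul_zero]
  have h4 := LinearMap.finrank_le_finrank_of_injective hf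
  rw [finrank_fintype_fun_eq_card] at h4
  exact h4.trans (card_rel i)

/-- `x ↦ cr w x` -/
noncomputable def R (w : I27 → F) : (I27 → F) →ₗ[F] (I27 → F) where
  toFun := cr w
  map_add' := cr_add_right w
  map_smul' c x := cr_smul_right c w x

/-- the kernel of `x ↦ cr w x` for a vector with `N w = 0`, `sh w ≠ 0` -/
theorem finrank_ker_R [Finite F] (h3 : 3 ≤ Nat.card F) {w : I27 → F} (hw : cubicT w = 0) (hs : sh w ≠ 0) :
    finrank F ↥(LinearMap.ker (R w)) ≤ 10 := by
  have hss : sh (sh w) = 0 := by rw [sh_sh, hw, zero_smul]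
  have hw0 : w ≠ 0 := by
    rintro rfl
    apply hs
    have := sh_smul (0 : F) (0 : I27 → F)
    rw [zero_smul, zero_pow two_ne_zero, zero_smul] at this
    exact this
  refine finrank_le h3 hs hss _ fun y hy => ?_
  have hy' : cr w y = 0 := hy
  obtain ⟨z, hz⟩ := exists_tf_ne hs
  refine ⟨cr z y, ?_⟩
  -- `tf (sh w) y = 0`
  have h0 : cr (sh w) 0 = 0 := by
    have := cr_smul_right (0 : F) (sh w) 0
    rwa [zero_smul, zero_smul] at this
  have h0' : ∀ a : I27 → F, cr a 0 = 0 := by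
    intro a
    have := cr_smul_right (0 : F) a 0
    rwa [zero_smul, zero_smul] at this
  have h1 : tf (sh w) y = 0 := by
    have := cr_sh_cr w y
    rw [hy', h0, hw, zero_smul, zero_add] at this
    rcases smul_eq_zero.1 this.symm with h | h
    · exact h
    · exact absurd h hw0
  have h2 := cr_cr w z y
  rw [hy', h0', zero_add, hz, h1, one_smul, zero_smul, add_zero, ← tf_cr, tri_comm w z y, hy', tf_zero_left, zero_smul,
    add_zero] at h2
  exact h2.symm

/-- totally isotropic subspaces of the bilinear form `tf (cr w x) z` -/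
theorem isotropic (w : I27 → F) (X : Submodule F (I27 → F)) (h : ∀ x ∈ X, ∀ z ∈ X, tf (cr w x) z = 0) :
    2 * finrank F ↥X ≤ 27 + finrank F ↥(LinearMap.ker (R w)) := by
  -- the map into the dual space
  let Θ : (I27 → F) →ₗ[F] Module.Dual F (I27 → F) :=
    { toFun := fun u =>
        { toFun := tf u
          map_add' := tf_add_right u
          map_smul' := fun c x => tf_smul_right c u x }
      map_add' := fun u u' => LinearMap.ext fun x => tf_add_left u u' x
      map_smul' := fun c u => LinearMap.ext fun x => tf_smul_left c u x }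
  have hΘ : Function.Injective Θ := by
    rw [← LinearMap.ker_eq_bot, LinearMap.ker_eq_bot']
    intro u hu
    exact tf_nondeg fun y => LinearMap.congr_fun hu y
  set f := (R w).domRestrict X with hf
  have h1 := LinearMap.finrank_range_add_finrank_ker f
  have h2 : finrank F ↥(LinearMap.ker f) ≤ finrank F ↥(LinearMap.ker (R w)) := by
    have h3 : (LinearMap.ker f).map X.subtype ≤ LinearMap.ker (R w) := by
      rintro _ ⟨x, hx, rfl⟩
      exact hx
    have h4 := Submodule.finrank_mono h3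
    rwa [Submodule.finrank_map_subtype_eq] at h4
  have h5 : finrank F ↥(LinearMap.range f) + finrank F ↥X ≤ 27 := by
    have h6 : (LinearMap.range f).map Θ ≤ X.dualAnnihilator := by
      rintro _ ⟨_, ⟨x, rfl⟩, rfl⟩
      rw [Submodule.mem_dualAnnihilator]
      intro z hz
      exact h x.1 x.2 z hz
    have h7 := Submodule.finrank_mono h6
    have h8 := Subspace.finrank_add_finrank_dualAnnihilator_eq X
    have h9 : finrank F (I27 → F) = 27 := by
      rw [finrank_fintype_fun_eq_card]; rfl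
    have h10 : finrank F ↥((LinearMap.range f).map Θ) = finrank F ↥(LinearMap.range f) :=
      (Submodule.equivMapOfInjective Θ hΘ _).finrank_eq.symm
    omega
  omega

/-- an element of the Lie algebra of square 0 and rank at most 8: its image is totally singular -/
theorem sh_D_eq_zero [Finite F] (h3 : 3 ≤ Nat.card F) (hF3 : (3 : F) ≠ 0) (c : chevE6.Idx → F)
    (hsq : ∀ x, D c (D c x) = 0) (hr : finrank F ↥(LinearMap.range (D c)) ≤ 8) (y : I27 → F) : sh (D c y) = 0 := by
  by_contra hs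
  have hN : cubicT (D c y) = 0 := by
    have h1 := tf_cr_D c (D c y) y
    rw [hsq, tf_zero_right, zero_add, tf_sh_self] at h1
    exact (mul_eq_zero.1 h1).resolve_left hF3
  have h4 := finrank_ker_R h3 hN hs
  have h5 := isotropic (D c y) (LinearMap.ker (D c)) (by
    intro x hx z hz
    have hx' : D c x = 0 := hx
    have hz' : D c z = 0 := hz
    have h6 := tri_D c y x z
    rw [hx', hz', tf_zero_right, tf_zero_right, add_zero, add_zero] at h6
    rw [tf_cr, tf_comm, h6])
  have h6 := LinearMap.finrank_range_add_finrank_ker (D c)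
  have h9 : finrank F (I27 → F) = 27 := by
    rw [finrank_fintype_fun_eq_card]; rfl
  omega

end Cfsg.Agent.H163.E6.Der

private theorem dce_d4f02a0b8b00 : _root_.True := by
  try have : _root_.True := by simp only [_root_.Cfsg.Agent.H163.E6.Der.D.eq_1]
  exact _root_.True.intro
end

-- part: H163/E6/Semi
section
set_option linter.all false
open scoped Cfsg.Agent.FastGrp

/-!
# The semilinear structure in the twisted case (helper163)

`Semi q φ` : the semilinear bijection `J : V ↔ V'` commuting with `Bgrp φ` (only for `²E₆(q)`; proved by helper944's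
`E6TwC`). `FixSym φ` : a weak consequence (helper879).
-/

set_option autoImplicit false

namespace Cfsg.Agent.H163.E6

open Cfsg Cfsg.Lie Module
open Cfsg.Agent.ChevalleyStructure.E6Min.Tables Cfsg.Agent.ChevalleyStructure.E6Min.Basic
  Cfsg.Agent.ChevalleyStructure.E6Min.Adjoint
open Cfsg.Agent.H952.F4 (ev es matRep sh cr tf MaxAlt)

universe u

variable {F : Type u} [Field F]

/-- a subset of `Bgrp φ` has a non-zero fixed vector in `V` if and only if it has one in `V'` -/
def FixSym {A : Type*} [Group A] (φ : A →* ↥(chevE6.group F)) : Prop :=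
  ∀ S : Set ↥(Zgrp F), S ⊆ Bgrp φ →
    ((∃ v, v ≠ 0 ∧ ∀ g ∈ S, V F g v = v) → ∃ w, w ≠ 0 ∧ ∀ g ∈ S, V' F g w = w) ∧
    ((∃ v, v ≠ 0 ∧ ∀ g ∈ S, V' F g v = v) → ∃ w, w ≠ 0 ∧ ∀ g ∈ S, V F g w = w)

/-- the semilinear map exchanging `V` and `V'` -/
def Semi (q : ℕ) {A : Type*} [Group A] (φ : A →* ↥(chevE6.group F)) : Prop :=
  ∃ J : (I27 → F) → (I27 → F), (∀ x y, J (x + y) = J x + J y) ∧ (∀ (c : F) x, J (c • x) = c ^ q • J x) ∧
    (∀ x, J (J x) = x) ∧ (∀ x, sh (J x) = J (sh x)) ∧ (∀ x y, cr (J x) (J y) = J (cr x y)) ∧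
    (∀ x y, tf (J x) (J y) = tf x y ^ q) ∧ (∀ x, cubicT (J x) = cubicT x ^ q) ∧
    ∀ g ∈ Bgrp φ, ∀ x, V F g (J x) = J (V' F g x) ∧ V' F g (J x) = J (V F g x)

theorem Semi.fixSym {q : ℕ} {A : Type*} [Group A] {φ : A →* ↥(chevE6.group F)} (h : Semi q φ) : FixSym φ := by
  obtain ⟨J, hadd, hsmul, hJ, -, -, -, -, hV⟩ := h
  have h0 : J 0 = 0 := by
    have := hadd 0 0
    rw [add_zero] at this
    exact left_eq_add.1 this
  have hne : ∀ x, x ≠ 0 → J x ≠ 0 := fun x hx h => hx (by rw [← hJ x, h, h0])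
  refine fun S hS => ⟨?_, ?_⟩
  · rintro ⟨v, hv, hf⟩
    refine ⟨J v, hne v hv, fun g hg => ?_⟩
    rw [(hV g (hS hg) v).2, hf g hg]
  · rintro ⟨v, hv, hf⟩
    refine ⟨J v, hne v hv, fun g hg => ?_⟩
    rw [(hV g (hS hg) v).1, hf g hg]

end Cfsg.Agent.H163.E6
end

-- part: H958/SixC/Defs
section
set_option linter.all false

/-!
# S5927, S5928: `sixc_two`, abstract definitions (helper958)

`P` is the three-fold cover of `A₆` with centre `⟨ζ⟩`, `z` of order 5; `⟨z, xx z g₁⟩`, `⟨z, xx z g₂⟩` are the canonical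
lifts of the two subgroups `A₅` of the two classes containing (the image of) `z`.
-/

set_option autoImplicit false

namespace Cfsg.Agent.H958.SixC

open Module
open Cfsg.Agent.H952.F4 (ev es)

section
variable {P : Type*} [Group P]

/-- the second generator (an involution) of `A₅` -/
def xx (z g : P) : P := g * z * z * g * z⁻¹ * z⁻¹ * g

/-- relations of `z`, `g` (one class of subgroups `A₅`) -/
structure Half (ζ z g β : P) : Prop where
  z5 : z ^ 5 = 1
  gg : g * g = 1
  r2 : g * z⁻¹ * z⁻¹ * g * z * g = z * xx z g * z⁻¹ * xx z g * z⁻¹ * β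
  r4 : g * z * g * z⁻¹ * g = xx z g * z * xx z g * z⁻¹ * xx z g
  gen : Subgroup.closure {z, g} = ⊤
  c3 : (xx z g * z) ^ 3 = 1
  t3 : ∃ b, b * (xx z g * z) * b⁻¹ = ζ * (xx z g * z)

/-- relations of `P` -/
structure Full (ζ z g₁ g₂ β t a : P) : Prop where
  cen : ∀ g, g * ζ = ζ * g
  cube : ζ ^ 3 = 1
  beta : β = ζ ∨ β = ζ⁻¹
  h1 : Half ζ z g₁ β
  h2 : Half ζ z g₂ β⁻¹
  tt : t * t = 1
  tz : t * z * t⁻¹ = z⁻¹
  /-- the two subgroups `A₅` generate `P` -/
  gen12 : Subgroup.closure {z, xx z g₁, xx z g₂} = ⊤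
  a3 : a ^ 3 = 1
  a3' : (a⁻¹ * z) ^ 3 = 1
  ta : ∃ b, b * a * b⁻¹ = ζ * a
  ta' : ∃ b, b * (a⁻¹ * z) * b⁻¹ = ζ * (a⁻¹ * z)
  gena : Subgroup.closure {a, a⁻¹ * z} = ⊤

end

section
variable {F P M : Type*} [Field F] [Group P] [AddCommGroup M] [Module F M]

/-- stable subspaces -/
def St (ρ : Representation F P M) (W : Submodule F M) : Prop := ∀ g, ∀ w ∈ W, ρ g w ∈ W

/-- vectors fixed by the subgroup `⟨z, xx z g⟩ ≅ A₅` -/
def KF (ρ : Representation F P M) (z g : P) (w : M) : Prop := ρ z w = w ∧ ρ (xx z g) w = w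

/-- the central element `ζ` acts as the scalar `c ≠ 1` with `c³ = 1` -/
structure Ch (ρ : Representation F P M) (ζ : P) (c : F) : Prop where
  act : ∀ v, ρ ζ v = c • v
  ne : c ≠ 1
  cube : c ^ 3 = 1

/-- the candidate for the 3-dimensional submodule generated by a fixed vector -/
def S3 (ρ : Representation F P M) (z g : P) (w : M) : Submodule F M :=
  Submodule.span F {ρ g w, ρ z (ρ g w), ρ z (ρ z (ρ g w))}

end

end Cfsg.Agent.H958.SixC
end

-- part: H958/SixC/Conc
section
set_option linter.all false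

/-!
# S5927, S5928: `sixc_two`, concrete definitions (helper958)
-/

set_option autoImplicit false

namespace Cfsg.Agent.H163.E6.SixC

open Cfsg Cfsg.Lie Module Equiv
open Cfsg.Agent.ChevalleyStructure.E6Min.Tables Cfsg.Agent.ChevalleyStructure.E6Min.Basic
  Cfsg.Agent.ChevalleyStructure.E6Min.Adjoint
open Cfsg.Agent.H952.F4 (ev es matRep sh cr tf MaxAlt)

universe u

/-- `(0 1 2 3 4)` -/
def z0 : ↥(alternatingGroup (Fin 6)) := ⟨c[0, 1, 2, 3, 4], Perm.mem_alternatingGroup.2 (by decide +kernel)⟩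
/-- `(0 5)(1 2)` -/
def g10 : ↥(alternatingGroup (Fin 6)) := ⟨c[0, 5] * c[1, 2], Perm.mem_alternatingGroup.2 (by decide +kernel)⟩
/-- `(2 3)(4 5)` -/
def g20 : ↥(alternatingGroup (Fin 6)) := ⟨c[2, 3] * c[4, 5], Perm.mem_alternatingGroup.2 (by decide +kernel)⟩
/-- `(1 4)(2 3)` -/
def t0 : ↥(alternatingGroup (Fin 6)) := ⟨c[1, 4] * c[2, 3], Perm.mem_alternatingGroup.2 (by decide +kernel)⟩
/-- `(0 1 2)` -/
def a0 : ↥(alternatingGroup (Fin 6)) := ⟨c[0, 1, 2], Perm.mem_alternatingGroup.2 (by decide +kernel)⟩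
/-- `(3 4 5)` -/
def b0 : ↥(alternatingGroup (Fin 6)) := ⟨c[3, 4, 5], Perm.mem_alternatingGroup.2 (by decide +kernel)⟩

variable {F : Type u} [Field F]

/-- dimensions of stable subspaces are divisible by 3 -/
def Div3 (φ : ↥(alternatingGroup (Fin 6)) →* ↥(chevE6.group F)) : Prop :=
  ∀ ρ : Representation F ↥(Zgrp F) (I27 → F), (ρ = V F ∨ ρ = V' F) → ∀ W : Submodule F (I27 → F), Stab ρ φ.range W →
    3 ∣ finrank F ↥W

/-- a derivation commuting with the preimage of the alternating group -/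
structure Dr (φ : ↥(alternatingGroup (Fin 6)) →* ↥(chevE6.group F)) (D D' : (I27 → F) →ₗ[F] (I27 → F)) : Prop where
  ne : D ≠ 0
  comm : ∀ g, ad F g ∈ φ.range → ∀ x, V F g (D x) = D (V F g x)
  comm' : ∀ g, ad F g ∈ φ.range → ∀ x, V' F g (D' x) = D' (V' F g x)
  tfD : ∀ x y, tf (D x) y = tf x (D' y)
  crD : ∀ x y, D' (cr x y) = cr (D x) y + cr x (D y)
  crD' : ∀ x y, D (cr x y) = cr (D' x) y + cr x (D' y)
  shD : ∀ x, D' (sh x) = cr (D x) x
  shD' : ∀ x, D (sh x) = cr (D' x) x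
  small : ∀ k : ℕ, D ^ (2 ^ k) ≠ 0 → D ^ (2 ^ (k + 1)) = 0 → 6 < finrank F ↥(LinearMap.range (D ^ (2 ^ k)))

end Cfsg.Agent.H163.E6.SixC
end

-- part: H905/E6T/Base
section
set_option linter.all false
open scoped Cfsg.Agent.FastGrp

/-!
# S5927, characteristic 2: pairs of dual modules with the cubic form, families of vectors (helper905)

* `PD σ σ'` : two representations on `I27 → F`, dual to each other through `tf` and compatible with `sh` (hence `cr`);
* `perp`, `finrank_perp` : orthogonal complement with respect to `tf`;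
* `ts_le` : a totally singular subspace has dimension at most 13;
* `scott2` : Scott's lemma for a pair;
* `Fam`, `Fam2`, `exists_fam`, `exists_fam2` : equivariant families of vectors indexed by points and pairs of points;
* `move` : transitivity of the alternating group.
-/

set_option autoImplicit false
set_option linter.unusedSectionVars false

namespace Cfsg.Agent.H905.E6T

open Cfsg Cfsg.Lie Module Equiv
open Cfsg.Agent.ChevalleyStructure.E6Min.Tables
open Cfsg.Agent.H952.F4 (ev es sh cr tf tr1 u0)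
open Cfsg.Agent.H952.F4.Jord Cfsg.Agent.H163.E6

universe u

variable {F : Type u} [Field F]

/-! ### algebra -/

theorem sh_zero : sh (0 : I27 → F) = 0 := by
  have h := sh_smul (0 : F) (0 : I27 → F)
  simpa using h

theorem cr_zero_left (x : I27 → F) : cr 0 x = 0 := by
  have h := cr_smul_left (0 : F) (0 : I27 → F) x
  simpa using h

theorem cr_zero_right (x : I27 → F) : cr x 0 = 0 := by rw [cr_comm, cr_zero_left]

theorem tf_zero_left (x : I27 → F) : tf 0 x = 0 := by
  have h := tf_smul_left (0 : F) (0 : I27 → F) x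
  simpa using h

theorem tf_zero_right (x : I27 → F) : tf x 0 = 0 := by rw [tf_comm, tf_zero_left]

/-- the trace form as a bilinear form -/
noncomputable def tfB (F : Type u) [Field F] : LinearMap.BilinForm F (I27 → F) :=
  LinearMap.mk₂ F (fun x y => tf x y) tf_add_left tf_smul_left tf_add_right tf_smul_right

theorem tfB_apply (x y : I27 → F) : tfB F x y = tf x y := rfl

/-- `cr` as a bilinear map -/
noncomputable def crB (F : Type u) [Field F] : (I27 → F) →ₗ[F] (I27 → F) →ₗ[F] (I27 → F) :=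
  LinearMap.mk₂ F (fun x y => cr x y) cr_add_left cr_smul_left cr_add_right cr_smul_right

theorem crB_apply (x y : I27 → F) : crB F x y = cr x y := rfl

theorem card_I27 : Fintype.card I27 = 27 := by decide

theorem finrank27 : finrank F (I27 → F) = 27 := by
  rw [finrank_pi, card_I27]

/-- orthogonal complement -/
def perp (M : Submodule F (I27 → F)) : Submodule F (I27 → F) where
  carrier := {y | ∀ x ∈ M, tf x y = 0}
  add_mem' := by
    intro a b ha hb x hx
    rw [tf_add_right, ha x hx, hb x hx, add_zero]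
  zero_mem' := fun x _ => tf_zero_right x
  smul_mem' := by
    intro c a ha x hx
    rw [tf_smul_right, ha x hx, mul_zero]

theorem mem_perp {M : Submodule F (I27 → F)} {y : I27 → F} : y ∈ perp M ↔ ∀ x ∈ M, tf x y = 0 := Iff.rfl

theorem finrank_perp (M : Submodule F (I27 → F)) : finrank F M + finrank F (perp M) = 27 := by
  have h1 : (tfB F).Nondegenerate := by
    constructor
    · intro x hx
      exact tf_nondeg fun y => hx y
    · intro x hx
      exact tf_nondeg fun y => by rw [tf_comm]; exact hx y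
  have h2 : (tfB F).IsRefl := by
    intro x y h
    rw [tfB_apply] at h ⊢
    rw [tf_comm]; exact h
  have h3 : (tfB F).orthogonal M = perp M := by
    ext y
    rw [LinearMap.BilinForm.mem_orthogonal_iff, mem_perp]
    rfl
  have h4 := LinearMap.BilinForm.finrank_orthogonal h1 M
  rw [h3, finrank27] at h4
  have h5 := Submodule.finrank_le M
  rw [finrank27] at h5
  omega

theorem perp_span {ι : Type*} {f : ι → I27 → F} {y : I27 → F} :
    y ∈ perp (Submodule.span F (Set.range f)) ↔ ∀ i, tf (f i) y = 0 := by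
  constructor
  · intro h i
    exact h _ (Submodule.subset_span ⟨i, rfl⟩)
  · intro h x hx
    induction hx using Submodule.span_induction with
    | mem x hx => obtain ⟨i, rfl⟩ := hx; exact h i
    | zero => exact tf_zero_left _
    | add a b _ _ ha hb => rw [tf_add_left, ha, hb, add_zero]
    | smul c a _ ha => rw [tf_smul_left, ha, mul_zero]

/-- totally singular subspaces have dimension at most 13 -/
theorem ts_le {M : Submodule F (I27 → F)} (hM : TS M) : finrank F M ≤ 13 := by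
  have h1 : ∀ m ∈ M, cr (u0 F) m ∈ perp M := by
    intro m hm x hx
    rw [tf_comm, tf_cr, hM.2 m hm x hx, tf_zero_right]
  let f : M →ₗ[F] perp M := ((crB F (u0 F)).domRestrict M).codRestrict (perp M) (fun m => h1 m m.2)
  have hf : Function.Injective f := by
    rw [← LinearMap.ker_eq_bot, eq_bot_iff]
    rintro ⟨m, hm⟩ h
    have h2 : cr (u0 F) m = 0 := congrArg Subtype.val h
    rw [cr_u0, sub_eq_zero] at h2
    have h3 := hM.1 m hm
    rw [← h2, sh_smul, sh_u0] at h3
    have h4 : tr1 m ^ 2 = 0 := by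
      have h5 := congrFun h3 (0, 0, 0)
      simpa [u0] using h5
    have h5 : tr1 m = 0 := by simpa using h4
    rw [h5, zero_smul] at h2
    simp [← h2]
  have h2 := LinearMap.finrank_le_finrank_of_injective hf
  have h3 := finrank_perp M
  omega

/-- a span of pairwise orthogonal singular vectors -/
theorem ts_span {ι : Type*} {f : ι → I27 → F} (h1 : ∀ i, sh (f i) = 0) (h2 : ∀ i j, cr (f i) (f j) = 0) :
    TS (Submodule.span F (Set.range f)) := by
  have h3 : ∀ x ∈ Submodule.span F (Set.range f), ∀ j, cr x (f j) = 0 := by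
    intro x hx j
    induction hx using Submodule.span_induction with
    | mem x hx => obtain ⟨i, rfl⟩ := hx; exact h2 i j
    | zero => exact cr_zero_left _
    | add a b _ _ ha hb => rw [cr_add_left, ha, hb, add_zero]
    | smul c a _ ha => rw [cr_smul_left, ha, smul_zero]
  have h4 : ∀ x ∈ Submodule.span F (Set.range f), ∀ y ∈ Submodule.span F (Set.range f), cr x y = 0 := by
    intro x hx y hy
    induction hy using Submodule.span_induction with
    | mem y hy => obtain ⟨i, rfl⟩ := hy; exact h3 x hx i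
    | zero => exact cr_zero_right _
    | add a b _ _ ha hb => rw [cr_add_right, ha, hb, add_zero]
    | smul c a _ ha => rw [cr_smul_right, ha, smul_zero]
  refine ⟨?_, h4⟩
  intro x hx
  induction hx using Submodule.span_induction with
  | mem x hx => obtain ⟨i, rfl⟩ := hx; exact h1 i
  | zero => exact sh_zero
  | add a b ha' hb' ha hb => rw [sh_add, ha, hb, h4 a ha' b hb', add_zero, add_zero]
  | smul c a _ ha => rw [sh_smul, ha, smul_zero]

/-- polarization of `cr_cr` -/
theorem cr_four (x t y z : I27 → F) :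
    cr (cr x y) (cr t z) + cr (cr t y) (cr x z) + cr (cr x t) (cr y z) =
      tf (cr x t) y • z + tf (cr x t) z • y + tf x (cr y z) • t + tf t (cr y z) • x := by
  have h1 := cr_cr (x + t) y z
  have h2 := cr_cr x y z
  have h3 := cr_cr t y z
  simp only [sh_add, cr_add_left, cr_add_right, tf_add_left] at h1
  have h4 : cr (cr x y) (cr t z) + cr (cr t y) (cr x z) + cr (cr x t) (cr y z) =
      (cr (cr x y) (cr x z) + cr (cr x y) (cr t z) + (cr (cr t y) (cr x z) + cr (cr t y) (cr t z)) +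
        (cr (sh x) (cr y z) + cr (sh t) (cr y z) + cr (cr x t) (cr y z))) -
      (cr (cr x y) (cr x z) + cr (sh x) (cr y z)) - (cr (cr t y) (cr t z) + cr (sh t) (cr y z)) := by abel
  have h5 : cr (cr x y) (cr x z) + cr (cr x y) (cr t z) + (cr (cr t y) (cr x z) + cr (cr t y) (cr t z)) +
        (cr (sh x) (cr y z) + cr (sh t) (cr y z) + cr (cr x t) (cr y z)) =
      (tf (sh x) y + tf (sh t) y + tf (cr x t) y) • z + (tf (sh x) z + tf (sh t) z + tf (cr x t) z) • y +
        (tf x (cr y z) + tf t (cr y z)) • (x + t) := by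
    rw [← h1]; abel
  rw [h4, h2, h3, h5]
  module

/-! ### characteristic 2 -/

theorem add_self2 (h2 : (2 : F) = 0) {M : Type*} [AddCommGroup M] [Module F M] (x : M) : x + x = 0 := by
  rw [← two_smul F x, h2, zero_smul]

theorem cr_self2 (h2 : (2 : F) = 0) (x : I27 → F) : cr x x = 0 := by rw [cr_self, h2, zero_smul]

theorem eq_of_add2 (h2 : (2 : F) = 0) {M : Type*} [AddCommGroup M] [Module F M] {x y : M} (h : x + y = 0) : x = y := by
  have h1 : x = x + (y + y) := by rw [add_self2 h2, add_zero]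
  rw [h1, ← add_assoc, h, zero_add]

/-! ### pairs of modules -/

/-- two dual modules compatible with the cubic form -/
structure PD {G : Type*} [Group G] (σ σ' : Representation F G (I27 → F)) : Prop where
  htf : ∀ g x y, tf (σ g x) (σ' g y) = tf x y
  hsh : ∀ g x, sh (σ g x) = σ' g (sh x)
  hsh' : ∀ g x, sh (σ' g x) = σ g (sh x)

section PDs

variable {G : Type*} [Group G] {σ σ' : Representation F G (I27 → F)}

theorem PD.symm (h : PD σ σ') : PD σ' σ := ⟨fun g x y => by rw [tf_comm, h.htf, tf_comm], h.hsh', h.hsh⟩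

theorem PD.hcr (h : PD σ σ') (g : G) (x y : I27 → F) : cr (σ g x) (σ g y) = σ' g (cr x y) := by
  unfold cr
  rw [← map_add, h.hsh, h.hsh, h.hsh, map_sub, map_sub]

theorem PD.comp (h : PD σ σ') {G' : Type*} [Group G'] (f : G' →* G) :
    PD (MonoidHom.comp σ f) (MonoidHom.comp σ' f) :=
  ⟨fun g x y => h.htf (f g) x y, fun g x => h.hsh (f g) x, fun g x => h.hsh' (f g) x⟩

theorem mul_app (g h : G) (x : I27 → F) : σ (g * h) x = σ g (σ h x) := by rw [map_mul]; rfl

theorem one_app (x : I27 → F) : σ 1 x = x := by rw [map_one]; rfl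

theorem inv_app (g : G) (x : I27 → F) : σ g⁻¹ (σ g x) = x := by rw [← mul_app, inv_mul_cancel, one_app]

theorem app_inv (g : G) (x : I27 → F) : σ g (σ g⁻¹ x) = x := by rw [← mul_app, mul_inv_cancel, one_app]

theorem PD.perp_mem (h : PD σ σ') {M : Submodule F (I27 → F)} (hM : ∀ g, ∀ w ∈ M, σ' g w ∈ M) (g : G)
    {x : I27 → F} (hx : x ∈ perp M) : σ g x ∈ perp M := by
  intro m hm
  rw [← app_inv (σ := σ') g m, tf_comm, h.htf, tf_comm]
  exact hx _ (hM _ _ hm)

theorem PD.dual_inv (h : PD σ σ') : finrank F σ.dual.invariants ≤ finrank F σ'.invariants := by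
  have hT : Function.Injective (tfB F) := by
    rw [← LinearMap.ker_eq_bot, eq_bot_iff]
    intro x hx
    exact tf_nondeg fun y => LinearMap.congr_fun hx y
  have hS : Function.Surjective (tfB F) :=
    (LinearMap.injective_iff_surjective_of_finrank_eq_finrank
      (show finrank F (I27 → F) = finrank F (Dual F (I27 → F)) from (Subspace.dual_finrank_eq).symm)).1 hT
  let E : (I27 → F) ≃ₗ[F] Dual F (I27 → F) := LinearEquiv.ofBijective (tfB F) ⟨hT, hS⟩
  have hE : ∀ y x, E y x = tf y x := fun y x => rfl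
  have hmem : ∀ f ∈ σ.dual.invariants, E.symm f ∈ σ'.invariants := by
    intro f hf
    rw [Representation.mem_invariants] at hf ⊢
    intro g
    apply E.injective
    apply LinearMap.ext
    intro x
    rw [hE, ← app_inv (σ := σ) g x, tf_comm, h.htf, tf_comm, ← hE, E.apply_symm_apply, app_inv]
    have h1 := LinearMap.congr_fun (hf g) x
    rw [Representation.dual_apply] at h1
    exact h1
  let f : σ.dual.invariants →ₗ[F] σ'.invariants :=
    (E.symm.toLinearMap.domRestrict σ.dual.invariants).codRestrict σ'.invariants (fun m => hmem m m.2)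
  have hf : Function.Injective f := by
    intro a b hab
    apply Subtype.ext
    exact E.symm.injective (congrArg Subtype.val hab)
  exact LinearMap.finrank_le_finrank_of_injective hf

/-- Scott's lemma for a pair -/
theorem PD.scott (h : PD σ σ') {x y : G} (hgen : Subgroup.closure {x, y} = ⊤) :
    ev (σ x) 1 + ev (σ y) 1 + ev (σ (x * y)) 1 ≤ 27 + finrank F σ.invariants + finrank F σ'.invariants := by
  have h1 := Cfsg.Agent.H952.F4.Scott.scott σ hgen
  have h2 := h.dual_inv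
  rw [finrank27] at h1
  omega

end PDs

end Cfsg.Agent.H905.E6T
end

-- part: H65/SixA
section
set_option linter.all false
open scoped Cfsg.Agent.FastGrp

/-!
# S5927, S5928, `p = 2`, three-fold cover of `A₆`, BOX A: the cubic form on stable subspaces of dimension three (helper65)

* `cr_ne` : `cr` is not 0 on a stable subspace of dimension 3;
* `ann` : a vector annihilated by a stable subspace of dimension 3 is 0.
-/

set_option autoImplicit false

namespace Cfsg.Agent.H65.SixA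

open Cfsg Cfsg.Lie Module Equiv
open Cfsg.Agent.ChevalleyStructure.E6Min.Tables Cfsg.Agent.ChevalleyStructure.E6Min.Basic
  Cfsg.Agent.ChevalleyStructure.E6Min.Adjoint
open Cfsg.Agent.H952.F4 (ev es matRep sh cr tf MaxAlt)
open Cfsg.Agent.H952.F4.Jord
open Cfsg.Agent.H905.E6T (sh_zero cr_zero_left cr_zero_right tf_zero_left tf_zero_right ts_span)
open Cfsg.Agent.H163.E6 Cfsg.Agent.H163.E6.SixC

universe u

variable {F : Type u} [Field F]

/-- the dual module -/
theorem partner {ρ : Representation F ↥(Zgrp F) (I27 → F)} (hρ : ρ = V F ∨ ρ = V' F) :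
    ∃ ρ' : Representation F ↥(Zgrp F) (I27 → F), (ρ' = V F ∨ ρ' = V' F) ∧
      (∀ g x, sh (ρ g x) = ρ' g (sh x)) ∧ ∀ g x y, cr (ρ g x) (ρ g y) = ρ' g (cr x y) := by
  rcases hρ with rfl | rfl
  · exact ⟨V' F, Or.inr rfl, Act.sh_act, Act.cr_act⟩
  · exact ⟨V F, Or.inl rfl, Act.sh_act', Act.cr_act'⟩

theorem rho_inv {ρ : Representation F ↥(Zgrp F) (I27 → F)} (g : ↥(Zgrp F)) (x : I27 → F) : ρ g (ρ g⁻¹ x) = x := by
  rw [← Module.End.mul_apply, ← map_mul, mul_inv_cancel, map_one, Module.End.one_apply]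

theorem span_stab {φ : ↥(alternatingGroup (Fin 6)) →* ↥(chevE6.group F)}
    {ρ : Representation F ↥(Zgrp F) (I27 → F)} {S : Set (I27 → F)}
    (h : ∀ g, ad F g ∈ φ.range → ∀ s ∈ S, ρ g s ∈ S) : Stab ρ φ.range (Submodule.span F S) := by
  intro g hg w hw
  have h1 : Submodule.span F S ≤ (Submodule.span F S).comap (ρ g) :=
    Submodule.span_le.2 fun s hs => Submodule.subset_span (h g hg s hs)
  exact h1 hw

theorem one_span (x : I27 → F) : finrank F ↥(Submodule.span F {x}) ≤ 1 := by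
  have h1 := finrank_span_le_card (R := F) ({x} : Set (I27 → F))
  simpa using h1

/-- small subspaces: the polynomial identities -/
theorem le_one {U : Submodule F (I27 → F)} {x : I27 → F} {c : F} (hc : c ≠ 0) (h : ∀ y ∈ U, ∃ d : F, c • y = d • x) :
    finrank F ↥U ≤ 1 := by
  have h1 : U ≤ Submodule.span F {x} := by
    intro y hy
    obtain ⟨d, hd⟩ := h y hy
    refine Submodule.mem_span_singleton.2 ⟨c⁻¹ * d, ?_⟩
    rw [mul_smul, ← hd, smul_smul, inv_mul_cancel₀ hc, one_smul]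
  exact (Submodule.finrank_mono h1).trans (one_span x)

variable {φ : ↥(alternatingGroup (Fin 6)) →* ↥(chevE6.group F)} {H : Subgroup ↥(chevE6.group F)}

/-- totally singular stable subspaces are 0 -/
theorem ts_bot (hS : Sit H 6 φ) (hd : Div3 φ) {ρ : Representation F ↥(Zgrp F) (I27 → F)}
    (hρ : ρ = V F ∨ ρ = V' F) {W : Submodule F (I27 → F)} (hW : Stab ρ φ.range W) (ht : TS W) : W = ⊥ := by
  have h1 := H203.E6.finrank_le_six (W := W) fun x hx => (H203.E6.singular_iff x).2 (ht.1 x hx)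
  have h2 := hd ρ hρ W hW
  have h3 : finrank F ↥W = 0 ∨ finrank F ↥W = 3 ∨ finrank F ↥W = 6 := by omega
  rcases h3 with h3 | h3 | h3
  · exact Submodule.finrank_eq_zero.1 h3
  · exact absurd ht (hS.no_three (Or.inl (by norm_num)) ρ hρ W hW h3)
  · exact absurd ht (hS.no_six ρ hρ W hW h3)

/-- the subspace spanned by the `sh w` -/
def shW (W : Submodule F (I27 → F)) : Submodule F (I27 → F) := Submodule.span F (Set.range fun w : ↥W => sh (w : I27 → F))

theorem sh_mem {W : Submodule F (I27 → F)} {w : I27 → F} (hw : w ∈ W) : sh w ∈ shW W :=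
  Submodule.subset_span ⟨⟨w, hw⟩, rfl⟩

theorem stab_shW {ρ ρ' : Representation F ↥(Zgrp F) (I27 → F)} (hsh : ∀ g x, sh (ρ g x) = ρ' g (sh x))
    {W : Submodule F (I27 → F)} (hW : Stab ρ φ.range W) : Stab ρ' φ.range (shW W) := by
  apply span_stab
  rintro g hg _ ⟨w, rfl⟩
  exact ⟨⟨ρ g w, hW g hg w w.2⟩, hsh g w⟩

theorem cr_of_sh {W : Submodule F (I27 → F)} (h : ∀ w ∈ W, sh w = 0) : TS W := by
  refine ⟨h, fun x hx y hy => ?_⟩
  unfold Cfsg.Agent.H952.F4.cr
  rw [h _ (W.add_mem hx hy), h x hx, h y hy, sub_zero, sub_zero]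

theorem shW_ne (hS : Sit H 6 φ) (hd : Div3 φ) {ρ : Representation F ↥(Zgrp F) (I27 → F)}
    (hρ : ρ = V F ∨ ρ = V' F) {W : Submodule F (I27 → F)} (hW : Stab ρ φ.range W) (hW0 : W ≠ ⊥) : shW W ≠ ⊥ := by
  intro h
  refine hW0 (ts_bot hS hd hρ hW (cr_of_sh fun w hw => ?_))
  have h1 := sh_mem hw
  rwa [h, Submodule.mem_bot] at h1

theorem cr_ne (hS : Sit H 6 φ) (hd : Div3 φ) {ρ : Representation F ↥(Zgrp F) (I27 → F)} (hρ : ρ = V F ∨ ρ = V' F)
    {W : Submodule F (I27 → F)} (hW : Stab ρ φ.range W) (h3 : 2 ≤ finrank F ↥W) : ∃ x ∈ W, ∃ y ∈ W, cr x y ≠ 0 := by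
  by_contra hcon
  push Not at hcon
  obtain ⟨ρ', hρ', hsh, hcr⟩ := partner hρ
  have h1 : ∀ x ∈ W, ∀ y ∈ W, cubicT x • y = (-tf (sh x) y) • x := by
    intro x hx y hy
    have h2 := cr_sh_cr x y
    rw [hcon x hx y hy, cr_zero_right] at h2
    rw [neg_smul, eq_neg_iff_add_eq_zero, ← h2]
  have hN : ∀ x ∈ W, cubicT x = 0 := by
    intro x hx
    by_contra h0
    have := le_one h0 fun y hy => ⟨_, h1 x hx y hy⟩
    omega
  have hT : ∀ x ∈ W, ∀ y ∈ W, tf (sh x) y = 0 := by
    intro x hx y hy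
    by_cases h0 : x = 0
    · rw [h0, sh_zero, tf_zero_left]
    · have h2 := h1 x hx y hy
      rw [hN x hx, zero_smul, eq_comm, smul_eq_zero] at h2
      exact neg_eq_zero.1 (h2.resolve_right h0)
  have hts : TS (shW W) := by
    refine ts_span (fun w => ?_) fun w v => ?_
    · rw [sh_sh, hN w w.2, zero_smul]
    · have h2 := sh_cr (w : I27 → F) v
      rw [hcon w w.2 v v.2, sh_zero, zero_add, hT w w.2 v v.2, tf_comm, hT v v.2 w w.2, zero_smul, zero_smul,
        add_zero] at h2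
      exact h2
  refine shW_ne hS hd hρ hW ?_ (ts_bot hS hd hρ' (stab_shW hsh hW) hts)
  rintro rfl
  rw [finrank_bot] at h3
  omega

/-- the annihilator -/
def annih (W : Submodule F (I27 → F)) : Submodule F (I27 → F) where
  carrier := {w | ∀ u ∈ W, cr u w = 0}
  zero_mem' := fun u _ => cr_zero_right u
  add_mem' := fun {a b} ha hb u hu => by rw [cr_add_right, ha u hu, hb u hu, add_zero]
  smul_mem' := fun c a ha u hu => by rw [cr_smul_right, ha u hu, smul_zero]

theorem stab_annih {ρ ρ' : Representation F ↥(Zgrp F) (I27 → F)}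
    (hcr : ∀ g x y, cr (ρ g x) (ρ g y) = ρ' g (cr x y)) {W : Submodule F (I27 → F)} (hW : Stab ρ φ.range W) :
    Stab ρ φ.range (annih W) := by
  intro g hg w hw u hu
  have h1 : ρ g⁻¹ u ∈ W := hW g⁻¹ (by rw [map_inv]; exact inv_mem hg) u hu
  rw [← rho_inv (ρ := ρ) g u, hcr, hw _ h1, map_zero]

theorem annih_bot (hS : Sit H 6 φ) (hd : Div3 φ) {ρ : Representation F ↥(Zgrp F) (I27 → F)} (hρ : ρ = V F ∨ ρ = V' F)
    {W : Submodule F (I27 → F)} (hW : Stab ρ φ.range W) (hW0 : W ≠ ⊥) : annih W = ⊥ := by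
  obtain ⟨ρ', hρ', hsh, hcr⟩ := partner hρ
  have hK := stab_annih hcr hW
  by_contra hK0
  have h3 : 3 ≤ finrank F ↥(annih W) := by
    have h1 := hd ρ hρ _ hK
    have h2 : finrank F ↥(annih W) ≠ 0 := fun h => hK0 (Submodule.finrank_eq_zero.1 h)
    omega
  have h1 : ∀ u ∈ W, ∀ w ∈ annih W, cubicT u • w = (-tf (sh u) w) • u := by
    intro u hu w hw
    have h2 := cr_sh_cr u w
    rw [hw u hu, cr_zero_right] at h2
    rw [neg_smul, eq_neg_iff_add_eq_zero, ← h2]
  have hN : ∀ u ∈ W, cubicT u = 0 := by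
    intro u hu
    by_contra h0
    have := le_one h0 fun y hy => ⟨_, h1 u hu y hy⟩
    omega
  have hT : ∀ u ∈ W, ∀ w ∈ annih W, tf (sh u) w = 0 := by
    intro x hx y hy
    by_cases h0 : x = 0
    · rw [h0, sh_zero, tf_zero_left]
    · have h2 := h1 x hx y hy
      rw [hN x hx, zero_smul, eq_comm, smul_eq_zero] at h2
      exact neg_eq_zero.1 (h2.resolve_right h0)
  have h4 : ∀ u ∈ W, ∀ w ∈ annih W, ∀ y, cr (sh u) (cr w y) = tf (sh u) y • w := by
    intro u hu w hw y
    have h2 := cr_cr u w y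
    rw [hw u hu, cr_zero_left, zero_add, hT u hu w hw, zero_smul, zero_add, ← tf_cr, hw u hu, tf_zero_left, zero_smul,
      add_zero] at h2
    exact h2
  have h5 : ∀ u ∈ W, sh u ≠ 0 → ∀ w ∈ annih W, ∃ c : F, sh w = c • sh u := by
    intro u hu hu0 w hw
    obtain ⟨y, hy⟩ : ∃ y, tf (sh u) y ≠ 0 := by
      by_contra hcon
      push Not at hcon
      exact hu0 (tf_nondeg hcon)
    have h2 := sh_cr (sh u) (cr w y)
    rw [h4 u hu w hw y, sh_sh, hN u hu, zero_smul, cr_zero_left, add_zero, tf_zero_left, zero_smul, zero_add,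
      sh_smul] at h2
    refine ⟨(tf (sh u) y ^ 2)⁻¹ * tf (sh u) (sh (cr w y)), ?_⟩
    rw [mul_smul, ← h2, smul_smul, inv_mul_cancel₀ (pow_ne_zero 2 hy), one_smul]
  -- two independent vectors `sh u`
  have h6 : 3 ≤ finrank F ↥(shW W) := by
    have h1 := hd ρ' hρ' _ (stab_shW hsh hW)
    have h2 : finrank F ↥(shW W) ≠ 0 := fun h => shW_ne hS hd hρ hW hW0 (Submodule.finrank_eq_zero.1 h)
    omega
  obtain ⟨u1, hu1, h7⟩ : ∃ u ∈ W, sh u ≠ 0 := by
    by_contra hcon
    push Not at hcon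
    refine shW_ne hS hd hρ hW hW0 ?_
    rw [shW, Submodule.span_eq_bot]
    rintro _ ⟨w, rfl⟩
    exact hcon w w.2
  obtain ⟨u2, hu2, h8⟩ : ∃ u ∈ W, sh u ∉ Submodule.span F {sh u1} := by
    by_contra hcon
    push Not at hcon
    have h9 : shW W ≤ Submodule.span F {sh u1} := by
      rw [shW, Submodule.span_le]
      rintro _ ⟨w, rfl⟩
      exact hcon w w.2
    have h10 := (Submodule.finrank_mono h9).trans (one_span (sh u1))
    omega
  have h9 : sh u2 ≠ 0 := fun h => h8 (h ▸ Submodule.zero_mem _)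
  have h10 : ∀ w ∈ annih W, sh w = 0 := by
    intro w hw
    obtain ⟨c1, hc1⟩ := h5 u1 hu1 h7 w hw
    obtain ⟨c2, hc2⟩ := h5 u2 hu2 h9 w hw
    by_cases hc : c2 = 0
    · rw [hc2, hc, zero_smul]
    · exfalso
      apply h8
      refine Submodule.mem_span_singleton.2 ⟨c2⁻¹ * c1, ?_⟩
      rw [mul_smul, ← hc1, hc2, smul_smul, inv_mul_cancel₀ hc, one_smul]
  exact hK0 (ts_bot hS hd hρ hK (cr_of_sh h10))

end Cfsg.Agent.H65.SixA

namespace Cfsg.Agent.H163.E6.SixC

open Cfsg Cfsg.Lie Module Equiv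
open Cfsg.Agent.ChevalleyStructure.E6Min.Tables Cfsg.Agent.ChevalleyStructure.E6Min.Basic
  Cfsg.Agent.ChevalleyStructure.E6Min.Adjoint
open Cfsg.Agent.H952.F4 (ev es matRep sh cr tf MaxAlt)

universe u

variable {F : Type u} [Field F] {H : Subgroup ↥(chevE6.group F)} {φ : ↥(alternatingGroup (Fin 6)) →* ↥(chevE6.group F)}

/-- `cr` is not 0 on a stable subspace of dimension three -/
theorem cr_ne (hS : Sit H 6 φ) (hd : Div3 φ) {ρ : Representation F ↥(Zgrp F) (I27 → F)} (hρ : ρ = V F ∨ ρ = V' F)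
    {W : Submodule F (I27 → F)} (hW : Stab ρ φ.range W) (h3 : finrank F ↥W = 3) : ∃ x ∈ W, ∃ y ∈ W, cr x y ≠ 0 :=
  H65.SixA.cr_ne hS hd hρ hW (by omega)

/-- the annihilator of a stable subspace of dimension three is 0 -/
theorem ann (hS : Sit H 6 φ) (hd : Div3 φ) {ρ : Representation F ↥(Zgrp F) (I27 → F)} (hρ : ρ = V F ∨ ρ = V' F)
    {W : Submodule F (I27 → F)} (hW : Stab ρ φ.range W) (h3 : finrank F ↥W = 3) {w : I27 → F}
    (hw : ∀ u ∈ W, cr u w = 0) : w = 0 := by
  have h1 : w ∈ H65.SixA.annih W := hw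
  rwa [H65.SixA.annih_bot hS hd hρ hW (by rintro rfl; rw [finrank_bot] at h3; omega), Submodule.mem_bot] at h1

end Cfsg.Agent.H163.E6.SixC

private theorem dce_51942b71f77a : _root_.True := by
  try have : _root_.True := by simp only [_root_.Cfsg.Agent.H65.SixA.shW.eq_1]
  exact _root_.True.intro
end

-- part: H163/E6/TwSemi_mg
section
set_option linter.all false
open scoped Cfsg.Agent.FastGrp

-- part: H163/E6/TwSemi
section
/-! # `Semi` for `²E₆(q)` (helper163) -/

set_option autoImplicit false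

namespace Cfsg.Agent.H163.E6.Tw

open Cfsg Cfsg.Lie Module
open Cfsg.Agent.ChevalleyStructure
open Cfsg.Agent.H944.E6Tw

universe u

theorem semi {K : Type u} [Field K] [Fintype K] {q : ℕ} (hq : IsPrimePow q) (hK : Fintype.card K = q ^ 2)
    {A : Type*} [Group A] (hA : commutator A = ⊤)
    (ψ : A →* ↥(Cfsg.Lie.twistedE6 K q)) : Semi q ((incl K q).comp ψ) := by
  obtain ⟨φ, hφ, hqq⟩ := TwE6Basic.exists_frob hq hK
  have hB := Bgrp_le_Gs hφ hqq hA ψ
  have hφφ : ∀ t : K, φ (φ t) = t := fun t => by rw [hφ, hφ, hqq]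
  refine ⟨J φ, J_add φ, fun c x => by rw [J_smul, hφ], J_J φ hφφ, sh_J φ, cr_J φ, fun x y => by rw [tf_J, hφ],
    fun x => by rw [cubicT_J, hφ], fun g hg x => ⟨V_J φ (hB hg) x, V'_J φ (hB hg) x⟩⟩

end Cfsg.Agent.H163.E6.Tw
end

-- part: H944/E6Card
section
/-!
# The number of white vectors of the 27-dimensional module (helper944)

* `card_sing` : `#{v ≠ 0 | sh v = 0} ≤ 27 |F|^17`: if `v i ≠ 0`, then the ten coordinates collinear with `i` are determined
  by `v i` and the sixteen others.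
-/

set_option autoImplicit false

namespace Cfsg.Agent.H944.E6Card

open Cfsg Cfsg.Lie
open Cfsg.Agent.H952.F4 (sh)
open Cfsg.Agent.H952.F4.Jord

universe u

/-- the five terms of `sh x e` -/
def tmA (e : I27) (m : Fin 5) : I27 :=
  if m = 0 then (0 - e.1, e.2.2 + 1, e.2.1 + 1) else if m = 1 then (0 - e.1, e.2.2 + 1, e.2.1 + 2) else
    if m = 2 then (1 - e.1, e.2.1, 0) else if m = 3 then (1 - e.1, e.2.1, 1) else (1 - e.1, e.2.1, 2)

def tmB (e : I27) (m : Fin 5) : I27 :=
  if m = 0 then (0 - e.1, e.2.2 + 2, e.2.1 + 2) else if m = 1 then (0 - e.1, e.2.2 + 2, e.2.1 + 1) else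
    if m = 2 then (2 - e.1, 0, e.2.2) else if m = 3 then (2 - e.1, 1, e.2.2) else (2 - e.1, 2, e.2.2)

/-- the coordinate `i` and the sixteen not collinear with it -/
def fr (i k : I27) : Bool :=
  if k.1 = i.1 then k.2.1 = i.2.1 || k.2.2 = i.2.2 else if k.1 = i.1 + 1 then k.2.1 ≠ i.2.2 else k.2.2 ≠ i.2.1

/-- the equation which determines the coordinate `k` -/
def wt (i k : I27) : I27 :=
  if k.1 = i.1 then (0 - i.1, 0 - i.2.2 - k.2.2, 0 - i.2.1 - k.2.1) else
    if k.1 = i.1 + 1 then (1 - i.1, i.2.1, k.2.2) else (0 - i.1 - 1, k.2.1, i.2.2)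

theorem key : ∀ i k : I27, fr i k = false → ∃ m : Fin 5,
    ((tmA (wt i k) m = i ∧ tmB (wt i k) m = k) ∨ (tmA (wt i k) m = k ∧ tmB (wt i k) m = i)) ∧
      ∀ m' : Fin 5, m' ≠ m → fr i (tmA (wt i k) m') = true ∧ fr i (tmB (wt i k) m') = true := by decide +kernel

theorem card_fr : ∀ i : I27, Fintype.card {k : I27 // fr i k = true} = 17 := by decide +kernel

theorem fr_self (i : I27) : fr i i = true := by
  simp [fr]

theorem sh_terms {R : Type u} [CommRing R] (x : I27 → R) (e : I27) :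
    sh x e = ∑ m : Fin 5, (if m = 0 then 1 else -1) * (x (tmA e m) * x (tmB e m)) := by
  obtain ⟨b, i, j⟩ := e
  rw [Fin.sum_univ_five]
  fin_cases b <;> fin_cases i <;> fin_cases j <;>
  · simp only [Fin.zero_eta, Fin.mk_one, Fin.reduceFinMk, sh000, sh001, sh002, sh010, sh011, sh012, sh020, sh021, sh022,
      sh100, sh101, sh102, sh110, sh111, sh112, sh120, sh121, sh122, sh200, sh201, sh202, sh210, sh211, sh212, sh220,
      sh221, sh222, tmA, tmB, Fin.reduceEq, Fin.isValue, if_true, if_false, Fin.reduceAdd, Fin.reduceSub,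
      zero_add, sub_zero, sub_self]
    norm_num
    try ring

section

variable {F : Type u} [Field F]

/-- the coordinates are determined by the seventeen -/
theorem eq_of_fr {i : I27} {v w : I27 → F} (hi : v i ≠ 0) (hv : sh v = 0) (hw : sh w = 0)
    (h : ∀ k, fr i k = true → v k = w k) : v = w := by
  funext k
  by_cases hk : fr i k = true
  · exact h k hk
  · obtain ⟨m, hm, hm'⟩ := key i k (by simpa using hk)
    have hi' : v i = w i := h i (fr_self i)
    have e1 := congrFun hv (wt i k)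
    have e2 := congrFun hw (wt i k)
    rw [sh_terms, ← Finset.add_sum_erase _ _ (Finset.mem_univ m)] at e1 e2
    have e3 : ∑ m' ∈ Finset.univ.erase m, (if m' = 0 then (1 : F) else -1) * (v (tmA (wt i k) m') * v (tmB (wt i k) m')) =
        ∑ m' ∈ Finset.univ.erase m, (if m' = 0 then (1 : F) else -1) * (w (tmA (wt i k) m') * w (tmB (wt i k) m')) := by
      refine Finset.sum_congr rfl fun m' hm'' => ?_
      obtain ⟨a1, a2⟩ := hm' m' (Finset.ne_of_mem_erase hm'')
      rw [h _ a1, h _ a2]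
    rw [e3] at e1
    have e4 : (if m = 0 then (1 : F) else -1) * (v (tmA (wt i k) m) * v (tmB (wt i k) m)) =
        (if m = 0 then (1 : F) else -1) * (w (tmA (wt i k) m) * w (tmB (wt i k) m)) :=
      add_right_cancel (e1.trans e2.symm)
    have e5 : v (tmA (wt i k) m) * v (tmB (wt i k) m) = w (tmA (wt i k) m) * w (tmB (wt i k) m) := by
      refine mul_left_cancel₀ ?_ e4
      split_ifs <;> simp
    have e6 : v i * v k = v i * w k := by
      rcases hm with ⟨a1, a2⟩ | ⟨a1, a2⟩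
      · rw [a1, a2] at e5
        rw [e5, hi']
      · rw [a1, a2] at e5
        rw [mul_comm (v i), e5, ← hi', mul_comm]
    exact mul_left_cancel₀ hi e6

theorem card_coord [Finite F] (i : I27) : Nat.card {v : I27 → F // v i ≠ 0 ∧ sh v = 0} ≤ Nat.card F ^ 17 := by
  have h1 : Nat.card ({k : I27 // fr i k = true} → F) = Nat.card F ^ 17 := by
    rw [Nat.card_fun, Nat.card_eq_fintype_card (α := {k : I27 // fr i k = true}), card_fr]
  rw [← h1]
  refine Nat.card_le_card_of_injective (fun v k => v.1 k.1) ?_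
  intro v w hvw
  apply Subtype.ext
  exact eq_of_fr v.2.1 v.2.2 w.2.2 fun k hk => congrFun hvw ⟨k, hk⟩

end

end Cfsg.Agent.H944.E6Card

namespace Cfsg.Agent.H163.E6.Tw

open Cfsg Cfsg.Lie
open Cfsg.Agent.H952.F4 (sh)

universe u

/-- **the number of white vectors** -/
theorem card_sing {F : Type u} [Field F] [Finite F] :
    Nat.card {v : I27 → F // v ≠ 0 ∧ sh v = 0} ≤ 27 * Nat.card F ^ 17 := by
  classical
  have h1 : Nat.card {v : I27 → F // v ≠ 0 ∧ sh v = 0} ≤ Nat.card (Σ i : I27, {v : I27 → F // v i ≠ 0 ∧ sh v = 0}) := by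
    have hx : ∀ v : {v : I27 → F // v ≠ 0 ∧ sh v = 0}, ∃ i, v.1 i ≠ 0 := fun v => Function.ne_iff.1 v.2.1
    choose f hf using hx
    refine Nat.card_le_card_of_injective (fun v => (⟨f v, v.1, hf v, v.2.2⟩ :
      Σ i : I27, {v : I27 → F // v i ≠ 0 ∧ sh v = 0})) ?_
    intro v w hvw
    apply Subtype.ext
    have := congrArg (fun z : (Σ i : I27, {v : I27 → F // v i ≠ 0 ∧ sh v = 0}) => z.2.1) hvw
    exact this
  refine h1.trans ?_
  rw [Nat.card_sigma]
  calc ∑ i : I27, Nat.card {v : I27 → F // v i ≠ 0 ∧ sh v = 0} ≤ ∑ _i : I27, Nat.card F ^ 17 :=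
        Finset.sum_le_sum fun i _ => Cfsg.Agent.H944.E6Card.card_coord i
    _ = 27 * Nat.card F ^ 17 := by
        rw [Finset.sum_const, smul_eq_mul]
        rfl

end Cfsg.Agent.H163.E6.Tw
end

private theorem dce_d9357700284b : _root_.True := by
  try have : _root_.True := by simp only [_root_.Cfsg.Agent.H944.E6Card.tmB.eq_1]
  try have : _root_.True := by simp only [_root_.Cfsg.Agent.H944.E6Card.fr.eq_1]
  try have : _root_.True := by simp only [_root_.Cfsg.Agent.H944.E6Card.tmA.eq_1]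
  exact _root_.True.intro
end
end
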