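import Mathlib
import Cfsg.Agent.H401.E6Grp_m3
import Cfsg.Agent.H944.E6TwE_m3
import Cfsg.Agent.H944.E6Tab
import Cfsg.Agent.H65.E6Ext_m3
import Cfsg.Agent.H16.E6.Cov
import Cfsg.Agent.H952.F4.KillBase_m3
import Cfsg.Agent.H952.F4.Scott_m3
import Cfsg.Agent.H944.E6TwC
import Cfsg.Agent.H952.F4.Jord
import Cfsg.Agent.H879.E6.Conj_m3
import Cfsg.Agent.FastGrp
import Cfsg.Agent.Prune
set_option linter.all false

section
prune_inst 0x7fbca9f8abbca9dfdfff7e7fa69ecffc19911fffa6dff9437fe061ff0b9f038049c56b8d0de010fe1eb6c01410b87813f97eefffea6bd87ffffd1ff41ffbee4fe5f7b508519c88b40f380ff603f0778e7f3fffffffffffffffffffffffffffbeffbfffffffff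

-- part: H944/E6Tau
section
prune_inst 0x411403544046202000000008613003e22ee00049000088800c0400a440780292209002920b48000040222a0040034002811000000424000000e00040001190080008042043340a10c04009e000080000000000000000000000000000000000000000000000
set_option linter.all false
open scoped Cfsg.Agent.FastGrp

-- part: H944/E6TauTab
section
/-!
# The involution in the centre of the centralizer of an element of order 3 of type `D₄T₂` (helper944)

For an element `x` of order 3 with `ev (V x) 1 = 9` and `ev (L x) 1 = 30` over an algebraically closed field there is an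
involution `τ` acting trivially on the fixed vectors of `x` in `V` and in `L`. The diagonal form of `x` is one of 270
functions `bN n`; for each of them there is exactly one sign vector `sN m`.
-/

set_option autoImplicit false

namespace Cfsg.Agent.H944.E6Tau

open Cfsg.Lie Module
open Cfsg.Agent.ChevalleyStructure
open Cfsg.Agent.ChevalleyStructure.E6Min.Tables Cfsg.Agent.ChevalleyStructure.E6Min.Basic
  Cfsg.Agent.ChevalleyStructure.E6Min.Checks Cfsg.Agent.ChevalleyStructure.E6Min.Adjoint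
  Cfsg.Agent.ChevalleyStructure.E6Min.Forms Cfsg.Agent.ChevalleyStructure.E6Min.Torus Cfsg.Agent.ChevalleyStructure.E6Min.Checks2
open Cfsg.Agent.H882.E6T
open scoped Matrix
open Cfsg.Agent.H944.E6T (exists_diag ev_diag ev_conj)
open Cfsg.Agent.H952.F4 (ev)
open Cfsg.Agent.H163.E6 (V L V_apply)
open Cfsg.Agent.BpExc.TorAll (HAlg)

/-! ### tables -/

/-- the weights modulo 2, six bits each -/
def WMT : ℕ := 569722054257765878073203533891362139964490226785

/-- parities of the numbers of bits -/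
def PAR : ℕ := 7608434000728254870

/-- the sign vector number `m` -/
def sN (m x : ℕ) : ℕ := (PAR >>> (m &&& ((WMT >>> (6 * x)) &&& 63))) % 2

def zer0 (n k : ℕ) : ℕ := Nat.rec 0 (fun x acc => acc + if bN n x = 0 then 1 else 0) k

def okN (n m : ℕ) : Bool := allLt 27 (fun x => !(bN n x == 0) || sN m x == 0) &&
  allLt 72 (fun r => !(bN n (prA r) == bN n (prB r)) || sN m (prA r) == sN m (prB r))

def cok (n k : ℕ) : ℕ := Nat.rec 0 (fun m acc => acc + if okN n m = true then 1 else 0) k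

def eN (m x k : ℕ) : ℕ := Nat.rec 0 (fun i acc => acc + (m / 2 ^ i % 2) * (lbN x i).natAbs) k

private def ST : ℕ := 0x3c3c3c3c3c3c3c3c69966996699669969966996699669966c33cc33cc33cc33c969696969696969666666666666666660ff00ff00ff00ff05a5a5a5a5a5a5a5aaaaaaaaaaaaaaaaa3333cccc3333cccccc3333cccc3333cc00ffff0000ffff0033cccc33cc3333cccccc33333333cccc0000ffffffff0000cc33cc3333cc33cc33333333ccccccccffffffff000000000f0ff0f00f0ff0f00ff0f00ff00f0ff0f00ff00f0ff00ff05aa5a55a5aa5a55a5a5aa5a5a5a55a5aa5a5a5a55a5a5a5aaa5555aaaa5555aaaaaa55555555aaaa55555555aaaaaaaa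

private def sS (x : ℕ) : ℕ := Nat.land (Nat.shiftRight ST (Nat.mul 64 x)) 18446744073709551615

private theorem sS_all : allLt 64 (fun m => allLt 32 fun x => sN m x == ((sS x).testBit m).toNat) = true := by
  decide +kernel

private theorem sS_spec {m x : ℕ} (hm : m < 64) (hx : x < 32) : sN m x = ((sS x).testBit m).toNat :=
  beq_iff_eq.1 (allLt_spec (allLt_spec sS_all m hm) x hx)

private theorem lt32 (a : ℕ) : a &&& 31 < 32 := Nat.lt_succ_of_le Nat.and_le_right

private theorem allLt_of {p : ℕ → Bool} : ∀ {n : ℕ}, (∀ k < n, p k = true) → allLt n p = true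
  | 0, _ => rfl
  | n + 1, h => Bool.and_eq_true_iff.2 ⟨h n n.lt_succ_self, allLt_of fun k hk => h k (Nat.lt_succ_of_lt hk)⟩

private noncomputable def orF (p : ℕ → Bool) (F : ℕ → ℕ) (k : ℕ) : ℕ :=
  Nat.rec (motive := fun _ => ℕ) 0 (fun x acc => Bool.rec (motive := fun _ => ℕ) acc (Nat.lor acc (F x)) (p x)) k

private theorem orF_spec {p q : ℕ → Bool} {F : ℕ → ℕ} {m : ℕ} : ∀ k, (∀ x < k, q x = !(F x).testBit m) →
    allLt k (fun x => !(p x) || q x) = !(orF p F k).testBit m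
  | 0, _ => by rw [show orF p F 0 = 0 from rfl, Nat.zero_testBit]; rfl
  | k + 1, h => by
    show ((!(p k) || q k) && allLt k fun x => !(p x) || q x) =
      !(Bool.rec (motive := fun _ => ℕ) (orF p F k) (orF p F k ||| F k) (p k)).testBit m
    rw [orF_spec k fun x hx => h x (Nat.lt_succ_of_lt hx), h k k.lt_succ_self]
    cases p k
    · rfl
    · show _ = !(orF p F k ||| F k).testBit m
      rw [Nat.testBit_or]
      cases (F k).testBit m <;> cases (orF p F k).testBit m <;> rfl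

private noncomputable def bad (n : ℕ) : ℕ := Nat.lor (orF (fun x => bN n x == 0) sS 27)
  (orF (fun r => bN n (prA r) == bN n (prB r)) (fun r => Nat.xor (sS (prA r)) (sS (prB r))) 72)

private theorem okN_eq (n : ℕ) {m : ℕ} (hm : m < 64) : okN n m = !(bad n).testBit m := by
  show (_ && _) = !Nat.testBit (_ ||| _) m
  rw [Nat.testBit_or, Bool.not_or]
  refine congrArg₂ and (orF_spec 27 fun x hx => ?_) (orF_spec 72 fun r _ => ?_)
  · rw [sS_spec hm (hx.trans (by decide))]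
    cases (sS x).testBit m <;> rfl
  · show _ = !(sS (prA r) ^^^ sS (prB r)).testBit m
    rw [sS_spec hm (x := prA r) (lt32 _), sS_spec hm (x := prB r) (lt32 _), Nat.testBit_xor]
    cases (sS (prA r)).testBit m <;> cases (sS (prB r)).testBit m <;> rfl

private noncomputable def zc (B k : ℕ) : ℕ :=
  Nat.rec (motive := fun _ => ℕ) 0 (fun m acc => Nat.add acc (Nat.sub 1 (Nat.mod (Nat.shiftRight B m) 2))) k

private theorem cok_zc (n : ℕ) : ∀ k ≤ 64, cok n k = zc (bad n) k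
  | 0, _ => rfl
  | k + 1, h => by
    show cok n k + (if okN n k = true then 1 else 0) = zc (bad n) k + (1 - bad n >>> k % 2)
    rw [cok_zc n k (Nat.le_of_succ_le h), okN_eq n h, Nat.shiftRight_eq_div_pow, ← Nat.toNat_testBit]
    cases (bad n).testBit k <;> rfl

private noncomputable def frc (x : ℕ) (k : ℕ → ℕ) : ℕ := Nat.rec (motive := fun _ => ℕ) (k 0) (fun n _ => k (Nat.succ n)) x

private theorem frc_eq (x : ℕ) (k : ℕ → ℕ) : frc x k = k x := by cases x <;> rfl

private def i1 (x : ℕ) : ℕ := 3 * (x / 9) + x / 3 % 3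

private def i2 (x : ℕ) : ℕ := 3 * ((x / 9 + 1) % 3) + x % 3

private noncomputable def bG (n x : ℕ) : ℕ :=
  frc (i1 x) fun a => frc (i2 x) fun b => Nat.mod (Nat.add (wv n a) (Nat.mul 2 (wv n b))) 3

private noncomputable def bF (n x : ℕ) : ℕ := frc x fun y => Nat.add (bG n y) 0

private theorem bN_F : bN = bF := funext fun n => funext fun x => by
  rw [bF, frc_eq, bG, frc_eq, frc_eq]
  rfl

private theorem main_F : allLt 729 (fun n => !(zer0 n 27 == 9) || !(cnt n 72 == 24) || zc (bad n) 64 == 2) = true := by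
  delta zer0 cnt bad
  rewrite [bN_F]
  decide +kernel

/-- exactly one non-trivial sign vector -/
theorem main_all : allLt 729 (fun n => !(cnt n 72 == 24) || !(zer0 n 27 == 9) || cok n 64 == 2) = true :=
  allLt_of fun n hn => by
    rw [cok_zc n 64 le_rfl, Bool.or_comm (!(cnt n 72 == 24))]
    exact allLt_spec main_F n hn

private theorem const_F : allLt 72 (fun r => allLt 27 fun x => (ent r x < 32 : Bool) ||
    Nat.beq (Nat.xor (Nat.xor (Nat.xor (sS x) (sS (srN r x))) (sS (prA r))) (sS (prB r))) 0) = true := by decide +kernel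

/-- the value of a root does not depend on the row -/
theorem const_all : allLt 64 (fun m => allLt 72 fun r => allLt 27 fun x => (ent r x < 32 : Bool) ||
    (sN m x + sN m (srN r x) + sN m (prA r) + sN m (prB r)) % 2 == 0) = true :=
  allLt_of fun m hm => allLt_of fun r hr => allLt_of fun x hx => Bool.or_eq_true_iff.2
    ((Bool.or_eq_true_iff.1 (allLt_spec (allLt_spec const_F r hr) x hx)).imp_right fun h => by
      have h1 : (sS x ^^^ sS (srN r x) ^^^ sS (prA r) ^^^ sS (prB r)).testBit m = false :=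
        (congrArg (Nat.testBit · m) (Nat.eq_of_beq_eq_true h)).trans (Nat.zero_testBit m)
      rw [Nat.testBit_xor, Nat.testBit_xor, Nat.testBit_xor] at h1
      rw [sS_spec hm (hx.trans (by decide)), sS_spec hm (x := srN r x) (lt32 _), sS_spec hm (x := prA r) (lt32 _),
        sS_spec hm (x := prB r) (lt32 _)]
      revert h1
      cases (sS x).testBit m <;> cases (sS (srN r x)).testBit m <;> cases (sS (prA r)).testBit m <;>
        cases (sS (prB r)).testBit m <;> decide)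

theorem sN_exp : allLt 64 (fun m => allLt 27 fun x => sN m x == eN m x 6 % 2) = true := by decide +kernel

theorem nz_all : allLt 64 (fun m => m == 0 || !(allLt 27 fun x => sN m x == 0)) = true := by decide +kernel

private theorem rel2_F : allLt 27 (fun x => allLt 27 fun y => !(relN x y == 2) ||
    Nat.beq (Nat.xor (Nat.xor (sS x) (sS y)) (sS (thN x y))) 0) = true := by decide +kernel

theorem rel2_all : allLt 64 (fun m => allLt 27 fun x => allLt 27 fun y => !(relN x y == 2) ||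
    (sN m x + sN m y + sN m (thN x y)) % 2 == 0) = true :=
  allLt_of fun m hm => allLt_of fun x hx => allLt_of fun y hy => Bool.or_eq_true_iff.2
    ((Bool.or_eq_true_iff.1 (allLt_spec (allLt_spec rel2_F x hx) y hy)).imp_right fun h => by
      have h1 : (sS x ^^^ sS y ^^^ sS (thN x y)).testBit m = false :=
        (congrArg (Nat.testBit · m) (Nat.eq_of_beq_eq_true h)).trans (Nat.zero_testBit m)
      rw [Nat.testBit_xor, Nat.testBit_xor] at h1
      rw [sS_spec hm (hx.trans (by decide)), sS_spec hm (hy.trans (by decide)), sS_spec hm (x := thN x y) (lt32 _)]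
      revert h1
      cases (sS x).testBit m <;> cases (sS y).testBit m <;> cases (sS (thN x y)).testBit m <;> decide)

theorem rep_all : allLt 64 (fun v => !(allLt 64 fun m => !((sN m 9 == v % 2) && (sN m 10 == v / 2 % 2) &&
    (sN m 12 == v / 4 % 2) && (sN m 15 == v / 8 % 2) && (sN m 18 == v / 16 % 2) && (sN m 19 == v / 32 % 2)))) = true := by
  decide +kernel

theorem sN_lt (m x : ℕ) : sN m x < 2 := Nat.mod_lt _ (by norm_num)

theorem allLt_false {n : ℕ} {p : ℕ → Bool} (h : allLt n p = false) : ∃ k < n, p k = false := by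
  by_contra hne
  push Not at hne
  have h2 : allLt n p = true := by
    clear h
    induction n with
    | zero => rfl
    | succ n ih =>
      show (p n && allLt n p) = true
      rw [Bool.and_eq_true]
      refine ⟨?_, ih fun k hk => hne k (by omega)⟩
      have := hne n (by omega)
      simpa using this
  rw [h] at h2
  exact Bool.false_ne_true h2

theorem sN_rel {m : ℕ} (hm : m < 64) {x y : I27} (h : rel x y = 2) :
    (sN m (code x) + sN m (code y) + sN m (code (th x y))) % 2 = 0 := by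
  have h1 := allLt_spec (allLt_spec (allLt_spec rel2_all m hm) _ (code_lt x)) _ (code_lt y)
  have h2 : relN (code x) (code y) = 2 := h
  rw [h2] at h1
  have h3 : code (th x y) = thN (code x) (code y) := by
    have := allLt_spec (allLt_spec th_all _ (code_lt x)) _ (code_lt y)
    rw [h2] at this
    simp only [beq_self_eq_true, Bool.not_true, Bool.false_or, Bool.and_eq_true, Nat.blt_eq] at this
    exact code_dec this.1.1.1.1.1.1.1
  rw [h3]
  simpa using h1

/-- every sign vector is one of the `sN m` -/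
theorem exists_sN {s : I27 → ZMod 2} (hs : ∀ x y, rel x y = 2 → s x + s y + s (th x y) = 0) :
    ∃ m < 64, ∀ x, s x = ((sN m (code x) : ℕ) : ZMod 2) := by
  have l : ∀ x, (s x).val < 2 := fun x => ZMod.val_lt _
  obtain ⟨v, hv⟩ : ∃ v, v = (s (dec 9)).val + 2 * (s (dec 10)).val + 4 * (s (dec 12)).val + 8 * (s (dec 15)).val +
    16 * (s (dec 18)).val + 32 * (s (dec 19)).val := ⟨_, rfl⟩
  have a0 := l (dec 9)
  have a1 := l (dec 10)
  have a2 := l (dec 12)
  have a3 := l (dec 15)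
  have a4 := l (dec 18)
  have a5 := l (dec 19)
  have hv64 : v < 64 := by omega
  have h1 := allLt_spec rep_all v hv64
  rw [Bool.not_eq_true'] at h1
  obtain ⟨m, hm, h2⟩ := allLt_false h1
  rw [Bool.not_eq_false'] at h2
  simp only [Bool.and_eq_true, beq_iff_eq] at h2
  obtain ⟨⟨⟨⟨⟨b0, b1⟩, b2⟩, b3⟩, b4⟩, b5⟩ := h2
  refine ⟨m, hm, ?_⟩
  have hval : ∀ k, ((s k).val : ZMod 2) = s k := fun k => ZMod.natCast_zmod_val _
  have key : ∀ x, ((-1 : ZMod 3)) ^ ((s x).val + sN m (code x)) = 1 := by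
    refine prop_spec (F := ZMod 3) (d := fun x => (-1 : ZMod 3) ^ ((s x).val + sN m (code x))) ?_ _ _ ?_ prop_check
    · intro x y hxy
      have e1 := sN_rel hm hxy
      have e2 : ((s x).val + (s y).val + (s (th x y)).val) % 2 = 0 := by
        have h3 := hs x y hxy
        rw [← hval x, ← hval y, ← hval (th x y)] at h3
        have h4 : (((s x).val + (s y).val + (s (th x y)).val : ℕ) : ZMod 2) = 0 := by push_cast; exact h3
        rw [ZMod.natCast_eq_zero_iff] at h4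
        exact Nat.mod_eq_zero_of_dvd h4
      show (-1 : ZMod 3) ^ _ * (-1) ^ _ * (-1) ^ _ = 1
      rw [← pow_add, ← pow_add]
      have e3 : Even ((s x).val + sN m (code x) + ((s y).val + sN m (code y)) +
          ((s (th x y)).val + sN m (code (th x y)))) := by
        rw [Nat.even_iff]; omega
      exact e3.neg_one_pow
    · intro x hx
      have e1 : Even ((s x).val + sN m (code x)) := by
        rw [Nat.even_iff]
        have hd : x = dec (code x) := (dec_code x).symm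
        have hc : code x = 9 ∨ code x = 10 ∨ code x = 12 ∨ code x = 15 ∨ code x = 18 ∨ code x = 19 := by
          simpa using hx
        rcases hc with hc | hc | hc | hc | hc | hc <;> rw [hc] at hd ⊢ <;> rw [hd] <;> omega
      exact e1.neg_one_pow
  intro x
  have h3 : Even ((s x).val + sN m (code x)) := by
    rcases Nat.even_or_odd ((s x).val + sN m (code x)) with h | h
    · exact h
    · exfalso
      have := key x
      rw [h.neg_one_pow] at this
      exact absurd this (by decide)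
  have h4 := l x
  have h5 := sN_lt m (code x)
  have h6 : (s x).val = sN m (code x) := by
    rw [Nat.even_iff] at h3
    omega
  rw [← h6, hval]

end Cfsg.Agent.H944.E6Tau
end

-- part: H944/E6Tau
section
/-!
# The involution in the centre of the centralizer of an element of order 3 of type `D₄T₂` (helper944)
-/

set_option autoImplicit false

namespace Cfsg.Agent.H944.E6Tau

open Cfsg.Lie Module
open Cfsg.Agent.ChevalleyStructure
open Cfsg.Agent.ChevalleyStructure.E6Min.Tables Cfsg.Agent.ChevalleyStructure.E6Min.Basic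
  Cfsg.Agent.ChevalleyStructure.E6Min.Checks Cfsg.Agent.ChevalleyStructure.E6Min.Adjoint
  Cfsg.Agent.ChevalleyStructure.E6Min.Forms Cfsg.Agent.ChevalleyStructure.E6Min.Torus
open Cfsg.Agent.H882.E6T
open scoped Matrix
open Cfsg.Agent.H944.E6T (exists_diag ev_diag ev_conj)
open Cfsg.Agent.H952.F4 (ev)
open Cfsg.Agent.H163.E6 (V L V_apply)
open Cfsg.Agent.BpExc.TorAll (HAlg)

/-! ### the sign vector -/

theorem sN_zero (x : ℕ) : sN 0 x = 0 := by
  unfold sN
  rw [Nat.zero_and]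
  rfl

theorem okN_zero (n : ℕ) : okN n 0 = true := by
  have h : ∀ (k : ℕ) (p : ℕ → Bool), (∀ i, p i = true) → allLt k p = true := by
    intro k p hp
    induction k with
    | zero => rfl
    | succ k ih =>
      show (p k && allLt k p) = true
      rw [hp, ih]; rfl
  unfold okN
  rw [Bool.and_eq_true]
  refine ⟨h _ _ fun i => ?_, h _ _ fun i => ?_⟩
  · rw [sN_zero]; simp
  · rw [sN_zero, sN_zero]; simp

theorem cok_eq (n : ℕ) : ∀ k, cok n k = ((Finset.range k).filter fun m => okN n m = true).card := by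
  intro k
  induction k with
  | zero => rfl
  | succ k ih =>
    show cok n k + _ = _
    rw [ih, Finset.range_add_one, Finset.filter_insert]
    split_ifs with h
    · rw [Finset.card_insert_of_notMem (by simp)]
    · rfl

theorem zer0_eq (n : ℕ) : ∀ k, zer0 n k = ((Finset.range k).filter fun x => bN n x = 0).card := by
  intro k
  induction k with
  | zero => rfl
  | succ k ih =>
    show zer0 n k + _ = _
    rw [ih, Finset.range_add_one, Finset.filter_insert]
    split_ifs with h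
    · rw [Finset.card_insert_of_notMem (by simp)]
    · rfl

theorem exists_sign {n : ℕ} (hn : n < 729) (h24 : cnt n 72 = 24) (h9 : zer0 n 27 = 9) :
    ∃ m0 < 64, m0 ≠ 0 ∧ okN n m0 = true ∧ ∀ m < 64, okN n m = true → m = 0 ∨ m = m0 := by
  have h := allLt_spec main_all n hn
  rw [h24, h9] at h
  simp only [beq_self_eq_true, Bool.not_true, Bool.false_or, beq_iff_eq] at h
  rw [cok_eq] at h
  obtain ⟨a, b, hab, he⟩ := Finset.card_eq_two.1 h
  have h0 : (0 : ℕ) ∈ ((Finset.range 64).filter fun m => okN n m = true) := by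
    rw [Finset.mem_filter, Finset.mem_range]
    exact ⟨by norm_num, okN_zero n⟩
  have hm : ∀ m, m ∈ ({a, b} : Finset ℕ) ↔ m < 64 ∧ okN n m = true := by
    intro m
    rw [← he, Finset.mem_filter, Finset.mem_range]
  rw [he] at h0
  simp only [Finset.mem_insert, Finset.mem_singleton] at h0 hm
  rcases h0 with h0 | h0
  · obtain ⟨h1, h2⟩ := (hm b).1 (Or.inr rfl)
    refine ⟨b, h1, fun hb => hab (h0.symm.trans hb.symm), h2, fun m hm1 hm2 => ?_⟩
    rw [h0]
    exact (hm m).2 ⟨hm1, hm2⟩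
  · obtain ⟨h1, h2⟩ := (hm a).1 (Or.inl rfl)
    refine ⟨a, h1, fun hb => hab (hb.trans h0), h2, fun m hm1 hm2 => ?_⟩
    rw [h0]
    exact ((hm m).2 ⟨hm1, hm2⟩).symm

theorem pr_eq {r : ℕ} (hr : r < 72) : prA r = rowN r ∧ prB r = srN r (rowN r) := by
  have h := allLt_spec pr_all r hr
  simpa only [Bool.and_eq_true, beq_iff_eq] using h

theorem rowN_lt {r : ℕ} (hr : r < 72) : rowN r < 27 := by
  have := allLt_spec row_all r hr
  simp only [Bool.and_eq_true, Nat.blt_eq] at this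
  exact this.1.1.1

theorem code_row {r : ℕ} (hr : r < 72) : code (row r) = rowN r := code_dec (rowN_lt hr)

theorem code_sr_row {r : ℕ} (hr : r < 72) : code (sr r (row r)) = srN r (rowN r) := by
  rw [code_sr hr, code_row hr]

/-- uniqueness of the sign vector -/
theorem sign_unique {n m0 : ℕ} (hu : ∀ m < 64, okN n m = true → m = 0 ∨ m = m0) {s : I27 → ZMod 2}
    (h1 : ∀ x y, rel x y = 2 → s x + s y + s (th x y) = 0) (h2 : ∀ x, bN n (code x) = 0 → s x = 0)
    (h3 : ∀ r < 72, bN n (rowN r) = bN n (srN r (rowN r)) → s (sr r (row r)) = s (row r)) (h4 : ∃ x, s x ≠ 0) :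
    ∀ x, s x = ((sN m0 (code x) : ℕ) : ZMod 2) := by
  obtain ⟨m, hm, hs⟩ := exists_sN h1
  have hok : okN n m = true := by
    by_contra hne
    rw [Bool.not_eq_true] at hne
    unfold okN at hne
    rw [Bool.and_eq_false_iff] at hne
    have hcast : ∀ a b : ℕ, a < 2 → b < 2 → ((a : ℕ) : ZMod 2) = ((b : ℕ) : ZMod 2) → a = b := by
      intro a b ha hb hab
      have := congrArg ZMod.val hab
      rwa [ZMod.val_natCast_of_lt ha, ZMod.val_natCast_of_lt hb] at this
    rcases hne with h | h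
    · obtain ⟨k, hk, h5⟩ := allLt_false h
      rw [Bool.or_eq_false_iff] at h5
      obtain ⟨h6, h7⟩ := h5
      rw [Bool.not_eq_false', beq_iff_eq] at h6
      have h8 := h2 (dec k) (by rw [code_dec hk]; exact h6)
      rw [hs, code_dec hk] at h8
      have h9 := hcast _ 0 (sN_lt m k) (by norm_num) (by rw [h8]; rfl)
      rw [h9] at h7
      exact Bool.false_ne_true h7.symm
    · obtain ⟨r, hr, h5⟩ := allLt_false h
      rw [Bool.or_eq_false_iff] at h5
      obtain ⟨h6, h7⟩ := h5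
      rw [Bool.not_eq_false', beq_iff_eq, (pr_eq hr).1, (pr_eq hr).2] at h6
      have h8 := h3 r hr h6
      rw [hs, hs, code_sr_row hr, code_row hr] at h8
      have h9 := hcast _ _ (sN_lt _ _) (sN_lt _ _) h8
      rw [(pr_eq hr).1, (pr_eq hr).2, h9, beq_self_eq_true] at h7
      exact Bool.false_ne_true h7.symm
  rcases hu m hm hok with rfl | rfl
  · obtain ⟨x, hx⟩ := h4
    exact absurd (by rw [hs, sN_zero]; rfl) hx
  · exact hs

/-! ### the element -/

section elem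

variable (K : Type*) [Field K]

/-- the product of the elements `h_i(-1)` over the bits of `m` -/
noncomputable def tP (m : ℕ) : ℕ → GL I27 K
  | 0 => 1
  | k + 1 => tP m k * (if m / 2 ^ k % 2 = 1 then hU k (-1) else 1)

theorem tP_mem (m k : ℕ) : tP K m k ∈ Zgrp K := by
  induction k with
  | zero => exact one_mem _
  | succ k ih =>
    refine mul_mem ih ?_
    split_ifs
    · exact hU_mem _ _
    · exact one_mem _

theorem neg_one_zpow' (z : ℤ) : (-1 : K) ^ z = (-1) ^ z.natAbs := by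
  rcases Int.natAbs_eq z with h | h
  · conv_lhs => rw [h]
    rw [zpow_natCast]
  · conv_lhs => rw [h]
    rw [zpow_neg, zpow_natCast, ← inv_pow, inv_neg_one]

theorem coe_tP (m : ℕ) : ∀ k ≤ 6, ((tP K m k : GL I27 K) : Matrix I27 I27 K) =
    Matrix.diagonal fun x => (-1 : K) ^ eN m (code x) k := by
  intro k
  induction k with
  | zero =>
    intro _
    show (1 : Matrix I27 I27 K) = _
    rw [← Matrix.diagonal_one]
    congr 1
    funext x
    exact (pow_zero (-1 : K)).symm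
  | succ k ih =>
    intro hk
    show ((tP K m k * _ : GL I27 K) : Matrix I27 I27 K) = _
    rw [Units.val_mul, ih (by omega)]
    have h1 : (-1 : K) ≠ 0 := by simp
    have h2 : (((if m / 2 ^ k % 2 = 1 then hU k (-1) else 1 : GL I27 K)) : Matrix I27 I27 K) =
        Matrix.diagonal fun x => (-1 : K) ^ ((m / 2 ^ k % 2) * (lbN (code x) k).natAbs) := by
      split_ifs with h
      · rw [coe_hU (by omega) h1]
        congr 1
        funext x
        rw [h, one_mul, ← neg_one_zpow']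
        rfl
      · have h3 : m / 2 ^ k % 2 = 0 := by omega
        rw [h3, Units.val_one, ← Matrix.diagonal_one]
        congr 1
        funext x
        rw [zero_mul, pow_zero]
    rw [h2, Matrix.diagonal_mul_diagonal]
    congr 1
    funext x
    rw [← pow_add]
    rfl

/-- the involution -/
noncomputable def tau (m : ℕ) : ↥(Zgrp K) := ⟨tP K m 6, tP_mem K m 6⟩

variable {K}

theorem coe_tau {m : ℕ} (hm : m < 64) : ((tau K m : GL I27 K) : Matrix I27 I27 K) =
    Matrix.diagonal fun x => (-1 : K) ^ sN m (code x) := by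
  show ((tP K m 6 : GL I27 K) : Matrix I27 I27 K) = _
  rw [coe_tP K m 6 le_rfl]
  congr 1
  funext x
  have h := allLt_spec (allLt_spec sN_exp m hm) _ (code_lt x)
  rw [beq_iff_eq] at h
  rw [h, ← neg_one_pow_eq_pow_mod_two]

/-- the diagonal of the image in the adjoint group -/
def dT (K : Type*) [Field K] (m : ℕ) : chevE6.Idx → K := Sum.elim (fun _ => 1) fun r : Fin chevE6.nroots =>
  (-1 : K) ^ (sN m (rowN r.val) + sN m (srN r.val (rowN r.val)))

theorem P_tau {m : ℕ} (hm : m < 64) :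
    E6Min.Adjoint.P (Matrix.diagonal fun x => (-1 : K) ^ sN m (code x)) (Matrix.diagonal (dT K m)) := by
  intro col
  have hc : (fun row => Matrix.diagonal (dT K m) row col) = fun row => if row = col then dT K m col else 0 := by
    funext row
    rw [Matrix.diagonal_apply]
    by_cases h : row = col
    · rw [if_pos h, if_pos h, h]
    · rw [if_neg h, if_neg h]
  rw [hc]
  have hcomb : comb (fun row => if row = col then dT K m col else 0) = dT K m col • B K col := by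
    rw [comb_def, Finset.sum_eq_single col]
    · rw [if_pos rfl]
    · intro u _ hu; rw [if_neg hu, zero_smul]
    · intro h; exact absurd (Finset.mem_univ _) h
  rw [hcomb]
  ext a a'
  rw [Matrix.diagonal_mul, smul_mul_assoc, Matrix.smul_apply, Matrix.mul_diagonal, smul_eq_mul]
  rcases col with i | r
  · show (-1 : K) ^ sN m (code a) * Hm K i.val a a' = 1 * (Hm K i.val a a' * (-1 : K) ^ sN m (code a'))
    rw [Hm_apply]
    by_cases h : a = a'
    · subst h
      ring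
    · rw [if_neg h]; ring
  · show (-1 : K) ^ sN m (code a) * Nm K r.val a a' = (-1 : K) ^ _ * (Nm K r.val a a' * (-1 : K) ^ sN m (code a'))
    rw [Nm_apply]
    by_cases h : a' = sr r.val a
    · rw [if_pos h]
      by_cases hs : sg r.val a = 0
      · rw [hs]; simp
      · subst h
        have hr := lt72 r
        have h0 := allLt_spec (allLt_spec (allLt_spec const_all m hm) _ hr) _ (code_lt a)
        have hent : ¬ ent r.val (code a) < 32 := fun h => hs (sg_of_lt h)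
        simp only [Bool.or_eq_true, decide_eq_true_eq, beq_iff_eq] at h0
        have h1 := h0.resolve_left hent
        rw [(pr_eq hr).1, (pr_eq hr).2] at h1
        have e : (-1 : K) ^ sN m (code a) = (-1 : K) ^ (sN m (rowN r.val) + sN m (srN r.val (rowN r.val))) *
            (-1 : K) ^ sN m (code (sr r.val a)) := by
          rw [← pow_add, code_sr hr, neg_one_pow_eq_pow_mod_two (R := K) (sN m (code a)),
            neg_one_pow_eq_pow_mod_two (R := K) (_ + _)]
          congr 1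
          omega
        rw [e]
        ring
    · rw [if_neg h]; ring

theorem L_tau {m : ℕ} (hm : m < 64) {X : chevE6.Idx → K}
    (hX : ∀ r : Fin chevE6.nroots, X (Sum.inr r) ≠ 0 → sN m (rowN r.val) = sN m (srN r.val (rowN r.val))) :
    L K (tau K m) X = X := by
  have h1 : (((ad K (tau K m) : ↥(chevE6.group K)) : GL chevE6.Idx K) : Matrix chevE6.Idx chevE6.Idx K) =
      Matrix.diagonal (dT K m) := by
    refine P_unique (g := (tau K m : GL I27 K)) (ad_P (tau K m)) ?_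
    rw [coe_tau hm]
    exact P_tau hm
  show (((ad K (tau K m) : ↥(chevE6.group K)) : GL chevE6.Idx K) : Matrix chevE6.Idx chevE6.Idx K) *ᵥ X = X
  rw [h1]
  funext i
  rw [Matrix.mulVec_diagonal]
  rcases i with i | r
  · show 1 * X _ = _
    rw [one_mul]
  · show (-1 : K) ^ (sN m (rowN r.val) + sN m (srN r.val (rowN r.val))) * X (Sum.inr r) = X (Sum.inr r)
    by_cases h : X (Sum.inr r) = 0
    · rw [h, mul_zero]
    · rw [← hX r h, ← two_mul, pow_mul, neg_one_sq, one_pow, one_mul]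

end elem

/-! ### the diagonal form of `x` -/

/-- elements of order 3 of type `(9 | 30)` are conjugate to diagonal ones -/
theorem exists_b {K : Type*} [Field K] [IsAlgClosed K] (p : ℕ) [Fact p.Prime] [CharP K p] (hK : HAlg p K)
    (hp : p ≠ 3) {ζ : K} (hζ : IsPrimitiveRoot ζ 3) {x : ↥(Zgrp K)} (hx : x ^ 3 = 1) (h9 : ev (V K x) 1 = 9)
    (h30 : ev (L K x) 1 = 30) : ∃ (g : ↥(Zgrp K)) (n : ℕ), n < 729 ∧ cnt n 72 = 24 ∧ zer0 n 27 = 9 ∧
      (((g * x * g⁻¹ : ↥(Zgrp K)) : GL I27 K) : Matrix I27 I27 K) =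
        Matrix.diagonal (fun m : I27 => ζ ^ bN n (code m)) ∧
      ∀ X, L K (g * x * g⁻¹) X = X → ∀ r : Fin chevE6.nroots, X (Sum.inr r) ≠ 0 →
        bN n (rowN r.val) = bN n (srN r.val (rowN r.val)) := by
  classical
  have hcop : (3 : ℕ).Coprime p := (Nat.coprime_primes Nat.prime_three Fact.out).2 (Ne.symm hp)
  obtain ⟨g, d, hdV, hdL, hdm, htri⟩ := exists_diag p hK (by norm_num : (3 : ℕ) ≠ 0) hcop hx
  have hζ0 : ζ ≠ 0 := hζ.ne_zero (by norm_num)
  let z : Kˣ := Units.mk0 ζ hζ0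
  have hzu : IsPrimitiveRoot z 3 := by
    rw [← IsPrimitiveRoot.coe_units_iff]
    exact hζ
  have hex : ∀ i, ∃ a < 3, z ^ a = d i := by
    intro i
    have h1 : ((d i : Kˣ) : K) ^ 3 = 1 := by
      rw [← Units.val_pow_eq_pow_val, hdm i, Units.val_one]
    obtain ⟨a, ha', ha⟩ := hζ.eq_pow_of_pow_eq_one h1
    refine ⟨a, ha', Units.ext ?_⟩
    rw [Units.val_pow_eq_pow_val, ← ha]
    rfl
  choose a ha' ha using hex
  let b : I27 → ZMod 3 := fun i => (a i : ZMod 3)
  have hzp : ∀ n : ℤ, z ^ n = z ^ ((n : ZMod 3).val) := by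
    intro n
    rw [← zpow_natCast, ZMod.val_intCast]
    have h1 : z ^ ((3 : ℕ) : ℤ) = 1 := by rw [zpow_natCast]; exact hzu.pow_eq_one
    conv_lhs => rw [← Int.emod_add_mul_ediv n (3 : ℕ)]
    rw [zpow_add, zpow_mul, h1, one_zpow, mul_one]
  have hzinj : ∀ {c c' : ZMod 3}, z ^ c.val = z ^ c'.val → c = c' := by
    intro c c' h
    exact ZMod.val_injective 3 (hzu.pow_inj (ZMod.val_lt _) (ZMod.val_lt _) h)
  have hdb : ∀ i, d i = z ^ (b i).val := by
    intro i
    rw [← ha i, ← zpow_natCast, hzp]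
    simp [b]
  have hb : ∀ x y, rel x y = 2 → b x + b y + b (th x y) = 0 := by
    intro x y hxy
    have h1 := htri x y hxy
    apply hzinj
    rw [hdb, hdb, hdb, ← pow_add, ← pow_add] at h1
    rw [ZMod.val_zero, pow_zero, ← h1, ← zpow_natCast z ((b x).val + (b y).val + (b (th x y)).val), hzp]
    congr 2
    push_cast
    simp
  obtain ⟨n, hn, hbn⟩ := exists_num hb
  obtain ⟨D, hD⟩ : ∃ D : chevE6.Idx → K, D = Sum.elim (fun _ => (1 : K))
      (fun r : Fin chevE6.nroots => (((d (row r.val) * (d (sr r.val (row r.val)))⁻¹ : Kˣ)) : K)) := ⟨_, rfl⟩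
  have hL : L K (g * x * g⁻¹) = Matrix.toLin' (Matrix.diagonal D) := by
    rw [hD, ← hdL]
    rfl
  have hiff : ∀ r : Fin chevE6.nroots, D (Sum.inr r) = 1 ↔ bN n (rowN r) = bN n (srN r (rowN r)) := by
    intro r
    have hr := lt72 r
    rw [hD]
    change (((d (row r.val) * (d (sr r.val (row r.val)))⁻¹ : Kˣ)) : K) = 1 ↔ _
    have h2 : bN n (rowN r) = (b (row r.val)).val := by rw [hbn, code_row hr]
    have h3 : bN n (srN r (rowN r)) = (b (sr r.val (row r.val))).val := by rw [hbn, code_sr_row hr]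
    rw [h2, h3]
    constructor
    · intro h
      have h4 : d (row r.val) = d (sr r.val (row r.val)) := by
        have h5 : d (row r.val) * (d (sr r.val (row r.val)))⁻¹ = 1 := Units.ext h
        exact mul_inv_eq_one.1 h5
      rw [hdb, hdb] at h4
      exact congrArg ZMod.val (hzinj h4)
    · intro h
      have h4 : d (row r.val) = d (sr r.val (row r.val)) := by rw [hdb, hdb, h]
      rw [h4, mul_inv_cancel, Units.val_one]
  -- the number of roots
  have hcard : cnt n 72 = 24 := by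
    have h1 : ev (L K (g * x * g⁻¹)) 1 = 30 := by rw [ev_conj]; exact h30
    rw [ev_diag _ 1 hL, Finset.card_filter, Fintype.sum_sum_type] at h1
    have e1 : (∑ i : Fin chevE6.rank, if D (Sum.inl i) = 1 then 1 else 0) = 6 := by
      rw [hD]
      show (∑ i : Fin 6, if (1 : K) = 1 then 1 else 0) = 6
      simp
    have e2 : (∑ r : Fin chevE6.nroots, if D (Sum.inr r) = 1 then 1 else 0) = cnt n 72 := by
      rw [cnt_eq n 72 le_rfl]
      show (∑ r : Fin 72, _) = _
      rw [← Fin.sum_univ_eq_sum_range (fun r => if bN n (rowN r) = bN n (srN r (rowN r)) then 1 else 0) 72]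
      refine Finset.sum_congr rfl fun r _ => ?_
      by_cases h : bN n (rowN r) = bN n (srN r (rowN r))
      · rw [if_pos h, if_pos ((hiff r).2 h)]
      · rw [if_neg h, if_neg (fun h' => h ((hiff r).1 h'))]
    rw [e1, e2] at h1
    omega
  have hzero : zer0 n 27 = 9 := by
    have h1 : ev (V K (g * x * g⁻¹)) 1 = 9 := by rw [ev_conj]; exact h9
    have hV : V K (g * x * g⁻¹) = Matrix.toLin' (Matrix.diagonal fun i => (d i : K)) := by
      rw [← hdV]
      rfl
    rw [ev_diag _ 1 hV] at h1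
    rw [zer0_eq, ← h1]
    symm
    refine Finset.card_bij (fun i _ => code i) ?_ ?_ ?_
    · intro i hi
      rw [Finset.mem_filter] at hi ⊢
      refine ⟨Finset.mem_range.2 (code_lt i), ?_⟩
      have h2 : d i = z ^ (0 : ZMod 3).val := by
        rw [ZMod.val_zero, pow_zero]
        exact Units.ext hi.2
      rw [hdb] at h2
      rw [← hbn, hzinj h2, ZMod.val_zero]
    · intro i _ j _ hij
      rw [← dec_code i, ← dec_code j, hij]
    · intro k hk
      rw [Finset.mem_filter, Finset.mem_range] at hk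
      refine ⟨dec k, ?_, code_dec hk.1⟩
      rw [Finset.mem_filter]
      refine ⟨Finset.mem_univ _, ?_⟩
      rw [hdb, hbn, code_dec hk.1, hk.2, pow_zero, Units.val_one]
  refine ⟨g, n, hn, hcard, hzero, ?_, ?_⟩
  · rw [hdV]
    congr 1
    funext m
    rw [hdb, hbn, Units.val_pow_eq_pow_val]
    rfl
  · intro X hX r hXr
    rw [← hiff]
    rw [hL, Matrix.toLin'_apply] at hX
    have h1 := congrFun hX (Sum.inr r)
    rw [Matrix.mulVec_diagonal] at h1
    exact mul_right_cancel₀ hXr (h1.trans (one_mul _).symm)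

/-! ### the four properties -/

section six

/-- `τ` is an involution acting trivially on the fixed vectors of `x` -/
def Six {K : Type*} [Field K] (x τ : ↥(Zgrp K)) : Prop :=
  τ * τ = 1 ∧ τ ≠ 1 ∧ (∀ X, L K x X = X → L K τ X = X) ∧ ∀ v, V K x v = v → V K τ v = v

variable {K : Type*} [Field K]

theorem fix_conj {G M : Type*} [Group G] [AddCommGroup M] [Module K M] (ρ : Representation K G M) {x τ : G}
    (h : ∀ X, ρ x X = X → ρ τ X = X) (g : G) (X : M) (hX : ρ (g * x * g⁻¹) X = X) : ρ (g * τ * g⁻¹) X = X := by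
  have h1 : ρ x (ρ g⁻¹ X) = ρ g⁻¹ X := by
    rw [← Module.End.mul_apply, ← map_mul]
    conv_rhs => rw [← hX]
    rw [← Module.End.mul_apply, ← map_mul]
    congr 2
    group
  have h2 := h _ h1
  have h3 : ρ g (ρ τ (ρ g⁻¹ X)) = X := by
    rw [h2, ← Module.End.mul_apply, ← map_mul, mul_inv_cancel, map_one, Module.End.one_apply]
  rw [map_mul, map_mul, Module.End.mul_apply, Module.End.mul_apply, h3]

theorem Six.conj {x τ : ↥(Zgrp K)} (h : Six x τ) (g : ↥(Zgrp K)) : Six (g * x * g⁻¹) (g * τ * g⁻¹) := by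
  obtain ⟨h1, h2, h3, h4⟩ := h
  refine ⟨?_, ?_, fix_conj (L K) h3 g, fix_conj (V K) h4 g⟩
  · have : g * τ * g⁻¹ * (g * τ * g⁻¹) = g * (τ * τ) * g⁻¹ := by group
    rw [this, h1, mul_one, mul_inv_cancel]
  · intro h0
    apply h2
    have : τ = g⁻¹ * (g * τ * g⁻¹) * g := by group
    rw [this, h0, mul_one, inv_mul_cancel]

/-- the six properties -/
theorem five_of_six {x τ : ↥(Zgrp K)} (h : Six x τ) (hu : ∀ τ', Six x τ' → τ' = τ) :
    ∃ τ : ↥(Zgrp K), τ * τ = 1 ∧ τ ≠ 1 ∧ (∀ g, g * x = x * g → g * τ = τ * g) ∧ (∀ X, L K x X = X → L K τ X = X) ∧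
      (∀ v, V K x v = v → V K τ v = v) ∧ ∀ τ' : ↥(Zgrp K), τ' * τ' = 1 → τ' ≠ 1 → (∀ X, L K x X = X → L K τ' X = X) →
        (∀ v, V K x v = v → V K τ' v = v) → τ' = τ := by
  refine ⟨τ, h.1, h.2.1, ?_, h.2.2.1, h.2.2.2, fun τ' h1 h2 h3 h4 => hu τ' ⟨h1, h2, h3, h4⟩⟩
  intro g hg
  have h1 := h.conj g
  have h2 : g * x * g⁻¹ = x := by rw [hg, mul_inv_cancel_right]
  rw [h2] at h1
  have h3 := hu _ h1
  conv_rhs => rw [← h3]
  group

end six

/-! ### existence over algebraically closed fields -/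

/-- the statement of the uniqueness part -/
def UniqDiag (K : Type*) [Field K] (ζ : K) : Prop :=
  ∀ (b : I27 → ZMod 3) (y τ : ↥(Zgrp K)),
    ((y : GL I27 K) : Matrix I27 I27 K) = Matrix.diagonal (fun m => ζ ^ (b m).val) → Six y τ →
    ∃ s : I27 → ZMod 2, ((τ : GL I27 K) : Matrix I27 I27 K) = Matrix.diagonal (fun m => (-1) ^ (s m).val) ∧
      (∀ m m', rel m m' = 2 → s m + s m' + s (th m m') = 0) ∧ (∀ m, b m = 0 → s m = 0) ∧
      (∀ r < 72, b (row r) = b (sr r (row r)) → ∀ m, sg r m ≠ 0 → s (sr r m) = s m) ∧ ∃ m, s m ≠ 0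

theorem closed_of {K : Type*} [Field K] [IsAlgClosed K] (p : ℕ) [Fact p.Prime] [CharP K p] (hK : HAlg p K)
    (hp : 5 ≤ p) (hU : ∀ ζ : K, IsPrimitiveRoot ζ 3 → UniqDiag K ζ) {x : ↥(Zgrp K)} (hx : x ^ 3 = 1)
    (h9 : ev (V K x) 1 = 9) (h30 : ev (L K x) 1 = 30) : ∃ τ, Six x τ ∧ ∀ τ', Six x τ' → τ' = τ := by
  have h3 : NeZero (3 : K) := by
    refine ⟨fun h0 => ?_⟩
    have h1 : ((3 : ℕ) : K) = 0 := by exact_mod_cast h0
    rw [CharP.cast_eq_zero_iff K p] at h1
    have := Nat.le_of_dvd (by norm_num) h1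
    omega
  have h2 : (2 : K) ≠ 0 := by
    intro h0
    have h1 : ((2 : ℕ) : K) = 0 := by exact_mod_cast h0
    rw [CharP.cast_eq_zero_iff K p] at h1
    have := Nat.le_of_dvd (by norm_num) h1
    omega
  have hneg : (-1 : K) ≠ 1 := by
    intro h0
    apply h2
    linear_combination -h0
  obtain ⟨ζ, hζ⟩ : ∃ ζ : K, IsPrimitiveRoot ζ 3 := by
    have : NeZero ((3 : ℕ) : K) := by exact_mod_cast h3
    exact HasEnoughRootsOfUnity.exists_primitiveRoot K 3
  obtain ⟨g, n, hn, h24, h0, hy, hL⟩ := exists_b p hK (by omega) hζ hx h9 h30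
  obtain ⟨m0, hm0, hne, hok, hu⟩ := exists_sign hn h24 h0
  obtain ⟨y, hyd⟩ : ∃ y, y = g * x * g⁻¹ := ⟨_, rfl⟩
  rw [← hyd] at hy hL
  unfold okN at hok
  rw [Bool.and_eq_true] at hok
  have hok1 : ∀ k < 27, bN n k = 0 → sN m0 k = 0 := by
    intro k hk h
    have := allLt_spec hok.1 k hk
    rw [h] at this
    simpa using this
  have hok2 : ∀ r < 72, bN n (rowN r) = bN n (srN r (rowN r)) → sN m0 (rowN r) = sN m0 (srN r (rowN r)) := by
    intro r hr h
    have := allLt_spec hok.2 r hr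
    rw [(pr_eq hr).1, (pr_eq hr).2, h] at this
    simpa using this
  have hτ : Six y (tau K m0) := by
    refine ⟨?_, ?_, ?_, ?_⟩
    · apply Subtype.ext
      apply Units.ext
      rw [Subgroup.coe_mul, Units.val_mul, coe_tau hm0, Matrix.diagonal_mul_diagonal, Subgroup.coe_one, Units.val_one,
        ← Matrix.diagonal_one]
      congr 1
      funext i
      rw [← pow_add, ← two_mul, pow_mul, neg_one_sq, one_pow]
    · intro h1
      have h4 := allLt_spec nz_all m0 hm0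
      rw [Bool.or_eq_true, beq_iff_eq] at h4
      have h5 := h4.resolve_left hne
      rw [Bool.not_eq_true'] at h5
      obtain ⟨k, hk, h6⟩ := allLt_false h5
      have h7 : sN m0 k = 1 := by
        have := sN_lt m0 k
        rw [beq_eq_false_iff_ne] at h6
        omega
      have h8 := congrArg (fun z : ↥(Zgrp K) => ((z : GL I27 K) : Matrix I27 I27 K) (dec k) (dec k)) h1
      simp only [coe_tau hm0, Matrix.diagonal_apply_eq, code_dec hk, h7, pow_one, Subgroup.coe_one, Units.val_one,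
        Matrix.one_apply_eq] at h8
      exact hneg h8
    · intro X hX
      exact L_tau hm0 fun r hr => hok2 _ (lt72 r) (hL X hX r hr)
    · intro v hv
      rw [V_apply, coe_tau hm0]
      rw [V_apply, hy] at hv
      funext i
      have h1 := congrFun hv i
      rw [Matrix.mulVec_diagonal] at h1 ⊢
      by_cases hvi : v i = 0
      · rw [hvi, mul_zero]
      · have h4 : ζ ^ bN n (code i) = 1 := mul_right_cancel₀ hvi (h1.trans (one_mul _).symm)
        have h5 : bN n (code i) < 3 := Nat.mod_lt _ (by norm_num)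
        have h6 : bN n (code i) = 0 := by
          rw [hζ.pow_eq_one_iff_dvd] at h4
          exact Nat.eq_zero_of_dvd_of_lt h4 h5
        rw [hok1 _ (code_lt i) h6, pow_zero, one_mul]
  have huy : ∀ τ', Six y τ' → τ' = tau K m0 := by
    intro τ' h
    have hb : ∀ m : I27, (((bN n (code m) : ℕ) : ZMod 3)).val = bN n (code m) := fun m =>
      ZMod.val_natCast_of_lt (Nat.mod_lt _ (by norm_num))
    obtain ⟨s, s1, s2, s3, s4, s5⟩ := hU ζ hζ (fun m => ((bN n (code m) : ℕ) : ZMod 3)) y τ'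
      (by rw [hy]; congr 1; funext m; rw [hb]) h
    have hs := sign_unique hu s2 (fun x hx => s3 x (by rw [hx]; rfl))
      (fun r hr h => s4 r hr (by rw [code_row hr, code_sr_row hr, h]) (row r) (row_spec hr).1) s5
    apply Subtype.ext
    apply Units.ext
    rw [s1, coe_tau hm0]
    congr 1
    funext i
    rw [hs i, ZMod.val_natCast_of_lt (sN_lt _ _)]
  refine ⟨g⁻¹ * tau K m0 * g, ?_, ?_⟩
  · have h1 := hτ.conj g⁻¹
    have h4 : g⁻¹ * y * g⁻¹⁻¹ = x := by rw [hyd]; group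
    rw [h4, inv_inv] at h1
    exact h1
  · intro τ' h
    have h1 := h.conj g
    rw [← hyd] at h1
    rw [← huy _ h1]
    group

end Cfsg.Agent.H944.E6Tau
end
end

-- part: H944/E6CenMax
section
prune_inst 0x4314041400500020000000084010002602000000000400800000000040100a0400000000000000010000000000000000811000000024000000e000000000101000000000000400108020098000080000000000000000000000000000000000000000000000
set_option linter.all false
open scoped Cfsg.Agent.FastGrp

-- part: H944/E6CenA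
section
/-!
# The Lie algebra of `E₆` has no fixed vectors in characteristic different from 3 (helper944)

* `scalar_of_comm` : a matrix which commutes with the twelve simple root matrices is scalar;
* `eq_zero_of_comm` : an element of the Lie algebra which commutes with them is zero (`3 ≠ 0`);
-/

set_option autoImplicit false

namespace Cfsg.Agent.H944.E6CenA

open Cfsg Cfsg.Lie Module
open scoped Matrix
open Cfsg.Agent.ChevalleyStructure
open Cfsg.Agent.ChevalleyStructure.E6Min.Tables Cfsg.Agent.ChevalleyStructure.E6Min.Basic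
  Cfsg.Agent.ChevalleyStructure.E6Min.Adjoint
open Cfsg.Agent.H163.E6
open Cfsg.Agent.H952.F4 (ev sh cr tf MaxAlt)
open Cfsg.Agent.H952.F4.Jord

universe u

theorem sep_all : ∀ x y : I27, x ≠ y → ∃ r ∈ [46, 25, 39, 32, 56, 36, 15, 35, 42, 37, 29, 34],
    ind r x ≠ ind r y := by decide +kernel

/-- distance from the first coordinate -/
def rk (x : I27) : ℕ :=
  [0, 1, 2, 1, 2, 3, 2, 3, 4, 8, 5, 4, 7, 4, 3, 6, 5, 4, 8, 7, 6, 5, 4, 5, 4, 3, 4].getD (code x) 0

theorem rk_all : ∀ x : I27, x = (0, 0, 0) ∨ ∃ r ∈ [46, 25, 39, 32, 56, 36, 15, 35, 42, 37, 29, 34],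
    sg r x ≠ 0 ∧ rk (sr r x) < rk x := by decide +kernel

theorem tw_lt {r : ℕ} (hr : r ∈ [46, 25, 39, 32, 56, 36, 15, 35, 42, 37, 29, 34]) :
    r < 72 ∧ 71 - r ∈ [46, 25, 39, 32, 56, 36, 15, 35, 42, 37, 29, 34] := by
  revert r
  decide

theorem ind_cases (r : ℕ) (x : I27) : ind r x = 0 ∨ ind r x = 1 := by
  by_cases h : sg r x = 0
  · exact Or.inl (ind_of_eq h)
  · exact Or.inr (ind_of_ne h)

variable {F : Type u} [Field F]

/-- a matrix commuting with the twelve simple root matrices is scalar -/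
theorem scalar_of_comm {M : Matrix I27 I27 F}
    (h : ∀ r ∈ [46, 25, 39, 32, 56, 36, 15, 35, 42, 37, 29, 34], M * Nm F r = Nm F r * M) : ∃ c : F, M = c • 1 := by
  have hd : ∀ x y, x ≠ y → M x y = 0 := by
    intro x y hxy
    obtain ⟨r, hr, hne⟩ := sep_all x y hxy
    obtain ⟨h1, h2⟩ := tw_lt hr
    have e1 : M * (Nm F r * Nm F (71 - r)) = (Nm F r * Nm F (71 - r)) * M := by
      rw [← mul_assoc, h r hr, mul_assoc, h _ h2, mul_assoc]
    rw [Nm_mul_opp h1] at e1
    have e2 := congrFun (congrFun e1 x) y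
    rw [Matrix.mul_diagonal, Matrix.diagonal_mul] at e2
    rcases ind_cases r x with h3 | h3 <;> rcases ind_cases r y with h4 | h4 <;> rw [h3, h4] at e2 <;>
      first
        | exact absurd (h3.trans h4.symm) hne
        | simpa using e2
        | simpa using e2.symm
  refine ⟨M (0, 0, 0) (0, 0, 0), ?_⟩
  have hm : ∀ n, ∀ x, rk x ≤ n → M x x = M (0, 0, 0) (0, 0, 0) := by
    intro n
    induction n with
    | zero =>
      intro x hx
      rcases rk_all x with rfl | ⟨r, -, -, h2⟩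
      · rfl
      · omega
    | succ n ih =>
      intro x hx
      rcases rk_all x with rfl | ⟨r, hr, h1, h2⟩
      · rfl
      · rw [← ih (sr r x) (by omega)]
        have e2 := congrFun (congrFun (h r hr) x) (sr r x)
        have e3 : (M * Nm F r) x (sr r x) = M x x * ((sg r x : ℤ) : F) := by
          rw [Matrix.mul_apply, Finset.sum_eq_single x]
          · rw [Nm_apply, if_pos rfl]
          · intro y _ hy
            rw [hd x y (Ne.symm hy), zero_mul]
          · intro h; exact absurd (Finset.mem_univ _) h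
        rw [e3, Nm_mul_apply, mul_comm] at e2
        have h5 : ((sg r x : ℤ) : F) ≠ 0 := by
          have := (row_opp (tw_lt hr).1 h1).2.1
          intro h0
          have h6 := congrArg (fun z : ℤ => (z : F)) this
          simp only [Int.cast_mul, h0, zero_mul, Int.cast_one] at h6
          exact zero_ne_one h6
        exact mul_left_cancel₀ h5 e2
  ext x y
  by_cases hxy : x = y
  · subst hxy
    rw [hm _ x le_rfl, Matrix.smul_apply, Matrix.one_apply_eq, smul_eq_mul, mul_one]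
  · rw [hd x y hxy, Matrix.smul_apply, Matrix.one_apply_ne hxy, smul_zero]

/-- an element of the Lie algebra commuting with the twelve simple root matrices is zero -/
theorem eq_zero_of_comm (h3 : (3 : F) ≠ 0) {X : chevE6.Idx → F}
    (h : ∀ r ∈ [46, 25, 39, 32, 56, 36, 15, 35, 42, 37, 29, 34], comb X * Nm F r = Nm F r * comb X) : X = 0 := by
  obtain ⟨c, hc⟩ := scalar_of_comm h
  have hD : ∀ x, Der.D X x = c • x := by
    intro x
    rw [Der.D_apply, hc, Matrix.smul_mulVec, Matrix.one_mulVec]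
  have h1 := Der.tf_sh_D X (Cfsg.Agent.H952.F4.u0 F)
  rw [hD, tf_smul_right, tf_sh_self, N_u0, mul_one] at h1
  have hc0 : c = 0 := (mul_eq_zero.1 h1).resolve_right h3
  apply comb_injective
  rw [hc, hc0, zero_smul, comb_def]
  simp only [_root_.Pi.zero_apply, _root_.zero_smul, _root_.Finset.sum_const_zero]

end Cfsg.Agent.H944.E6CenA
end

-- part: H944/E6TwCen
section
/-!
# The property `Cen` for maximal subgroups of `²E₆(q)` (helper944, after helper927)
-/

set_option autoImplicit false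

namespace Cfsg.Agent.H944.E6Tw

open Cfsg Cfsg.Lie Module
open scoped Matrix commutatorElement
open Cfsg.Agent.ChevalleyStructure
open Cfsg.Agent.ChevalleyStructure.E6Min.Tables Cfsg.Agent.ChevalleyStructure.E6Min.Basic
  Cfsg.Agent.ChevalleyStructure.E6Min.Adjoint
open Cfsg.Agent.H163.E6
open Cfsg.Agent.H952.F4 (ev sh cr tf MaxAlt)
open Cfsg.Agent.H952.F4.Jord

universe u

/-- a perfect group stabilizing a line fixes it pointwise -/
theorem fix_of_perfect {F P W : Type*} [Field F] [Group P] (hP : commutator P = ⊤) [AddCommGroup W] [Module F W]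
    (ρ : Representation F P W) {X : W} (hX : X ≠ 0) (h : ∀ g, ∃ c : F, ρ g X = c • X) (g : P) : ρ g X = X := by
  choose c hc using h
  have hmul : ∀ a b, c (a * b) = c a * c b := fun a b => by
    have h1 : ρ (a * b) X = (c a * c b) • X := by
      rw [map_mul, Module.End.mul_apply, hc b, map_smul, hc a, smul_smul, mul_comm]
    rw [hc] at h1
    exact smul_left_injective F hX h1
  have hone : c 1 = 1 := by
    have h1 : ρ 1 X = (1 : F) • X := by rw [map_one, one_smul]; rfl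
    rw [hc] at h1
    exact smul_left_injective F hX h1
  have h2 : g ∈ commutator P := by rw [hP]; trivial
  have h3 := Abelianization.commutator_subset_ker
    (MonoidHom.toHomUnits ({ toFun := c, map_one' := hone, map_mul' := hmul } : P →* F)) h2
  rw [MonoidHom.mem_ker] at h3
  have h4 : c g = 1 := congrArg Units.val h3
  rw [hc, h4, one_smul]

section

variable {F : Type u} [Field F] {φ : F →+* F} {q : ℕ}

/-- `V (σ g) J = J V' g` -/
theorem V_sE_J (g : ↥(Zgrp F)) (x : I27 → F) : V F (sE φ g) (J φ x) = J φ (V' F g x) := by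
  rw [V_apply, V'_apply, J_eq, J_eq, coe_sE, sZ_apply, Units.val_mul, Units.val_mul, coe_QU, ← gm_gU,
    Matrix.mulVec_mulVec, mul_assoc, QM_sq, mul_one, ← Matrix.mulVec_mulVec, gm_mulVec]

/-- fixed vectors of `V'` -/
theorem V'_fix_of (h3 : (3 : F) ≠ 0) {x τ : ↥(Zgrp F)} (hx : x ^ 3 = 1) (hc : τ * x = x * τ)
    (h : ∀ v, V F x v = v → V F τ v = v) (v : I27 → F) (hv : V' F x v = v) : V' F τ v = v := by
  rw [← sub_eq_zero]
  apply tf_nondeg
  intro u
  have e1 : ∀ g : ↥(Zgrp F), ∀ a b, tf (V' F g a) b = tf a (V F g⁻¹ b) := by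
    intro g a b
    have := Act.tf_act g (V F g⁻¹ b) a
    rw [Act.V_apply_inv] at this
    rw [tf_comm, this, tf_comm]
  have e2 : ∀ b, tf v b = tf v (V F x b) := by
    intro b
    have := e1 x v (V F x b)
    rw [hv, ← Module.End.mul_apply, ← map_mul, inv_mul_cancel, map_one, Module.End.one_apply] at this
    exact this.symm
  have e3 : ∀ b, 3 * tf v b = tf v (b + V F x b + V F x (V F x b)) := by
    intro b
    rw [tf_add_right, tf_add_right, ← e2, ← e2, ← e2]
    ring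
  have e4 : ∀ b, V F x (b + V F x b + V F x (V F x b)) = b + V F x b + V F x (V F x b) := by
    intro b
    have h5 : V F x (V F x (V F x b)) = b := by
      rw [← Module.End.mul_apply, ← Module.End.mul_apply, ← map_mul, ← map_mul]
      rw [show x * x * x = 1 from by rw [← hx, pow_succ, pow_two], map_one, Module.End.one_apply]
    rw [map_add, map_add, h5]
    abel
  have hc' : τ⁻¹ * x = x * τ⁻¹ := by
    rw [inv_mul_eq_iff_eq_mul, ← mul_assoc, hc, mul_inv_cancel_right]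
  have e5 : ∀ b, V F x (V F τ⁻¹ b) = V F τ⁻¹ (V F x b) := by
    intro b
    rw [← Module.End.mul_apply, ← Module.End.mul_apply, ← map_mul, ← map_mul, hc']
  have e6 : ∀ b, V F x b = b → V F τ⁻¹ b = b := by
    intro b hb
    have h6 := h b hb
    have h7 : V F τ⁻¹ (V F τ b) = b := by
      rw [← Module.End.mul_apply, ← map_mul, inv_mul_cancel, map_one, Module.End.one_apply]
    rwa [h6] at h7
  have e7 : 3 * tf v (V F τ⁻¹ u) = 3 * tf v u := by
    rw [e3, e3, e5, e5, ← map_add, ← map_add, e6 _ (e4 u)]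
  have e8 := mul_left_cancel₀ h3 e7
  rw [sub_eq_add_neg, tf_add_left, ← neg_one_smul F, tf_smul_left, e1, e8]
  ring

/-- independence of the functions `t`, `t ^ q`, `t ^ (q + 1)` -/
theorem indep [Fintype F] (hq : 2 ≤ q) (hF : Fintype.card F = q ^ 2) {a b c : F}
    (h : ∀ t : F, t * a + t ^ q * b + t ^ (q + 1) * c = 0) : a = 0 ∧ b = 0 := by
  obtain ⟨P, hP⟩ : ∃ P : Polynomial F, P = Polynomial.C a * Polynomial.X + Polynomial.C b * Polynomial.X ^ q +
    Polynomial.C c * Polynomial.X ^ (q + 1) := ⟨_, rfl⟩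
  have h0 : P = 0 := by
    refine Polynomial.eq_zero_of_natDegree_lt_card_of_eval_eq_zero' P Finset.univ ?_ ?_
    · intro t _
      rw [hP]
      simp only [Polynomial.eval_add, Polynomial.eval_mul, Polynomial.eval_C, Polynomial.eval_X, Polynomial.eval_pow]
      linear_combination h t
    · rw [Finset.card_univ, hF]
      have h1 : P.natDegree ≤ q + 1 := by
        rw [hP]
        compute_degree!
      have h2 : q + 1 < q ^ 2 := by nlinarith only [hq]
      omega
  have h1 := congrArg (fun Q : Polynomial F => Q.coeff 1) h0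
  have h2 := congrArg (fun Q : Polynomial F => Q.coeff q) h0
  rw [hP] at h1 h2
  have e1 : (1 : ℕ) ≠ q := by omega
  have e2 : (1 : ℕ) ≠ q + 1 := by omega
  have e3 : q ≠ 1 := by omega
  have e4 : q ≠ q + 1 := by omega
  have e5 : q ≠ 0 := by omega
  simp only [Polynomial.coeff_add, Polynomial.coeff_C_mul, Polynomial.coeff_X_one, Polynomial.coeff_X_pow, if_neg e1,
    if_neg e2, mul_zero, add_zero, mul_one, Polynomial.coeff_zero] at h1
  simp only [Polynomial.coeff_add, Polynomial.coeff_C_mul, Polynomial.coeff_X_of_ne_one e3, Polynomial.coeff_X_pow,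
    if_neg e4, mul_zero, add_zero, zero_add, mul_one, Polynomial.coeff_zero, if_true] at h2
  exact ⟨h1, h2⟩

/-- **no vector of the Lie algebra is fixed by `Gs φ`** -/
theorem L_eq_zero_of_Gs [Fintype F] (h3 : (3 : F) ≠ 0) (hq : IsPrimePow q) (hF : Fintype.card F = q ^ 2)
    (hφ : ∀ t, φ t = t ^ q) (hqq : ∀ t : F, (t ^ q) ^ q = t) {X : chevE6.Idx → F}
    (h : ∀ g ∈ Gs φ, L F g X = X) : X = 0 := by
  have hcom : ∀ g ∈ Gs φ, ((g : GL I27 F) : Matrix I27 I27 F) * comb X = comb X * ((g : GL I27 F) : Matrix I27 I27 F) := by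
    intro g hg
    have h1 := comb_mul_of (ad_P g) X
    have h2 : (fun row => ∑ col, (((ad F g : chevE6.group F) : GL chevE6.Idx F) : Matrix chevE6.Idx chevE6.Idx F) row col *
        X col) = X := h g hg
    rw [h1, h2]
  apply E6CenA.eq_zero_of_comm h3
  have hsingle : ∀ r ∈ [46, 25, 39, 32], comb X * Nm F r = Nm F r * comb X := by
    intro r hr
    have hr72 : r < 72 := by
      simp only [List.mem_cons, List.not_mem_nil, or_false] at hr
      omega
    have h1 := hcom _ (zZ_mem_Gs hφ (one_pow q) hr)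
    have h2 : (((zZ r (1 : F) : ↥(Zgrp F)) : GL I27 F) : Matrix I27 I27 F) = 1 + Nm F r := by
      show ((zU r (1 : F) : GL I27 F) : Matrix I27 I27 F) = _
      rw [coe_zU hr72, zM_def, one_smul]
    rw [h2, add_mul, mul_add, one_mul, mul_one] at h1
    exact (add_left_cancel h1).symm
  have hpair : ∀ rs ∈ [(56, 36), (15, 35), (42, 37), (29, 34)], comb X * Nm F rs.1 = Nm F rs.1 * comb X ∧
      comb X * Nm F rs.2 = Nm F rs.2 * comb X := by
    intro rs hr
    have hr72 : rs.1 < 72 ∧ rs.2 < 72 := by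
      simp only [List.mem_cons, List.not_mem_nil, or_false] at hr
      rcases hr with rfl | rfl | rfl | rfl <;> decide
    have key : ∀ x y, (comb X * Nm F rs.1 - Nm F rs.1 * comb X) x y = 0 ∧
        (comb X * Nm F rs.2 - Nm F rs.2 * comb X) x y = 0 := by
      intro x y
      refine indep (c := (comb X * (Nm F rs.1 * Nm F rs.2) - (Nm F rs.1 * Nm F rs.2) * comb X) x y) hq.two_le hF ?_
      intro t
      have h1 := hcom _ (zZ_pair_mem_Gs hφ hqq t hr)
      have h2 : (((zZ rs.1 t * zZ rs.2 (t ^ q) : ↥(Zgrp F)) : GL I27 F) : Matrix I27 I27 F) =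
          (1 + t • Nm F rs.1) * (1 + t ^ q • Nm F rs.2) := by
        show ((zU rs.1 t * zU rs.2 (t ^ q) : GL I27 F) : Matrix I27 I27 F) = _
        rw [Units.val_mul, coe_zU hr72.1, coe_zU hr72.2, zM_def, zM_def]
      rw [h2] at h1
      have h3 := congrFun (congrFun h1 x) y
      have h4 : ((1 + t • Nm F rs.1) * (1 + t ^ q • Nm F rs.2)) * comb X - comb X * ((1 + t • Nm F rs.1) *
          (1 + t ^ q • Nm F rs.2)) = -(t • (comb X * Nm F rs.1 - Nm F rs.1 * comb X) +
          t ^ q • (comb X * Nm F rs.2 - Nm F rs.2 * comb X) + t ^ (q + 1) • (comb X * (Nm F rs.1 * Nm F rs.2) -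
          (Nm F rs.1 * Nm F rs.2) * comb X)) := by
        simp only [add_mul, mul_add, one_mul, mul_one, smul_mul_assoc, mul_smul_comm, smul_add, smul_smul, smul_sub,
          pow_succ]
        abel
      have h5 := congrFun (congrFun h4 x) y
      rw [Matrix.sub_apply, h3, sub_self, Matrix.neg_apply, Matrix.add_apply, Matrix.add_apply, Matrix.smul_apply,
        Matrix.smul_apply, Matrix.smul_apply, smul_eq_mul, smul_eq_mul, smul_eq_mul] at h5
      exact (neg_eq_zero.1 h5.symm)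
    constructor
    · rw [← sub_eq_zero]
      ext x y
      exact (key x y).1
    · rw [← sub_eq_zero]
      ext x y
      exact (key x y).2
  intro r hr
  simp only [List.mem_cons, List.not_mem_nil, or_false] at hr
  rcases hr with rfl | rfl | rfl | rfl | rfl | rfl | rfl | rfl | rfl | rfl | rfl | rfl
  · exact hsingle _ (by simp)
  · exact hsingle _ (by simp)
  · exact hsingle _ (by simp)
  · exact hsingle _ (by simp)
  · exact (hpair (56, 36) (by simp)).1
  · exact (hpair (56, 36) (by simp)).2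
  · exact (hpair (15, 35) (by simp)).1
  · exact (hpair (15, 35) (by simp)).2
  · exact (hpair (42, 37) (by simp)).1
  · exact (hpair (42, 37) (by simp)).2
  · exact (hpair (29, 34) (by simp)).1
  · exact (hpair (29, 34) (by simp)).2

/-! ### the semilinear map of the Lie algebra -/

variable (φ) in
/-- the semilinear map of the Lie algebra -/
noncomputable def JL (X : chevE6.Idx → F) : chevE6.Idx → F :=
  ((GraphSymm.symmE6.P F : GL chevE6.Idx F) : Matrix chevE6.Idx chevE6.Idx F) *ᵥ fun i => φ (X i)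

theorem L_sE_JL (g : ↥(Zgrp F)) (X : chevE6.Idx → F) : L F (sE φ g) (JL φ X) = JL φ (L F g X) := by
  show (((ad F (sE φ g) : ↥(chevE6.group F)) : GL chevE6.Idx F) : Matrix chevE6.Idx chevE6.Idx F) *ᵥ JL φ X =
    JL φ ((((ad F g : ↥(chevE6.group F)) : GL chevE6.Idx F) : Matrix chevE6.Idx chevE6.Idx F) *ᵥ X)
  rw [ad_sE]
  set A : GL chevE6.Idx F := ((ad F g : ↥(chevE6.group F)) : GL chevE6.Idx F)
  set P : GL chevE6.Idx F := GraphSymm.symmE6.P F with hP
  have h1 : TwE6Basic.sg φ A = P * Matrix.GeneralLinearGroup.map φ A * P⁻¹ := rfl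
  unfold JL
  rw [← hP, h1, Matrix.mulVec_mulVec, ← Units.val_mul, inv_mul_cancel_right, Units.val_mul, ← Matrix.mulVec_mulVec]
  congr 1
  funext i
  rw [Matrix.mulVec, Matrix.mulVec, dotProduct, dotProduct, map_sum]
  refine Finset.sum_congr rfl fun j _ => ?_
  rw [map_mul]
  rfl

theorem JL_injective : Function.Injective (JL (F := F) φ) := by
  intro X Y h
  set P : GL chevE6.Idx F := GraphSymm.symmE6.P F with hP
  have h1 : ((P⁻¹ : GL chevE6.Idx F) : Matrix chevE6.Idx chevE6.Idx F) *ᵥ JL φ X =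
      ((P⁻¹ : GL chevE6.Idx F) : Matrix chevE6.Idx chevE6.Idx F) *ᵥ JL φ Y := by rw [h]
  unfold JL at h1
  rw [← hP, Matrix.mulVec_mulVec, Matrix.mulVec_mulVec, ← Units.val_mul, inv_mul_cancel, Units.val_one, Matrix.one_mulVec,
    Matrix.one_mulVec] at h1
  funext i
  exact φ.injective (congrFun h1 i)

theorem JL_surjective (hφφ : ∀ t : F, φ (φ t) = t) : Function.Surjective (JL (F := F) φ) := by
  intro Y
  set P : GL chevE6.Idx F := GraphSymm.symmE6.P F with hP
  refine ⟨fun i => φ ((((P⁻¹ : GL chevE6.Idx F) : Matrix chevE6.Idx chevE6.Idx F) *ᵥ Y) i), ?_⟩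
  unfold JL
  rw [← hP]
  simp only [hφφ]
  rw [Matrix.mulVec_mulVec, ← Units.val_mul, mul_inv_cancel, Units.val_one, Matrix.one_mulVec]

end

end Cfsg.Agent.H944.E6Tw

namespace Cfsg.Agent.H163.E6.Tw

open Cfsg Cfsg.Lie Module
open scoped Matrix commutatorElement
open Cfsg.Agent.ChevalleyStructure
open Cfsg.Agent.ChevalleyStructure.E6Min.Tables Cfsg.Agent.ChevalleyStructure.E6Min.Basic
  Cfsg.Agent.ChevalleyStructure.E6Min.Adjoint
open Cfsg.Agent.H163.E6
open Cfsg.Agent.H952.F4 (ev sh cr tf MaxAlt)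
open Cfsg.Agent.H952.F4.Jord
open Cfsg.Agent.H944.E6Tw

universe u

variable {K : Type u} [Field K] [Fintype K] {q : ℕ} {H : Subgroup ↥(Cfsg.Lie.twistedE6 K q)} {n : ℕ}
  {ψ : ↥(alternatingGroup (Fin n)) →* ↥(Cfsg.Lie.twistedE6 K q)}

/-- **the property `Cen` for `²E₆(q)`** -/
theorem cen_of (hq : IsPrimePow q) (hK : Fintype.card K = q ^ 2) (p : ℕ) [Fact p.Prime] [CharP K p] (hp : 5 ≤ p)
    (hM : MaxAlt H n ψ) (hn : 5 ≤ n)
    (hT : ∀ x : ↥(Zgrp K), x ^ 3 = 1 → ev (V K x) 1 = 9 → ev (L K x) 1 = 30 →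
      ∃ τ : ↥(Zgrp K), τ * τ = 1 ∧ τ ≠ 1 ∧ (∀ g, g * x = x * g → g * τ = τ * g) ∧ (∀ X, L K x X = X → L K τ X = X) ∧
        (∀ v, V K x v = v → V K τ v = v) ∧
        ∀ τ' : ↥(Zgrp K), τ' * τ' = 1 → τ' ≠ 1 → (∀ X, L K x X = X → L K τ' X = X) → (∀ v, V K x v = v → V K τ' v = v) →
          τ' = τ) :
    Cen (H.map (incl K q)) ((incl K q).comp ψ) := by
  obtain ⟨f, hf, hqq⟩ := TwE6Basic.exists_frob hq hK
  have hff : ∀ t : K, f (f t) = t := fun t => by rw [hf, hf, hqq]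
  have h3 : (3 : K) ≠ 0 := by
    intro h0
    have h1 : ((3 : ℕ) : K) = 0 := by exact_mod_cast h0
    rw [CharP.cast_eq_zero_iff K p] at h1
    have := Nat.le_of_dvd (by norm_num) h1
    omega
  intro X hX hH x hxφ hx3 hx9 hx30
  -- a fixed lift
  obtain ⟨a, ha⟩ := hxφ
  obtain ⟨b, hb, hbx⟩ := exists_Gs f hf hqq (ψ a).2
  have hbx' : ad K b = ad K x := by
    apply Subtype.ext
    rw [hbx, ← ha]
    rfl
  obtain ⟨c, hcd⟩ : ∃ c, c = b * x⁻¹ := ⟨_, rfl⟩
  have hc1 : ad K c = 1 := by rw [hcd, map_mul, map_inv, hbx', mul_inv_cancel]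
  obtain ⟨hc3, hcc⟩ := Cfsg.Agent.H65.E6Ext.ker_pow hc1
  have hbc : b = c * x := by rw [hcd, inv_mul_cancel_right]
  have hb3 : b ^ 3 = 1 := by
    have h1 : Commute c x := (hcc x).symm
    rw [hbc, h1.mul_pow, hc3, hx3, one_mul]
  have hbL : L K b = L K x := by rw [L_eq, L_eq, hbx']
  have hb30 : ev (L K b) 1 = 30 := by rw [hbL]; exact hx30
  have hb1 : ad K b ≠ 1 := by
    intro h0
    have h1 : L K b = 1 := by rw [L_eq, h0, map_one]
    rw [h1] at hb30
    have h2 : ev (1 : Module.End K (chevE6.Idx → K)) 1 = 78 := by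
      unfold Cfsg.Agent.H952.F4.ev
      have h3 : Module.End.eigenspace (1 : Module.End K (chevE6.Idx → K)) 1 = ⊤ := by
        rw [eq_top_iff]
        intro v _
        rw [Module.End.mem_eigenspace_iff, one_smul]
        rfl
      rw [h3, finrank_top, Module.finrank_fintype_fun_eq_card]
      decide +kernel
    omega
  have hb9 : ev (V K b) 1 = 9 := by
    rcases (Tor.tab p (F := K)).three (by omega) b hb1 hb3 with h | h | h | h <;> omega
  obtain ⟨τ, t1, t2, t3, t4, t5, t6⟩ := hT b hb3 hb9 hb30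
  -- `τ` is fixed
  have hτ : τ ∈ Gs f := by
    rw [mem_Gs]
    apply t6
    · rw [← map_mul, t1, map_one]
    · intro h0
      apply t2
      rw [← sE_sE f hff τ, h0, map_one]
    · intro Y hY
      obtain ⟨Z, rfl⟩ := JL_surjective hff Y
      rw [L_sE_JL]
      congr 1
      apply t4
      apply JL_injective (φ := f)
      rw [← L_sE_JL, (mem_Gs f).1 hb, hY]
    · intro v hv
      obtain ⟨u, rfl⟩ : ∃ u, J f u = v := ⟨J f v, J_J f hff v⟩
      rw [V_sE_J]
      congr 1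
      refine V'_fix_of h3 hb3 (t3 b rfl).symm t5 u ?_
      have h5 : J f (V' K b u) = J f u := by rw [← V_J f hb, hv]
      have h6 := congrArg (J f) h5
      rwa [J_J f hff, J_J f hff] at h6
  -- the stabilizer of the line
  let S : Subgroup ↥(Cfsg.Lie.twistedE6 K q) :=
    { carrier := {g | ∃ c : K, LK K (incl K q g) X = c • X}
      one_mem' := ⟨1, by rw [map_one, map_one, one_smul]; rfl⟩
      mul_mem' := by
        rintro a b ⟨c, hc⟩ ⟨d, hd⟩
        exact ⟨c * d, by rw [map_mul, map_mul, Module.End.mul_apply, hd, map_smul, hc, smul_smul, mul_comm]⟩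
      inv_mem' := by
        rintro a ⟨c, hc⟩
        have h5 : LK K (incl K q a⁻¹) (LK K (incl K q a) X) = X := by
          rw [← Module.End.mul_apply, ← map_mul, ← map_mul, inv_mul_cancel, map_one, map_one]; rfl
        have hc0 : c ≠ 0 := by
          rintro rfl
          rw [zero_smul] at hc
          apply hX
          rw [← h5, hc, map_zero]
        refine ⟨c⁻¹, ?_⟩
        rw [hc, map_smul] at h5
        rw [← h5, smul_smul, inv_mul_cancel₀ hc0, one_smul, h5] }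
  have hS : ∀ g, g ∈ S ↔ ∃ c : K, LK K (incl K q g) X = c • X := fun g => Iff.rfl
  have hHS : H ≤ S := fun h hh => hH _ ⟨h, hh, rfl⟩
  have hStop : S ≠ ⊤ := by
    intro htop
    have hs : IsSimpleGroup ↥(Cfsg.Lie.twistedE6 K q) := (Cfsg.Agent.S1070.result hq hK).1
    have hnc : ¬ ∀ a b : ↥(Cfsg.Lie.twistedE6 K q), a * b = b * a := by
      intro hcomm
      have hA := alt_perfect hn
      have h7 : commutator ↥(alternatingGroup (Fin n)) = ⊥ := by
        rw [commutator_def, Subgroup.commutator_eq_bot_iff_le_centralizer]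
        intro a _
        rw [Subgroup.mem_centralizer_iff]
        intro b _
        exact hM.inj (by rw [map_mul, map_mul, hcomm])
      rw [h7] at hA
      have : Nontrivial ↥(alternatingGroup (Fin n)) :=
        (alternatingGroup.nontrivial_of_three_le_card (by simp only [_root_.Nat.card_eq_fintype_card, _root_.Fintype.card_fin]; omega))
      obtain ⟨a, ha⟩ := exists_ne (1 : ↥(alternatingGroup (Fin n)))
      have : a ∈ (⊥ : Subgroup ↥(alternatingGroup (Fin n))) := by rw [hA]; trivial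
      exact absurd (Subgroup.mem_bot.1 this) ha
    have hP : commutator ↥(Cfsg.Lie.twistedE6 K q) = ⊤ := by
      rcases hs.eq_bot_or_eq_top_of_normal (commutator ↥(Cfsg.Lie.twistedE6 K q)) inferInstance with h | h
      · exfalso
        apply hnc
        intro a b
        have : ⁅a, b⁆ ∈ commutator ↥(Cfsg.Lie.twistedE6 K q) :=
          Subgroup.commutator_mem_commutator (Subgroup.mem_top a) (Subgroup.mem_top b)
        rw [h, Subgroup.mem_bot, commutatorElement_eq_one_iff_mul_comm] at this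
        exact this
      · exact h
    apply hX
    refine L_eq_zero_of_Gs h3 hq hK hf hqq fun g hg => ?_
    have h8 : ((ad K g : ↥(chevE6.group K)) : GL chevE6.Idx K) ∈ Cfsg.Lie.twistedE6 K q := by
      apply mem_twisted hq hK hf hqq
      rw [← ad_sE, (mem_Gs f).1 hg]
    have h9 := fix_of_perfect hP ((LK K).comp (incl K q)) hX (fun y => by
      have : y ∈ S := by rw [htop]; trivial
      exact this) ⟨_, h8⟩
    exact h9
  have hSH : S = H := by
    rcases hM.coatom.le_iff.1 hHS with h | h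
    · exact absurd h hStop
    · exact h
  have h8 : ((ad K τ : ↥(chevE6.group K)) : GL chevE6.Idx K) ∈ Cfsg.Lie.twistedE6 K q := by
    apply mem_twisted hq hK hf hqq
    rw [← ad_sE, (mem_Gs f).1 hτ]
  refine ⟨τ, t1, t2, (t3 x ?_).symm, ⟨⟨_, h8⟩, ?_, rfl⟩⟩
  · rw [hbc, ← mul_assoc, hcc]
  · show (⟨_, h8⟩ : ↥(Cfsg.Lie.twistedE6 K q)) ∈ H
    rw [← hSH, hS]
    refine ⟨1, ?_⟩
    rw [one_smul]
    show L K τ X = X
    apply t4
    rw [hbL, L_eq, ← ha]
    exact fix_of_perfect (alt_perfect hn) ((LK K).comp ((incl K q).comp ψ)) hX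
      (fun a => hH _ ⟨ψ a, hM.le ⟨a, rfl⟩, rfl⟩) a

end Cfsg.Agent.H163.E6.Tw
end

-- part: H65/E6Uniq
section
/-!
# S5927, S5928: the involution attached to an element of order three of type `(9, 9, 9 | 30)` (helper65)

* `L_fix_iff` : `L g c = c` if and only if `g` commutes with `comb c`;
* `uniq_diag` : an involution which acts trivially on the fixed points of a diagonal element `diag (z ^ b)` of order three
  on `V` and `L` is diagonal, given by a function `s : I27 → ZMod 2` with combinatorial properties;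
* `Five x`, `descend`, `descend_closed` : the existence and the uniqueness of the involution over the algebraic closure
  imply the same over the finite field.
-/

set_option autoImplicit false

namespace Cfsg.Agent.H65.E6Uniq

open Cfsg Cfsg.Lie Module
open Cfsg.Agent.ChevalleyStructure
open Cfsg.Agent.ChevalleyStructure.E6Min.Tables Cfsg.Agent.ChevalleyStructure.E6Min.Basic
  Cfsg.Agent.ChevalleyStructure.E6Min.Adjoint Cfsg.Agent.ChevalleyStructure.E6Min.Torus
  Cfsg.Agent.ChevalleyStructure.E6Min.Forms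
open Cfsg.Agent.H163.E6
open Cfsg.Agent.H952.F4 (ev es matRep)
open Cfsg.Agent.H65.E6Emb
open scoped Matrix

universe u v

section diag

variable {K : Type u} [Field K]

/-- the fixed vectors in the adjoint module -/
theorem L_fix_iff (g : ↥(Zgrp K)) (c : chevE6.Idx → K) :
    L K g c = c ↔ ((g : GL I27 K) : Matrix I27 I27 K) * comb c = comb c * ((g : GL I27 K) : Matrix I27 I27 K) := by
  have h : ((g : GL I27 K) : Matrix I27 I27 K) * comb c = comb (L K g c) * ((g : GL I27 K) : Matrix I27 I27 K) := by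
    rw [E6Emb.L_apply]
    exact comb_mul_of (ad_P g) c
  rw [h]
  constructor
  · intro h1
    rw [h1]
  · intro h1
    apply comb_injective
    have h2 : ((g : GL I27 K) : Matrix I27 I27 K) * (((g : GL I27 K)⁻¹ : GL I27 K) : Matrix I27 I27 K) = 1 := by
      rw [← Units.val_mul, mul_inv_cancel, Units.val_one]
    calc comb (L K g c) = comb (L K g c) * (((g : GL I27 K) : Matrix I27 I27 K) *
            (((g : GL I27 K)⁻¹ : GL I27 K) : Matrix I27 I27 K)) := by rw [h2, mul_one]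
      _ = comb c * (((g : GL I27 K) : Matrix I27 I27 K) *
            (((g : GL I27 K)⁻¹ : GL I27 K) : Matrix I27 I27 K)) := by rw [← mul_assoc, h1, mul_assoc]
      _ = comb c := by rw [h2, mul_one]

theorem comb_inl (i : Fin chevE6.rank) : comb (Pi.single (Sum.inl i) (1 : K)) = Hm K i.val := by
  rw [comb_def, Finset.sum_eq_single (Sum.inl i)]
  · rw [Pi.single_eq_same, one_smul, B_inl]
  · intro u _ hu
    rw [Pi.single_eq_of_ne hu, zero_smul]
  · intro h
    exact absurd (Finset.mem_univ _) h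

theorem comb_inr (r : Fin chevE6.nroots) : comb (Pi.single (Sum.inr r) (1 : K)) = Nm K r.val := by
  rw [comb_def, Finset.sum_eq_single (Sum.inr r)]
  · rw [Pi.single_eq_same, one_smul, B_inr]
  · intro u _ hu
    rw [Pi.single_eq_of_ne hu, zero_smul]
  · intro h
    exact absurd (Finset.mem_univ _) h

theorem sg_ne {r : ℕ} {x : I27} (h : sg r x ≠ 0) : ((sg r x : ℤ) : K) ≠ 0 := by
  intro h1
  have h2 := sg_sq r x h
  have h3 : ((sg r x : ℤ) : K) * ((sg r x : ℤ) : K) = 1 := by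
    rw [← Int.cast_mul, h2, Int.cast_one]
  rw [h1, zero_mul] at h3
  exact zero_ne_one h3

/-- a diagonal element fixes the Cartan subalgebra -/
theorem L_diag_inl {y : ↥(Zgrp K)} {d : I27 → K} (hy : ((y : GL I27 K) : Matrix I27 I27 K) = Matrix.diagonal d)
    (i : Fin chevE6.rank) : L K y (Pi.single (Sum.inl i) 1) = Pi.single (Sum.inl i) 1 := by
  rw [L_fix_iff, comb_inl, hy]
  unfold Hm
  rw [Matrix.diagonal_mul_diagonal, Matrix.diagonal_mul_diagonal]
  congr 1
  funext x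
  exact mul_comm _ _

/-- a diagonal element fixes the root vectors of level zero -/
theorem L_diag_inr {y : ↥(Zgrp K)} {d : I27 → K} (hy : ((y : GL I27 K) : Matrix I27 I27 K) = Matrix.diagonal d)
    (hd : ∀ x, d x ≠ 0) (r : Fin chevE6.nroots) (h : d (row r.val) = d (sr r.val (row r.val))) :
    L K y (Pi.single (Sum.inr r) 1) = Pi.single (Sum.inr r) 1 := by
  set c' := L K y (Pi.single (Sum.inr r) 1) with hc'
  have h1 : ((y : GL I27 K) : Matrix I27 I27 K) * comb (Pi.single (Sum.inr r) (1 : K)) =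
      comb c' * ((y : GL I27 K) : Matrix I27 I27 K) := by
    rw [hc', E6Emb.L_apply]
    exact comb_mul_of (ad_P y) _
  rw [comb_inr, hy] at h1
  have h2 : ∀ x x', d x * Nm K r.val x x' = comb c' x x' * d x' := by
    intro x x'
    have h3 := congrFun (congrFun h1 x) x'
    rwa [Matrix.diagonal_mul, Matrix.mul_diagonal] at h3
  have hr : c' (Sum.inr r) = 1 := by
    have h3 := h2 (row r.val) (sr r.val (row r.val))
    rw [comb_apply_row, Nm_apply, if_pos rfl, ← h] at h3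
    have h4 := sg_ne (K := K) (row_spec (lt72 r)).1
    have h5 : (c' (Sum.inr r) - 1) * (d (row r.val) * ((sg r.val (row r.val) : ℤ) : K)) = 0 := by
      linear_combination -h3
    exact sub_eq_zero.1 ((mul_eq_zero.1 h5).resolve_right (mul_ne_zero (hd _) h4))
  have hs : ∀ s : Fin chevE6.nroots, s ≠ r → c' (Sum.inr s) = 0 := by
    intro s hs
    have h3 := h2 (row s.val) (sr s.val (row s.val))
    rw [comb_apply_row, Nm_apply] at h3
    have h4 : (if sr s.val (row s.val) = sr r.val (row s.val) then ((sg r.val (row s.val) : ℤ) : K) else 0) = 0 := by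
      rcases (row_spec (lt72 s)).2.2 r.val (lt72 r) (fun e => hs (Fin.ext e.symm)) with h5 | h5
      · rw [h5]; simp
      · rw [if_neg (Ne.symm h5)]
    rw [h4, mul_zero] at h3
    have h5 := sg_ne (K := K) (row_spec (lt72 s)).1
    rcases mul_eq_zero.1 h3.symm with h6 | h6
    · exact (mul_eq_zero.1 h6).resolve_right h5
    · exact absurd h6 (hd _)
  have hdiag : ∀ x, comb c' x x = 0 := by
    intro x
    have h3 := h2 x x
    have h4 : Nm K r.val x x = 0 := by
      rw [Nm_apply]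
      rcases row_diag (lt72 r) x with h5 | h5
      · rw [h5]; simp
      · rw [if_neg h5]
    rw [h4, mul_zero] at h3
    exact (mul_eq_zero.1 h3.symm).resolve_right (hd x)
  have hcar : (fun row => Sum.elim (fun i => c' (Sum.inl i)) (fun _ => (0 : K)) row : chevE6.Idx → K) = 0 := by
    apply comb_injective
    have h3 : comb (0 : chevE6.Idx → K) = 0 := by
      rw [comb_def]
      simp only [_root_.Pi.zero_apply, _root_.zero_smul, _root_.Finset.sum_const_zero]
    rw [h3]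
    ext x x'
    rw [Matrix.zero_apply]
    by_cases hx : x = x'
    · subst hx
      rw [comb_apply_diag, ← hdiag x, comb_apply_diag]
      rfl
    · rw [comb_split, Matrix.add_apply, Matrix.sum_apply, Matrix.sum_apply]
      have e1 : ∀ i : Fin chevE6.rank, (Sum.elim (fun i => c' (Sum.inl i)) (fun _ => (0 : K))
          (Sum.inl i : chevE6.Idx) • Hm K i.val) x x' = 0 := by
        intro i
        rw [Matrix.smul_apply, Hm_apply, if_neg hx, smul_zero]
      have e2 : ∀ s : Fin chevE6.nroots, (Sum.elim (fun i => c' (Sum.inl i)) (fun _ => (0 : K))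
          (Sum.inr s : chevE6.Idx) • Nm K s.val) x x' = 0 := by
        intro s
        rw [Sum.elim_inr, zero_smul, Matrix.zero_apply]
      rw [Finset.sum_eq_zero (fun i _ => e1 i), Finset.sum_eq_zero (fun s _ => e2 s), add_zero]
  funext row
  rcases row with i | s
  · rw [Pi.single_eq_of_ne (by simp)]
    exact congrFun hcar (Sum.inl i)
  · by_cases h3 : s = r
    · rw [h3, Pi.single_eq_same, hr]
    · rw [Pi.single_eq_of_ne (fun e => h3 (Sum.inr.inj e)), hs s h3]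

theorem wt_all : allLt 27 (fun i => allLt 27 fun j => (i == j) ||
    !(allLt 6 fun k => (lbN i k == lbN j k))) = true := by decide +kernel

theorem wt_bound : allLt 27 (fun i => allLt 6 fun k => (lbN i k == 0) || (lbN i k == 1) || (lbN i k == -1)) = true := by
  decide +kernel

theorem wt_cases (x : I27) {k : ℕ} (hk : k < 6) : wt x k = 0 ∨ wt x k = 1 ∨ wt x k = -1 := by
  have h := allLt_spec (allLt_spec wt_bound _ (code_lt x)) k hk
  simp only [Bool.or_eq_true, beq_iff_eq] at h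
  rcases h with (h | h) | h
  · exact Or.inl h
  · exact Or.inr (Or.inl h)
  · exact Or.inr (Or.inr h)

theorem allLt_true {n : ℕ} {p : ℕ → Bool} (h : ∀ k < n, p k = true) : allLt n p = true := by
  induction n with
  | zero => rfl
  | succ n ih =>
    show (p n && allLt n p) = true
    rw [h n (Nat.lt_succ_self n), ih (fun k hk => h k (Nat.lt_succ_of_lt hk))]
    rfl

/-- the weights separate the coordinates -/
theorem wt_sep {x y : I27} (h : x ≠ y) : ∃ k < 6, wt x k ≠ wt y k := by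
  by_contra hne
  push Not at hne
  have h1 := allLt_spec (allLt_spec wt_all _ (code_lt x)) _ (code_lt y)
  have h2 : (allLt 6 fun k => (lbN (code x) k == lbN (code y) k)) = true :=
    allLt_true fun k hk => beq_iff_eq.2 (hne k hk)
  rw [h2] at h1
  simp only [Bool.or_eq_true, beq_iff_eq, Bool.not_true, Bool.false_eq_true, or_false] at h1
  exact h (code_injective h1)

/-- the weights separate the coordinates, characteristic different from 2 -/
theorem wt_sep' (h2 : (2 : K) ≠ 0) {x y : I27} (h : x ≠ y) : ∃ k < 6, ((wt x k : ℤ) : K) ≠ ((wt y k : ℤ) : K) := by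
  obtain ⟨k, hk, hne⟩ := wt_sep h
  refine ⟨k, hk, fun h3 => hne ?_⟩
  rcases wt_cases x hk with h4 | h4 | h4 <;> rcases wt_cases y hk with h5 | h5 | h5 <;> rw [h4, h5] at h3 ⊢ <;>
    simp only [Int.cast_zero, Int.cast_one, Int.cast_neg] at h3
  · exact absurd h3 zero_ne_one
  · exact absurd h3.symm (neg_ne_zero.2 one_ne_zero)
  · exact absurd h3 one_ne_zero
  · exfalso
    apply h2
    linear_combination h3
  · exact absurd h3 (neg_ne_zero.2 one_ne_zero)
  · exfalso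
    apply h2
    linear_combination -h3

/-- an element which fixes the Cartan subalgebra is diagonal -/
theorem diag_of_fix (h2 : (2 : K) ≠ 0) {g : ↥(Zgrp K)}
    (h : ∀ i : Fin chevE6.rank, L K g (Pi.single (Sum.inl i) 1) = Pi.single (Sum.inl i) 1) :
    ((g : GL I27 K) : Matrix I27 I27 K) = Matrix.diagonal fun x => ((g : GL I27 K) : Matrix I27 I27 K) x x := by
  ext x y
  rw [Matrix.diagonal_apply]
  split_ifs with hxy
  · rw [hxy]
  · obtain ⟨k, hk, hne⟩ := wt_sep' (K := K) h2 hxy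
    have h3 := (L_fix_iff g _).1 (h ⟨k, hk⟩)
    rw [comb_inl] at h3
    have h4 := congrFun (congrFun h3 x) y
    unfold Hm at h4
    rw [Matrix.mul_diagonal, Matrix.diagonal_mul] at h4
    have h5 : ((g : GL I27 K) : Matrix I27 I27 K) x y * (((wt x k : ℤ) : K) - ((wt y k : ℤ) : K)) = 0 := by
      linear_combination -h4
    exact (mul_eq_zero.1 h5).resolve_right (sub_ne_zero.2 hne)

theorem mulVec_e {g : ↥(Zgrp K)} {d : I27 → K} (hg : ((g : GL I27 K) : Matrix I27 I27 K) = Matrix.diagonal d) (x : I27) :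
    ((g : GL I27 K) : Matrix I27 I27 K) *ᵥ e K x = d x • e K x := by
  rw [hg]
  ext y
  rw [Matrix.mulVec_diagonal, Pi.smul_apply, smul_eq_mul, e_apply]
  by_cases h : y = x
  · rw [h]
  · rw [if_neg h, mul_zero, mul_zero]

/-- **Uniqueness, combinatorial form.** -/
theorem uniq_diag {K : Type u} [Field K] (p : ℕ) [CharP K p] (hp : 5 ≤ p) {z : K} (hz : IsPrimitiveRoot z 3)
    {b : I27 → ZMod 3} {y : ↥(Zgrp K)}
    (hy : ((y : GL I27 K) : Matrix I27 I27 K) = Matrix.diagonal fun m => z ^ (b m).val)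
    {τ : ↥(Zgrp K)} (h1 : τ * τ = 1) (h2 : τ ≠ 1) (hL : ∀ X, L K y X = X → L K τ X = X)
    (hV : ∀ v, V K y v = v → V K τ v = v) :
    ∃ s : I27 → ZMod 2, ((τ : GL I27 K) : Matrix I27 I27 K) = Matrix.diagonal (fun m => (-1) ^ (s m).val) ∧
      (∀ m m', rel m m' = 2 → s m + s m' + s (th m m') = 0) ∧
      (∀ m, b m = 0 → s m = 0) ∧
      (∀ r < 72, b (row r) = b (sr r (row r)) → ∀ m, sg r m ≠ 0 → s (sr r m) = s m) ∧
      (∃ m, s m ≠ 0) := by
  have hchar2 : (2 : K) ≠ 0 := by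
    intro h0
    have h3 : ((2 : ℕ) : K) = 0 := by exact_mod_cast h0
    have h4 := (CharP.cast_eq_zero_iff K p 2).1 h3
    have := Nat.le_of_dvd (by norm_num) h4
    omega
  have hne : (-1 : K) ≠ 1 := by
    intro h0
    apply hchar2
    linear_combination -h0
  have hz0 : z ≠ 0 := hz.ne_zero (by norm_num)
  have hτ := diag_of_fix hchar2 (g := τ) (fun i => hL _ (L_diag_inl hy i))
  set t : I27 → K := fun x => ((τ : GL I27 K) : Matrix I27 I27 K) x x with ht
  have htt : ∀ x, t x = 1 ∨ t x = -1 := by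
    intro x
    have h3 := congrArg (fun g : ↥(Zgrp K) => ((g : GL I27 K) : Matrix I27 I27 K) x x) h1
    simp only [Subgroup.coe_mul, Units.val_mul, Subgroup.coe_one, Units.val_one, Matrix.one_apply_eq] at h3
    rw [hτ, Matrix.diagonal_mul_diagonal, Matrix.diagonal_apply_eq] at h3
    exact mul_self_eq_one_iff.1 h3
  classical
  let s : I27 → ZMod 2 := fun m => if t m = 1 then 0 else 1
  have hs : ∀ m, (-1 : K) ^ (s m).val = t m := by
    intro m
    rcases htt m with h3 | h3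
    · have h4 : s m = 0 := if_pos h3
      rw [h4, h3, ZMod.val_zero, pow_zero]
    · have h4 : s m = 1 := if_neg (by rw [h3]; exact hne)
      rw [h4, h3, ZMod.val_one, pow_one]
  have hs0 : ∀ m, s m = 0 ↔ t m = 1 := by
    intro m
    constructor
    · intro h3
      by_contra h4
      have h5 : s m = 1 := if_neg h4
      rw [h5] at h3
      exact one_ne_zero h3
    · intro h3
      exact if_pos h3
  have hs1 : ∀ m, s m = 1 ↔ t m = -1 := by
    intro m
    constructor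
    · intro h3
      rcases htt m with h4 | h4
      · rw [(hs0 m).2 h4] at h3
        exact absurd h3 zero_ne_one
      · exact h4
    · intro h3
      exact if_neg (by rw [h3]; exact hne)
  have hseq : ∀ m m', t m = t m' → s m = s m' := by
    intro m m' h3
    show (if t m = 1 then (0 : ZMod 2) else 1) = if t m' = 1 then 0 else 1
    rw [h3]
  refine ⟨s, ?_, ?_, ?_, ?_, ?_⟩
  · rw [hτ]
    congr 1
    funext m
    exact (hs m).symm
  · intro m m' hr
    have h3 := diag_rel (Cfsg.Agent.ChevalleyStructure.E6Min.Inv.Zgrp_le K τ.2) (d := t) (fun x => mulVec_e hτ x) hr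
    rcases htt m with h4 | h4 <;> rcases htt m' with h5 | h5 <;> rcases htt (th m m') with h6 | h6 <;>
      rw [h4, h5, h6] at h3
    · rw [(hs0 _).2 h4, (hs0 _).2 h5, (hs0 _).2 h6]; rfl
    · exact absurd h3 (by simpa using hne)
    · exact absurd h3 (by simpa using hne)
    · rw [(hs0 _).2 h4, (hs1 _).2 h5, (hs1 _).2 h6]; rfl
    · exact absurd h3 (by simpa using hne)
    · rw [(hs1 _).2 h4, (hs0 _).2 h5, (hs1 _).2 h6]; rfl
    · rw [(hs1 _).2 h4, (hs1 _).2 h5, (hs0 _).2 h6]; rfl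
    · exact absurd h3 (by simpa using hne)
  · intro m hm
    rw [hs0]
    have h3 : V K y (e K m) = e K m := by
      rw [V_apply, mulVec_e hy m, hm, ZMod.val_zero, pow_zero, one_smul]
    have h4 := hV _ h3
    rw [V_apply, mulVec_e hτ m] at h4
    have h5 := congrFun h4 m
    rw [Pi.smul_apply, e_apply, if_pos rfl, smul_eq_mul, mul_one] at h5
    exact h5
  · intro r hr hb m hm
    apply hseq
    have h3 : L K y (Pi.single (Sum.inr ⟨r, hr⟩) 1) = Pi.single (Sum.inr ⟨r, hr⟩) 1 :=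
      L_diag_inr hy (fun x => pow_ne_zero _ hz0) ⟨r, hr⟩ (by
        show z ^ (b (row r)).val = z ^ (b (sr r (row r))).val
        rw [hb])
    have h4 := (L_fix_iff τ _).1 (hL _ h3)
    rw [comb_inr, hτ] at h4
    have h5 := congrFun (congrFun h4 m) (sr r m)
    rw [Matrix.diagonal_mul, Matrix.mul_diagonal, Nm_apply, if_pos rfl] at h5
    have h6 := sg_ne (K := K) hm
    have h7 : (t (sr r m) - t m) * ((sg r m : ℤ) : K) = 0 := by linear_combination -h5
    exact sub_eq_zero.1 ((mul_eq_zero.1 h7).resolve_right h6)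
  · by_contra hno
    push Not at hno
    apply h2
    apply Subtype.ext
    apply Units.ext
    rw [hτ, Subgroup.coe_one, Units.val_one]
    have h3 : t = fun _ => 1 := funext fun m => (hs0 m).1 (hno m)
    rw [h3]
    exact Matrix.diagonal_one

end diag

/-! ### descent -/

/-- the existence and uniqueness of the involution attached to `x` -/
def Five {F : Type u} [Field F] (x : ↥(Zgrp F)) : Prop :=
  ∃ τ : ↥(Zgrp F), τ * τ = 1 ∧ τ ≠ 1 ∧ (∀ g, g * x = x * g → g * τ = τ * g) ∧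
    (∀ X, L F x X = X → L F τ X = X) ∧ (∀ v, V F x v = v → V F τ v = v) ∧
    ∀ τ' : ↥(Zgrp F), τ' * τ' = 1 → τ' ≠ 1 → (∀ X, L F x X = X → L F τ' X = X) →
      (∀ v, V F x v = v → V F τ' v = v) → τ' = τ

section descent

variable {F : Type u} {K : Type v} [Field F] [Field K] (f : F →+* K)

theorem fun_injective {n : Type*} {x y : n → F} (h : (fun i => f (x i)) = fun i => f (y i)) : x = y := by
  funext i
  exact f.injective (congrFun h i)

/-- if all fixed vectors of a matrix over the small field are fixed by another one, the same holds over the big field -/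
theorem fix_map {n : Type*} [Fintype n] [DecidableEq n] {A B : Matrix n n F}
    (h : ∀ x, A *ᵥ x = x → B *ᵥ x = x) {y : n → K} (hy : (A.map f) *ᵥ y = y) : (B.map f) *ᵥ y = y := by
  have h1 : y ∈ ext f (es (Matrix.toLin' A) 1) := by
    rw [ext_es, map_one]
    refine Module.End.mem_eigenspace_iff.2 ?_
    rw [Matrix.toLin'_apply, hy, one_smul]
  have h2 : ext f (es (Matrix.toLin' A) 1) ≤ es (Matrix.toLin' (B.map f)) 1 := by
    refine ext_le fun x hx => ?_
    have h3 : Matrix.toLin' A x = (1 : F) • x := Module.End.mem_eigenspace_iff.1 hx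
    rw [Matrix.toLin'_apply, one_smul] at h3
    refine Module.End.mem_eigenspace_iff.2 ?_
    rw [Matrix.toLin'_apply, one_smul, map_mulVec, h x h3]
  have h4 : Matrix.toLin' (B.map f) y = (1 : K) • y := Module.End.mem_eigenspace_iff.1 (h2 h1)
  rwa [Matrix.toLin'_apply, one_smul] at h4

theorem V_fix_map {x τ : ↥(Zgrp F)} (h : ∀ v, V F x v = v → V F τ v = v) (v : I27 → K)
    (hv : V K (emb f x) v = v) : V K (emb f τ) v = v := by
  rw [V_apply, coe_emb] at hv ⊢
  exact fix_map f (fun w hw => h w hw) hv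

theorem L_fix_map {x τ : ↥(Zgrp F)} (h : ∀ v, L F x v = v → L F τ v = v) (v : chevE6.Idx → K)
    (hv : L K (emb f x) v = v) : L K (emb f τ) v = v := by
  rw [E6Emb.L_apply, ad_emb] at hv ⊢
  refine fix_map f (fun w hw => ?_) hv
  have h1 := h w (by rw [E6Emb.L_apply]; exact hw)
  rwa [E6Emb.L_apply] at h1

/-- **Descent.** -/
theorem descend [Finite F] (hF : 3 ≤ Nat.card F) (s : K →+* K) (hs : ∀ t, s t = t ^ Nat.card F)
    (hsurj : Function.Surjective s) {x : ↥(Zgrp F)} (h : Five (emb f x)) : Five x := by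
  have := Fintype.ofFinite F
  rw [Nat.card_eq_fintype_card] at hF
  have hs' : ∀ t, s t = t ^ Fintype.card F := fun t => by rw [hs, Nat.card_eq_fintype_card]
  obtain ⟨τ, h1, h2, h3, h4, h5, h6⟩ := h
  have hx : emb s (emb f x) = emb f x := emb_frob f s hs' x
  have hinj : Function.Injective (emb s) := emb_injective s
  -- lifting vectors
  have hlift : ∀ {n : Type} (y : n → K), ∃ y0 : n → K, y = fun i => s (y0 i) := by
    intro n y
    choose g hg using hsurj
    exact ⟨fun i => g (y i), funext fun i => (hg (y i)).symm⟩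
  have hτ : emb s τ = τ := by
    apply h6
    · rw [← map_mul, h1, map_one]
    · intro h7
      apply h2
      apply hinj
      rw [h7, map_one]
    · intro X hX
      obtain ⟨X0, rfl⟩ := hlift X
      have h7 := hX
      rw [← hx, L_emb] at h7
      have h8 := h4 X0 (fun_injective s h7)
      rw [L_emb, h8]
    · intro v hv
      obtain ⟨v0, rfl⟩ := hlift v
      have h7 := hv
      rw [← hx, V_emb] at h7
      have h8 := h5 v0 (fun_injective s h7)
      rw [V_emb, h8]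
  obtain ⟨τ0, rfl⟩ := exists_of_emb_eq f hF s hs' τ hτ
  have hfi := emb_injective f
  refine ⟨τ0, ?_, ?_, ?_, ?_, ?_, ?_⟩
  · apply hfi
    rw [map_mul, h1, map_one]
  · rintro rfl
    exact h2 (map_one _)
  · intro g hg
    apply hfi
    rw [map_mul, map_mul]
    apply h3
    rw [← map_mul, ← map_mul, hg]
  · intro X hX
    apply fun_injective f
    rw [← L_emb]
    apply h4
    rw [L_emb, hX]
  · intro v hv
    apply fun_injective f
    rw [← V_emb]
    apply h5
    rw [V_emb, hv]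
  · intro τ' h7 h8 h9 h10
    apply hfi
    apply h6
    · rw [← map_mul, h7, map_one]
    · intro h11
      apply h8
      apply hfi
      rw [h11, map_one]
    · exact L_fix_map f h9
    · exact V_fix_map f h10

end descent

/-- **Descent from the algebraic closure.** -/
theorem descend_closed {F : Type u} [Field F] [Finite F] (hF : 3 ≤ Nat.card F)
    (h : ∀ x : ↥(Zgrp (AlgebraicClosure F)), x ^ 3 = 1 → ev (V (AlgebraicClosure F) x) 1 = 9 →
      ev (L (AlgebraicClosure F) x) 1 = 30 → Five x) :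
    ∀ x : ↥(Zgrp F), x ^ 3 = 1 → ev (V F x) 1 = 9 → ev (L F x) 1 = 30 → Five x := by
  intro x h1 h2 h3
  have := Fintype.ofFinite F
  let s : AlgebraicClosure F →+* AlgebraicClosure F :=
    (FiniteField.frobeniusAlgEquivOfAlgebraic F (AlgebraicClosure F) : AlgebraicClosure F →+* AlgebraicClosure F)
  refine descend (algebraMap F (AlgebraicClosure F)) hF s (fun t => ?_)
    (FiniteField.frobeniusAlgEquivOfAlgebraic F (AlgebraicClosure F)).surjective (h _ ?_ ?_ ?_)
  · rw [Nat.card_eq_fintype_card]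
    rfl
  · rw [← map_pow, h1, map_one]
  · rw [ev_V_one, h2]
  · rw [ev_L_one, h3]

end Cfsg.Agent.H65.E6Uniq
end

-- part: H927/E6Cen
section
/-!
# S5927: the property `Cen` for maximal subgroups of `E₆(q)` (helper927)
-/

set_option autoImplicit false

namespace Cfsg.Agent.H927.E6Cen

open Cfsg Cfsg.Lie Module Cfsg.Agent.H163.E6
open Cfsg.Agent.ChevalleyStructure.E6Min.Tables Cfsg.Agent.ChevalleyStructure.E6Min.Basic
  Cfsg.Agent.ChevalleyStructure.E6Min.Adjoint
open Cfsg.Agent.H952.F4 (ev es matRep sh cr tf MaxAlt)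
open scoped commutatorElement

universe u

/-- a perfect group stabilizing a line fixes it pointwise -/
theorem fix_of_perfect {F P W : Type*} [Field F] [Group P] (hP : commutator P = ⊤) [AddCommGroup W] [Module F W]
    (ρ : Representation F P W) {X : W} (hX : X ≠ 0) (h : ∀ g, ∃ c : F, ρ g X = c • X) (g : P) : ρ g X = X := by
  choose c hc using h
  have hmul : ∀ a b, c (a * b) = c a * c b := fun a b => by
    have h1 : ρ (a * b) X = (c a * c b) • X := by
      rw [map_mul, Module.End.mul_apply, hc b, map_smul, hc a, smul_smul, mul_comm]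
    rw [hc] at h1
    exact smul_left_injective F hX h1
  have hone : c 1 = 1 := by
    have h1 : ρ 1 X = (1 : F) • X := by rw [map_one, one_smul]; rfl
    rw [hc] at h1
    exact smul_left_injective F hX h1
  have h2 : g ∈ commutator P := by rw [hP]; trivial
  have h3 := Abelianization.commutator_subset_ker
    (MonoidHom.toHomUnits ({ toFun := c, map_one' := hone, map_mul' := hmul } : P →* F)) h2
  rw [MonoidHom.mem_ker] at h3
  have h4 : c g = 1 := congrArg Units.val h3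
  rw [hc, h4, one_smul]

section

variable {F : Type u} [Field F] {H : Subgroup ↥(chevE6.group F)} {n : ℕ}
  {φ : ↥(alternatingGroup (Fin n)) →* ↥(chevE6.group F)}

theorem cen_of [Finite F] (h3 : (3 : F) ≠ 0) (hM : MaxAlt H n φ) (hn : 5 ≤ n)
    (hT : ∀ x : ↥(Zgrp F), x ^ 3 = 1 → ev (V F x) 1 = 9 → ev (L F x) 1 = 30 →
      ∃ τ : ↥(Zgrp F), τ * τ = 1 ∧ τ ≠ 1 ∧ τ * x = x * τ ∧ ∀ X, L F x X = X → L F τ X = X) : Cen H φ := by
  intro X hX hH x hxφ hx3 hx9 hx30
  obtain ⟨τ, h1, h2, hτx, hτ⟩ := hT x hx3 hx9 hx30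
  refine ⟨τ, h1, h2, hτx, ?_⟩
  -- the stabilizer of the line
  let S : Subgroup ↥(chevE6.group F) :=
    { carrier := {g | ∃ c : F, LK F g X = c • X}
      one_mem' := ⟨1, by rw [map_one, one_smul]; rfl⟩
      mul_mem' := by
        rintro a b ⟨c, hc⟩ ⟨d, hd⟩
        exact ⟨c * d, by rw [map_mul, Module.End.mul_apply, hd, map_smul, hc, smul_smul, mul_comm]⟩
      inv_mem' := by
        rintro a ⟨c, hc⟩
        have hc0 : c ≠ 0 := by
          rintro rfl
          rw [zero_smul] at hc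
          apply hX
          have h5 : LK F a⁻¹ (LK F a X) = X := by
            rw [← Module.End.mul_apply, ← map_mul, inv_mul_cancel, map_one]; rfl
          rw [← h5, hc, map_zero]
        refine ⟨c⁻¹, ?_⟩
        have h5 : LK F a⁻¹ (LK F a X) = X := by
          rw [← Module.End.mul_apply, ← map_mul, inv_mul_cancel, map_one]; rfl
        rw [hc, map_smul] at h5
        rw [← h5, smul_smul, inv_mul_cancel₀ hc0, one_smul, h5] }
  have hS : ∀ g, g ∈ S ↔ ∃ c : F, LK F g X = c • X := fun g => Iff.rfl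
  have hHS : H ≤ S := fun h hh => hH h hh
  have hStop : S ≠ ⊤ := by
    intro htop
    have hs : IsSimpleGroup ↥(chevE6.group F) := Cnt.simpleE6
    have hP : commutator ↥(chevE6.group F) = ⊤ := by
      rcases hs.eq_bot_or_eq_top_of_normal (commutator ↥(chevE6.group F)) inferInstance with h | h
      · exfalso
        have hcomm : ∀ a b : ↥(chevE6.group F), a * b = b * a := fun a b => by
          have : ⁅a, b⁆ ∈ commutator ↥(chevE6.group F) :=
            Subgroup.commutator_mem_commutator (Subgroup.mem_top a) (Subgroup.mem_top b)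
          rw [h, Subgroup.mem_bot, commutatorElement_eq_one_iff_mul_comm] at this
          exact this
        have hA := Cov.alt_perfect hn
        have h6 : ∀ a b : ↥(alternatingGroup (Fin n)), a * b = b * a := fun a b =>
          hM.inj (by rw [map_mul, map_mul, hcomm])
        have h7 : commutator ↥(alternatingGroup (Fin n)) = ⊥ := by
          rw [commutator_def, Subgroup.commutator_eq_bot_iff_le_centralizer]
          intro a _
          rw [Subgroup.mem_centralizer_iff]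
          intro b _
          exact h6 b a
        rw [h7] at hA
        have h8 : (1 : ↥(alternatingGroup (Fin n))) ≠ 1 := by
          have : Nontrivial ↥(alternatingGroup (Fin n)) :=
            (alternatingGroup.nontrivial_of_three_le_card (by simp only [_root_.Nat.card_eq_fintype_card, _root_.Fintype.card_fin]; omega))
          obtain ⟨a, ha⟩ := exists_ne (1 : ↥(alternatingGroup (Fin n)))
          have : a ∈ (⊥ : Subgroup ↥(alternatingGroup (Fin n))) := by rw [hA]; trivial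
          exact absurd (Subgroup.mem_bot.1 this) ha
        exact h8 rfl
      · exact h
    have h9 : X ∈ (LK F).invariants := by
      rw [Representation.mem_invariants]
      exact fix_of_perfect hP (LK F) hX fun g => by
        have : g ∈ S := by rw [htop]; trivial
        exact this
    rw [Act.L_invariants h3] at h9
    exact hX ((Submodule.mem_bot F).1 h9)
  have hSH : S = H := by
    rcases hM.coatom.le_iff.1 hHS with h | h
    · exact absurd h hStop
    · exact h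
  rw [← hSH, hS]
  refine ⟨1, ?_⟩
  rw [one_smul, ← L_eq]
  apply hτ
  obtain ⟨a, ha⟩ := hxφ
  rw [L_eq, ← ha]
  exact fix_of_perfect (Cov.alt_perfect hn) ((LK F).comp φ) hX (fun b => hH _ (hM.le ⟨b, rfl⟩)) a

end

end Cfsg.Agent.H927.E6Cen
end

-- part: H944/E6CenMax
section
/-!
# The property `Cen` for maximal subgroups of `E₆(q)` and `²E₆(q)` (helper944, helper65, helper927)
-/

set_option autoImplicit false

namespace Cfsg.Agent.H163.E6

open Cfsg Cfsg.Lie Module
open Cfsg.Agent.ChevalleyStructure.E6Min.Tables Cfsg.Agent.ChevalleyStructure.E6Min.Basic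
  Cfsg.Agent.ChevalleyStructure.E6Min.Adjoint
open Cfsg.Agent.H952.F4 (ev es matRep sh cr tf MaxAlt)

universe u

/-- **the involution** -/
theorem exists_tau (p : ℕ) [Fact p.Prime] {F : Type u} [Field F] [Finite F] [CharP F p] (hp : 5 ≤ p) (x : ↥(Zgrp F))
    (hx : x ^ 3 = 1) (h9 : ev (V F x) 1 = 9) (h30 : ev (L F x) 1 = 30) : Cfsg.Agent.H65.E6Uniq.Five x := by
  have hF : 3 ≤ Nat.card F := by
    have h1 : p ∣ Nat.card F := by
      have : Fintype F := Fintype.ofFinite F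
      obtain ⟨n, -, h⟩ := FiniteField.card F p
      rw [Nat.card_eq_fintype_card, h]
      exact dvd_pow_self p n.ne_zero
    have := Nat.le_of_dvd Nat.card_pos h1
    omega
  have : CharP (AlgebraicClosure F) p := charP_of_injective_algebraMap (algebraMap F (AlgebraicClosure F)).injective p
  refine Cfsg.Agent.H65.E6Uniq.descend_closed hF ?_ x hx h9 h30
  intro y hy hy9 hy30
  obtain ⟨τ, h1, h2⟩ := Cfsg.Agent.H944.E6Tau.closed_of p (Cfsg.Agent.H944.RootVals.hAlg_closure p F) hp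
    (fun z hz b y τ hyz hs => Cfsg.Agent.H65.E6Uniq.uniq_diag p hp hz hyz hs.1 hs.2.1 hs.2.2.1 hs.2.2.2) hy hy9 hy30
  exact Cfsg.Agent.H944.E6Tau.five_of_six h1 h2

/-- **`Cen` for maximal subgroups of `E₆(q)`** -/
theorem cen_of_max {F : Type u} [Field F] [Finite F] {H : Subgroup ↥(chevE6.group F)} {n : ℕ}
    {φ : ↥(alternatingGroup (Fin n)) →* ↥(chevE6.group F)} (p : ℕ) [Fact p.Prime] [CharP F p] (hp : 5 ≤ p)
    (hn : 5 ≤ n) (hM : MaxAlt H n φ) : Cen H φ := by
  have h3 : (3 : F) ≠ 0 := by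
    intro h0
    have h1 : ((3 : ℕ) : F) = 0 := by exact_mod_cast h0
    rw [CharP.cast_eq_zero_iff F p] at h1
    have := Nat.le_of_dvd (by norm_num) h1
    omega
  refine Cfsg.Agent.H927.E6Cen.cen_of h3 hM hn fun x hx h9 h30 => ?_
  obtain ⟨τ, t1, t2, t3, t4, -⟩ := exists_tau p hp x hx h9 h30
  exact ⟨τ, t1, t2, (t3 x rfl).symm, t4⟩

/-- **`Cen` for maximal subgroups of `²E₆(q)`** -/
theorem cen_of_max_tw {K : Type u} [Field K] [Fintype K] {q n : ℕ} {H : Subgroup ↥(Cfsg.Lie.twistedE6 K q)}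
    {φ : ↥(alternatingGroup (Fin n)) →* ↥(Cfsg.Lie.twistedE6 K q)} (p : ℕ) [Fact p.Prime] [CharP K p] (hp : 5 ≤ p)
    (hq : IsPrimePow q) (hK : Fintype.card K = q ^ 2) (hn : 5 ≤ n) (hM : MaxAlt H n φ) :
    Cen (H.map (Tw.incl K q)) ((Tw.incl K q).comp φ) :=
  Tw.cen_of hq hK p hp hM hn fun x hx h9 h30 => exists_tau p hp x hx h9 h30

end Cfsg.Agent.H163.E6
end
end

-- part: H931/E6/Cases
section
prune_inst 0x35007504050002000000008001001e62aa0004020048880000c00a040780284209000820a02000041220040400340028110000004000000000000000011900800000000010000108420018000000000000000000000000000000000000000004000000000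
set_option linter.all false
open scoped Cfsg.Agent.FastGrp

-- part: H931/E6/Eleven
section
/-!
# Conjugation in `A₇`; the involutions have not `ev = 11` (helper931)
-/

set_option autoImplicit false

namespace Cfsg.Agent.H931.E6

open Equiv Equiv.Perm Module
open Cfsg.Agent.H952.F4 (ev es)

/-! ### Conjugation -/

theorem conj_of_type {r : T7} {κ : Perm (Fin 7)} (hκ : sign κ = -1)
    (hc : κ * (r : Perm (Fin 7)) * κ⁻¹ = r) {g : T7}
    (hg : (g : Perm (Fin 7)).cycleType = (r : Perm (Fin 7)).cycleType) : ∃ k : T7, k * r * k⁻¹ = g := by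
  obtain ⟨τ, hτ⟩ := isConj_iff.1 (isConj_iff_cycleType_eq.2 hg.symm)
  by_cases hs : sign τ = 1
  · exact ⟨⟨τ, mem_alternatingGroup.2 hs⟩, Subtype.ext hτ⟩
  · have hs' : sign (τ * κ⁻¹) = 1 := by
      rw [map_mul, map_inv, hκ, (Int.units_eq_one_or _).resolve_left hs]
      decide
    refine ⟨⟨τ * κ⁻¹, mem_alternatingGroup.2 hs'⟩, Subtype.ext ?_⟩
    change (τ * κ⁻¹) * (r : Perm (Fin 7)) * (τ * κ⁻¹)⁻¹ = g
    rw [← hτ]
    conv_lhs => rw [← hc]
    group

/-- the powers conjugate to the element -/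
theorem pow_conj {r k0 : T7} {m : ℤ} (hk : k0 * r * k0⁻¹ = r ^ m) {g : T7}
    (hg : (g : Perm (Fin 7)).cycleType = (r : Perm (Fin 7)).cycleType) : ∃ k : T7, k * g * k⁻¹ = g ^ m := by
  obtain ⟨τ, hτ⟩ := isConj_iff.1 (isConj_iff_cycleType_eq.2 hg.symm)
  have hs : sign (τ * (k0 : Perm (Fin 7)) * τ⁻¹) = 1 := by
    rw [map_mul, map_mul, map_inv, mem_alternatingGroup.1 k0.2, mul_one, mul_inv_cancel]
  refine ⟨⟨_, mem_alternatingGroup.2 hs⟩, Subtype.ext ?_⟩
  change (τ * (k0 : Perm (Fin 7)) * τ⁻¹) * (g : Perm (Fin 7)) * (τ * (k0 : Perm (Fin 7)) * τ⁻¹)⁻¹ =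
    (g : Perm (Fin 7)) ^ m
  have h1 : (k0 : Perm (Fin 7)) * r * (k0 : Perm (Fin 7))⁻¹ = (r : Perm (Fin 7)) ^ m := congrArg Subtype.val hk
  rw [← hτ, conj_zpow, ← h1]
  group

/-- the 5-cycle -/
def r5 : T7 := ⟨c[2, 3, 4, 5, 6], mem_alternatingGroup.2 (by decide +kernel)⟩
/-- an element of order 4 -/
def r4 : T7 := ⟨c[0, 1, 2, 3] * c[4, 5], mem_alternatingGroup.2 (by decide +kernel)⟩
/-- an element of order 3 -/
def r33 : T7 := ⟨c[0, 1, 2] * c[3, 4, 5], mem_alternatingGroup.2 (by decide +kernel)⟩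
/-- the 7-cycle -/
def r7 : T7 := ⟨c[0, 1, 2, 3, 4, 5, 6], mem_alternatingGroup.2 (by decide +kernel)⟩
/-- an involution -/
def r2 : T7 := ⟨c[0, 1] * c[2, 3], mem_alternatingGroup.2 (by decide +kernel)⟩

theorem r5_type : (r5 : Perm (Fin 7)).cycleType = {5} := by decide +kernel
theorem r4_type : (r4 : Perm (Fin 7)).cycleType = {4, 2} := by decide +kernel
theorem r7_type : (r7 : Perm (Fin 7)).cycleType = {7} := by decide +kernel
theorem r2_type : (r2 : Perm (Fin 7)).cycleType = {2, 2} := by decide +kernel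

theorem five_conj {g : T7} (hg : (g : Perm (Fin 7)).cycleType = {5}) : ∃ k : T7, k * g * k⁻¹ = g ^ 2 := by
  have h := pow_conj (r := r5) (k0 := ⟨c[(0 : Fin 7), 1] * c[(3 : Fin 7), 4, 6, 5], mem_alternatingGroup.2 (by decide +kernel)⟩) (m := 2)
    (by decide +kernel) (g := g) (by rw [hg, r5_type])
  exact_mod_cast h

theorem seven_conj {g : T7} (hg : (g : Perm (Fin 7)).cycleType = {7}) : ∃ k : T7, k * g * k⁻¹ = g ^ 2 := by
  have h := pow_conj (r := r7) (k0 := ⟨c[(1 : Fin 7), 2, 4] * c[(3 : Fin 7), 6, 5], mem_alternatingGroup.2 (by decide +kernel)⟩) (m := 2)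
    (by decide +kernel) (g := g) (by rw [hg, r7_type])
  exact_mod_cast h

theorem four_conj {g : T7} (hg : (g : Perm (Fin 7)).cycleType = {4, 2}) : ∃ k : T7, k * g * k⁻¹ = g⁻¹ := by
  have h := pow_conj (r := r4) (k0 := ⟨c[(1 : Fin 7), 3] * c[(4 : Fin 7), 5], mem_alternatingGroup.2 (by decide +kernel)⟩) (m := -1)
    (by decide +kernel) (g := g) (by rw [hg, r4_type])
  rwa [zpow_neg_one] at h

theorem two_conj {g g' : T7} (hg : (g : Perm (Fin 7)).cycleType = {2, 2})
    (hg' : (g' : Perm (Fin 7)).cycleType = {2, 2}) : ∃ k : T7, k * g * k⁻¹ = g' := by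
  obtain ⟨k, hk⟩ := conj_of_type (r := r2) (κ := swap (4 : Fin 7) 5) (by decide +kernel) (by decide +kernel) (g := g)
    (by rw [hg, r2_type])
  obtain ⟨l, hl⟩ := conj_of_type (r := r2) (κ := swap (4 : Fin 7) 5) (by decide +kernel) (by decide +kernel) (g := g')
    (by rw [hg', r2_type])
  exact ⟨l * k⁻¹, by rw [← hk, ← hl]; group⟩

/-- the elements of order 7 are conjugate to their inverses up to a power `2` ... the square of an element of type
`{4, 2}` -/
theorem sq_type {g : T7} (hg : (g : Perm (Fin 7)).cycleType = {4, 2}) :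
    ((g * g : T7) : Perm (Fin 7)).cycleType = {2, 2} := by
  obtain ⟨τ, hτ⟩ := isConj_iff.1 (isConj_iff_cycleType_eq.2 (show (r4 : Perm (Fin 7)).cycleType =
    (g : Perm (Fin 7)).cycleType by rw [hg, r4_type]))
  have h1 : ((g * g : T7) : Perm (Fin 7)) = τ * ((r4 * r4 : T7) : Perm (Fin 7)) * τ⁻¹ := by
    change (g : Perm (Fin 7)) * g = τ * ((r4 : Perm (Fin 7)) * r4) * τ⁻¹
    rw [← hτ]
    group
  rw [h1, cycleType_conj]
  decide +kernel

section
variable {K V : Type*} [Field K] [AddCommGroup V] [Module K V]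

theorem trace_conj (ρ : Representation K T7 V) (k g : T7) :
    LinearMap.trace K V (ρ (k * g * k⁻¹)) = LinearMap.trace K V (ρ g) := by
  rw [map_mul, LinearMap.trace_mul_comm, ← map_mul, ← mul_assoc, inv_mul_cancel, one_mul]

theorem ev_conj (ρ : Representation K T7 V) (g x : T7) (μ : K) : ev (ρ (g * x * g⁻¹)) μ = ev (ρ x) μ := by
  unfold Cfsg.Agent.H952.F4.ev
  let e : V ≃ₗ[K] V := LinearEquiv.ofLinearMap (ρ g) (ρ g⁻¹)
    (by rw [← Module.End.mul_eq_comp, ← map_mul, mul_inv_cancel, map_one]; rfl)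
    (by rw [← Module.End.mul_eq_comp, ← map_mul, inv_mul_cancel, map_one]; rfl)
  have h1 : Module.End.eigenspace (ρ (g * x * g⁻¹)) μ = (Module.End.eigenspace (ρ x) μ).map (e : V →ₗ[K] V) := by
    ext v
    rw [Submodule.mem_map, Module.End.mem_eigenspace_iff]
    constructor
    · intro h
      refine ⟨ρ g⁻¹ v, ?_, ?_⟩
      · rw [Module.End.mem_eigenspace_iff]
        have h2 : ρ x (ρ g⁻¹ v) = ρ g⁻¹ (ρ (g * x * g⁻¹) v) := by
          rw [← Module.End.mul_apply, ← Module.End.mul_apply, ← map_mul, ← map_mul]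
          congr 2
          group
        rw [h2, h, map_smul]
      · show ρ g (ρ g⁻¹ v) = v
        rw [← Module.End.mul_apply, ← map_mul, mul_inv_cancel, map_one]
        rfl
    · rintro ⟨w, hw, rfl⟩
      rw [Module.End.mem_eigenspace_iff] at hw
      show ρ (g * x * g⁻¹) (ρ g w) = μ • ρ g w
      have h2 : ρ (g * x * g⁻¹) (ρ g w) = ρ g (ρ x w) := by
        rw [← Module.End.mul_apply, ← Module.End.mul_apply, ← map_mul, ← map_mul]
        congr 2
        group
      rw [h2, hw, map_smul]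
  rw [h1]
  exact LinearEquiv.finrank_map_eq e _

/-- the elements of order 4 for the dihedral group -/
def a2 : T7 := ⟨c[0, 2] * c[4, 5], mem_alternatingGroup.2 (by decide +kernel)⟩
/-- first element -/
def e1 : T7 := ⟨c[2, 3, 4, 5, 6], mem_alternatingGroup.2 (by decide +kernel)⟩
/-- second element -/
def e2 : T7 := ⟨c[1, 2, 4] * c[3, 5, 6], mem_alternatingGroup.2 (by decide +kernel)⟩
/-- the normalizing element of the 5-cycle -/
def y5 : T7 := ⟨c[0, 1] * c[3, 4, 6, 5], mem_alternatingGroup.2 (by decide +kernel)⟩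

variable [FiniteDimensional K V]

/-- **the involutions do not have `ev = 11`** -/
theorem no_eleven [IsAlgClosed K] (h2 : (2 : K) ≠ 0) (h5 : (5 : K) ≠ 0) (ρ : Representation K T7 V)
    (h27 : finrank K V = 27)
    (hev2 : ∀ g : T7, (g : Perm (Fin 7)).cycleType = {2, 2} → ev (ρ g) 1 = 11)
    (hev4 : ∀ g : T7, (g : Perm (Fin 7)).cycleType = {4, 2} → ev (ρ g) 1 = 9 ∨ ev (ρ g) 1 = 5)
    (hev5 : ev (ρ r5) 1 = 7) (htr : LinearMap.trace K V (ρ r5) = 2) : False := by
  -- dihedral group of order 10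
  have d1 := Cfsg.Agent.H952.F4.Eig.dihedral h2 ρ (z := r5) (s := y5 * y5) (m := 5) (by decide)
    (by exact_mod_cast h5) (by decide +kernel) (by decide +kernel) (by decide +kernel) (μ := 1) (Or.inl rfl)
  rw [h27, hev5, hev2 (y5 * y5) (by decide +kernel)] at d1
  -- Frobenius group of order 20
  have d2 := Cfsg.Agent.H952.F4.Eig.frob ρ (m := 5) (by norm_num) (by exact_mod_cast h5) (z := r5) (y := y5)
    (a := 2) (k := 4) (by decide +kernel) (by decide +kernel) Cfsg.Agent.H952.F4.Kill.ord5 (by norm_num)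
    (by decide +kernel) (μ := 1) (one_pow 4)
  rw [h27, hev5] at d2
  have d3 : finrank K ↥(es (ρ r5) 1 ⊓ es (ρ y5) 1) ≤ finrank K ↥(es (ρ r5) 1 ⊓ es (ρ (y5 * y5)) 1) := by
    refine Submodule.finrank_mono (inf_le_inf le_rfl fun v hv => ?_)
    rw [Cfsg.Agent.H546.F4Eig.mem_es_one] at hv ⊢
    rw [map_mul, Module.End.mul_apply, hv, hv]
  have d4 := hev4 y5 (by decide +kernel)
  have d5 : ev (ρ r4) 1 = ev (ρ y5) 1 := by
    obtain ⟨k, hk⟩ := conj_of_type (r := r4) (κ := swap (4 : Fin 7) 5) (by decide +kernel) (by decide +kernel) (g := y5)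
      (by decide +kernel)
    rw [← hk, ev_conj]
  have d6 : ev (ρ r4) 1 = 5 := by omega
  -- dihedral group of order 8
  have q1 := Cfsg.Agent.H952.F4.Eig.four h2 ρ (a := r4 * r4) (b := a2) (by decide +kernel) (by decide +kernel)
    (by decide +kernel)
  rw [h27, hev2 (r4 * r4) (by decide +kernel), hev2 a2 (by decide +kernel),
    hev2 (r4 * r4 * a2) (by decide +kernel)] at q1
  have q2 := Cfsg.Agent.H952.F4.Eig.four h2 ρ (a := r4 * r4) (b := r4 * a2) (by decide +kernel) (by decide +kernel)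
    (by decide +kernel)
  rw [h27, hev2 (r4 * r4) (by decide +kernel), hev2 (r4 * a2) (by decide +kernel),
    hev2 (r4 * r4 * (r4 * a2)) (by decide +kernel)] at q2
  have q3 := Cfsg.Agent.H952.F4.Eig.ev_neg h2 (ρ r4)
  rw [← map_mul, hev2 (r4 * r4) (by decide +kernel), d6] at q3
  have hzz : ∀ v, ρ (r4 * r4) v = ρ r4 (ρ r4 v) := fun v => by rw [map_mul]; rfl
  have hza : ∀ v, ρ (r4 * a2) v = ρ r4 (ρ a2 v) := fun v => by rw [map_mul]; rfl
  have haz : ∀ v, ρ a2 (ρ r4 v) = ρ r4 (ρ (r4 * r4) (ρ a2 v)) := by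
    intro v
    rw [← Module.End.mul_apply, ← Module.End.mul_apply, ← Module.End.mul_apply, ← map_mul, ← map_mul, ← map_mul,
      show a2 * r4 = r4 * (r4 * r4 * a2) by decide +kernel, ← mul_assoc]
  have hazz : ∀ v, ρ a2 (ρ (r4 * r4) v) = ρ (r4 * r4) (ρ a2 v) := by
    intro v
    rw [← Module.End.mul_apply, ← Module.End.mul_apply, ← map_mul, ← map_mul,
      show a2 * (r4 * r4) = r4 * r4 * a2 by decide +kernel]
  have hz4 : ∀ v, ρ (r4 * r4) (ρ (r4 * r4) v) = v := fun v => by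
    rw [← Module.End.mul_apply, ← map_mul, show r4 * r4 * (r4 * r4) = 1 by decide +kernel, map_one]; rfl
  have haa : ∀ v, ρ a2 (ρ a2 v) = v := fun v => by
    rw [← Module.End.mul_apply, ← map_mul, show a2 * a2 = 1 by decide +kernel, map_one]; rfl
  have hzzz : ∀ v, ρ (r4 * r4) (ρ r4 v) = ρ r4 (ρ (r4 * r4) v) := fun v => by
    rw [← Module.End.mul_apply, ← Module.End.mul_apply, ← map_mul, ← map_mul,
      show r4 * r4 * r4 = r4 * (r4 * r4) by decide +kernel]
  -- the four characters of `D₈ / Z`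
  have s1 := Cfsg.Agent.H546.F4Eig.split_sq h2 (one_ne_zero (α := K)) (ρ r4) (es (ρ (r4 * r4)) 1 ⊓ es (ρ a2) 1)
    (fun v hv => by
      have hv1 := Cfsg.Agent.H546.F4Eig.mem_es_one.1 hv.1
      have hv2 := Cfsg.Agent.H546.F4Eig.mem_es_one.1 hv.2
      exact ⟨Cfsg.Agent.H546.F4Eig.mem_es_one.2 (by rw [hzzz, hv1]),
        Cfsg.Agent.H546.F4Eig.mem_es_one.2 (by rw [haz, hv2, hv1])⟩)
    (fun v hv => by rw [← hzz, Cfsg.Agent.H546.F4Eig.mem_es_one.1 hv.1, one_mul, one_smul])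
  have s2 := Cfsg.Agent.H546.F4Eig.split_sq h2 (one_ne_zero (α := K)) (ρ r4) (es (ρ (r4 * r4)) 1 ⊓ es (ρ (r4 * a2)) 1)
    (fun v hv => by
      have hv1 := Cfsg.Agent.H546.F4Eig.mem_es_one.1 hv.1
      have hv2 := Cfsg.Agent.H546.F4Eig.mem_es_one.1 hv.2
      refine ⟨Cfsg.Agent.H546.F4Eig.mem_es_one.2 (by rw [hzzz, hv1]),
        Cfsg.Agent.H546.F4Eig.mem_es_one.2 ?_⟩
      rw [hza] at hv2 ⊢
      rw [haz, ← hazz, hv1, hv2])
    (fun v hv => by rw [← hzz, Cfsg.Agent.H546.F4Eig.mem_es_one.1 hv.1, one_mul, one_smul])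
  have s3 := Cfsg.Agent.H546.F4Eig.split_inv ρ h2 (a := a2) (by decide +kernel) (es (ρ r4) (-1))
    (fun v hv => by
      have hv1 := Cfsg.Agent.H546.F4Eig.mem_es_neg.1 hv
      refine Cfsg.Agent.H546.F4Eig.mem_es_neg.2 ?_
      have h9 := haz v
      rw [hv1, map_neg, ← hazz, hzz, hv1, map_neg, hv1, neg_neg] at h9
      exact h9.symm)
  have t1 : es (ρ (r4 * r4)) 1 ⊓ es (ρ a2) 1 ⊓ es (ρ r4) 1 = es (ρ r4) 1 ⊓ es (ρ a2) 1 := by
    refine le_antisymm (fun v hv => ⟨hv.2, hv.1.2⟩) fun v hv => ⟨⟨?_, hv.2⟩, hv.1⟩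
    have hv1 := Cfsg.Agent.H546.F4Eig.mem_es_one.1 hv.1
    exact Cfsg.Agent.H546.F4Eig.mem_es_one.2 (by rw [hzz, hv1, hv1])
  have t2 : es (ρ (r4 * r4)) 1 ⊓ es (ρ (r4 * a2)) 1 ⊓ es (ρ r4) 1 = es (ρ r4) 1 ⊓ es (ρ a2) 1 := by
    refine le_antisymm (fun v hv => ⟨hv.2, ?_⟩) fun v hv => ⟨⟨?_, ?_⟩, hv.1⟩
    · have hv1 := Cfsg.Agent.H546.F4Eig.mem_es_one.1 hv.1
      exact Cfsg.Agent.H546.F4Eig.mem_es_one.2 (by rw [hzz, hv1, hv1])
    · have hv1 := Cfsg.Agent.H546.F4Eig.mem_es_one.1 hv.1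
      have hv2 := Cfsg.Agent.H546.F4Eig.mem_es_one.1 hv.2
      exact Cfsg.Agent.H546.F4Eig.mem_es_one.2 (by rw [hza, hv2, hv1])
    · have hv1 := Cfsg.Agent.H546.F4Eig.mem_es_one.1 hv.1.2
      have hv2 := Cfsg.Agent.H546.F4Eig.mem_es_one.1 hv.2
      refine Cfsg.Agent.H546.F4Eig.mem_es_one.2 ?_
      have h9 := haz (ρ a2 v)
      rw [← hza, hv1, haa] at h9
      have h10 := haz v
      rw [hv2, ← hazz, hzz, hv2, hv2] at h10
      rw [h10, ← hza, hv1]
  have t3 : es (ρ (r4 * r4)) 1 ⊓ es (ρ a2) 1 ⊓ es (ρ r4) (-1) = es (ρ r4) (-1) ⊓ es (ρ a2) 1 := by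
    refine le_antisymm (fun v hv => ⟨hv.2, hv.1.2⟩) fun v hv => ⟨⟨?_, hv.2⟩, hv.1⟩
    have hv1 := Cfsg.Agent.H546.F4Eig.mem_es_neg.1 hv.1
    exact Cfsg.Agent.H546.F4Eig.mem_es_one.2 (by rw [hzz, hv1, map_neg, hv1, neg_neg])
  have t4 : es (ρ (r4 * r4)) 1 ⊓ es (ρ (r4 * a2)) 1 ⊓ es (ρ r4) (-1) = es (ρ r4) (-1) ⊓ es (ρ a2) (-1) := by
    refine le_antisymm (fun v hv => ⟨hv.2, ?_⟩) fun v hv => ⟨⟨?_, ?_⟩, hv.1⟩
    · have hv1 := Cfsg.Agent.H546.F4Eig.mem_es_neg.1 hv.1
      exact Cfsg.Agent.H546.F4Eig.mem_es_one.2 (by rw [hzz, hv1, map_neg, hv1, neg_neg])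
    · have hv1 := Cfsg.Agent.H546.F4Eig.mem_es_neg.1 hv.1
      have hv2 := Cfsg.Agent.H546.F4Eig.mem_es_neg.1 hv.2
      exact Cfsg.Agent.H546.F4Eig.mem_es_one.2 (by rw [hza, hv2, map_neg, hv1, neg_neg])
    · have hv1 := Cfsg.Agent.H546.F4Eig.mem_es_one.1 hv.1.2
      have hv2 := Cfsg.Agent.H546.F4Eig.mem_es_neg.1 hv.2
      refine Cfsg.Agent.H546.F4Eig.mem_es_neg.2 ?_
      have h10 := haz v
      rw [hv2, ← hazz, hzz, hv2, map_neg, map_neg, hv2, neg_neg, ← hza, hv1] at h10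
      exact neg_eq_iff_eq_neg.1 h10
  rw [t1, t3] at s1
  rw [t2, t4] at s2
  have u1 : finrank K ↥(es (ρ r4) (-1)) = ev (ρ r4) (-1) := rfl
  have u2 : finrank K ↥(es (ρ r4) 1 ⊓ es (ρ a2) 1) = 0 := by omega
  have h0 : es (ρ r4) 1 ⊓ es (ρ a2) 1 = ⊥ := Submodule.finrank_eq_zero.1 u2
  -- trace relations
  have w1 := Cfsg.Agent.H952.F4.Kill.sum_trace_zero ρ (z := r4) (c := a2) (m := 4) (k := 2) (b := 3)
    (by decide +kernel) (by decide +kernel) (by norm_num) (by norm_num) (by decide +kernel) (one_pow 2) h0 e1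
  have w2 := Cfsg.Agent.H952.F4.Kill.sum_trace_zero ρ (z := r4) (c := a2) (m := 4) (k := 2) (b := 3)
    (by decide +kernel) (by decide +kernel) (by norm_num) (by norm_num) (by decide +kernel) (one_pow 2) h0 e2
  simp only [Finset.sum_range_succ, Finset.sum_range_zero, zero_add, inv_one, one_pow, one_mul] at w1 w2
  have tr : ∀ (k r g : T7), k * r * k⁻¹ = g → LinearMap.trace K V (ρ g) = LinearMap.trace K V (ρ r) :=
    fun k r g h => by rw [← h, trace_conj]
  rw [tr 1 r5 (a2 ^ 0 * r4 ^ 0 * e1) (by decide +kernel),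
    tr ⟨c[(4 : Fin 7), 5, 6], mem_alternatingGroup.2 (by decide +kernel)⟩ r33 (a2 ^ 0 * r4 ^ 1 * e1) (by decide +kernel),
    tr ⟨c[(1 : Fin 7), 6, 2, 5] * c[(3 : Fin 7), 4], mem_alternatingGroup.2 (by decide +kernel)⟩ r7⁻¹ (a2 ^ 0 * r4 ^ 2 * e1)
      (by decide +kernel),
    tr ⟨c[(0 : Fin 7), 2] * c[(1 : Fin 7), 4, 5, 6], mem_alternatingGroup.2 (by decide +kernel)⟩ r5 (a2 ^ 0 * r4 ^ 3 * e1)
      (by decide +kernel),
    tr ⟨c[(0 : Fin 7), 1, 4, 3, 2], mem_alternatingGroup.2 (by decide +kernel)⟩ r5 (a2 ^ 1 * r4 ^ 0 * e1) (by decide +kernel),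
    tr ⟨c[(0 : Fin 7), 3, 6, 2, 5, 1, 4], mem_alternatingGroup.2 (by decide +kernel)⟩ r4 (a2 ^ 1 * r4 ^ 1 * e1)
      (by decide +kernel),
    tr ⟨c[(1 : Fin 7), 4, 5, 6, 2], mem_alternatingGroup.2 (by decide +kernel)⟩ r5 (a2 ^ 1 * r4 ^ 2 * e1) (by decide +kernel),
    tr ⟨c[(1 : Fin 7), 3, 5] * c[(2 : Fin 7), 4, 6], mem_alternatingGroup.2 (by decide +kernel)⟩ r7 (a2 ^ 1 * r4 ^ 3 * e1)
      (by decide +kernel), htr] at w1
  rw [tr ⟨c[(0 : Fin 7), 3, 1, 5, 4, 2, 6], mem_alternatingGroup.2 (by decide +kernel)⟩ r33 (a2 ^ 0 * r4 ^ 0 * e2)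
      (by decide +kernel),
    tr ⟨c[(2 : Fin 7), 3, 4], mem_alternatingGroup.2 (by decide +kernel)⟩ r7 (a2 ^ 0 * r4 ^ 1 * e2) (by decide +kernel),
    tr ⟨c[(1 : Fin 7), 2, 4, 5, 6], mem_alternatingGroup.2 (by decide +kernel)⟩ r7 (a2 ^ 0 * r4 ^ 2 * e2) (by decide +kernel),
    tr ⟨c[(0 : Fin 7), 2, 6, 1, 5, 4, 3], mem_alternatingGroup.2 (by decide +kernel)⟩ r33 (a2 ^ 0 * r4 ^ 3 * e2)
      (by decide +kernel),
    tr ⟨c[(2 : Fin 7), 4, 6], mem_alternatingGroup.2 (by decide +kernel)⟩ r7⁻¹ (a2 ^ 1 * r4 ^ 0 * e2) (by decide +kernel),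
    tr ⟨c[(1 : Fin 7), 4, 5, 3, 6], mem_alternatingGroup.2 (by decide +kernel)⟩ r7⁻¹ (a2 ^ 1 * r4 ^ 1 * e2)
      (by decide +kernel),
    tr ⟨c[(0 : Fin 7), 1, 2, 5, 4, 3, 6], mem_alternatingGroup.2 (by decide +kernel)⟩ r4 (a2 ^ 1 * r4 ^ 2 * e2)
      (by decide +kernel),
    tr ⟨c[(1 : Fin 7), 3, 6] * c[(2 : Fin 7), 5, 4], mem_alternatingGroup.2 (by decide +kernel)⟩ r4 (a2 ^ 1 * r4 ^ 3 * e2)
      (by decide +kernel)] at w2
  have w3 : (2 : K) * (2 * (2 * 2)) = 0 := by linear_combination 2 * w1 - w2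
  exact (mul_ne_zero h2 (mul_ne_zero h2 (mul_ne_zero h2 h2))) w3

end

end Cfsg.Agent.H931.E6
end

-- part: H931/E6/Fun
section
/-!
# Symmetric functions on pairs with zero row sums (helper931)

`S14 f` : `f : Fin 7 → Fin 7 → K` symmetric, zero on the diagonal, row sums zero (dimension at least 14).
`rsum f`, `gsum f` : averages of `f` over `⟨(2 3 4 5 6)⟩` and its difference with the translate by `(0 1)(3 4 6 5)`.
-/

set_option autoImplicit false
set_option maxHeartbeats 1000000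

namespace Cfsg.Agent.H931.E6

open Equiv Equiv.Perm

variable {K V W : Type*} [Field K] [AddCommGroup V] [Module K V] [AddCommGroup W] [Module K W]

/-- symmetric functions with row sums zero -/
structure S14 (f : Fin 7 → Fin 7 → K) : Prop where
  diag : ∀ i, f i i = 0
  symm : ∀ i j, f i j = f j i
  row : ∀ i, ∑ j, f i j = 0

theorem S14.row' {f : Fin 7 → Fin 7 → K} (h : S14 f) (i : Fin 7) :
    f i 0 + f i 1 + f i 2 + f i 3 + f i 4 + f i 5 + f i 6 = 0 := by
  rw [← h.row i, Fin.sum_univ_seven]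

theorem S14.comp {f : Fin 7 → Fin 7 → K} (h : S14 f) (g : Perm (Fin 7)) : S14 fun i j => f (g i) (g j) :=
  ⟨fun i => h.diag _, fun i j => h.symm _ _, fun i => by
    rw [← h.row (g i)]
    exact Equiv.sum_comp g fun j => f (g i) j⟩

/-- `(2 3 4 5 6)^k` -/
def rt : Fin 5 → Fin 7 → Fin 7 := ![
  ![0, 1, 2, 3, 4, 5, 6],
  ![0, 1, 3, 4, 5, 6, 2],
  ![0, 1, 4, 5, 6, 2, 3],
  ![0, 1, 5, 6, 2, 3, 4],
  ![0, 1, 6, 2, 3, 4, 5]]

/-- `(2 3 4 5 6)^k (0 1)(3 4 6 5)` -/
def tt : Fin 5 → Fin 7 → Fin 7 := ![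
  ![1, 0, 2, 4, 6, 3, 5],
  ![1, 0, 3, 5, 2, 4, 6],
  ![1, 0, 4, 6, 3, 5, 2],
  ![1, 0, 5, 2, 4, 6, 3],
  ![1, 0, 6, 3, 5, 2, 4]]

/-- edges minus diagonals of the pentagon `2 3 4 5 6` -/
def dd : Fin 7 → Fin 7 → ℤ := ![
  ![0, 0, 0, 0, 0, 0, 0],
  ![0, 0, 0, 0, 0, 0, 0],
  ![0, 0, 0, 1, -1, -1, 1],
  ![0, 0, 1, 0, 1, -1, -1],
  ![0, 0, -1, 1, 0, 1, -1],
  ![0, 0, -1, -1, 1, 0, 1],
  ![0, 0, 1, -1, -1, 1, 0]]

/-- the other basis vector of the functions invariant under `(2 3 4 5 6)` -/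
def aa : Fin 7 → Fin 7 → ℤ := ![
  ![0, 5, -1, -1, -1, -1, -1],
  ![5, 0, -1, -1, -1, -1, -1],
  ![-1, -1, 0, 0, 1, 1, 0],
  ![-1, -1, 0, 0, 0, 1, 1],
  ![-1, -1, 1, 0, 0, 0, 1],
  ![-1, -1, 1, 1, 0, 0, 0],
  ![-1, -1, 0, 1, 1, 0, 0]]

/-- edges minus diagonals of a pentagon -/
def pent {M : Type*} [AddCommGroup M] (b : Fin 7 → Fin 7 → M) (i j k l m : Fin 7) : M :=
  b i j + b j k + b k l + b l m + b m i - (b i k + b j l + b k m + b l i + b m j)

/-- alternating sum over a 4-cycle -/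
def alt {M : Type*} [AddCommGroup M] (b : Fin 7 → Fin 7 → M) (i j k l : Fin 7) : M :=
  b i j - b j k + b k l - b l i

theorem four_alt (b : Fin 7 → Fin 7 → W) (hs : ∀ i j, b i j = b j i) (i j k l m : Fin 7) :
    (4 : K) • alt b i j k l = -pent b i j k l m + pent b i j k m l + (3 : K) • pent b i j l k m - pent b i j l m k -
      pent b i j m k l + (3 : K) • pent b i j m l k := by
  simp only [alt, pent, hs k i, hs k j, hs l i, hs l j, hs l k, hs m i, hs m j, hs m k, hs m l]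
  module

theorem gsum {f : Fin 7 → Fin 7 → K} (h : S14 f) (i j : Fin 7) :
    ∑ k, f (rt k i) (rt k j) - ∑ k, f (tt k i) (tt k j) = pent f 2 3 4 5 6 * (dd i j : K) := by
  rw [Fin.sum_univ_five, Fin.sum_univ_five, pent]
  fin_cases i <;> fin_cases j
  · show f 0 0 + f 0 0 + f 0 0 + f 0 0 + f 0 0 - (f 1 1 + f 1 1 + f 1 1 + f 1 1 + f 1 1) = (f 2 3 + f 3 4 + f 4 5 + f 5 6 + f 6 2 - (f 2 4 + f 3 5 + f 4 6 + f 5 2 + f 6 3)) * (((0) : ℤ) : K)
    push_cast
    linear_combination (5) * h.diag 0 + (-5) * h.diag 1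
  · show f 0 1 + f 0 1 + f 0 1 + f 0 1 + f 0 1 - (f 1 0 + f 1 0 + f 1 0 + f 1 0 + f 1 0) = (f 2 3 + f 3 4 + f 4 5 + f 5 6 + f 6 2 - (f 2 4 + f 3 5 + f 4 6 + f 5 2 + f 6 3)) * (((0) : ℤ) : K)
    push_cast
    linear_combination (-5) * h.symm 1 0
  · show f 0 2 + f 0 3 + f 0 4 + f 0 5 + f 0 6 - (f 1 2 + f 1 3 + f 1 4 + f 1 5 + f 1 6) = (f 2 3 + f 3 4 + f 4 5 + f 5 6 + f 6 2 - (f 2 4 + f 3 5 + f 4 6 + f 5 2 + f 6 3)) * (((0) : ℤ) : K)
    push_cast
    linear_combination (1) * h.row' 0 + (-1) * h.row' 1 + (-1) * h.diag 0 + (1) * h.symm 1 0 + (1) * h.diag 1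
  · show f 0 3 + f 0 4 + f 0 5 + f 0 6 + f 0 2 - (f 1 4 + f 1 5 + f 1 6 + f 1 2 + f 1 3) = (f 2 3 + f 3 4 + f 4 5 + f 5 6 + f 6 2 - (f 2 4 + f 3 5 + f 4 6 + f 5 2 + f 6 3)) * (((0) : ℤ) : K)
    push_cast
    linear_combination (1) * h.row' 0 + (-1) * h.row' 1 + (-1) * h.diag 0 + (1) * h.symm 1 0 + (1) * h.diag 1
  · show f 0 4 + f 0 5 + f 0 6 + f 0 2 + f 0 3 - (f 1 6 + f 1 2 + f 1 3 + f 1 4 + f 1 5) = (f 2 3 + f 3 4 + f 4 5 + f 5 6 + f 6 2 - (f 2 4 + f 3 5 + f 4 6 + f 5 2 + f 6 3)) * (((0) : ℤ) : K)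
    push_cast
    linear_combination (1) * h.row' 0 + (-1) * h.row' 1 + (-1) * h.diag 0 + (1) * h.symm 1 0 + (1) * h.diag 1
  · show f 0 5 + f 0 6 + f 0 2 + f 0 3 + f 0 4 - (f 1 3 + f 1 4 + f 1 5 + f 1 6 + f 1 2) = (f 2 3 + f 3 4 + f 4 5 + f 5 6 + f 6 2 - (f 2 4 + f 3 5 + f 4 6 + f 5 2 + f 6 3)) * (((0) : ℤ) : K)
    push_cast
    linear_combination (1) * h.row' 0 + (-1) * h.row' 1 + (-1) * h.diag 0 + (1) * h.symm 1 0 + (1) * h.diag 1
  · show f 0 6 + f 0 2 + f 0 3 + f 0 4 + f 0 5 - (f 1 5 + f 1 6 + f 1 2 + f 1 3 + f 1 4) = (f 2 3 + f 3 4 + f 4 5 + f 5 6 + f 6 2 - (f 2 4 + f 3 5 + f 4 6 + f 5 2 + f 6 3)) * (((0) : ℤ) : K)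
    push_cast
    linear_combination (1) * h.row' 0 + (-1) * h.row' 1 + (-1) * h.diag 0 + (1) * h.symm 1 0 + (1) * h.diag 1
  · show f 1 0 + f 1 0 + f 1 0 + f 1 0 + f 1 0 - (f 0 1 + f 0 1 + f 0 1 + f 0 1 + f 0 1) = (f 2 3 + f 3 4 + f 4 5 + f 5 6 + f 6 2 - (f 2 4 + f 3 5 + f 4 6 + f 5 2 + f 6 3)) * (((0) : ℤ) : K)
    push_cast
    linear_combination (5) * h.symm 1 0
  · show f 1 1 + f 1 1 + f 1 1 + f 1 1 + f 1 1 - (f 0 0 + f 0 0 + f 0 0 + f 0 0 + f 0 0) = (f 2 3 + f 3 4 + f 4 5 + f 5 6 + f 6 2 - (f 2 4 + f 3 5 + f 4 6 + f 5 2 + f 6 3)) * (((0) : ℤ) : K)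
    push_cast
    linear_combination (5) * h.diag 1 + (-5) * h.diag 0
  · show f 1 2 + f 1 3 + f 1 4 + f 1 5 + f 1 6 - (f 0 2 + f 0 3 + f 0 4 + f 0 5 + f 0 6) = (f 2 3 + f 3 4 + f 4 5 + f 5 6 + f 6 2 - (f 2 4 + f 3 5 + f 4 6 + f 5 2 + f 6 3)) * (((0) : ℤ) : K)
    push_cast
    linear_combination (-1) * h.row' 0 + (1) * h.row' 1 + (1) * h.diag 0 + (-1) * h.symm 1 0 + (-1) * h.diag 1
  · show f 1 3 + f 1 4 + f 1 5 + f 1 6 + f 1 2 - (f 0 4 + f 0 5 + f 0 6 + f 0 2 + f 0 3) = (f 2 3 + f 3 4 + f 4 5 + f 5 6 + f 6 2 - (f 2 4 + f 3 5 + f 4 6 + f 5 2 + f 6 3)) * (((0) : ℤ) : K)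
    push_cast
    linear_combination (-1) * h.row' 0 + (1) * h.row' 1 + (1) * h.diag 0 + (-1) * h.symm 1 0 + (-1) * h.diag 1
  · show f 1 4 + f 1 5 + f 1 6 + f 1 2 + f 1 3 - (f 0 6 + f 0 2 + f 0 3 + f 0 4 + f 0 5) = (f 2 3 + f 3 4 + f 4 5 + f 5 6 + f 6 2 - (f 2 4 + f 3 5 + f 4 6 + f 5 2 + f 6 3)) * (((0) : ℤ) : K)
    push_cast
    linear_combination (-1) * h.row' 0 + (1) * h.row' 1 + (1) * h.diag 0 + (-1) * h.symm 1 0 + (-1) * h.diag 1
  · show f 1 5 + f 1 6 + f 1 2 + f 1 3 + f 1 4 - (f 0 3 + f 0 4 + f 0 5 + f 0 6 + f 0 2) = (f 2 3 + f 3 4 + f 4 5 + f 5 6 + f 6 2 - (f 2 4 + f 3 5 + f 4 6 + f 5 2 + f 6 3)) * (((0) : ℤ) : K)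
    push_cast
    linear_combination (-1) * h.row' 0 + (1) * h.row' 1 + (1) * h.diag 0 + (-1) * h.symm 1 0 + (-1) * h.diag 1
  · show f 1 6 + f 1 2 + f 1 3 + f 1 4 + f 1 5 - (f 0 5 + f 0 6 + f 0 2 + f 0 3 + f 0 4) = (f 2 3 + f 3 4 + f 4 5 + f 5 6 + f 6 2 - (f 2 4 + f 3 5 + f 4 6 + f 5 2 + f 6 3)) * (((0) : ℤ) : K)
    push_cast
    linear_combination (-1) * h.row' 0 + (1) * h.row' 1 + (1) * h.diag 0 + (-1) * h.symm 1 0 + (-1) * h.diag 1
  · show f 2 0 + f 3 0 + f 4 0 + f 5 0 + f 6 0 - (f 2 1 + f 3 1 + f 4 1 + f 5 1 + f 6 1) = (f 2 3 + f 3 4 + f 4 5 + f 5 6 + f 6 2 - (f 2 4 + f 3 5 + f 4 6 + f 5 2 + f 6 3)) * (((0) : ℤ) : K)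
    push_cast
    linear_combination (1) * h.row' 0 + (-1) * h.row' 1 + (1) * h.symm 2 0 + (-1) * h.symm 2 1 + (1) * h.symm 3 0 + (-1) * h.symm 3 1 + (1) * h.symm 4 0 + (-1) * h.symm 4 1 + (1) * h.symm 5 0 + (-1) * h.symm 5 1 + (1) * h.symm 6 0 + (-1) * h.symm 6 1 + (-1) * h.diag 0 + (1) * h.symm 1 0 + (1) * h.diag 1
  · show f 2 1 + f 3 1 + f 4 1 + f 5 1 + f 6 1 - (f 2 0 + f 3 0 + f 4 0 + f 5 0 + f 6 0) = (f 2 3 + f 3 4 + f 4 5 + f 5 6 + f 6 2 - (f 2 4 + f 3 5 + f 4 6 + f 5 2 + f 6 3)) * (((0) : ℤ) : K)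
    push_cast
    linear_combination (-1) * h.row' 0 + (1) * h.row' 1 + (1) * h.symm 2 1 + (-1) * h.symm 2 0 + (1) * h.symm 3 1 + (-1) * h.symm 3 0 + (1) * h.symm 4 1 + (-1) * h.symm 4 0 + (1) * h.symm 5 1 + (-1) * h.symm 5 0 + (1) * h.symm 6 1 + (-1) * h.symm 6 0 + (1) * h.diag 0 + (-1) * h.symm 1 0 + (-1) * h.diag 1
  · show f 2 2 + f 3 3 + f 4 4 + f 5 5 + f 6 6 - (f 2 2 + f 3 3 + f 4 4 + f 5 5 + f 6 6) = (f 2 3 + f 3 4 + f 4 5 + f 5 6 + f 6 2 - (f 2 4 + f 3 5 + f 4 6 + f 5 2 + f 6 3)) * (((0) : ℤ) : K)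
    push_cast
    ring
  · show f 2 3 + f 3 4 + f 4 5 + f 5 6 + f 6 2 - (f 2 4 + f 3 5 + f 4 6 + f 5 2 + f 6 3) = (f 2 3 + f 3 4 + f 4 5 + f 5 6 + f 6 2 - (f 2 4 + f 3 5 + f 4 6 + f 5 2 + f 6 3)) * (((1) : ℤ) : K)
    push_cast
    ring
  · show f 2 4 + f 3 5 + f 4 6 + f 5 2 + f 6 3 - (f 2 6 + f 3 2 + f 4 3 + f 5 4 + f 6 5) = (f 2 3 + f 3 4 + f 4 5 + f 5 6 + f 6 2 - (f 2 4 + f 3 5 + f 4 6 + f 5 2 + f 6 3)) * (((-1) : ℤ) : K)
    push_cast
    linear_combination (-1) * h.symm 3 2 + (-1) * h.symm 4 3 + (-1) * h.symm 5 4 + (-1) * h.symm 6 5 + (1) * h.symm 6 2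
  · show f 2 5 + f 3 6 + f 4 2 + f 5 3 + f 6 4 - (f 2 3 + f 3 4 + f 4 5 + f 5 6 + f 6 2) = (f 2 3 + f 3 4 + f 4 5 + f 5 6 + f 6 2 - (f 2 4 + f 3 5 + f 4 6 + f 5 2 + f 6 3)) * (((-1) : ℤ) : K)
    push_cast
    linear_combination (1) * h.symm 4 2 + (1) * h.symm 5 3 + (1) * h.symm 6 4 + (-1) * h.symm 5 2 + (-1) * h.symm 6 3
  · show f 2 6 + f 3 2 + f 4 3 + f 5 4 + f 6 5 - (f 2 5 + f 3 6 + f 4 2 + f 5 3 + f 6 4) = (f 2 3 + f 3 4 + f 4 5 + f 5 6 + f 6 2 - (f 2 4 + f 3 5 + f 4 6 + f 5 2 + f 6 3)) * (((1) : ℤ) : K)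
    push_cast
    linear_combination (1) * h.symm 3 2 + (1) * h.symm 4 3 + (-1) * h.symm 4 2 + (1) * h.symm 5 4 + (-1) * h.symm 5 3 + (1) * h.symm 6 5 + (-1) * h.symm 6 4 + (-1) * h.symm 6 2 + (1) * h.symm 5 2 + (1) * h.symm 6 3
  · show f 3 0 + f 4 0 + f 5 0 + f 6 0 + f 2 0 - (f 4 1 + f 5 1 + f 6 1 + f 2 1 + f 3 1) = (f 2 3 + f 3 4 + f 4 5 + f 5 6 + f 6 2 - (f 2 4 + f 3 5 + f 4 6 + f 5 2 + f 6 3)) * (((0) : ℤ) : K)
    push_cast
    linear_combination (1) * h.row' 0 + (-1) * h.row' 1 + (1) * h.symm 3 0 + (-1) * h.symm 4 1 + (1) * h.symm 4 0 + (-1) * h.symm 5 1 + (1) * h.symm 5 0 + (-1) * h.symm 6 1 + (1) * h.symm 6 0 + (-1) * h.symm 2 1 + (1) * h.symm 2 0 + (-1) * h.symm 3 1 + (-1) * h.diag 0 + (1) * h.symm 1 0 + (1) * h.diag 1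
  · show f 3 1 + f 4 1 + f 5 1 + f 6 1 + f 2 1 - (f 4 0 + f 5 0 + f 6 0 + f 2 0 + f 3 0) = (f 2 3 + f 3 4 + f 4 5 + f 5 6 + f 6 2 - (f 2 4 + f 3 5 + f 4 6 + f 5 2 + f 6 3)) * (((0) : ℤ) : K)
    push_cast
    linear_combination (-1) * h.row' 0 + (1) * h.row' 1 + (1) * h.symm 3 1 + (-1) * h.symm 4 0 + (1) * h.symm 4 1 + (-1) * h.symm 5 0 + (1) * h.symm 5 1 + (-1) * h.symm 6 0 + (1) * h.symm 6 1 + (-1) * h.symm 2 0 + (1) * h.symm 2 1 + (-1) * h.symm 3 0 + (1) * h.diag 0 + (-1) * h.symm 1 0 + (-1) * h.diag 1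
  · show f 3 2 + f 4 3 + f 5 4 + f 6 5 + f 2 6 - (f 4 2 + f 5 3 + f 6 4 + f 2 5 + f 3 6) = (f 2 3 + f 3 4 + f 4 5 + f 5 6 + f 6 2 - (f 2 4 + f 3 5 + f 4 6 + f 5 2 + f 6 3)) * (((1) : ℤ) : K)
    push_cast
    linear_combination (1) * h.symm 3 2 + (-1) * h.symm 4 2 + (1) * h.symm 4 3 + (-1) * h.symm 5 3 + (1) * h.symm 5 4 + (-1) * h.symm 6 4 + (1) * h.symm 6 5 + (-1) * h.symm 6 2 + (1) * h.symm 5 2 + (1) * h.symm 6 3
  · show f 3 3 + f 4 4 + f 5 5 + f 6 6 + f 2 2 - (f 4 4 + f 5 5 + f 6 6 + f 2 2 + f 3 3) = (f 2 3 + f 3 4 + f 4 5 + f 5 6 + f 6 2 - (f 2 4 + f 3 5 + f 4 6 + f 5 2 + f 6 3)) * (((0) : ℤ) : K)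
    push_cast
    ring
  · show f 3 4 + f 4 5 + f 5 6 + f 6 2 + f 2 3 - (f 4 6 + f 5 2 + f 6 3 + f 2 4 + f 3 5) = (f 2 3 + f 3 4 + f 4 5 + f 5 6 + f 6 2 - (f 2 4 + f 3 5 + f 4 6 + f 5 2 + f 6 3)) * (((1) : ℤ) : K)
    push_cast
    ring
  · show f 3 5 + f 4 6 + f 5 2 + f 6 3 + f 2 4 - (f 4 3 + f 5 4 + f 6 5 + f 2 6 + f 3 2) = (f 2 3 + f 3 4 + f 4 5 + f 5 6 + f 6 2 - (f 2 4 + f 3 5 + f 4 6 + f 5 2 + f 6 3)) * (((-1) : ℤ) : K)
    push_cast
    linear_combination (-1) * h.symm 4 3 + (-1) * h.symm 5 4 + (-1) * h.symm 6 5 + (-1) * h.symm 3 2 + (1) * h.symm 6 2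
  · show f 3 6 + f 4 2 + f 5 3 + f 6 4 + f 2 5 - (f 4 5 + f 5 6 + f 6 2 + f 2 3 + f 3 4) = (f 2 3 + f 3 4 + f 4 5 + f 5 6 + f 6 2 - (f 2 4 + f 3 5 + f 4 6 + f 5 2 + f 6 3)) * (((-1) : ℤ) : K)
    push_cast
    linear_combination (1) * h.symm 4 2 + (1) * h.symm 5 3 + (1) * h.symm 6 4 + (-1) * h.symm 5 2 + (-1) * h.symm 6 3
  · show f 4 0 + f 5 0 + f 6 0 + f 2 0 + f 3 0 - (f 6 1 + f 2 1 + f 3 1 + f 4 1 + f 5 1) = (f 2 3 + f 3 4 + f 4 5 + f 5 6 + f 6 2 - (f 2 4 + f 3 5 + f 4 6 + f 5 2 + f 6 3)) * (((0) : ℤ) : K)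
    push_cast
    linear_combination (1) * h.row' 0 + (-1) * h.row' 1 + (1) * h.symm 4 0 + (-1) * h.symm 6 1 + (1) * h.symm 5 0 + (-1) * h.symm 2 1 + (1) * h.symm 6 0 + (-1) * h.symm 3 1 + (1) * h.symm 2 0 + (-1) * h.symm 4 1 + (1) * h.symm 3 0 + (-1) * h.symm 5 1 + (-1) * h.diag 0 + (1) * h.symm 1 0 + (1) * h.diag 1
  · show f 4 1 + f 5 1 + f 6 1 + f 2 1 + f 3 1 - (f 6 0 + f 2 0 + f 3 0 + f 4 0 + f 5 0) = (f 2 3 + f 3 4 + f 4 5 + f 5 6 + f 6 2 - (f 2 4 + f 3 5 + f 4 6 + f 5 2 + f 6 3)) * (((0) : ℤ) : K)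
    push_cast
    linear_combination (-1) * h.row' 0 + (1) * h.row' 1 + (1) * h.symm 4 1 + (-1) * h.symm 6 0 + (1) * h.symm 5 1 + (-1) * h.symm 2 0 + (1) * h.symm 6 1 + (-1) * h.symm 3 0 + (1) * h.symm 2 1 + (-1) * h.symm 4 0 + (1) * h.symm 3 1 + (-1) * h.symm 5 0 + (1) * h.diag 0 + (-1) * h.symm 1 0 + (-1) * h.diag 1
  · show f 4 2 + f 5 3 + f 6 4 + f 2 5 + f 3 6 - (f 6 2 + f 2 3 + f 3 4 + f 4 5 + f 5 6) = (f 2 3 + f 3 4 + f 4 5 + f 5 6 + f 6 2 - (f 2 4 + f 3 5 + f 4 6 + f 5 2 + f 6 3)) * (((-1) : ℤ) : K)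
    push_cast
    linear_combination (1) * h.symm 4 2 + (1) * h.symm 5 3 + (1) * h.symm 6 4 + (-1) * h.symm 5 2 + (-1) * h.symm 6 3
  · show f 4 3 + f 5 4 + f 6 5 + f 2 6 + f 3 2 - (f 6 4 + f 2 5 + f 3 6 + f 4 2 + f 5 3) = (f 2 3 + f 3 4 + f 4 5 + f 5 6 + f 6 2 - (f 2 4 + f 3 5 + f 4 6 + f 5 2 + f 6 3)) * (((1) : ℤ) : K)
    push_cast
    linear_combination (1) * h.symm 4 3 + (-1) * h.symm 6 4 + (1) * h.symm 5 4 + (1) * h.symm 6 5 + (-1) * h.symm 4 2 + (1) * h.symm 3 2 + (-1) * h.symm 5 3 + (-1) * h.symm 6 2 + (1) * h.symm 5 2 + (1) * h.symm 6 3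
  · show f 4 4 + f 5 5 + f 6 6 + f 2 2 + f 3 3 - (f 6 6 + f 2 2 + f 3 3 + f 4 4 + f 5 5) = (f 2 3 + f 3 4 + f 4 5 + f 5 6 + f 6 2 - (f 2 4 + f 3 5 + f 4 6 + f 5 2 + f 6 3)) * (((0) : ℤ) : K)
    push_cast
    ring
  · show f 4 5 + f 5 6 + f 6 2 + f 2 3 + f 3 4 - (f 6 3 + f 2 4 + f 3 5 + f 4 6 + f 5 2) = (f 2 3 + f 3 4 + f 4 5 + f 5 6 + f 6 2 - (f 2 4 + f 3 5 + f 4 6 + f 5 2 + f 6 3)) * (((1) : ℤ) : K)
    push_cast
    ring
  · show f 4 6 + f 5 2 + f 6 3 + f 2 4 + f 3 5 - (f 6 5 + f 2 6 + f 3 2 + f 4 3 + f 5 4) = (f 2 3 + f 3 4 + f 4 5 + f 5 6 + f 6 2 - (f 2 4 + f 3 5 + f 4 6 + f 5 2 + f 6 3)) * (((-1) : ℤ) : K)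
    push_cast
    linear_combination (-1) * h.symm 6 5 + (-1) * h.symm 3 2 + (-1) * h.symm 4 3 + (-1) * h.symm 5 4 + (1) * h.symm 6 2
  · show f 5 0 + f 6 0 + f 2 0 + f 3 0 + f 4 0 - (f 3 1 + f 4 1 + f 5 1 + f 6 1 + f 2 1) = (f 2 3 + f 3 4 + f 4 5 + f 5 6 + f 6 2 - (f 2 4 + f 3 5 + f 4 6 + f 5 2 + f 6 3)) * (((0) : ℤ) : K)
    push_cast
    linear_combination (1) * h.row' 0 + (-1) * h.row' 1 + (1) * h.symm 5 0 + (-1) * h.symm 3 1 + (1) * h.symm 6 0 + (-1) * h.symm 4 1 + (1) * h.symm 2 0 + (-1) * h.symm 5 1 + (1) * h.symm 3 0 + (-1) * h.symm 6 1 + (1) * h.symm 4 0 + (-1) * h.symm 2 1 + (-1) * h.diag 0 + (1) * h.symm 1 0 + (1) * h.diag 1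
  · show f 5 1 + f 6 1 + f 2 1 + f 3 1 + f 4 1 - (f 3 0 + f 4 0 + f 5 0 + f 6 0 + f 2 0) = (f 2 3 + f 3 4 + f 4 5 + f 5 6 + f 6 2 - (f 2 4 + f 3 5 + f 4 6 + f 5 2 + f 6 3)) * (((0) : ℤ) : K)
    push_cast
    linear_combination (-1) * h.row' 0 + (1) * h.row' 1 + (1) * h.symm 5 1 + (-1) * h.symm 3 0 + (1) * h.symm 6 1 + (-1) * h.symm 4 0 + (1) * h.symm 2 1 + (-1) * h.symm 5 0 + (1) * h.symm 3 1 + (-1) * h.symm 6 0 + (1) * h.symm 4 1 + (-1) * h.symm 2 0 + (1) * h.diag 0 + (-1) * h.symm 1 0 + (-1) * h.diag 1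
  · show f 5 2 + f 6 3 + f 2 4 + f 3 5 + f 4 6 - (f 3 2 + f 4 3 + f 5 4 + f 6 5 + f 2 6) = (f 2 3 + f 3 4 + f 4 5 + f 5 6 + f 6 2 - (f 2 4 + f 3 5 + f 4 6 + f 5 2 + f 6 3)) * (((-1) : ℤ) : K)
    push_cast
    linear_combination (-1) * h.symm 3 2 + (-1) * h.symm 4 3 + (-1) * h.symm 5 4 + (-1) * h.symm 6 5 + (1) * h.symm 6 2
  · show f 5 3 + f 6 4 + f 2 5 + f 3 6 + f 4 2 - (f 3 4 + f 4 5 + f 5 6 + f 6 2 + f 2 3) = (f 2 3 + f 3 4 + f 4 5 + f 5 6 + f 6 2 - (f 2 4 + f 3 5 + f 4 6 + f 5 2 + f 6 3)) * (((-1) : ℤ) : K)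
    push_cast
    linear_combination (1) * h.symm 5 3 + (1) * h.symm 6 4 + (1) * h.symm 4 2 + (-1) * h.symm 5 2 + (-1) * h.symm 6 3
  · show f 5 4 + f 6 5 + f 2 6 + f 3 2 + f 4 3 - (f 3 6 + f 4 2 + f 5 3 + f 6 4 + f 2 5) = (f 2 3 + f 3 4 + f 4 5 + f 5 6 + f 6 2 - (f 2 4 + f 3 5 + f 4 6 + f 5 2 + f 6 3)) * (((1) : ℤ) : K)
    push_cast
    linear_combination (1) * h.symm 5 4 + (1) * h.symm 6 5 + (-1) * h.symm 4 2 + (-1) * h.symm 5 3 + (1) * h.symm 3 2 + (-1) * h.symm 6 4 + (1) * h.symm 4 3 + (-1) * h.symm 6 2 + (1) * h.symm 5 2 + (1) * h.symm 6 3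
  · show f 5 5 + f 6 6 + f 2 2 + f 3 3 + f 4 4 - (f 3 3 + f 4 4 + f 5 5 + f 6 6 + f 2 2) = (f 2 3 + f 3 4 + f 4 5 + f 5 6 + f 6 2 - (f 2 4 + f 3 5 + f 4 6 + f 5 2 + f 6 3)) * (((0) : ℤ) : K)
    push_cast
    ring
  · show f 5 6 + f 6 2 + f 2 3 + f 3 4 + f 4 5 - (f 3 5 + f 4 6 + f 5 2 + f 6 3 + f 2 4) = (f 2 3 + f 3 4 + f 4 5 + f 5 6 + f 6 2 - (f 2 4 + f 3 5 + f 4 6 + f 5 2 + f 6 3)) * (((1) : ℤ) : K)
    push_cast
    ring
  · show f 6 0 + f 2 0 + f 3 0 + f 4 0 + f 5 0 - (f 5 1 + f 6 1 + f 2 1 + f 3 1 + f 4 1) = (f 2 3 + f 3 4 + f 4 5 + f 5 6 + f 6 2 - (f 2 4 + f 3 5 + f 4 6 + f 5 2 + f 6 3)) * (((0) : ℤ) : K)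
    push_cast
    linear_combination (1) * h.row' 0 + (-1) * h.row' 1 + (1) * h.symm 6 0 + (-1) * h.symm 5 1 + (1) * h.symm 2 0 + (-1) * h.symm 6 1 + (1) * h.symm 3 0 + (-1) * h.symm 2 1 + (1) * h.symm 4 0 + (-1) * h.symm 3 1 + (1) * h.symm 5 0 + (-1) * h.symm 4 1 + (-1) * h.diag 0 + (1) * h.symm 1 0 + (1) * h.diag 1
  · show f 6 1 + f 2 1 + f 3 1 + f 4 1 + f 5 1 - (f 5 0 + f 6 0 + f 2 0 + f 3 0 + f 4 0) = (f 2 3 + f 3 4 + f 4 5 + f 5 6 + f 6 2 - (f 2 4 + f 3 5 + f 4 6 + f 5 2 + f 6 3)) * (((0) : ℤ) : K)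
    push_cast
    linear_combination (-1) * h.row' 0 + (1) * h.row' 1 + (1) * h.symm 6 1 + (-1) * h.symm 5 0 + (1) * h.symm 2 1 + (-1) * h.symm 6 0 + (1) * h.symm 3 1 + (-1) * h.symm 2 0 + (1) * h.symm 4 1 + (-1) * h.symm 3 0 + (1) * h.symm 5 1 + (-1) * h.symm 4 0 + (1) * h.diag 0 + (-1) * h.symm 1 0 + (-1) * h.diag 1
  · show f 6 2 + f 2 3 + f 3 4 + f 4 5 + f 5 6 - (f 5 2 + f 6 3 + f 2 4 + f 3 5 + f 4 6) = (f 2 3 + f 3 4 + f 4 5 + f 5 6 + f 6 2 - (f 2 4 + f 3 5 + f 4 6 + f 5 2 + f 6 3)) * (((1) : ℤ) : K)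
    push_cast
    ring
  · show f 6 3 + f 2 4 + f 3 5 + f 4 6 + f 5 2 - (f 5 4 + f 6 5 + f 2 6 + f 3 2 + f 4 3) = (f 2 3 + f 3 4 + f 4 5 + f 5 6 + f 6 2 - (f 2 4 + f 3 5 + f 4 6 + f 5 2 + f 6 3)) * (((-1) : ℤ) : K)
    push_cast
    linear_combination (-1) * h.symm 5 4 + (-1) * h.symm 6 5 + (-1) * h.symm 3 2 + (-1) * h.symm 4 3 + (1) * h.symm 6 2
  · show f 6 4 + f 2 5 + f 3 6 + f 4 2 + f 5 3 - (f 5 6 + f 6 2 + f 2 3 + f 3 4 + f 4 5) = (f 2 3 + f 3 4 + f 4 5 + f 5 6 + f 6 2 - (f 2 4 + f 3 5 + f 4 6 + f 5 2 + f 6 3)) * (((-1) : ℤ) : K)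
    push_cast
    linear_combination (1) * h.symm 6 4 + (1) * h.symm 4 2 + (1) * h.symm 5 3 + (-1) * h.symm 5 2 + (-1) * h.symm 6 3
  · show f 6 5 + f 2 6 + f 3 2 + f 4 3 + f 5 4 - (f 5 3 + f 6 4 + f 2 5 + f 3 6 + f 4 2) = (f 2 3 + f 3 4 + f 4 5 + f 5 6 + f 6 2 - (f 2 4 + f 3 5 + f 4 6 + f 5 2 + f 6 3)) * (((1) : ℤ) : K)
    push_cast
    linear_combination (1) * h.symm 6 5 + (-1) * h.symm 5 3 + (-1) * h.symm 6 4 + (1) * h.symm 3 2 + (1) * h.symm 4 3 + (1) * h.symm 5 4 + (-1) * h.symm 4 2 + (-1) * h.symm 6 2 + (1) * h.symm 5 2 + (1) * h.symm 6 3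
  · show f 6 6 + f 2 2 + f 3 3 + f 4 4 + f 5 5 - (f 5 5 + f 6 6 + f 2 2 + f 3 3 + f 4 4) = (f 2 3 + f 3 4 + f 4 5 + f 5 6 + f 6 2 - (f 2 4 + f 3 5 + f 4 6 + f 5 2 + f 6 3)) * (((0) : ℤ) : K)
    push_cast
    ring

theorem rsum (h2 : (2 : K) ≠ 0) {f : Fin 7 → Fin 7 → K} (h : S14 f) (i j : Fin 7) :
    ∑ k, f (rt k i) (rt k j) = f 0 1 * (aa i j : K) + (f 2 3 + f 3 4 + f 4 5 + f 5 6 + f 6 2) * (dd i j : K) := by
  rw [Fin.sum_univ_five]
  fin_cases i <;> fin_cases j
  · show f 0 0 + f 0 0 + f 0 0 + f 0 0 + f 0 0 = f 0 1 * (((0) : ℤ) : K) + (f 2 3 + f 3 4 + f 4 5 + f 5 6 + f 6 2) * (((0) : ℤ) : K)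
    push_cast
    linear_combination (5) * h.diag 0
  · show f 0 1 + f 0 1 + f 0 1 + f 0 1 + f 0 1 = f 0 1 * (((5) : ℤ) : K) + (f 2 3 + f 3 4 + f 4 5 + f 5 6 + f 6 2) * (((0) : ℤ) : K)
    push_cast
    ring
  · show f 0 2 + f 0 3 + f 0 4 + f 0 5 + f 0 6 = f 0 1 * (((-1) : ℤ) : K) + (f 2 3 + f 3 4 + f 4 5 + f 5 6 + f 6 2) * (((0) : ℤ) : K)
    push_cast
    linear_combination (1) * h.row' 0 + (-1) * h.diag 0
  · show f 0 3 + f 0 4 + f 0 5 + f 0 6 + f 0 2 = f 0 1 * (((-1) : ℤ) : K) + (f 2 3 + f 3 4 + f 4 5 + f 5 6 + f 6 2) * (((0) : ℤ) : K)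
    push_cast
    linear_combination (1) * h.row' 0 + (-1) * h.diag 0
  · show f 0 4 + f 0 5 + f 0 6 + f 0 2 + f 0 3 = f 0 1 * (((-1) : ℤ) : K) + (f 2 3 + f 3 4 + f 4 5 + f 5 6 + f 6 2) * (((0) : ℤ) : K)
    push_cast
    linear_combination (1) * h.row' 0 + (-1) * h.diag 0
  · show f 0 5 + f 0 6 + f 0 2 + f 0 3 + f 0 4 = f 0 1 * (((-1) : ℤ) : K) + (f 2 3 + f 3 4 + f 4 5 + f 5 6 + f 6 2) * (((0) : ℤ) : K)
    push_cast
    linear_combination (1) * h.row' 0 + (-1) * h.diag 0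
  · show f 0 6 + f 0 2 + f 0 3 + f 0 4 + f 0 5 = f 0 1 * (((-1) : ℤ) : K) + (f 2 3 + f 3 4 + f 4 5 + f 5 6 + f 6 2) * (((0) : ℤ) : K)
    push_cast
    linear_combination (1) * h.row' 0 + (-1) * h.diag 0
  · show f 1 0 + f 1 0 + f 1 0 + f 1 0 + f 1 0 = f 0 1 * (((5) : ℤ) : K) + (f 2 3 + f 3 4 + f 4 5 + f 5 6 + f 6 2) * (((0) : ℤ) : K)
    push_cast
    linear_combination (5) * h.symm 1 0
  · show f 1 1 + f 1 1 + f 1 1 + f 1 1 + f 1 1 = f 0 1 * (((0) : ℤ) : K) + (f 2 3 + f 3 4 + f 4 5 + f 5 6 + f 6 2) * (((0) : ℤ) : K)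
    push_cast
    linear_combination (5) * h.diag 1
  · show f 1 2 + f 1 3 + f 1 4 + f 1 5 + f 1 6 = f 0 1 * (((-1) : ℤ) : K) + (f 2 3 + f 3 4 + f 4 5 + f 5 6 + f 6 2) * (((0) : ℤ) : K)
    push_cast
    linear_combination (1) * h.row' 1 + (-1) * h.symm 1 0 + (-1) * h.diag 1
  · show f 1 3 + f 1 4 + f 1 5 + f 1 6 + f 1 2 = f 0 1 * (((-1) : ℤ) : K) + (f 2 3 + f 3 4 + f 4 5 + f 5 6 + f 6 2) * (((0) : ℤ) : K)
    push_cast
    linear_combination (1) * h.row' 1 + (-1) * h.symm 1 0 + (-1) * h.diag 1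
  · show f 1 4 + f 1 5 + f 1 6 + f 1 2 + f 1 3 = f 0 1 * (((-1) : ℤ) : K) + (f 2 3 + f 3 4 + f 4 5 + f 5 6 + f 6 2) * (((0) : ℤ) : K)
    push_cast
    linear_combination (1) * h.row' 1 + (-1) * h.symm 1 0 + (-1) * h.diag 1
  · show f 1 5 + f 1 6 + f 1 2 + f 1 3 + f 1 4 = f 0 1 * (((-1) : ℤ) : K) + (f 2 3 + f 3 4 + f 4 5 + f 5 6 + f 6 2) * (((0) : ℤ) : K)
    push_cast
    linear_combination (1) * h.row' 1 + (-1) * h.symm 1 0 + (-1) * h.diag 1
  · show f 1 6 + f 1 2 + f 1 3 + f 1 4 + f 1 5 = f 0 1 * (((-1) : ℤ) : K) + (f 2 3 + f 3 4 + f 4 5 + f 5 6 + f 6 2) * (((0) : ℤ) : K)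
    push_cast
    linear_combination (1) * h.row' 1 + (-1) * h.symm 1 0 + (-1) * h.diag 1
  · show f 2 0 + f 3 0 + f 4 0 + f 5 0 + f 6 0 = f 0 1 * (((-1) : ℤ) : K) + (f 2 3 + f 3 4 + f 4 5 + f 5 6 + f 6 2) * (((0) : ℤ) : K)
    push_cast
    linear_combination (1) * h.row' 0 + (1) * h.symm 2 0 + (1) * h.symm 3 0 + (1) * h.symm 4 0 + (1) * h.symm 5 0 + (1) * h.symm 6 0 + (-1) * h.diag 0
  · show f 2 1 + f 3 1 + f 4 1 + f 5 1 + f 6 1 = f 0 1 * (((-1) : ℤ) : K) + (f 2 3 + f 3 4 + f 4 5 + f 5 6 + f 6 2) * (((0) : ℤ) : K)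
    push_cast
    linear_combination (1) * h.row' 1 + (1) * h.symm 2 1 + (1) * h.symm 3 1 + (1) * h.symm 4 1 + (1) * h.symm 5 1 + (1) * h.symm 6 1 + (-1) * h.symm 1 0 + (-1) * h.diag 1
  · show f 2 2 + f 3 3 + f 4 4 + f 5 5 + f 6 6 = f 0 1 * (((0) : ℤ) : K) + (f 2 3 + f 3 4 + f 4 5 + f 5 6 + f 6 2) * (((0) : ℤ) : K)
    push_cast
    linear_combination (1) * h.diag 2 + (1) * h.diag 3 + (1) * h.diag 4 + (1) * h.diag 5 + (1) * h.diag 6
  · show f 2 3 + f 3 4 + f 4 5 + f 5 6 + f 6 2 = f 0 1 * (((0) : ℤ) : K) + (f 2 3 + f 3 4 + f 4 5 + f 5 6 + f 6 2) * (((1) : ℤ) : K)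
    push_cast
    ring
  · show f 2 4 + f 3 5 + f 4 6 + f 5 2 + f 6 3 = f 0 1 * (((1) : ℤ) : K) + (f 2 3 + f 3 4 + f 4 5 + f 5 6 + f 6 2) * (((-1) : ℤ) : K)
    push_cast
    refine mul_left_cancel₀ h2 ?_
    linear_combination (-1) * h.row' 0 + (-1) * h.row' 1 + (1) * h.row' 2 + (1) * h.row' 3 + (1) * h.row' 4 + (1) * h.row' 5 + (1) * h.row' 6 + (1) * h.symm 5 2 + (1) * h.symm 6 3 + (1) * h.symm 6 2 + (1) * h.diag 0 + (1) * h.symm 1 0 + (1) * h.diag 1 + (-1) * h.symm 2 0 + (-1) * h.symm 2 1 + (-1) * h.diag 2 + (-1) * h.symm 3 0 + (-1) * h.symm 3 1 + (-1) * h.symm 3 2 + (-1) * h.diag 3 + (-1) * h.symm 4 0 + (-1) * h.symm 4 1 + (-1) * h.symm 4 2 + (-1) * h.symm 4 3 + (-1) * h.diag 4 + (-1) * h.symm 5 0 + (-1) * h.symm 5 1 + (-1) * h.symm 5 3 + (-1) * h.symm 5 4 + (-1) * h.diag 5 + (-1) * h.symm 6 0 + (-1) * h.symm 6 1 + (-1) * h.symm 6 4 + (-1) * h.symm 6 5 + (-1) * h.diag 6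
  · show f 2 5 + f 3 6 + f 4 2 + f 5 3 + f 6 4 = f 0 1 * (((1) : ℤ) : K) + (f 2 3 + f 3 4 + f 4 5 + f 5 6 + f 6 2) * (((-1) : ℤ) : K)
    push_cast
    refine mul_left_cancel₀ h2 ?_
    linear_combination (-1) * h.row' 0 + (-1) * h.row' 1 + (1) * h.row' 2 + (1) * h.row' 3 + (1) * h.row' 4 + (1) * h.row' 5 + (1) * h.row' 6 + (1) * h.symm 4 2 + (1) * h.symm 5 3 + (1) * h.symm 6 4 + (1) * h.symm 6 2 + (1) * h.diag 0 + (1) * h.symm 1 0 + (1) * h.diag 1 + (-1) * h.symm 2 0 + (-1) * h.symm 2 1 + (-1) * h.diag 2 + (-1) * h.symm 3 0 + (-1) * h.symm 3 1 + (-1) * h.symm 3 2 + (-1) * h.diag 3 + (-1) * h.symm 4 0 + (-1) * h.symm 4 1 + (-1) * h.symm 4 3 + (-1) * h.diag 4 + (-1) * h.symm 5 0 + (-1) * h.symm 5 1 + (-1) * h.symm 5 2 + (-1) * h.symm 5 4 + (-1) * h.diag 5 + (-1) * h.symm 6 0 + (-1) * h.symm 6 1 + (-1) * h.symm 6 3 + (-1) * h.symm 6 5 + (-1) * h.diag 6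
  · show f 2 6 + f 3 2 + f 4 3 + f 5 4 + f 6 5 = f 0 1 * (((0) : ℤ) : K) + (f 2 3 + f 3 4 + f 4 5 + f 5 6 + f 6 2) * (((1) : ℤ) : K)
    push_cast
    linear_combination (1) * h.symm 3 2 + (1) * h.symm 4 3 + (1) * h.symm 5 4 + (1) * h.symm 6 5 + (-1) * h.symm 6 2
  · show f 3 0 + f 4 0 + f 5 0 + f 6 0 + f 2 0 = f 0 1 * (((-1) : ℤ) : K) + (f 2 3 + f 3 4 + f 4 5 + f 5 6 + f 6 2) * (((0) : ℤ) : K)
    push_cast
    linear_combination (1) * h.row' 0 + (1) * h.symm 3 0 + (1) * h.symm 4 0 + (1) * h.symm 5 0 + (1) * h.symm 6 0 + (1) * h.symm 2 0 + (-1) * h.diag 0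
  · show f 3 1 + f 4 1 + f 5 1 + f 6 1 + f 2 1 = f 0 1 * (((-1) : ℤ) : K) + (f 2 3 + f 3 4 + f 4 5 + f 5 6 + f 6 2) * (((0) : ℤ) : K)
    push_cast
    linear_combination (1) * h.row' 1 + (1) * h.symm 3 1 + (1) * h.symm 4 1 + (1) * h.symm 5 1 + (1) * h.symm 6 1 + (1) * h.symm 2 1 + (-1) * h.symm 1 0 + (-1) * h.diag 1
  · show f 3 2 + f 4 3 + f 5 4 + f 6 5 + f 2 6 = f 0 1 * (((0) : ℤ) : K) + (f 2 3 + f 3 4 + f 4 5 + f 5 6 + f 6 2) * (((1) : ℤ) : K)
    push_cast
    linear_combination (1) * h.symm 3 2 + (1) * h.symm 4 3 + (1) * h.symm 5 4 + (1) * h.symm 6 5 + (-1) * h.symm 6 2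
  · show f 3 3 + f 4 4 + f 5 5 + f 6 6 + f 2 2 = f 0 1 * (((0) : ℤ) : K) + (f 2 3 + f 3 4 + f 4 5 + f 5 6 + f 6 2) * (((0) : ℤ) : K)
    push_cast
    linear_combination (1) * h.diag 3 + (1) * h.diag 4 + (1) * h.diag 5 + (1) * h.diag 6 + (1) * h.diag 2
  · show f 3 4 + f 4 5 + f 5 6 + f 6 2 + f 2 3 = f 0 1 * (((0) : ℤ) : K) + (f 2 3 + f 3 4 + f 4 5 + f 5 6 + f 6 2) * (((1) : ℤ) : K)
    push_cast
    ring
  · show f 3 5 + f 4 6 + f 5 2 + f 6 3 + f 2 4 = f 0 1 * (((1) : ℤ) : K) + (f 2 3 + f 3 4 + f 4 5 + f 5 6 + f 6 2) * (((-1) : ℤ) : K)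
    push_cast
    refine mul_left_cancel₀ h2 ?_
    linear_combination (-1) * h.row' 0 + (-1) * h.row' 1 + (1) * h.row' 2 + (1) * h.row' 3 + (1) * h.row' 4 + (1) * h.row' 5 + (1) * h.row' 6 + (1) * h.symm 5 2 + (1) * h.symm 6 3 + (1) * h.symm 6 2 + (1) * h.diag 0 + (1) * h.symm 1 0 + (1) * h.diag 1 + (-1) * h.symm 2 0 + (-1) * h.symm 2 1 + (-1) * h.diag 2 + (-1) * h.symm 3 0 + (-1) * h.symm 3 1 + (-1) * h.symm 3 2 + (-1) * h.diag 3 + (-1) * h.symm 4 0 + (-1) * h.symm 4 1 + (-1) * h.symm 4 2 + (-1) * h.symm 4 3 + (-1) * h.diag 4 + (-1) * h.symm 5 0 + (-1) * h.symm 5 1 + (-1) * h.symm 5 3 + (-1) * h.symm 5 4 + (-1) * h.diag 5 + (-1) * h.symm 6 0 + (-1) * h.symm 6 1 + (-1) * h.symm 6 4 + (-1) * h.symm 6 5 + (-1) * h.diag 6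
  · show f 3 6 + f 4 2 + f 5 3 + f 6 4 + f 2 5 = f 0 1 * (((1) : ℤ) : K) + (f 2 3 + f 3 4 + f 4 5 + f 5 6 + f 6 2) * (((-1) : ℤ) : K)
    push_cast
    refine mul_left_cancel₀ h2 ?_
    linear_combination (-1) * h.row' 0 + (-1) * h.row' 1 + (1) * h.row' 2 + (1) * h.row' 3 + (1) * h.row' 4 + (1) * h.row' 5 + (1) * h.row' 6 + (1) * h.symm 4 2 + (1) * h.symm 5 3 + (1) * h.symm 6 4 + (1) * h.symm 6 2 + (1) * h.diag 0 + (1) * h.symm 1 0 + (1) * h.diag 1 + (-1) * h.symm 2 0 + (-1) * h.symm 2 1 + (-1) * h.diag 2 + (-1) * h.symm 3 0 + (-1) * h.symm 3 1 + (-1) * h.symm 3 2 + (-1) * h.diag 3 + (-1) * h.symm 4 0 + (-1) * h.symm 4 1 + (-1) * h.symm 4 3 + (-1) * h.diag 4 + (-1) * h.symm 5 0 + (-1) * h.symm 5 1 + (-1) * h.symm 5 2 + (-1) * h.symm 5 4 + (-1) * h.diag 5 + (-1) * h.symm 6 0 + (-1) * h.symm 6 1 + (-1) * h.symm 6 3 + (-1) * h.symm 6 5 + (-1) * h.diag 6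
  · show f 4 0 + f 5 0 + f 6 0 + f 2 0 + f 3 0 = f 0 1 * (((-1) : ℤ) : K) + (f 2 3 + f 3 4 + f 4 5 + f 5 6 + f 6 2) * (((0) : ℤ) : K)
    push_cast
    linear_combination (1) * h.row' 0 + (1) * h.symm 4 0 + (1) * h.symm 5 0 + (1) * h.symm 6 0 + (1) * h.symm 2 0 + (1) * h.symm 3 0 + (-1) * h.diag 0
  · show f 4 1 + f 5 1 + f 6 1 + f 2 1 + f 3 1 = f 0 1 * (((-1) : ℤ) : K) + (f 2 3 + f 3 4 + f 4 5 + f 5 6 + f 6 2) * (((0) : ℤ) : K)
    push_cast
    linear_combination (1) * h.row' 1 + (1) * h.symm 4 1 + (1) * h.symm 5 1 + (1) * h.symm 6 1 + (1) * h.symm 2 1 + (1) * h.symm 3 1 + (-1) * h.symm 1 0 + (-1) * h.diag 1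
  · show f 4 2 + f 5 3 + f 6 4 + f 2 5 + f 3 6 = f 0 1 * (((1) : ℤ) : K) + (f 2 3 + f 3 4 + f 4 5 + f 5 6 + f 6 2) * (((-1) : ℤ) : K)
    push_cast
    refine mul_left_cancel₀ h2 ?_
    linear_combination (-1) * h.row' 0 + (-1) * h.row' 1 + (1) * h.row' 2 + (1) * h.row' 3 + (1) * h.row' 4 + (1) * h.row' 5 + (1) * h.row' 6 + (1) * h.symm 4 2 + (1) * h.symm 5 3 + (1) * h.symm 6 4 + (1) * h.symm 6 2 + (1) * h.diag 0 + (1) * h.symm 1 0 + (1) * h.diag 1 + (-1) * h.symm 2 0 + (-1) * h.symm 2 1 + (-1) * h.diag 2 + (-1) * h.symm 3 0 + (-1) * h.symm 3 1 + (-1) * h.symm 3 2 + (-1) * h.diag 3 + (-1) * h.symm 4 0 + (-1) * h.symm 4 1 + (-1) * h.symm 4 3 + (-1) * h.diag 4 + (-1) * h.symm 5 0 + (-1) * h.symm 5 1 + (-1) * h.symm 5 2 + (-1) * h.symm 5 4 + (-1) * h.diag 5 + (-1) * h.symm 6 0 + (-1) * h.symm 6 1 + (-1) * h.symm 6 3 + (-1) * h.symm 6 5 + (-1) * h.diag 6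
  · show f 4 3 + f 5 4 + f 6 5 + f 2 6 + f 3 2 = f 0 1 * (((0) : ℤ) : K) + (f 2 3 + f 3 4 + f 4 5 + f 5 6 + f 6 2) * (((1) : ℤ) : K)
    push_cast
    linear_combination (1) * h.symm 4 3 + (1) * h.symm 5 4 + (1) * h.symm 6 5 + (1) * h.symm 3 2 + (-1) * h.symm 6 2
  · show f 4 4 + f 5 5 + f 6 6 + f 2 2 + f 3 3 = f 0 1 * (((0) : ℤ) : K) + (f 2 3 + f 3 4 + f 4 5 + f 5 6 + f 6 2) * (((0) : ℤ) : K)
    push_cast
    linear_combination (1) * h.diag 4 + (1) * h.diag 5 + (1) * h.diag 6 + (1) * h.diag 2 + (1) * h.diag 3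
  · show f 4 5 + f 5 6 + f 6 2 + f 2 3 + f 3 4 = f 0 1 * (((0) : ℤ) : K) + (f 2 3 + f 3 4 + f 4 5 + f 5 6 + f 6 2) * (((1) : ℤ) : K)
    push_cast
    ring
  · show f 4 6 + f 5 2 + f 6 3 + f 2 4 + f 3 5 = f 0 1 * (((1) : ℤ) : K) + (f 2 3 + f 3 4 + f 4 5 + f 5 6 + f 6 2) * (((-1) : ℤ) : K)
    push_cast
    refine mul_left_cancel₀ h2 ?_
    linear_combination (-1) * h.row' 0 + (-1) * h.row' 1 + (1) * h.row' 2 + (1) * h.row' 3 + (1) * h.row' 4 + (1) * h.row' 5 + (1) * h.row' 6 + (1) * h.symm 5 2 + (1) * h.symm 6 3 + (1) * h.symm 6 2 + (1) * h.diag 0 + (1) * h.symm 1 0 + (1) * h.diag 1 + (-1) * h.symm 2 0 + (-1) * h.symm 2 1 + (-1) * h.diag 2 + (-1) * h.symm 3 0 + (-1) * h.symm 3 1 + (-1) * h.symm 3 2 + (-1) * h.diag 3 + (-1) * h.symm 4 0 + (-1) * h.symm 4 1 + (-1) * h.symm 4 2 + (-1) * h.symm 4 3 + (-1) * h.diag 4 + (-1) * h.symm 5 0 + (-1) * h.symm 5 1 + (-1) * h.symm 5 3 + (-1) * h.symm 5 4 + (-1) * h.diag 5 + (-1) * h.symm 6 0 + (-1)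 * h.symm 6 1 + (-1) * h.symm 6 4 + (-1) * h.symm 6 5 + (-1) * h.diag 6
  · show f 5 0 + f 6 0 + f 2 0 + f 3 0 + f 4 0 = f 0 1 * (((-1) : ℤ) : K) + (f 2 3 + f 3 4 + f 4 5 + f 5 6 + f 6 2) * (((0) : ℤ) : K)
    push_cast
    linear_combination (1) * h.row' 0 + (1) * h.symm 5 0 + (1) * h.symm 6 0 + (1) * h.symm 2 0 + (1) * h.symm 3 0 + (1) * h.symm 4 0 + (-1) * h.diag 0
  · show f 5 1 + f 6 1 + f 2 1 + f 3 1 + f 4 1 = f 0 1 * (((-1) : ℤ) : K) + (f 2 3 + f 3 4 + f 4 5 + f 5 6 + f 6 2) * (((0) : ℤ) : K)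
    push_cast
    linear_combination (1) * h.row' 1 + (1) * h.symm 5 1 + (1) * h.symm 6 1 + (1) * h.symm 2 1 + (1) * h.symm 3 1 + (1) * h.symm 4 1 + (-1) * h.symm 1 0 + (-1) * h.diag 1
  · show f 5 2 + f 6 3 + f 2 4 + f 3 5 + f 4 6 = f 0 1 * (((1) : ℤ) : K) + (f 2 3 + f 3 4 + f 4 5 + f 5 6 + f 6 2) * (((-1) : ℤ) : K)
    push_cast
    refine mul_left_cancel₀ h2 ?_
    linear_combination (-1) * h.row' 0 + (-1) * h.row' 1 + (1) * h.row' 2 + (1) * h.row' 3 + (1) * h.row' 4 + (1) * h.row' 5 + (1) * h.row' 6 + (1) * h.symm 5 2 + (1) * h.symm 6 3 + (1) * h.symm 6 2 + (1) * h.diag 0 + (1) * h.symm 1 0 + (1) * h.diag 1 + (-1) * h.symm 2 0 + (-1) * h.symm 2 1 + (-1) * h.diag 2 + (-1) * h.symm 3 0 + (-1) * h.symm 3 1 + (-1) * h.symm 3 2 + (-1) * h.diag 3 + (-1) * h.symm 4 0 + (-1) * h.symm 4 1 + (-1) * h.symm 4 2 + (-1) * h.symm 4 3 + (-1) * h.diag 4 + (-1) * h.symm 5 0 + (-1) * h.symm 5 1 + (-1) * h.symm 5 3 + (-1) * h.symm 5 4 + (-1) * h.diag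 5 + (-1) * h.symm 6 0 + (-1) * h.symm 6 1 + (-1) * h.symm 6 4 + (-1) * h.symm 6 5 + (-1) * h.diag 6
  · show f 5 3 + f 6 4 + f 2 5 + f 3 6 + f 4 2 = f 0 1 * (((1) : ℤ) : K) + (f 2 3 + f 3 4 + f 4 5 + f 5 6 + f 6 2) * (((-1) : ℤ) : K)
    push_cast
    refine mul_left_cancel₀ h2 ?_
    linear_combination (-1) * h.row' 0 + (-1) * h.row' 1 + (1) * h.row' 2 + (1) * h.row' 3 + (1) * h.row' 4 + (1) * h.row' 5 + (1) * h.row' 6 + (1) * h.symm 5 3 + (1) * h.symm 6 4 + (1) * h.symm 4 2 + (1) * h.symm 6 2 + (1) * h.diag 0 + (1) * h.symm 1 0 + (1) * h.diag 1 + (-1) * h.symm 2 0 + (-1) * h.symm 2 1 + (-1) * h.diag 2 + (-1) * h.symm 3 0 + (-1) * h.symm 3 1 + (-1) * h.symm 3 2 + (-1) * h.diag 3 + (-1) * h.symm 4 0 + (-1) * h.symm 4 1 + (-1) * h.symm 4 3 + (-1) * h.diag 4 + (-1) * h.symm 5 0 + (-1) * h.symm 5 1 + (-1) * h.symm 5 2 + (-1) * h.symm 5 4 + (-1) * h.diag 5 + (-1) * h.symm 6 0 + (-1) * h.symm 6 1 + (-1) * h.symm 6 3 + (-1) * h.symm 6 5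 + (-1) * h.diag 6
  · show f 5 4 + f 6 5 + f 2 6 + f 3 2 + f 4 3 = f 0 1 * (((0) : ℤ) : K) + (f 2 3 + f 3 4 + f 4 5 + f 5 6 + f 6 2) * (((1) : ℤ) : K)
    push_cast
    linear_combination (1) * h.symm 5 4 + (1) * h.symm 6 5 + (1) * h.symm 3 2 + (1) * h.symm 4 3 + (-1) * h.symm 6 2
  · show f 5 5 + f 6 6 + f 2 2 + f 3 3 + f 4 4 = f 0 1 * (((0) : ℤ) : K) + (f 2 3 + f 3 4 + f 4 5 + f 5 6 + f 6 2) * (((0) : ℤ) : K)
    push_cast
    linear_combination (1) * h.diag 5 + (1) * h.diag 6 + (1) * h.diag 2 + (1) * h.diag 3 + (1) * h.diag 4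
  · show f 5 6 + f 6 2 + f 2 3 + f 3 4 + f 4 5 = f 0 1 * (((0) : ℤ) : K) + (f 2 3 + f 3 4 + f 4 5 + f 5 6 + f 6 2) * (((1) : ℤ) : K)
    push_cast
    ring
  · show f 6 0 + f 2 0 + f 3 0 + f 4 0 + f 5 0 = f 0 1 * (((-1) : ℤ) : K) + (f 2 3 + f 3 4 + f 4 5 + f 5 6 + f 6 2) * (((0) : ℤ) : K)
    push_cast
    linear_combination (1) * h.row' 0 + (1) * h.symm 6 0 + (1) * h.symm 2 0 + (1) * h.symm 3 0 + (1) * h.symm 4 0 + (1) * h.symm 5 0 + (-1) * h.diag 0
  · show f 6 1 + f 2 1 + f 3 1 + f 4 1 + f 5 1 = f 0 1 * (((-1) : ℤ) : K) + (f 2 3 + f 3 4 + f 4 5 + f 5 6 + f 6 2) * (((0) : ℤ) : K)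
    push_cast
    linear_combination (1) * h.row' 1 + (1) * h.symm 6 1 + (1) * h.symm 2 1 + (1) * h.symm 3 1 + (1) * h.symm 4 1 + (1) * h.symm 5 1 + (-1) * h.symm 1 0 + (-1) * h.diag 1
  · show f 6 2 + f 2 3 + f 3 4 + f 4 5 + f 5 6 = f 0 1 * (((0) : ℤ) : K) + (f 2 3 + f 3 4 + f 4 5 + f 5 6 + f 6 2) * (((1) : ℤ) : K)
    push_cast
    ring
  · show f 6 3 + f 2 4 + f 3 5 + f 4 6 + f 5 2 = f 0 1 * (((1) : ℤ) : K) + (f 2 3 + f 3 4 + f 4 5 + f 5 6 + f 6 2) * (((-1) : ℤ) : K)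
    push_cast
    refine mul_left_cancel₀ h2 ?_
    linear_combination (-1) * h.row' 0 + (-1) * h.row' 1 + (1) * h.row' 2 + (1) * h.row' 3 + (1) * h.row' 4 + (1) * h.row' 5 + (1) * h.row' 6 + (1) * h.symm 6 3 + (1) * h.symm 5 2 + (1) * h.symm 6 2 + (1) * h.diag 0 + (1) * h.symm 1 0 + (1) * h.diag 1 + (-1) * h.symm 2 0 + (-1) * h.symm 2 1 + (-1) * h.diag 2 + (-1) * h.symm 3 0 + (-1) * h.symm 3 1 + (-1) * h.symm 3 2 + (-1) * h.diag 3 + (-1) * h.symm 4 0 + (-1) * h.symm 4 1 + (-1) * h.symm 4 2 + (-1) * h.symm 4 3 + (-1) * h.diag 4 + (-1) * h.symm 5 0 + (-1) * h.symm 5 1 + (-1) * h.symm 5 3 + (-1) * h.symm 5 4 + (-1) * h.diag 5 + (-1) * h.symm 6 0 + (-1) * h.symm 6 1 + (-1) * h.symm 6 4 + (-1) * h.symm 6 5 + (-1) * h.diag 6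
  · show f 6 4 + f 2 5 + f 3 6 + f 4 2 + f 5 3 = f 0 1 * (((1) : ℤ) : K) + (f 2 3 + f 3 4 + f 4 5 + f 5 6 + f 6 2) * (((-1) : ℤ) : K)
    push_cast
    refine mul_left_cancel₀ h2 ?_
    linear_combination (-1) * h.row' 0 + (-1) * h.row' 1 + (1) * h.row' 2 + (1) * h.row' 3 + (1) * h.row' 4 + (1) * h.row' 5 + (1) * h.row' 6 + (1) * h.symm 6 4 + (1) * h.symm 4 2 + (1) * h.symm 5 3 + (1) * h.symm 6 2 + (1) * h.diag 0 + (1) * h.symm 1 0 + (1) * h.diag 1 + (-1) * h.symm 2 0 + (-1) * h.symm 2 1 + (-1) * h.diag 2 + (-1) * h.symm 3 0 + (-1) * h.symm 3 1 + (-1) * h.symm 3 2 + (-1) * h.diag 3 + (-1) * h.symm 4 0 + (-1) * h.symm 4 1 + (-1) * h.symm 4 3 + (-1) * h.diag 4 + (-1) * h.symm 5 0 + (-1) * h.symm 5 1 + (-1) * h.symm 5 2 + (-1) * h.symm 5 4 + (-1) * h.diag 5 + (-1) * h.symm 6 0 + (-1) * h.symm 6 1 + (-1) * h.symm 6 3 + (-1) * h.symm 6 5 + (-1) * h.diag 6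
  · show f 6 5 + f 2 6 + f 3 2 + f 4 3 + f 5 4 = f 0 1 * (((0) : ℤ) : K) + (f 2 3 + f 3 4 + f 4 5 + f 5 6 + f 6 2) * (((1) : ℤ) : K)
    push_cast
    linear_combination (1) * h.symm 6 5 + (1) * h.symm 3 2 + (1) * h.symm 4 3 + (1) * h.symm 5 4 + (-1) * h.symm 6 2
  · show f 6 6 + f 2 2 + f 3 3 + f 4 4 + f 5 5 = f 0 1 * (((0) : ℤ) : K) + (f 2 3 + f 3 4 + f 4 5 + f 5 6 + f 6 2) * (((0) : ℤ) : K)
    push_cast
    linear_combination (1) * h.diag 6 + (1) * h.diag 2 + (1) * h.diag 3 + (1) * h.diag 4 + (1) * h.diag 5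

end Cfsg.Agent.H931.E6
end

-- part: H931/E6/Span
section
/-!
# The span of the crosses (helper931)

`Equi ρ b` : `b : Fin 7 → Fin 7 → W` symmetric and equivariant. `phi b f = Σ f i j • b i j`, `US b = phi (S14)`. If the
four-cycle relations do not hold for `b` then `phi` is injective on `S14` up to constants.
-/

set_option autoImplicit false

namespace Cfsg.Agent.H931.E6

open Equiv Equiv.Perm

variable {K W : Type*} [Field K] [AddCommGroup W] [Module K W]

/-- symmetric equivariant families -/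
structure Equi (ρ : Representation K T7 W) (b : Fin 7 → Fin 7 → W) : Prop where
  symm : ∀ i j, b i j = b j i
  act : ∀ (g : T7) i j, ρ g (b i j) = b ((g : Perm (Fin 7)) i) ((g : Perm (Fin 7)) j)

/-- the linear map `f ↦ Σ f i j • b i j` -/
def phi (K : Type*) [Field K] {W : Type*} [AddCommGroup W] [Module K W] (b : Fin 7 → Fin 7 → W) :
    (Fin 7 → Fin 7 → K) →ₗ[K] W where
  toFun f := ∑ i, ∑ j, f i j • b i j
  map_add' f g := by
    simp only [Pi.add_apply, add_smul, Finset.sum_add_distrib]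
  map_smul' a f := by
    simp only [Pi.smul_apply, smul_eq_mul, mul_smul, Finset.smul_sum, RingHom.id_apply]

theorem phi_apply (b : Fin 7 → Fin 7 → W) (f : Fin 7 → Fin 7 → K) : phi K b f = ∑ i, ∑ j, f i j • b i j := rfl

variable {ρ : Representation K T7 W} {b : Fin 7 → Fin 7 → W}

theorem Equi.phi_comp (hb : Equi ρ b) (g : T7) (f : Fin 7 → Fin 7 → K) :
    ρ g (phi K b fun i j => f ((g : Perm (Fin 7)) i) ((g : Perm (Fin 7)) j)) = phi K b f := by
  rw [phi_apply, phi_apply, map_sum]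
  simp only [map_sum, map_smul, hb.act]
  refine Eq.trans (Finset.sum_congr rfl fun i _ =>
    Equiv.sum_comp (g : Perm (Fin 7)) fun j => f ((g : Perm (Fin 7)) i) j • b ((g : Perm (Fin 7)) i) j) ?_
  exact Equiv.sum_comp (g : Perm (Fin 7)) fun i => ∑ j, f i j • b i j

theorem rho_inj (ρ : Representation K T7 W) (g : T7) {x : W} (h : ρ g x = 0) : x = 0 := by
  have h1 : ρ g⁻¹ (ρ g x) = x := by
    rw [← Module.End.mul_apply, ← map_mul, inv_mul_cancel, map_one, Module.End.one_apply]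
  rw [← h1, h, map_zero]

theorem Equi.phi_comp_zero (hb : Equi ρ b) (g : T7) {f : Fin 7 → Fin 7 → K} (h : phi K b f = 0) :
    phi K b (fun i j => f ((g : Perm (Fin 7)) i) ((g : Perm (Fin 7)) j)) = 0 :=
  rho_inj ρ g (by rw [hb.phi_comp, h])

/-- the 5-cycle -/
def pc : T7 := ⟨c[2, 3, 4, 5, 6], mem_alternatingGroup.2 (by decide +kernel)⟩

/-- the element `(0 1)(3 4 6 5)` -/
def pt : T7 := ⟨c[0, 1] * c[3, 4, 6, 5], mem_alternatingGroup.2 (by decide +kernel)⟩

theorem pc_pow (k : Fin 5) (i : Fin 7) : ((pc ^ (k : ℕ) : T7) : Perm (Fin 7)) i = rt k i := by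
  revert k i; decide +kernel

theorem pc_pt (k : Fin 5) (i : Fin 7) : ((pc ^ (k : ℕ) * pt : T7) : Perm (Fin 7)) i = tt k i := by
  revert k i; decide +kernel

theorem phi_dd (hs : ∀ i j, b i j = b j i) : phi K b (fun i j => (dd i j : K)) = (2 : K) • pent b 2 3 4 5 6 := by
  rw [phi_apply]
  simp only [Fin.sum_univ_seven]
  simp only [dd, pent, Matrix.cons_val, Int.cast_zero, Int.cast_one, Int.cast_neg, zero_smul, one_smul, zero_add,
    add_zero, neg_smul]
  rw [hs 3 2, hs 4 2, hs 5 2, hs 6 2, hs 4 3, hs 5 3, hs 6 3, hs 5 4, hs 6 4, hs 6 5]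
  module

/-- the key relation -/
theorem Equi.pent_smul (hb : Equi ρ b) {f : Fin 7 → Fin 7 → K} (hf : S14 f) (h0 : phi K b f = 0) :
    pent f 2 3 4 5 6 • (2 : K) • pent b 2 3 4 5 6 = 0 := by
  rw [← phi_dd hb.symm, ← map_smul]
  have h1 : (pent f 2 3 4 5 6 • fun i j => (dd i j : K)) = (∑ k : Fin 5, (fun i j => f (rt k i) (rt k j))) -
      ∑ k : Fin 5, (fun i j => f (tt k i) (tt k j)) := by
    funext i j
    rw [Pi.smul_apply, Pi.smul_apply, smul_eq_mul, ← gsum hf i j]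
    simp only [Pi.sub_apply, Finset.sum_apply]
  rw [h1, map_sub, map_sum, map_sum]
  have h2 : ∀ k : Fin 5, phi K b (fun i j => f (rt k i) (rt k j)) = 0 := by
    intro k
    have := hb.phi_comp_zero (pc ^ (k : ℕ)) h0
    simpa only [pc_pow] using this
  have h3 : ∀ k : Fin 5, phi K b (fun i j => f (tt k i) (tt k j)) = 0 := by
    intro k
    have := hb.phi_comp_zero (pc ^ (k : ℕ) * pt) h0
    simpa only [pc_pt] using this
  rw [Finset.sum_eq_zero fun k _ => h2 k, Finset.sum_eq_zero fun k _ => h3 k, sub_zero]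

theorem five_trans {i j k l m : Fin 7} (hij : i ≠ j) (hik : i ≠ k) (hil : i ≠ l) (him : i ≠ m) (hjk : j ≠ k)
    (hjl : j ≠ l) (hjm : j ≠ m) (hkl : k ≠ l) (hkm : k ≠ m) (hlm : l ≠ m) :
    ∃ g : T7, (g : Perm (Fin 7)) 2 = i ∧ (g : Perm (Fin 7)) 3 = j ∧ (g : Perm (Fin 7)) 4 = k ∧
      (g : Perm (Fin 7)) 5 = l ∧ (g : Perm (Fin 7)) 6 = m := by
  obtain ⟨p, hp⟩ := pick [i, j, k, l, m] (by simp)
  obtain ⟨q, hq⟩ := pick [i, j, k, l, m, p] (by simp)
  simp only [List.mem_cons, List.not_mem_nil, or_false, not_or] at hp hq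
  have hinj : Function.Injective ![p, q, i, j, k, l, m] := by
    intro a b hab
    fin_cases a <;> fin_cases b <;> simp_all only [eq_comm, _root_.ne_eq, _root_.Nat.succ_eq_add_one, _root_.Nat.reduceAdd, _root_.Fin.zero_eta, _root_.Fin.isValue, _root_.Matrix.cons_val_zero, _root_.Fin.mk_one, _root_.Matrix.cons_val_one, _root_.Fin.reduceFinMk, _root_.Matrix.cons_val]
  let σ : Perm (Fin 7) := Equiv.ofBijective _ (Finite.injective_iff_bijective.1 hinj)
  have hσ : ∀ a, σ a = ![p, q, i, j, k, l, m] a := fun a => rfl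
  by_cases hs : sign σ = 1
  · exact ⟨⟨σ, mem_alternatingGroup.2 hs⟩, rfl, rfl, rfl, rfl, rfl⟩
  · have hs' : sign (σ * Equiv.swap (0 : Fin 7) 1) = 1 := by
      rw [map_mul, sign_swap (by decide), Int.units_ne_iff_eq_neg.1 hs]
      rfl
    refine ⟨⟨σ * Equiv.swap (0 : Fin 7) 1, mem_alternatingGroup.2 hs'⟩, ?_, ?_, ?_, ?_, ?_⟩
    · change σ (Equiv.swap (0 : Fin 7) 1 2) = i
      rw [swap_apply_of_ne_of_ne (by decide) (by decide)]; rfl
    · change σ (Equiv.swap (0 : Fin 7) 1 3) = j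
      rw [swap_apply_of_ne_of_ne (by decide) (by decide)]; rfl
    · change σ (Equiv.swap (0 : Fin 7) 1 4) = k
      rw [swap_apply_of_ne_of_ne (by decide) (by decide)]; rfl
    · change σ (Equiv.swap (0 : Fin 7) 1 5) = l
      rw [swap_apply_of_ne_of_ne (by decide) (by decide)]; rfl
    · change σ (Equiv.swap (0 : Fin 7) 1 6) = m
      rw [swap_apply_of_ne_of_ne (by decide) (by decide)]; rfl

theorem four_of_pent {M : Type*} [AddCommGroup M] [Module K M] (h2 : (2 : K) ≠ 0) {b : Fin 7 → Fin 7 → M}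
    (hs : ∀ i j, b i j = b j i)
    (h : ∀ g : T7, pent b ((g : Perm (Fin 7)) 2) ((g : Perm (Fin 7)) 3) ((g : Perm (Fin 7)) 4) ((g : Perm (Fin 7)) 5)
      ((g : Perm (Fin 7)) 6) = 0) : Four b := by
  intro i j k l hij hik hil hjk hjl hkl
  obtain ⟨m, hm⟩ := pick [i, j, k, l] (by simp)
  simp only [List.mem_cons, List.not_mem_nil, or_false, not_or] at hm
  obtain ⟨m1, m2, m3, m4⟩ := hm
  replace m1 : m ≠ i := m1
  replace m2 : m ≠ j := m2
  replace m3 : m ≠ k := m3
  replace m4 : m ≠ l := m4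
  have h' : ∀ {i j k l m : Fin 7}, i ≠ j → i ≠ k → i ≠ l → i ≠ m → j ≠ k → j ≠ l → j ≠ m → k ≠ l → k ≠ m → l ≠ m →
      pent b i j k l m = 0 := by
    intro i j k l m a1 a2 a3 a4 a5 a6 a7 a8 a9 a10
    obtain ⟨g, g1, g2, g3, g4, g5⟩ := five_trans a1 a2 a3 a4 a5 a6 a7 a8 a9 a10
    have := h g
    rwa [g1, g2, g3, g4, g5] at this
  have h1 := four_alt (K := K) b hs i j k l m
  rw [h' hij hik hil m1.symm hjk hjl m2.symm hkl m3.symm m4.symm,
    h' hij hik m1.symm hil hjk m2.symm hjl m3.symm hkl m4,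
    h' hij hil hik m1.symm hjl hjk m2.symm hkl.symm m4.symm m3.symm,
    h' hij hil m1.symm hik hjl m2.symm hjk m4.symm hkl.symm m3,
    h' hij m1.symm hik hil m2.symm hjk hjl m3 m4 hkl,
    h' hij m1.symm hil hik m2.symm hjl hjk m4 m3 hkl.symm] at h1
  simp only [neg_zero, smul_zero, add_zero, sub_zero] at h1
  have h4 : (4 : K) ≠ 0 := by
    rw [show (4 : K) = 2 * 2 by norm_num]
    exact mul_ne_zero h2 h2
  have h3 := (smul_eq_zero.1 h1).resolve_left h4
  rw [alt] at h3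
  rw [← sub_eq_zero, ← h3, hs k j]
  rw [hs l i]
  abel

theorem Equi.pent_act (hb : Equi ρ b) (g : T7) (i j k l m : Fin 7) : ρ g (pent b i j k l m) =
    pent b ((g : Perm (Fin 7)) i) ((g : Perm (Fin 7)) j) ((g : Perm (Fin 7)) k) ((g : Perm (Fin 7)) l)
      ((g : Perm (Fin 7)) m) := by
  simp only [pent, map_add, map_sub, hb.act]

/-- the kernel of `phi` on `S14` consists of constant functions -/
theorem Equi.const (h2 : (2 : K) ≠ 0) (h5 : (5 : K) ≠ 0) (hb : Equi ρ b) (hF : ¬ Four b) {f : Fin 7 → Fin 7 → K}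
    (hf : S14 f) (h0 : phi K b f = 0) {i j : Fin 7} (hij : i ≠ j) : f i j = f 0 1 := by
  have hne : pent b 2 3 4 5 6 ≠ 0 := by
    intro h
    apply hF
    refine four_of_pent (K := K) h2 hb.symm fun g => ?_
    rw [← hb.pent_act, h, map_zero]
  have h1 : ∀ g : T7, pent f ((g : Perm (Fin 7)) 2) ((g : Perm (Fin 7)) 3) ((g : Perm (Fin 7)) 4)
      ((g : Perm (Fin 7)) 5) ((g : Perm (Fin 7)) 6) = 0 := by
    intro g
    have h3 := hb.pent_smul (hf.comp (g : Perm (Fin 7))) (hb.phi_comp_zero g h0)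
    rw [smul_smul] at h3
    have h4 := (smul_eq_zero.1 h3).resolve_right hne
    exact (mul_eq_zero.1 h4).resolve_right h2
  have hFf : Four f := four_of_pent (K := K) h2 hf.symm h1
  have h3 : ∀ {i j : Fin 7}, i ≠ j → f i j = cof K f i + cof K f j := fun {i j} hij => eq_cof_add h2 hFf hf.symm hij
  -- all `cof` are equal
  have h4 : ∀ i, (5 : K) * cof K f i = - ∑ j, cof K f j := by
    intro i
    have h6 : ∑ j, f i j = f i i + ∑ j ∈ Finset.univ.erase i, f i j :=
      (Finset.add_sum_erase _ _ (Finset.mem_univ i)).symm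
    have h7 : ∑ j ∈ Finset.univ.erase i, f i j = ∑ j ∈ Finset.univ.erase i, (cof K f i + cof K f j) :=
      Finset.sum_congr rfl fun j hj => h3 (Ne.symm (Finset.ne_of_mem_erase hj))
    have h8 := Finset.add_sum_erase Finset.univ (cof K f) (Finset.mem_univ i)
    rw [hf.row, hf.diag, h7, Finset.sum_add_distrib, Finset.sum_const, Finset.card_erase_of_mem (Finset.mem_univ i),
      Finset.card_univ, Fintype.card_fin] at h6
    have h9 : ∑ j ∈ Finset.univ.erase i, cof K f j = ∑ j, cof K f j - cof K f i := by rw [← h8]; ring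
    rw [h9] at h6
    simp only [nsmul_eq_mul] at h6
    norm_num at h6
    linear_combination -h6
  have h10 : ∀ i, cof K f i = cof K f 0 := fun i => mul_left_cancel₀ h5 (by rw [h4, h4])
  rw [h3 hij, h10 i, h10 j, h3 (by decide : (0 : Fin 7) ≠ 1), h10 1]

theorem Equi.zero (h2 : (2 : K) ≠ 0) (h3 : (3 : K) ≠ 0) (h5 : (5 : K) ≠ 0) (hb : Equi ρ b) (hF : ¬ Four b)
    {f : Fin 7 → Fin 7 → K} (hf : S14 f) (h0 : phi K b f = 0) : f = 0 := by
  have h1 := fun {i j : Fin 7} (hij : i ≠ j) => hb.const h2 h5 hF hf h0 hij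
  have h4 := hf.row' 0
  rw [hf.diag, h1 (by decide : (0 : Fin 7) ≠ 2), h1 (by decide : (0 : Fin 7) ≠ 3), h1 (by decide : (0 : Fin 7) ≠ 4),
    h1 (by decide : (0 : Fin 7) ≠ 5), h1 (by decide : (0 : Fin 7) ≠ 6)] at h4
  have h6 : (2 * 3 : K) * f 0 1 = 0 := by linear_combination h4
  have h7 : f 0 1 = 0 := (mul_eq_zero.1 h6).resolve_left (mul_ne_zero h2 h3)
  funext i j
  by_cases hij : i = j
  · rw [hij, hf.diag]; rfl
  · rw [h1 hij, h7]; rfl

/-! ### Dimensions -/

/-- the space of the functions `S14` -/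
def S14s (K : Type*) [Field K] : Submodule K (Fin 7 → Fin 7 → K) where
  carrier := {f | S14 f}
  zero_mem' := ⟨fun _ => rfl, fun _ _ => rfl, fun _ => by simp⟩
  add_mem' {f g} hf hg := ⟨fun i => by rw [Pi.add_apply, Pi.add_apply, hf.diag, hg.diag, add_zero],
    fun i j => by rw [Pi.add_apply, Pi.add_apply, Pi.add_apply, Pi.add_apply, hf.symm, hg.symm],
    fun i => by simp only [Pi.add_apply, Finset.sum_add_distrib, hf.row, hg.row, add_zero]⟩
  smul_mem' a f hf := ⟨fun i => by rw [Pi.smul_apply, Pi.smul_apply, hf.diag, smul_zero],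
    fun i j => by rw [Pi.smul_apply, Pi.smul_apply, Pi.smul_apply, Pi.smul_apply, hf.symm],
    fun i => by simp only [Pi.smul_apply, ← Finset.smul_sum, hf.row, smul_zero]⟩

theorem mem_S14s {f : Fin 7 → Fin 7 → K} : f ∈ S14s K ↔ S14 f := Iff.rfl

theorem fourteen_le : 14 ≤ Module.finrank K (S14s K) := by
  let L : (Fin 7 → Fin 7 → K) →ₗ[K] (Fin 7 → K) × ({p : Fin 7 × Fin 7 // p.1 < p.2} → K) × (Fin 7 → K) :=
    { toFun := fun f => (fun i => f i i, fun p => f p.1.1 p.1.2 - f p.1.2 p.1.1, fun i => ∑ j, f i j)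
      map_add' := by
        intro f g
        ext i <;> simp only [Finset.sum_add_distrib, _root_.Pi.add_apply, _root_.Prod.mk_add_mk] <;> ring
      map_smul' := by
        intro a f
        ext i <;> simp only [Finset.mul_sum, _root_.Pi.smul_apply, _root_.smul_eq_mul, _root_.RingHom.id_apply, _root_.Prod.smul_mk] <;> ring }
  have h1 : LinearMap.ker L ≤ S14s K := by
    intro f hf
    have hf' : L f = 0 := hf
    have e1 : ∀ i, f i i = 0 := fun i => congrFun (congrArg Prod.fst hf') i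
    have e2 : ∀ p : {p : Fin 7 × Fin 7 // p.1 < p.2}, f p.1.1 p.1.2 - f p.1.2 p.1.1 = 0 := fun p =>
      congrFun (congrArg (fun x => x.2.1) hf') p
    have e3 : ∀ i, ∑ j, f i j = 0 := fun i => congrFun (congrArg (fun x => x.2.2) hf') i
    refine mem_S14s.2 ⟨e1, fun i j => ?_, e3⟩
    rcases lt_trichotomy i j with h | h | h
    · exact sub_eq_zero.1 (e2 ⟨(i, j), h⟩)
    · rw [h]
    · exact (sub_eq_zero.1 (e2 ⟨(j, i), h⟩)).symm
  have h2 := LinearMap.finrank_range_add_finrank_ker L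
  have h3 := Submodule.finrank_mono h1
  have h4 : Module.finrank K (LinearMap.range L) ≤ 35 := by
    refine (Submodule.finrank_le _).trans ?_
    rw [Module.finrank_prod, Module.finrank_prod, Module.finrank_fintype_fun_eq_card,
      Module.finrank_fintype_fun_eq_card]
    have : Fintype.card {p : Fin 7 × Fin 7 // p.1 < p.2} = 21 := by decide
    rw [this, Fintype.card_fin]
  have h5 : Module.finrank K (Fin 7 → Fin 7 → K) = 49 := by
    rw [Module.finrank_pi_fintype]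
    simp
  omega

/-- the image of `S14` -/
def US (K : Type*) [Field K] {W : Type*} [AddCommGroup W] [Module K W] (b : Fin 7 → Fin 7 → W) : Submodule K W :=
  (S14s K).map (phi K b)

theorem Equi.US_stable (hb : Equi ρ b) (g : T7) {x : W} (hx : x ∈ US K b) : ρ g x ∈ US K b := by
  obtain ⟨f, hf, rfl⟩ := hx
  refine ⟨fun i j => f ((g⁻¹ : Perm (Fin 7)) i) ((g⁻¹ : Perm (Fin 7)) j),
    (mem_S14s.1 hf).comp _, ?_⟩
  rw [← hb.phi_comp g]
  simp

theorem Equi.finrank_US (h2 : (2 : K) ≠ 0) (h3 : (3 : K) ≠ 0) (h5 : (5 : K) ≠ 0) (hb : Equi ρ b) (hF : ¬ Four b) :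
    14 ≤ Module.finrank K (US K b) := by
  have h1 : Function.Injective ((phi K b).domRestrict (S14s K)) := by
    rw [← LinearMap.ker_eq_bot, eq_bot_iff]
    rintro ⟨f, hf⟩ h0
    have : f = 0 := hb.zero h2 h3 h5 hF hf (LinearMap.mem_ker.1 h0)
    exact Subtype.ext this
  have h4 : LinearMap.range ((phi K b).domRestrict (S14s K)) = US K b := by
    rw [US, LinearMap.range_domRestrict]
  have h6 := LinearMap.finrank_range_of_inj h1
  rw [h4] at h6
  rw [h6]
  exact fourteen_le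

theorem Equi.finrank_US' (h2 : (2 : K) ≠ 0) (h5 : (5 : K) ≠ 0) (hb : Equi ρ b) (hF : ¬ Four b) :
    13 ≤ Module.finrank K (US K b) := by
  let ψ := (phi K b).domRestrict (S14s K)
  have h4 : LinearMap.range ψ = US K b := by
    rw [US, LinearMap.range_domRestrict]
  have h6 := LinearMap.finrank_range_add_finrank_ker ψ
  have h7 : Module.finrank K (LinearMap.ker ψ) ≤ 1 := by
    have h9 : (LinearMap.ker ψ).map (S14s K).subtype ≤ K ∙ (fun i j : Fin 7 => if i = j then (0 : K) else 1) := by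
      rintro _ ⟨⟨f, hf⟩, h0, rfl⟩
      have h2' := fun {i j : Fin 7} (hij : i ≠ j) => hb.const h2 h5 hF hf (LinearMap.mem_ker.1 h0) hij
      refine Submodule.mem_span_singleton.2 ⟨f 0 1, ?_⟩
      funext i j
      rw [Pi.smul_apply, Pi.smul_apply, smul_eq_mul]
      by_cases hij : i = j
      · rw [if_pos hij, mul_zero, hij]
        exact (S14.diag hf j).symm
      · rw [if_neg hij, mul_one]
        exact (h2' hij).symm
    have h10 := Submodule.finrank_mono h9
    rw [Submodule.finrank_map_subtype_eq] at h10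
    have h11 := finrank_span_le_card (R := K) ({(fun i j : Fin 7 => if i = j then (0 : K) else 1)} :
      Set (Fin 7 → Fin 7 → K))
    simp only [Set.toFinset_singleton, Finset.card_singleton] at h11
    exact h10.trans h11
  rw [h4] at h6
  have h8 := fourteen_le (K := K)
  omega

end Cfsg.Agent.H931.E6
end

-- part: H931/E6/Quot
section
/-!
# The four-cycle relations by Scott's lemma (helper931)

`four_ne_three`, `four_three` : an equivariant symmetric family `b` in a 27-dimensional module of `A₇` without fixed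
vectors, with `dim W^c = 7` for the 5-cycles `c`, satisfies the four-cycle relations (characteristic not 2, 3, 5, 7,
resp. 3).
-/

set_option autoImplicit false

namespace Cfsg.Agent.H931.E6

open Equiv Equiv.Perm Module
open Cfsg.Agent.H952.F4 (ev es)

variable {K W : Type*} [Field K] [AddCommGroup W] [Module K W] {ρ : Representation K T7 W} {b : Fin 7 → Fin 7 → W}

theorem mem_es1 {T : Module.End K W} {v : W} : v ∈ es T 1 ↔ T v = v := by
  rw [es, Module.End.mem_eigenspace_iff, one_smul]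

theorem rho_inv (ρ : Representation K T7 W) (g : T7) (v : W) : ρ g⁻¹ (ρ g v) = v := by
  rw [← Module.End.mul_apply, ← map_mul, inv_mul_cancel, map_one, Module.End.one_apply]

theorem rho_fix_inv {g : T7} {v : W} (h : ρ g v = v) : ρ g⁻¹ v = v := by
  conv_lhs => rw [← h]
  exact rho_inv ρ g v

theorem rho_fix_pow {g : T7} {v : W} (h : ρ g v = v) (n : ℕ) : ρ (g ^ n) v = v := by
  induction n with
  | zero => rw [pow_zero, map_one, Module.End.one_apply]
  | succ n ih => rw [pow_succ, map_mul, Module.End.mul_apply, h, ih]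

/-- fixed vectors of the 5-cycle in `US` -/
theorem Equi.five_smul (h2 : (2 : K) ≠ 0) (hb : Equi ρ b) {u : W} (hu : u ∈ US K b) (hfix : ρ pc u = u) :
    ∃ α β : K, (5 : K) • u = α • phi K b (fun i j => (aa i j : K)) + β • phi K b (fun i j => (dd i j : K)) := by
  obtain ⟨f, hf, rfl⟩ := hu
  have hf' : S14 f := hf
  refine ⟨f 0 1, f 2 3 + f 3 4 + f 4 5 + f 5 6 + f 6 2, ?_⟩
  have h1 : ∀ k : Fin 5, phi K b (fun i j => f (rt k i) (rt k j)) = phi K b f := by
    intro k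
    have h3 := hb.phi_comp (pc ^ (k : ℕ)) f
    simp only [pc_pow] at h3
    rw [← rho_inv ρ (pc ^ (k : ℕ)) (phi K b fun i j => f (rt k i) (rt k j)), h3]
    exact rho_fix_inv (rho_fix_pow hfix k)
  have h4 : (∑ k : Fin 5, (fun i j => f (rt k i) (rt k j))) =
      (f 0 1 • fun i j => (aa i j : K)) + ((f 2 3 + f 3 4 + f 4 5 + f 5 6 + f 6 2) • fun i j => (dd i j : K)) := by
    funext i j
    have := rsum h2 hf' i j
    simp only [Finset.sum_apply, Pi.add_apply, Pi.smul_apply, smul_eq_mul]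
    exact this
  have h5 := congrArg (phi K b) h4
  rw [map_sum, map_add, map_smul, map_smul, Finset.sum_congr rfl fun k _ => h1 k, Finset.sum_const,
    Finset.card_univ, Fintype.card_fin, ← Nat.cast_smul_eq_nsmul K] at h5
  exact_mod_cast h5

theorem Equi.finrank_fix_le_two [FiniteDimensional K W] (h2 : (2 : K) ≠ 0) (h5 : (5 : K) ≠ 0) (hb : Equi ρ b) :
    finrank K ↥(US K b ⊓ es (ρ pc) 1) ≤ 2 := by
  classical
  have h1 : US K b ⊓ es (ρ pc) 1 ≤ Submodule.span K
      (({phi K b (fun i j => (aa i j : K)), phi K b (fun i j => (dd i j : K))} : Finset W) : Set W) := by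
    rintro u ⟨hu, hu'⟩
    obtain ⟨α, β, h⟩ := hb.five_smul h2 hu (mem_es1.1 hu')
    rw [← Submodule.smul_mem_iff _ h5, h]
    refine Submodule.add_mem _ (Submodule.smul_mem _ _ (Submodule.subset_span (by simp)))
      (Submodule.smul_mem _ _ (Submodule.subset_span (by simp)))
  exact (Submodule.finrank_mono h1).trans ((finrank_span_finset_le_card _).trans Finset.card_le_two)

theorem Equi.phi_ones (hb : Equi ρ b) (hfix : NoFix ρ) :
    phi K b (fun i j => if i = j then (0 : K) else 1) = 0 := by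
  apply hfix
  intro g
  have h := hb.phi_comp g (fun i j => if i = j then (0 : K) else 1)
  have h1 : (fun i j => if ((g : Perm (Fin 7)) i) = ((g : Perm (Fin 7)) j) then (0 : K) else 1) =
      fun i j => if i = j then (0 : K) else 1 := by
    funext i j
    simp only [EmbeddingLike.apply_eq_iff_eq]
  rw [h1] at h
  exact h

theorem aux_aa : ∀ i j, aa i j = dd i j - (if i = j then 0 else 1) +
    3 * ((aa i j - dd i j + (if i = j then 0 else 1)) / 3) := by
  decide +kernel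

theorem Equi.phi_aa (h3 : (3 : K) = 0) (hb : Equi ρ b) (hfix : NoFix ρ) :
    phi K b (fun i j => (aa i j : K)) = phi K b (fun i j => (dd i j : K)) := by
  have h1 : (fun i j => (aa i j : K)) = (fun i j => (dd i j : K)) -
      (fun i j => if i = j then (0 : K) else 1) := by
    funext i j
    have h4 := congrArg (fun z : ℤ => (z : K)) (aux_aa i j)
    simp only [Int.cast_add, Int.cast_sub, Int.cast_mul, Int.cast_ofNat, h3, zero_mul, add_zero, Int.cast_ite,
      Int.cast_zero, Int.cast_one] at h4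
    exact h4
  rw [h1, map_sub, hb.phi_ones hfix, sub_zero]

theorem Equi.finrank_fix_le_one [FiniteDimensional K W] (h3 : (3 : K) = 0) (hb : Equi ρ b) (hfix : NoFix ρ) :
    finrank K ↥(US K b ⊓ es (ρ pc) 1) ≤ 1 := by
  classical
  have h2 : (2 : K) ≠ 0 := by
    intro h
    exact one_ne_zero (α := K) (by linear_combination h3 - h)
  have h5 : (5 : K) ≠ 0 := by
    intro h
    exact one_ne_zero (α := K) (by linear_combination 2 * h3 - h)
  have h1 : US K b ⊓ es (ρ pc) 1 ≤ Submodule.span K (({phi K b (fun i j => (dd i j : K))} : Finset W) : Set W) := by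
    rintro u ⟨hu, hu'⟩
    obtain ⟨α, β, h⟩ := hb.five_smul h2 hu (mem_es1.1 hu')
    rw [← Submodule.smul_mem_iff _ h5, h, hb.phi_aa h3 hfix]
    refine Submodule.add_mem _ (Submodule.smul_mem _ _ (Submodule.subset_span (by simp)))
      (Submodule.smul_mem _ _ (Submodule.subset_span (by simp)))
  exact (Submodule.finrank_mono h1).trans ((finrank_span_finset_le_card _).trans (by simp))

/-! ### Conjugation -/

theorem finrank_conj_le [FiniteDimensional K W] {U : Submodule K W} (hU : ∀ g : T7, ∀ x ∈ U, ρ g x ∈ U) {h x y : T7}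
    (hxy : h * x * h⁻¹ = y) : finrank K ↥(U ⊓ es (ρ y) 1) ≤ finrank K ↥(U ⊓ es (ρ x) 1) := by
  have h1 : (U ⊓ es (ρ y) 1).map (ρ h⁻¹) ≤ U ⊓ es (ρ x) 1 := by
    rintro _ ⟨u, ⟨hu, hu'⟩, rfl⟩
    refine ⟨hU _ _ hu, mem_es1.2 ?_⟩
    have h2 : x * h⁻¹ = h⁻¹ * y := by rw [← hxy]; group
    rw [← Module.End.mul_apply, ← map_mul, h2, map_mul, Module.End.mul_apply, mem_es1.1 hu']
  have h3 : Function.Injective (ρ h⁻¹) := by
    intro a b hab
    have h5 := rho_inj ρ h⁻¹ (x := a - b) (by rw [map_sub, hab, sub_self])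
    exact sub_eq_zero.1 h5
  have h4 := Submodule.finrank_mono h1
  rwa [← (Submodule.equivMapOfInjective _ h3 _).finrank_eq] at h4

/-- dimension of the fixed space of `g` on the quotient -/
theorem ev_quotient [FiniteDimensional K W] {U : Submodule K W} (hU : ∀ g : T7, U ≤ U.comap (ρ g)) (g : T7) :
    ev (ρ g) 1 ≤ ev (ρ.quotient U hU g) 1 + finrank K ↥(U ⊓ es (ρ g) 1) := by
  have h1 : (es (ρ g) 1).map U.mkQ ≤ es (ρ.quotient U hU g) 1 := by
    rintro _ ⟨v, hv, rfl⟩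
    rw [mem_es1]
    change U.mkQ (ρ g v) = U.mkQ v
    rw [mem_es1.1 hv]
  have h2 := Submodule.finrank_mono h1
  have h3 := LinearMap.finrank_range_add_finrank_ker (U.mkQ.domRestrict (es (ρ g) 1))
  rw [LinearMap.range_domRestrict] at h3
  have h4 : (LinearMap.ker (U.mkQ.domRestrict (es (ρ g) 1))).map (es (ρ g) 1).subtype ≤ U ⊓ es (ρ g) 1 := by
    rintro _ ⟨⟨v, hv⟩, hk, rfl⟩
    exact ⟨(Submodule.Quotient.mk_eq_zero _).1 (LinearMap.mem_ker.1 hk), hv⟩
  have h5 := Submodule.finrank_mono h4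
  rw [Submodule.finrank_map_subtype_eq] at h5
  change finrank K ↥(es (ρ g) 1) ≤ finrank K ↥(es (ρ.quotient U hU g) 1) + _
  omega

theorem dual_quotient [FiniteDimensional K W] {U : Submodule K W} (hU : ∀ g : T7, U ≤ U.comap (ρ g))
    (hd : ρ.dual.invariants = ⊥) : (ρ.quotient U hU).dual.invariants = ⊥ := by
  rw [eq_bot_iff]
  intro f hf
  rw [Representation.mem_invariants] at hf
  have h1 : f.comp U.mkQ ∈ ρ.dual.invariants := by
    rw [Representation.mem_invariants]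
    intro g
    have h2 := hf g
    refine LinearMap.ext fun v => ?_
    exact LinearMap.congr_fun h2 (U.mkQ v)
  rw [hd, Submodule.mem_bot] at h1
  rw [Submodule.mem_bot]
  refine LinearMap.ext fun x => ?_
  obtain ⟨v, rfl⟩ := U.mkQ_surjective x
  exact LinearMap.congr_fun h1 v

/-- Fixed vectors of a quotient lift to fixed vectors of a cyclic subgroup of order invertible in `K`. -/
theorem inv_quotient_le [FiniteDimensional K W] {U : Submodule K W} (hU : ∀ g : T7, U ≤ U.comap (ρ g)) {z : T7} {m : ℕ}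
    (hm : (m : K) ≠ 0) (hz : z ^ m = 1) : finrank K ↥(ρ.quotient U hU).invariants ≤ ev (ρ z) 1 := by
  have hm0 : m ≠ 0 := by rintro rfl; exact hm Nat.cast_zero
  have h1 : (ρ.quotient U hU).invariants ≤ (es (ρ z) 1).map U.mkQ := by
    intro x hx
    rw [Representation.mem_invariants] at hx
    obtain ⟨v, rfl⟩ := U.mkQ_surjective x
    have h2 : ∀ g : T7, U.mkQ (ρ g v) = U.mkQ v := fun g => hx g
    refine ⟨(m : K)⁻¹ • ∑ k ∈ Finset.range m, ρ (z ^ k) v, mem_es1.2 ?_, ?_⟩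
    · rw [map_smul, map_sum]
      congr 1
      have h3 : ∀ k, ρ z (ρ (z ^ k) v) = ρ (z ^ (k + 1)) v := fun k => by
        rw [← Module.End.mul_apply, ← map_mul, pow_succ']
      simp only [h3]
      have h4 := Finset.sum_range_succ (fun k => ρ (z ^ k) v) m
      have h5 := Finset.sum_range_succ' (fun k => ρ (z ^ k) v) m
      rw [h4, hz, pow_zero] at h5
      exact (add_right_cancel h5).symm
    · rw [map_smul, map_sum, Finset.sum_congr rfl fun k _ => h2 (z ^ k), Finset.sum_const, Finset.card_range,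
        ← Nat.cast_smul_eq_nsmul K, smul_smul, inv_mul_cancel₀ hm, one_smul]
  exact (Submodule.finrank_mono h1).trans (Submodule.finrank_map_le _ _)

/-- Fixed vectors of a quotient lift if the order of the group is invertible. -/
theorem inv_quotient [FiniteDimensional K W] {U : Submodule K W} (hU : ∀ g : T7, U ≤ U.comap (ρ g))
    (hm : ((Fintype.card T7 : ℕ) : K) ≠ 0) (hfix : NoFix ρ) : (ρ.quotient U hU).invariants = ⊥ := by
  rw [eq_bot_iff]
  intro x hx
  rw [Representation.mem_invariants] at hx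
  obtain ⟨v, rfl⟩ := U.mkQ_surjective x
  have h2 : ∀ g : T7, U.mkQ (ρ g v) = U.mkQ v := fun g => hx g
  have h3 : ∑ g : T7, ρ g v = 0 := by
    apply hfix
    intro h
    rw [map_sum]
    have h4 : ∀ g, ρ h (ρ g v) = ρ (h * g) v := fun g => by rw [map_mul, Module.End.mul_apply]
    simp only [h4]
    exact Equiv.sum_comp (Equiv.mulLeft h) fun g => ρ g v
  have h4 := congrArg U.mkQ h3
  rw [map_sum, Finset.sum_congr rfl fun g _ => h2 g, Finset.sum_const, Finset.card_univ, map_zero,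
    ← Nat.cast_smul_eq_nsmul K] at h4
  exact (Submodule.mem_bot K).2 ((smul_eq_zero.1 h4).resolve_left hm)

/-! ### Generation by two 5-cycles -/

/-- the second 5-cycle -/
def py : T7 := ⟨c[0, 1, 2, 6, 5], mem_alternatingGroup.2 (by decide +kernel)⟩

theorem gen_pc_py : Subgroup.closure {pc, py} = ⊤ := by
  rw [eq_top_iff]
  intro σ _
  let H : Subgroup (Perm (Fin 7)) := (Subgroup.closure {pc, py}).map (alternatingGroup (Fin 7)).subtype
  have hx : (pc : Perm (Fin 7)) ∈ H := ⟨pc, Subgroup.subset_closure (by simp), rfl⟩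
  have hy : (py : Perm (Fin 7)) ∈ H := ⟨py, Subgroup.subset_closure (by simp), rfl⟩
  have h1 : (σ : Perm (Fin 7)) ∈ H := by
    refine Cfsg.Agent.H952.F4.Gen.mem_of_star (n := 5) H ?_ ?_ σ.2
    · rintro _ ⟨x, -, rfl⟩
      exact x.2
    · have hW : ∀ k : Fin 7, k ≠ 0 → Cfsg.Agent.H952.F4.Gen.ev (pc : Perm (Fin 7)) (py : Perm (Fin 7))
          ((![[], [], [2, 1, 1, 2, 1, 1], [0, 2, 1, 1, 2, 0, 0], [0, 0, 2, 1, 1, 2, 0], [1, 1, 2, 1, 1, 2],
            [1, 2, 1, 1, 2, 1]] : Fin 7 → List (Fin 4)) k) = swap (0 : Fin 7) 1 * swap 0 k := by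
        decide +kernel
      intro k hk
      rw [← hW k hk]
      exact Cfsg.Agent.H952.F4.Gen.ev_mem hx hy _
  obtain ⟨τ, hτ, h3⟩ := h1
  rwa [← Subtype.ext h3]

theorem conj_py : (⟨c[0, 4, 2] * (c[1, 3] * c[5, 6]), mem_alternatingGroup.2 (by decide +kernel)⟩ : T7) * pc *
    (⟨c[0, 4, 2] * (c[1, 3] * c[5, 6]), mem_alternatingGroup.2 (by decide +kernel)⟩ : T7)⁻¹ = py := by
  decide +kernel

theorem conj_pcpy : (⟨c[0, 6, 5, 4, 3, 1, 2], mem_alternatingGroup.2 (by decide +kernel)⟩ : T7) * pc *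
    (⟨c[0, 6, 5, 4, 3, 1, 2], mem_alternatingGroup.2 (by decide +kernel)⟩ : T7)⁻¹ = pc * py := by
  decide +kernel

theorem type_py : (py : Perm (Fin 7)).cycleType = {5} := by decide +kernel

theorem type_pc : (pc : Perm (Fin 7)).cycleType = {5} := by decide +kernel

theorem type_pcpy : ((pc * py : T7) : Perm (Fin 7)).cycleType = {5} := by decide +kernel

/-- characteristic not `2, 3, 5, 7` -/
theorem four_ne_three [FiniteDimensional K W] (h2 : (2 : K) ≠ 0) (h3 : (3 : K) ≠ 0) (h5 : (5 : K) ≠ 0)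
    (h7 : (7 : K) ≠ 0) (h27 : finrank K W = 27) (hfix : NoFix ρ) (hd : ρ.dual.invariants = ⊥)
    (hev : ∀ g : T7, (g : Perm (Fin 7)).cycleType = {5} → 7 ≤ ev (ρ g) 1) (hb : Equi ρ b) : Four b := by
  by_contra hF
  have hU : ∀ g : T7, US K b ≤ (US K b).comap (ρ g) := fun g x hx => hb.US_stable g hx
  have hU' : ∀ g : T7, ∀ x ∈ US K b, ρ g x ∈ US K b := fun g x hx => hb.US_stable g hx
  have h14 := hb.finrank_US h2 h3 h5 hF
  have e0 := hb.finrank_fix_le_two h2 h5
  have e1 := finrank_conj_le hU' conj_py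
  have e2 := finrank_conj_le hU' conj_pcpy
  have hs := Cfsg.Agent.H952.F4.Scott.scott (ρ.quotient (US K b) hU) gen_pc_py
  have q0 := ev_quotient hU pc
  have q1 := ev_quotient hU py
  have q2 := ev_quotient hU (pc * py)
  have c0 := hev _ type_pc
  have c1 := hev _ type_py
  have c2 := hev _ type_pcpy
  have hcard : ((Fintype.card T7 : ℕ) : K) ≠ 0 := by
    have h8 : Fintype.card T7 = 2520 := by
      have h9 : 2 * Nat.card T7 = Nat.card (Perm (Fin 7)) := two_mul_nat_card_alternatingGroup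
      rw [Nat.card_perm, Nat.card_eq_fintype_card, Nat.card_eq_fintype_card, Fintype.card_fin] at h9
      have h10 : Nat.factorial 7 = 5040 := by norm_num [Nat.factorial]
      omega
    rw [h8]
    have h11 : ((2520 : ℕ) : K) = 2 * 2 * 2 * 3 * 3 * 5 * 7 := by norm_num
    rw [h11]
    exact mul_ne_zero (mul_ne_zero (mul_ne_zero (mul_ne_zero (mul_ne_zero (mul_ne_zero h2 h2) h2) h3) h3) h5) h7
  rw [inv_quotient hU hcard hfix, dual_quotient hU hd, finrank_bot, finrank_bot] at hs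
  have hq := Submodule.finrank_quotient_add_finrank (US K b)
  rw [h27] at hq
  omega

/-- characteristic `3` -/
theorem four_three [FiniteDimensional K W] (h3 : (3 : K) = 0) (h27 : finrank K W = 27) (hfix : NoFix ρ)
    (hd : ρ.dual.invariants = ⊥) (hev : ∀ g : T7, (g : Perm (Fin 7)).cycleType = {5} → 7 ≤ ev (ρ g) 1)
    {z : T7} (hz : z ^ 7 = 1) (hz3 : ev (ρ z) 1 ≤ 3) (hb : Equi ρ b) : Four b := by
  have h2 : (2 : K) ≠ 0 := by
    intro h
    exact one_ne_zero (α := K) (by linear_combination h3 - h)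
  have h5 : (5 : K) ≠ 0 := by
    intro h
    exact one_ne_zero (α := K) (by linear_combination 2 * h3 - h)
  have h7 : ((7 : ℕ) : K) ≠ 0 := by
    intro h
    exact one_ne_zero (α := K) (by push_cast at h; linear_combination h - 2 * h3)
  by_contra hF
  have hU : ∀ g : T7, US K b ≤ (US K b).comap (ρ g) := fun g x hx => hb.US_stable g hx
  have hU' : ∀ g : T7, ∀ x ∈ US K b, ρ g x ∈ US K b := fun g x hx => hb.US_stable g hx
  have h13 := hb.finrank_US' h2 h5 hF
  have e0 := hb.finrank_fix_le_one h3 hfix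
  have e1 := finrank_conj_le hU' conj_py
  have e2 := finrank_conj_le hU' conj_pcpy
  have hs := Cfsg.Agent.H952.F4.Scott.scott (ρ.quotient (US K b) hU) gen_pc_py
  have q0 := ev_quotient hU pc
  have q1 := ev_quotient hU py
  have q2 := ev_quotient hU (pc * py)
  have c0 := hev _ type_pc
  have c1 := hev _ type_py
  have c2 := hev _ type_pcpy
  have hi := inv_quotient_le hU h7 hz
  rw [dual_quotient hU hd, finrank_bot] at hs
  have hq := Submodule.finrank_quotient_add_finrank (US K b)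
  rw [h27] at hq
  omega

end Cfsg.Agent.H931.E6
end

-- part: H931/E6/Fix
section
/-!
# A vector fixed by `A₆` and the conclusion (helper931)
-/

set_option autoImplicit false

namespace Cfsg.Agent.H931.E6

open Equiv Equiv.Perm Module
open Cfsg.Agent.H952.F4 (ev es GenT)

variable {K V W : Type*} [Field K] [AddCommGroup V] [Module K V] [AddCommGroup W] [Module K W]

/-! ### `A₆` in `A₇` -/

/-- `Fin 6 ≃ {x : Fin 7 // x ≠ 6}` -/
def f6 : Fin 6 ≃ {x : Fin 7 // x ≠ Fin.last 6} := finSuccAboveEquiv (Fin.last 6)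

/-- `A₆ → A₇` -/
def io : ↥(alternatingGroup (Fin 6)) →* T7 where
  toFun h := ⟨(h : Perm (Fin 6)).extendDomain f6, by
    rw [mem_alternatingGroup, sign_extendDomain]; exact mem_alternatingGroup.1 h.2⟩
  map_one' := Subtype.ext (by simp only [_root_.OneMemClass.coe_one, _root_.Fin.reduceLast, _root_.ne_eq, _root_.Fin.isValue, _root_.Equiv.Perm.extendDomain_one])
  map_mul' a b := Subtype.ext (by
    simp only [Subgroup.coe_mul]
    exact (extendDomain_mul f6 _ _).symm)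

theorem io_type (h : ↥(alternatingGroup (Fin 6))) :
    (io h : Perm (Fin 7)).cycleType = (h : Perm (Fin 6)).cycleType := cycleType_extendDomain f6

theorem exists_io {g : T7} (hg : (g : Perm (Fin 7)) 6 = 6) : ∃ h, io h = g := by
  have hg' : ∀ x, x ≠ Fin.last 6 ↔ (g : Perm (Fin 7)) x ≠ Fin.last 6 := by
    intro x
    rw [not_iff_not]
    constructor
    · rintro rfl; exact hg
    · intro h
      exact (g : Perm (Fin 7)).injective (h.trans hg.symm)
  let s : Perm {x : Fin 7 // x ≠ Fin.last 6} := (g : Perm (Fin 7)).subtypePerm fun x => (hg' x).symm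
  let h0 : Perm (Fin 6) := (f6.trans s).trans f6.symm
  have h1 : h0.extendDomain f6 = (g : Perm (Fin 7)) := by
    ext x
    by_cases hx : x = Fin.last 6
    · have h3 : h0.extendDomain f6 x = x := extendDomain_apply_not_subtype h0 f6 (by simpa using hx)
      rw [h3, hx]
      exact congrArg Fin.val hg.symm
    · have h3 := extendDomain_apply_subtype h0 f6 hx
      rw [h3]
      simp [h0, s]
  have h2 : sign h0 = 1 := by
    have h3 : sign (h0.extendDomain f6) = sign h0 := by rw [sign_extendDomain]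
    rw [h1] at h3
    exact h3.symm.trans (mem_alternatingGroup.1 g.2)
  exact ⟨⟨h0, mem_alternatingGroup.2 h2⟩, Subtype.ext h1⟩

theorem gen6 : GenT 6 {2, 2} {4, 2} {5} :=
  Cfsg.Agent.H952.F4.Gen.genT_of (n := 4) (c[1, 2] * c[4, 5]) (c[0, 1] * c[2, 3, 4, 5]) (by decide +kernel)
    (by decide +kernel)
    ![[], [], [2, 0, 2, 2, 0, 3, 0], [0, 3, 0, 3, 0, 2, 0, 2, 2], [3, 0, 2, 2, 0, 3, 0, 2, 2], [3, 0, 2, 0, 2, 2, 0]]
    (by decide +kernel) (by decide +kernel) (by decide +kernel) (by decide +kernel)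

/-! ### Seven vectors from a vector fixed by `A₆` -/

theorem exists_six (i : Fin 7) : ∃ g : T7, (g : Perm (Fin 7)) 6 = i := by
  by_cases h1 : i = 6
  · exact ⟨1, by rw [h1]; rfl⟩
  · obtain ⟨k, hk⟩ := pick [i, 6] (by simp)
    obtain ⟨l, hl⟩ := pick [i, 6, k] (by simp)
    simp only [List.mem_cons, List.not_mem_nil, or_false, not_or] at hk hl
    refine ⟨dt 6 i k l (Ne.symm h1) (Ne.symm hl.2.2), ?_⟩
    change Equiv.swap 6 i (Equiv.swap k l 6) = i
    rw [swap_apply_of_ne_of_ne (Ne.symm hk.2) (Ne.symm hl.2.1), swap_apply_left]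

theorem exists_seven {ρ : Representation K T7 V} (hfix : NoFix ρ) {w : V} (h0 : w ≠ 0)
    (hw : ∀ g : T7, (g : Perm (Fin 7)) 6 = 6 → ρ g w = w) : ∃ v, Seven ρ v ∧ v 0 ≠ 0 := by
  choose t ht using exists_six
  have h1 : ∀ (g : T7) i, (g : Perm (Fin 7)) 6 = i → ρ g w = ρ (t i) w := by
    intro g i hg
    have h2 := hw ((t i)⁻¹ * g) (by
      change ((t i)⁻¹ : Perm (Fin 7)) ((g : Perm (Fin 7)) 6) = 6
      rw [hg]
      exact Equiv.Perm.inv_eq_iff_eq.2 (ht i).symm)
    have h3 := congrArg (ρ (t i)) h2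
    rwa [← Module.End.mul_apply, ← map_mul, mul_inv_cancel_left] at h3
  have h4 : Seven ρ fun i => ρ (t i) w := by
    refine Seven.of_noFix hfix fun g i => ?_
    rw [← Module.End.mul_apply, ← map_mul]
    refine h1 _ _ ?_
    change (g : Perm (Fin 7)) ((t i : Perm (Fin 7)) 6) = _
    rw [ht]
  refine ⟨_, h4, h4.ne_zero (i := 6) ?_⟩
  rw [hw (t 6) (ht 6)]
  exact h0

/-! ### Pairings -/

/-- an invariant perfect pairing -/
structure Pair {G : Type*} [Group G] (P : V →ₗ[K] W →ₗ[K] K) (ρ : Representation K G V) (ρ' : Representation K G W) :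
    Prop where
  nd : ∀ v, (∀ w, P v w = 0) → v = 0
  nd' : ∀ w, (∀ v, P v w = 0) → w = 0
  inv : ∀ g v w, P (ρ g v) (ρ' g w) = P v w

theorem Pair.flip {G : Type*} [Group G] {P : V →ₗ[K] W →ₗ[K] K} {ρ : Representation K G V}
    {ρ' : Representation K G W} (h : Pair P ρ ρ') : Pair P.flip ρ' ρ :=
  ⟨h.nd', h.nd, fun g w v => h.inv g v w⟩

theorem Pair.comp {G H : Type*} [Group G] [Group H] {P : V →ₗ[K] W →ₗ[K] K} {ρ : Representation K G V}
    {ρ' : Representation K G W} (h : Pair P ρ ρ') (f : H →* G) :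
    Pair P (MonoidHom.comp ρ f) (MonoidHom.comp ρ' f) := ⟨h.nd, h.nd', fun g => h.inv (f g)⟩

theorem Pair.dual_inv {G : Type*} [Group G] [FiniteDimensional K V] [FiniteDimensional K W] {P : V →ₗ[K] W →ₗ[K] K}
    {ρ : Representation K G V} {ρ' : Representation K G W} (h : Pair P ρ ρ')
    (h' : ∀ w, (∀ g, ρ' g w = w) → w = 0) : ρ.dual.invariants = ⊥ := by
  rw [eq_bot_iff]
  intro f hf
  rw [Representation.mem_invariants] at hf
  -- `P.flip : W → V*` is bijective
  have hi : Function.Injective P.flip := by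
    rw [← LinearMap.ker_eq_bot, eq_bot_iff]
    intro w hw
    exact (Submodule.mem_bot K).2 (h.nd' w fun v => LinearMap.congr_fun (LinearMap.mem_ker.1 hw) v)
  have hi' : Function.Injective P := by
    rw [← LinearMap.ker_eq_bot, eq_bot_iff]
    intro v hv
    exact (Submodule.mem_bot K).2 (h.nd v fun w => LinearMap.congr_fun (LinearMap.mem_ker.1 hv) w)
  have e1 : finrank K W ≤ finrank K V := by
    have := LinearMap.finrank_le_finrank_of_injective hi
    rwa [Subspace.dual_finrank_eq] at this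
  have e2 : finrank K V ≤ finrank K W := by
    have := LinearMap.finrank_le_finrank_of_injective hi'
    rwa [Subspace.dual_finrank_eq] at this
  have hs : Function.Surjective P.flip := by
    refine (LinearMap.injective_iff_surjective_of_finrank_eq_finrank ?_).1 hi
    rw [Subspace.dual_finrank_eq]
    omega
  obtain ⟨w, rfl⟩ := hs f
  have hw : w = 0 := by
    apply h'
    intro g
    have h3 : ∀ v, P v (ρ' g w - w) = 0 := by
      intro v
      have h4 := LinearMap.congr_fun (hf g) v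
      change P (ρ g⁻¹ v) w = P v w at h4
      have h5 := h.inv g (ρ g⁻¹ v) w
      rw [← Module.End.mul_apply, ← map_mul, mul_inv_cancel, map_one, Module.End.one_apply] at h5
      rw [map_sub, h5, h4, sub_self]
    exact sub_eq_zero.1 (h.nd' _ h3)
  rw [hw, map_zero]
  exact Submodule.zero_mem _

/-- **`A₆` has a fixed vector** -/
theorem exists_fixed [FiniteDimensional K V] [FiniteDimensional K W] {P : V →ₗ[K] W →ₗ[K] K}
    {ρ : Representation K T7 V} {ρ' : Representation K T7 W} (hP : Pair P ρ ρ') (h27 : finrank K V = 27)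
    (hev2 : ∀ g : T7, (g : Perm (Fin 7)).cycleType = {2, 2} → 15 ≤ ev (ρ g) 1)
    (hev4 : ∀ g : T7, (g : Perm (Fin 7)).cycleType = {4, 2} → 7 ≤ ev (ρ g) 1)
    (hev5 : ∀ g : T7, (g : Perm (Fin 7)).cycleType = {5} → 6 ≤ ev (ρ g) 1) :
    (∃ v, v ≠ 0 ∧ ∀ g : T7, (g : Perm (Fin 7)) 6 = 6 → ρ g v = v) ∨
      ∃ w, w ≠ 0 ∧ ∀ g : T7, (g : Perm (Fin 7)) 6 = 6 → ρ' g w = w := by
  obtain ⟨x, y, hgen, hx, hy, hxy⟩ := gen6
  by_contra hcon
  push Not at hcon
  obtain ⟨hc1, hc2⟩ := hcon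
  have h1 := Cfsg.Agent.H952.F4.Scott.scott (MonoidHom.comp ρ io) hgen
  have a1 : Representation.invariants (MonoidHom.comp ρ io) = ⊥ := by
    rw [eq_bot_iff]
    intro v hv
    by_contra h0
    obtain ⟨g, hg, hne⟩ := hc1 v h0
    obtain ⟨h, rfl⟩ := exists_io hg
    exact hne ((Representation.mem_invariants (ρ := MonoidHom.comp ρ io) v).1 hv h)
  have a2 : Representation.invariants (Representation.dual (MonoidHom.comp ρ io)) = ⊥ := by
    refine (hP.comp io).dual_inv fun w hw => ?_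
    by_contra h0
    obtain ⟨g, hg, hne⟩ := hc2 w h0
    obtain ⟨h, rfl⟩ := exists_io hg
    exact hne (hw h)
  rw [a1, a2, finrank_bot, finrank_bot, h27] at h1
  have b1 := hev2 (io x) (by rw [io_type, hx])
  have b2 := hev4 (io y) (by rw [io_type, hy])
  have b3 := hev5 (io (x * y)) (by rw [io_type, hxy])
  have c1 : ev ((MonoidHom.comp ρ io) x) 1 = ev (ρ (io x)) 1 := rfl
  have c2 : ev ((MonoidHom.comp ρ io) y) 1 = ev (ρ (io y)) 1 := rfl
  have c3 : ev ((MonoidHom.comp ρ io) (x * y)) 1 = ev (ρ (io (x * y))) 1 := rfl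
  omega

theorem Equi.of_seven {C : Cub K V W} {ρ : Representation K T7 V} {ρ' : Representation K T7 W} (hA : Act C ρ ρ')
    {v : Fin 7 → V} (hv : Seven ρ v) : Equi ρ' fun i j => C.cr (v i) (v j) :=
  ⟨fun i j => C.symm _ _, fun g i j => by rw [← hA.cr, hv.act, hv.act]⟩

theorem Four.dis {C : Cub K V W} {v : Fin 7 → V} (h : Four fun i j => C.cr (v i) (v j)) : Dis C v := by
  intro i j k l hij hik hil hjk hjl hkl
  have h1 := h i j k l hij hik hil hjk hjl hkl
  simp only [map_sub, LinearMap.sub_apply]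
  have h2 : C.cr (v i) (v j) - C.cr (v k) (v j) - (C.cr (v i) (v l) - C.cr (v k) (v l)) =
      (C.cr (v i) (v j) + C.cr (v k) (v l)) - (C.cr (v i) (v l) + C.cr (v k) (v j)) := by abel
  rw [h2]
  simp only at h1
  rw [h1, sub_self]

/-- **The totally singular subspace.** -/
theorem ts_exists [FiniteDimensional K V] [FiniteDimensional K W] (h2 : (2 : K) ≠ 0) (h7 : (7 : K) ≠ 0)
    {C : Cub K V W} {P : V →ₗ[K] W →ₗ[K] K} {ρ : Representation K T7 V} {ρ' : Representation K T7 W}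
    (hA : Act C ρ ρ') (hP : Pair P ρ ρ') (hρ : NoFix ρ) (hρ' : NoFix ρ') (h27 : finrank K V = 27)
    (hev2 : ∀ g : T7, (g : Perm (Fin 7)).cycleType = {2, 2} → 15 ≤ ev (ρ g) 1)
    (hev4 : ∀ g : T7, (g : Perm (Fin 7)).cycleType = {4, 2} → 7 ≤ ev (ρ g) 1)
    (hev5 : ∀ g : T7, (g : Perm (Fin 7)).cycleType = {5} → 6 ≤ ev (ρ g) 1)
    (hd : ∀ b, Equi ρ b → Four b) (hd' : ∀ b, Equi ρ' b → Four b) : TS C ρ ∨ TS C.swap ρ' := by
  have e1 : ∀ v, Seven ρ v → Dis C v := fun v hv => (hd' _ (Equi.of_seven hA hv)).dis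
  have e2 : ∀ v, Seven ρ' v → Dis C.swap v := fun v hv => (hd _ (Equi.of_seven hA.swap hv)).dis
  rcases exists_fixed hP h27 hev2 hev4 hev5 with ⟨v, h0, hv⟩ | ⟨w, h0, hw⟩
  · obtain ⟨v, hv, h1⟩ := exists_seven hρ h0 hv
    exact ts_of_dis h2 h7 hA hρ hρ' e1 e2 hv h1
  · obtain ⟨v, hv, h1⟩ := exists_seven hρ' h0 hw
    have h3 := ts_of_dis h2 h7 hA.swap hρ' hρ e2 e1 hv h1
    exact h3.symm

/-! ### Relations from elements of order 3 -/

/-- if `dim W^a = 15` for involutions and 3-cycles then the four-cycle relations hold -/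
theorem four_of_ev [FiniteDimensional K W] (h2 : (2 : K) ≠ 0) (h3 : (3 : K) ≠ 0) {ρ : Representation K T7 W}
    (h27 : finrank K W = 27)
    (hev2 : ∀ g : T7, (g : Perm (Fin 7)).cycleType = {2, 2} → ev (ρ g) 1 = 15)
    (hev3 : ∀ g : T7, (g : Perm (Fin 7)).cycleType = {3} → 15 ≤ ev (ρ g) 1) {b : Fin 7 → Fin 7 → W} (hb : Equi ρ b) :
    Four b := by
  intro i j k l hij hik hil hjk hjl hkl
  set e : W := b i j - b j k + b k l - b l i with he
  set a := dt i j k l hij hkl with ha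
  set c := dt i k j l hik hjl with hc
  have ht0 : sign (Equiv.swap i j * Equiv.swap j k) = 1 := by
    rw [map_mul, sign_swap hij, sign_swap hjk]; rfl
  set t : T7 := ⟨Equiv.swap i j * Equiv.swap j k, mem_alternatingGroup.2 ht0⟩ with ht
  -- values
  have ai : (a : Perm (Fin 7)) i = j := by
    change Equiv.swap i j (Equiv.swap k l i) = j
    rw [swap_apply_of_ne_of_ne hik hil, swap_apply_left]
  have aj : (a : Perm (Fin 7)) j = i := by
    change Equiv.swap i j (Equiv.swap k l j) = i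
    rw [swap_apply_of_ne_of_ne hjk hjl, swap_apply_right]
  have ak : (a : Perm (Fin 7)) k = l := by
    change Equiv.swap i j (Equiv.swap k l k) = l
    rw [swap_apply_left, swap_apply_of_ne_of_ne hil.symm hjl.symm]
  have al : (a : Perm (Fin 7)) l = k := by
    change Equiv.swap i j (Equiv.swap k l l) = k
    rw [swap_apply_right, swap_apply_of_ne_of_ne hik.symm hjk.symm]
  have ao : ∀ x, x ≠ i → x ≠ j → x ≠ k → x ≠ l → (a : Perm (Fin 7)) x = x := by
    intro x h1 h2 h3 h4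
    change Equiv.swap i j (Equiv.swap k l x) = x
    rw [swap_apply_of_ne_of_ne h3 h4, swap_apply_of_ne_of_ne h1 h2]
  have ci : (c : Perm (Fin 7)) i = k := by
    change Equiv.swap i k (Equiv.swap j l i) = k
    rw [swap_apply_of_ne_of_ne hij hil, swap_apply_left]
  have cj : (c : Perm (Fin 7)) j = l := by
    change Equiv.swap i k (Equiv.swap j l j) = l
    rw [swap_apply_left, swap_apply_of_ne_of_ne hil.symm hkl.symm]
  have ck : (c : Perm (Fin 7)) k = i := by
    change Equiv.swap i k (Equiv.swap j l k) = i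
    rw [swap_apply_of_ne_of_ne hjk.symm hkl, swap_apply_right]
  have cl : (c : Perm (Fin 7)) l = j := by
    change Equiv.swap i k (Equiv.swap j l l) = j
    rw [swap_apply_right, swap_apply_of_ne_of_ne hij.symm hjk]
  have co : ∀ x, x ≠ i → x ≠ j → x ≠ k → x ≠ l → (c : Perm (Fin 7)) x = x := by
    intro x h1 h2 h3 h4
    change Equiv.swap i k (Equiv.swap j l x) = x
    rw [swap_apply_of_ne_of_ne h2 h4, swap_apply_of_ne_of_ne h1 h3]
  have ti : (t : Perm (Fin 7)) i = j := by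
    change Equiv.swap i j (Equiv.swap j k i) = j
    rw [swap_apply_of_ne_of_ne hij hik, swap_apply_left]
  have tj : (t : Perm (Fin 7)) j = k := by
    change Equiv.swap i j (Equiv.swap j k j) = k
    rw [swap_apply_left, swap_apply_of_ne_of_ne hik.symm hjk.symm]
  have tk : (t : Perm (Fin 7)) k = i := by
    change Equiv.swap i j (Equiv.swap j k k) = i
    rw [swap_apply_right, swap_apply_right]
  have tox : ∀ x, x ≠ i → x ≠ j → x ≠ k → (t : Perm (Fin 7)) x = x := by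
    intro x h1 h2 h3
    change Equiv.swap i j (Equiv.swap j k x) = x
    rw [swap_apply_of_ne_of_ne h2 h3, swap_apply_of_ne_of_ne h1 h2]
  have tl : (t : Perm (Fin 7)) l = l := tox l hil.symm hjl.symm hkl.symm
  -- group relations
  have ext4 : ∀ g h : T7, (g : Perm (Fin 7)) i = (h : Perm (Fin 7)) i → (g : Perm (Fin 7)) j = (h : Perm (Fin 7)) j →
      (g : Perm (Fin 7)) k = (h : Perm (Fin 7)) k → (g : Perm (Fin 7)) l = (h : Perm (Fin 7)) l →
      (∀ x, x ≠ i → x ≠ j → x ≠ k → x ≠ l → (g : Perm (Fin 7)) x = (h : Perm (Fin 7)) x) → g = h := by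
    intro g h h1 h2 h3 h4 h5
    refine Subtype.ext (Equiv.ext fun x => ?_)
    by_cases x1 : x = i
    · rw [x1, h1]
    by_cases x2 : x = j
    · rw [x2, h2]
    by_cases x3 : x = k
    · rw [x3, h3]
    by_cases x4 : x = l
    · rw [x4, h4]
    exact h5 x x1 x2 x3 x4
  have mul_app : ∀ (g h : T7) x, ((g * h : T7) : Perm (Fin 7)) x = (g : Perm (Fin 7)) ((h : Perm (Fin 7)) x) :=
    fun _ _ _ => rfl
  have one_app : ∀ x, ((1 : T7) : Perm (Fin 7)) x = x := fun _ => rfl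
  have haa : a * a = 1 := ext4 _ _ (by rw [mul_app, ai, aj, one_app]) (by rw [mul_app, aj, ai, one_app])
    (by rw [mul_app, ak, al, one_app]) (by rw [mul_app, al, ak, one_app])
    (fun x h1 h2 h3 h4 => by rw [mul_app, ao x h1 h2 h3 h4, ao x h1 h2 h3 h4, one_app])
  have hcc : c * c = 1 := ext4 _ _ (by rw [mul_app, ci, ck, one_app]) (by rw [mul_app, cj, cl, one_app])
    (by rw [mul_app, ck, ci, one_app]) (by rw [mul_app, cl, cj, one_app])
    (fun x h1 h2 h3 h4 => by rw [mul_app, co x h1 h2 h3 h4, co x h1 h2 h3 h4, one_app])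
  have hca : c * a = a * c := ext4 _ _ (by rw [mul_app, mul_app, ai, cj, ci, ak])
    (by rw [mul_app, mul_app, aj, ci, cj, al]) (by rw [mul_app, mul_app, ak, cl, ck, ai])
    (by rw [mul_app, mul_app, al, ck, cl, aj])
    (fun x h1 h2 h3 h4 => by rw [mul_app, mul_app, ao x h1 h2 h3 h4, co x h1 h2 h3 h4, ao x h1 h2 h3 h4])
  have ht3 : t ^ 3 = 1 := by
    rw [pow_succ, pow_two]
    exact ext4 _ _ (by rw [mul_app, mul_app, ti, tj, tk, one_app]) (by rw [mul_app, mul_app, tj, tk, ti, one_app])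
      (by rw [mul_app, mul_app, tk, ti, tj, one_app]) (by rw [mul_app, mul_app, tl, tl, tl, one_app])
      (fun x h1 h2 h3 _ => by rw [mul_app, mul_app, tox x h1 h2 h3, tox x h1 h2 h3, tox x h1 h2 h3, one_app])
  have htc : t * c = a * t := ext4 _ _ (by rw [mul_app, mul_app, ci, tk, ti, aj])
    (by rw [mul_app, mul_app, cj, tl, tj, ak]) (by rw [mul_app, mul_app, ck, ti, tk, ai])
    (by rw [mul_app, mul_app, cl, tj, tl, al])
    (fun x h1 h2 h3 h4 => by rw [mul_app, mul_app, co x h1 h2 h3 h4, tox x h1 h2 h3, ao x h1 h2 h3 h4])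
  have hta : t * a = c * a * t := ext4 _ _ (by rw [mul_app, mul_app, mul_app, ai, tj, ti, aj, ci])
    (by rw [mul_app, mul_app, mul_app, aj, ti, tj, ak, cl]) (by rw [mul_app, mul_app, mul_app, ak, tl, tk, ai, cj])
    (by rw [mul_app, mul_app, mul_app, al, tk, tl, al, ck])
    (fun x h1 h2 h3 h4 => by
      rw [mul_app, mul_app, mul_app, ao x h1 h2 h3 h4, tox x h1 h2 h3, ao x h1 h2 h3 h4, co x h1 h2 h3 h4])
  have tya : (a : Perm (Fin 7)).cycleType = {2, 2} := by
    have hd : (Equiv.swap i j).Disjoint (Equiv.swap k l) := by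
      rw [disjoint_iff_disjoint_support, support_swap hij, support_swap hkl]
      simp [hik.symm, hil.symm, hjk.symm, hjl.symm]
    change (Equiv.swap i j * Equiv.swap k l).cycleType = _
    rw [hd.cycleType_mul, (isSwap_iff_cycleType.1 ⟨i, j, hij, rfl⟩), (isSwap_iff_cycleType.1 ⟨k, l, hkl, rfl⟩)]
    rfl
  have tyc : (c : Perm (Fin 7)).cycleType = {2, 2} := by
    have hd : (Equiv.swap i k).Disjoint (Equiv.swap j l) := by
      rw [disjoint_iff_disjoint_support, support_swap hik, support_swap hjl]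
      simp [hij.symm, hil.symm, hjk, hkl.symm]
    change (Equiv.swap i k * Equiv.swap j l).cycleType = _
    rw [hd.cycleType_mul, (isSwap_iff_cycleType.1 ⟨i, k, hik, rfl⟩), (isSwap_iff_cycleType.1 ⟨j, l, hjl, rfl⟩)]
    rfl
  have tyca : ((c * a : T7) : Perm (Fin 7)).cycleType = {2, 2} := by
    have h1 : c * a = t * a * t⁻¹ := by rw [hta]; group
    rw [h1]
    change ((t : Perm (Fin 7)) * a * (t : Perm (Fin 7))⁻¹).cycleType = _
    rw [cycleType_conj, tya]
  have tyt : (t : Perm (Fin 7)).cycleType = {3} := by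
    have h1 : (t : Perm (Fin 7)).IsThreeCycle := by
      change (Equiv.swap i j * Equiv.swap j k).IsThreeCycle
      rw [swap_comm i j]
      exact isThreeCycle_swap_mul_swap_same hij.symm hjk hik
    exact h1
  -- dimensions
  have d1 := Cfsg.Agent.H952.F4.Eig.four h2 ρ hcc haa hca
  rw [h27, hev2 c tyc, hev2 a tya, hev2 _ tyca] at d1
  have d2 := Cfsg.Agent.H952.F4.Eig.a4 h2 ρ hcc haa hca ht3 (by rw [htc]; group) (by rw [hta]; group)
  rw [h27] at d2
  have d3 := hev3 t tyt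
  have d4 : es (ρ c) 1 ⊓ es (ρ a) 1 ⊓ es (ρ t) 1 = es (ρ c) 1 ⊓ es (ρ a) 1 :=
    Submodule.eq_of_le_of_finrank_le inf_le_left (by omega)
  have m1 : ρ a e = e := by
    rw [he, map_sub, map_add, map_sub, hb.act, hb.act, hb.act, hb.act, ai, aj, ak, al, hb.symm j i, hb.symm l k,
      hb.symm k j, hb.symm l i]
    abel
  have m2 : ρ c e = e := by
    rw [he, map_sub, map_add, map_sub, hb.act, hb.act, hb.act, hb.act, ci, cj, ck, cl]
    abel
  have m3 : ρ t e = e := by
    have h1 : e ∈ es (ρ c) 1 ⊓ es (ρ a) 1 := ⟨mem_es1.2 m2, mem_es1.2 m1⟩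
    rw [← d4] at h1
    exact mem_es1.1 h1.2
  have m4 : e + ρ t e + ρ t (ρ t e) = 0 := by
    rw [he]
    simp only [map_sub, map_add, hb.act, ti, tj, tk, tl]
    rw [hb.symm l i, hb.symm l j, hb.symm l k]
    abel
  rw [m3, m3] at m4
  have m5 : (3 : K) • e = 0 := by
    rw [← m4]; module
  have m6 := (smul_eq_zero.1 m5).resolve_left h3
  rw [← sub_eq_zero, ← m6, he, hb.symm j k, hb.symm l i]
  abel

end Cfsg.Agent.H931.E6
end

-- part: H931/E6/Cases
section
/-!
# S5927, S5928: `A₇`, characteristic 3 and at least 11 (helper931)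
-/

set_option autoImplicit false

namespace Cfsg.Agent.H931.E6

open Cfsg Cfsg.Lie Module
open Equiv (Perm)
open Cfsg.Agent.ChevalleyStructure.E6Min.Tables Cfsg.Agent.ChevalleyStructure.E6Min.Basic
  Cfsg.Agent.ChevalleyStructure.E6Min.Adjoint
open Cfsg.Agent.H952.F4 (ev es sh cr tf)
open Cfsg.Agent.H163.E6 (V V' Lift Stab Sit Tab scal)

universe u

/-! ### The crosses of the 27-dimensional modules -/

/-- the bilinear cross -/
noncomputable def crL (F : Type u) [Field F] : (I27 → F) →ₗ[F] (I27 → F) →ₗ[F] (I27 → F) :=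
  LinearMap.mk₂ F cr Cfsg.Agent.H952.F4.Jord.cr_add_left Cfsg.Agent.H952.F4.Jord.cr_smul_left
    Cfsg.Agent.H952.F4.Jord.cr_add_right Cfsg.Agent.H952.F4.Jord.cr_smul_right

/-- the pairing -/
noncomputable def tfL (F : Type u) [Field F] : (I27 → F) →ₗ[F] (I27 → F) →ₗ[F] F :=
  LinearMap.mk₂ F tf Cfsg.Agent.H952.F4.Jord.tf_add_left Cfsg.Agent.H952.F4.Jord.tf_smul_left
    Cfsg.Agent.H952.F4.Jord.tf_add_right Cfsg.Agent.H952.F4.Jord.tf_smul_right

theorem cr_four {F : Type u} [Field F] (x : I27 → F) : cr (cr x x) (cr x x) = (8 * cubicT x) • x := by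
  rw [Cfsg.Agent.H952.F4.Jord.cr_self, Cfsg.Agent.H952.F4.Jord.cr_self, Cfsg.Agent.H952.F4.Jord.sh_smul,
    Cfsg.Agent.H952.F4.Jord.sh_sh, smul_smul, smul_smul]
  congr 1
  ring

/-- the pair of cubic spaces -/
noncomputable def cub (F : Type u) [Field F] : Cub F (I27 → F) (I27 → F) where
  cr := crL F
  cr' := crL F
  symm := Cfsg.Agent.H952.F4.Jord.cr_comm
  symm' := Cfsg.Agent.H952.F4.Jord.cr_comm
  N x := 8 * cubicT x
  N' x := 8 * cubicT x
  four := cr_four
  four' := cr_four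

variable {F : Type u} [Field F]

theorem act_cub (ψ : T7 →* ↥(Zgrp F)) : Act (cub F) (MonoidHom.comp (V F) ψ) (MonoidHom.comp (V' F) ψ) :=
  ⟨fun g x y => Cfsg.Agent.H163.E6.Act.cr_act (ψ g) x y, fun g x y => Cfsg.Agent.H163.E6.Act.cr_act' (ψ g) x y⟩

theorem pair_tf (ψ : T7 →* ↥(Zgrp F)) : Pair (tfL F) (MonoidHom.comp (V F) ψ) (MonoidHom.comp (V' F) ψ) :=
  ⟨fun _ h => Cfsg.Agent.H952.F4.Jord.tf_nondeg h,
    fun w h => Cfsg.Agent.H952.F4.Jord.tf_nondeg fun v => (Cfsg.Agent.H952.F4.Jord.tf_comm w v).trans (h v),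
    fun g x y => Cfsg.Agent.H163.E6.Act.tf_act (ψ g) x y⟩

theorem finrank27 : finrank F (I27 → F) = 27 := by
  rw [Module.finrank_fintype_fun_eq_card]
  rfl

/-! ### Stability -/

theorem coe_scal (c : Fˣ) : ((scal c : GL I27 F) : Matrix I27 I27 F) = (c : F) • (1 : Matrix I27 I27 F) :=
  Algebra.algebraMap_eq_smul_one (c : F)

theorem V_scal {g : ↥(Zgrp F)} {c : Fˣ} (h : (g : GL I27 F) = scal c) (w : I27 → F) : V F g w = (c : F) • w := by
  rw [Cfsg.Agent.H163.E6.V_apply, h, coe_scal, Matrix.smul_mulVec, Matrix.one_mulVec]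

theorem V'_scal {g : ↥(Zgrp F)} {c : Fˣ} (h : (g : GL I27 F) = scal c) (w : I27 → F) :
    V' F g w = ((c⁻¹ : Fˣ) : F) • w := by
  have h1 : (scal c : GL I27 F)⁻¹ = scal c⁻¹ := (map_inv (Units.map
    (algebraMap F (Matrix I27 I27 F)).toMonoidHom) c).symm
  have h2 : Cfsg.Agent.H184.GraphE6.dual (scal c : GL I27 F) = scal c⁻¹ := by
    refine Units.ext ?_
    rw [Cfsg.Agent.H184.GraphE6.coe_dual, h1, coe_scal, Matrix.transpose_smul, Matrix.transpose_one]
  have h3 : ((Cfsg.Agent.H184.GraphE6.gU (scal c) : GL I27 F) : Matrix I27 I27 F) =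
      ((c⁻¹ : Fˣ) : F) • (1 : Matrix I27 I27 F) := by
    rw [Cfsg.Agent.H184.GraphE6.gU, h2, Units.val_mul, Units.val_mul, Cfsg.Agent.H184.GraphE6.coe_PU, coe_scal,
      Matrix.mul_smul, Matrix.smul_mul, Matrix.mul_one, Cfsg.Agent.H184.GraphE6.PM_sq]
  rw [Cfsg.Agent.H163.E6.V'_apply, h, h3, Matrix.smul_mulVec, Matrix.one_mulVec]

theorem stab_lift {n : ℕ} {φ : ↥(alternatingGroup (Fin n)) →* ↥(chevE6.group F)}
    {ρ : Representation F ↥(Zgrp F) (I27 → F)} (hρ : ρ = V F ∨ ρ = V' F)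
    {ψ : ↥(alternatingGroup (Fin n)) →* ↥(Zgrp F)} (hψ : Lift φ ψ) {W : Submodule F (I27 → F)}
    (hW : ∀ a, ∀ w ∈ W, ρ (ψ a) w ∈ W) : Stab ρ φ.range W := by
  rintro g ⟨a, ha⟩ w hw
  have h1 : ad F (g * (ψ a)⁻¹) = 1 := by
    rw [map_mul, map_inv, hψ a, ← ha, mul_inv_cancel]
  obtain ⟨c, -, hc⟩ := (Cfsg.Agent.H163.E6.Act.ad_eq_one_iff _).1 h1
  have h2 : ρ g w = ρ (g * (ψ a)⁻¹) (ρ (ψ a) w) := by
    rw [← Module.End.mul_apply, ← map_mul, inv_mul_cancel_right]
  rw [h2]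
  rcases hρ with rfl | rfl
  · rw [V_scal hc]
    exact W.smul_mem _ (hW a w hw)
  · rw [V'_scal hc]
    exact W.smul_mem _ (hW a w hw)

/-- seven singular vectors contradict the hypothesis on totally singular subspaces -/
theorem ts_false {H : Subgroup ↥(chevE6.group F)} {φ : T7 →* ↥(chevE6.group F)} (hS : Sit H 7 φ)
    {ψ : T7 →* ↥(Zgrp F)} (hψ : Lift φ ψ) (h2 : (2 : F) ≠ 0) (h7 : (7 : F) ≠ 0)
    {ρ : Representation F ↥(Zgrp F) (I27 → F)} (hρ : ρ = V F ∨ ρ = V' F) (h : TS (cub F) (MonoidHom.comp ρ ψ)) :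
    False := by
  obtain ⟨v, hv, h0, hc⟩ := h
  refine hS.no_six ρ hρ (Submodule.span F (Set.range v)) (stab_lift hρ hψ fun a w hw => hv.span_stable a hw)
    (hv.finrank h7 h0) ⟨fun x hx => ?_, fun x hx y hy => cross_span hc hx hy⟩
  have h1 : cr x x = 0 := cross_span hc hx hx
  rw [Cfsg.Agent.H952.F4.Jord.cr_self] at h1
  exact (smul_eq_zero.1 h1).resolve_left h2

/-! ### Eigenvalues -/

theorem lift_inj {φ : T7 →* ↥(chevE6.group F)} {ψ : T7 →* ↥(Zgrp F)} (hi : Function.Injective φ)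
    (hψ : Lift φ ψ) : Function.Injective ψ := fun a b h => hi (by rw [← hψ, ← hψ, h])

theorem pow_of_type {g : T7} {s : Multiset ℕ} {n : ℕ} (hg : (g : Perm (Fin 7)).cycleType = s) (h : s.lcm = n) :
    g ^ n = 1 :=
  Subtype.ext (by rw [Subgroup.coe_pow, ← h, ← hg, Equiv.Perm.lcm_cycleType, pow_orderOf_eq_one]; rfl)

theorem ne_one_of_type {g : T7} {s : Multiset ℕ} (hg : (g : Perm (Fin 7)).cycleType = s) (h : s ≠ 0) : g ≠ 1 := by
  rintro rfl
  exact h (by rw [← hg]; exact Equiv.Perm.cycleType_one)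

section nums
variable {p : ℕ} {ψ : T7 →* ↥(Zgrp F)}

theorem tw (hT : Tab p F) (hi : Function.Injective ψ) (hp : p ≠ 2) {g : T7}
    (hg : (g : Perm (Fin 7)).cycleType = {2, 2}) : ev (V F (ψ g)) 1 = 15 ∨ ev (V F (ψ g)) 1 = 11 := by
  have h1 : ψ g ≠ 1 := fun h => ne_one_of_type hg (by decide) (hi (h.trans (map_one ψ).symm))
  have h2 : ψ g * ψ g = 1 := by rw [← map_mul, ← pow_two, pow_of_type hg (by decide), map_one]
  rcases hT.two hp (ψ g) h1 h2 with h | h
  · exact Or.inl h.1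
  · exact Or.inr h.1

theorem fo (hT : Tab p F) (hi : Function.Injective ψ) (hp : p ≠ 2) {g : T7}
    (hg : (g : Perm (Fin 7)).cycleType = {4, 2}) :
    (ev (V F (ψ (g * g))) 1 = 15 ∧ 7 ≤ ev (V F (ψ g)) 1) ∨
      (ev (V F (ψ (g * g))) 1 = 11 ∧ (ev (V F (ψ g)) 1 = 9 ∨ ev (V F (ψ g)) 1 = 5)) := by
  have h1 : ψ g * ψ g ≠ 1 := fun h => ne_one_of_type (sq_type hg) (by decide)
    (hi (((map_mul ψ g g).trans h).trans (map_one ψ).symm))
  have h2 : ψ g ^ 4 = 1 := by rw [← map_pow, pow_of_type hg (by decide), map_one]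
  obtain ⟨k, hk⟩ := four_conj hg
  have h3 : ∃ x, x * ψ g * x⁻¹ = (ψ g)⁻¹ := ⟨ψ k, by rw [← map_inv, ← map_mul, ← map_mul, hk, map_inv]⟩
  rw [map_mul]
  rcases hT.four_real hp (ψ g) h1 h2 h3 with ⟨a, b, -⟩ | ⟨a, b, -⟩ | ⟨a, b, -⟩ | ⟨a, b, -⟩ | ⟨a, b, -⟩ <;> (clear * - a b; omega)

theorem fi (hT : Tab p F) (hi : Function.Injective ψ) (hp : p ≠ 5) {g : T7}
    (hg : (g : Perm (Fin 7)).cycleType = {5}) :
    ev (V F (ψ g)) 1 = 7 ∧ LinearMap.trace F _ (V F (ψ g)) = 2 := by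
  have h1 : ψ g ≠ 1 := fun h => ne_one_of_type hg (by decide) (hi (h.trans (map_one ψ).symm))
  have h2 : ψ g ^ 5 = 1 := by rw [← map_pow, pow_of_type hg (by decide), map_one]
  obtain ⟨k, hk⟩ := five_conj hg
  have h3 : ∃ x, x * ψ g * x⁻¹ = (ψ g) ^ 2 := ⟨ψ k, by rw [← map_inv, ← map_mul, ← map_mul, hk, map_pow]⟩
  obtain ⟨a, -, b, -⟩ := hT.five_rat hp (ψ g) h1 h2 h3
  exact ⟨a, b⟩

theorem se (hT : Tab p F) (hi : Function.Injective ψ) (hp : p ≠ 7) {g : T7}
    (hg : (g : Perm (Fin 7)).cycleType = {7}) :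
    ev (V F (ψ g)) 1 = 9 ∨ ev (V F (ψ g)) 1 ≤ 3 := by
  have h1 : ψ g ≠ 1 := fun h => ne_one_of_type hg (by decide) (hi (h.trans (map_one ψ).symm))
  have h2 : ψ g ^ 7 = 1 := by rw [← map_pow, pow_of_type hg (by decide), map_one]
  obtain ⟨k, hk⟩ := seven_conj hg
  have h3 : ∃ x, x * ψ g * x⁻¹ = (ψ g) ^ 2 := ⟨ψ k, by rw [← map_inv, ← map_mul, ← map_mul, hk, map_pow]⟩
  rcases hT.seven_rat hp (ψ g) h1 h2 h3 with h | h | h
  · exact Or.inl h.1
  · exact Or.inr (by omega)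
  · exact Or.inr (by omega)

/-- in characteristic different from 2 and 5 the involutions have `ev = 15` -/
theorem all_fifteen (p : ℕ) [Fact p.Prime] [Finite F] [CharP F p] (hp2 : p ≠ 2) (hp5 : p ≠ 5) (h2 : (2 : F) ≠ 0)
    (h5 : (5 : F) ≠ 0) (hi : Function.Injective ψ) {g : T7} (hg : (g : Perm (Fin 7)).cycleType = {2, 2}) :
    ev (V F (ψ g)) 1 = 15 := by
  have hT : Tab p F := Cfsg.Agent.H163.E6.Tor.tab p
  rcases tw hT hi hp2 hg with h | h
  · exact h
  exfalso
  have hall : ∀ g' : T7, (g' : Perm (Fin 7)).cycleType = {2, 2} → ev (V F (ψ g')) 1 = 11 := by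
    intro g' hg'
    obtain ⟨k, hk⟩ := two_conj hg hg'
    rw [← hk]
    exact (ev_conj (MonoidHom.comp (V F) ψ) k g 1).trans h
  let K := AlgebraicClosure F
  let f : F →+* K := algebraMap F K
  let ρ : Representation K T7 (I27 → K) := MonoidHom.comp (V K) ((Cfsg.Agent.H944.E6T.jm f).comp ψ)
  have hev : ∀ g, ev (ρ g) 1 = ev (V F (ψ g)) 1 := by
    intro g
    have h1 := Cfsg.Agent.H944.E6T.ev_V f (ψ g) 1
    rw [map_one] at h1
    exact h1
  have htr : ∀ g, LinearMap.trace K _ (ρ g) = f (LinearMap.trace F _ (V F (ψ g))) := fun g =>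
    Cfsg.Agent.H944.E6T.trace_V f (ψ g)
  have k2 : (2 : K) ≠ 0 := by
    intro h'
    exact h2 (f.injective (by rw [map_ofNat, map_zero]; exact h'))
  have k5 : (5 : K) ≠ 0 := by
    intro h'
    exact h5 (f.injective (by rw [map_ofNat, map_zero]; exact h'))
  refine no_eleven k2 k5 ρ finrank27 (fun g hg => by rw [hev, hall g hg]) (fun g hg => ?_) ?_ ?_
  · rw [hev]
    rcases fo hT hi hp2 hg with ⟨h1, -⟩ | ⟨-, h1⟩
    · rw [hall _ (sq_type hg)] at h1
      omega
    · exact h1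
  · rw [hev, (fi hT hi hp5 r5_type).1]
  · rw [htr, (fi hT hi hp5 r5_type).2, map_ofNat]

end nums

section finish
variable {H : Subgroup ↥(chevE6.group F)} {φ : T7 →* ↥(chevE6.group F)} {ψ : T7 →* ↥(Zgrp F)}

theorem noFix (hS : Sit H 7 φ) (hψ : Lift φ ψ) : NoFix (MonoidHom.comp (V F) ψ) := by
  intro v hv
  have h1 : v ∈ Representation.invariants (MonoidHom.comp (V F) ψ) :=
    (Representation.mem_invariants (ρ := MonoidHom.comp (V F) ψ) v).2 hv
  rw [(hS.no_fixed ψ hψ).1] at h1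
  exact (Submodule.mem_bot F).1 h1

theorem noFix' (hS : Sit H 7 φ) (hψ : Lift φ ψ) : NoFix (MonoidHom.comp (V' F) ψ) := by
  intro v hv
  have h1 : v ∈ Representation.invariants (MonoidHom.comp (V' F) ψ) :=
    (Representation.mem_invariants (ρ := MonoidHom.comp (V' F) ψ) v).2 hv
  rw [(hS.no_fixed ψ hψ).2] at h1
  exact (Submodule.mem_bot F).1 h1

theorem ev' (g : T7) : ev (MonoidHom.comp (V' F) ψ g) 1 = ev (V F (ψ g)) 1 := by
  have h1 := Cfsg.Agent.H163.E6.Act.ev_dual (ψ g) (one_ne_zero (α := F))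
  rw [inv_one] at h1
  exact h1

theorem conclude (hS : Sit H 7 φ) (hψ : Lift φ ψ) (h2 : (2 : F) ≠ 0) (h7 : (7 : F) ≠ 0)
    (hev2 : ∀ g : T7, (g : Perm (Fin 7)).cycleType = {2, 2} → 15 ≤ ev (V F (ψ g)) 1)
    (hev4 : ∀ g : T7, (g : Perm (Fin 7)).cycleType = {4, 2} → 7 ≤ ev (V F (ψ g)) 1)
    (hev5 : ∀ g : T7, (g : Perm (Fin 7)).cycleType = {5} → 6 ≤ ev (V F (ψ g)) 1)
    (hd : ∀ b, Equi (MonoidHom.comp (V F) ψ) b → Four b) (hd' : ∀ b, Equi (MonoidHom.comp (V' F) ψ) b → Four b) :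
    False := by
  rcases ts_exists h2 h7 (act_cub ψ) (pair_tf ψ) (noFix hS hψ) (noFix' hS hψ) finrank27 hev2 hev4 hev5 hd hd' with h | h
  · exact ts_false hS hψ h2 h7 (Or.inl rfl) h
  · exact ts_false hS hψ h2 h7 (Or.inr rfl) h

end finish

end Cfsg.Agent.H931.E6

namespace Cfsg.Agent.H163.E6.Cases

open Cfsg Cfsg.Lie Module
open Cfsg.Agent.ChevalleyStructure.E6Min.Tables Cfsg.Agent.ChevalleyStructure.E6Min.Basic
  Cfsg.Agent.ChevalleyStructure.E6Min.Adjoint
open Cfsg.Agent.H952.F4 (ev es)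
open Cfsg.Agent.H931.E6

universe u

variable {F : Type u} [Field F] [Finite F] {H : Subgroup ↥(chevE6.group F)}
  {φ : ↥(alternatingGroup (Fin 7)) →* ↥(chevE6.group F)}

theorem seven_big (p : ℕ) [Fact p.Prime] [CharP F p] (hp : 11 ≤ p) (hS : Sit H 7 φ)
    {ψ : ↥(alternatingGroup (Fin 7)) →* ↥(Zgrp F)} (hψ : Lift φ ψ) : False := by
  have hc : ∀ n : ℕ, 0 < n → n < 11 → (n : F) ≠ 0 := by
    intro n h0 h1 h
    have h2 := Nat.le_of_dvd h0 ((CharP.cast_eq_zero_iff F p n).1 h)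
    omega
  have h2 : (2 : F) ≠ 0 := by exact_mod_cast hc 2 (by norm_num) (by norm_num)
  have h3 : (3 : F) ≠ 0 := by exact_mod_cast hc 3 (by norm_num) (by norm_num)
  have h5 : (5 : F) ≠ 0 := by exact_mod_cast hc 5 (by norm_num) (by norm_num)
  have h7 : (7 : F) ≠ 0 := by exact_mod_cast hc 7 (by norm_num) (by norm_num)
  have hT : Tab p F := Tor.tab p
  have hi := lift_inj hS.inj hψ
  have e2 : ∀ g : T7, (g : Equiv.Perm (Fin 7)).cycleType = {2, 2} → ev (V F (ψ g)) 1 = 15 := fun g hg =>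
    all_fifteen p (by omega) (by omega) h2 h5 hi hg
  have e5 : ∀ g : T7, (g : Equiv.Perm (Fin 7)).cycleType = {5} → ev (V F (ψ g)) 1 = 7 := fun g hg =>
    (fi hT hi (by omega) hg).1
  refine conclude hS hψ h2 h7 (fun g hg => (e2 g hg).ge) (fun g hg => ?_) (fun g hg => by rw [e5 g hg]; norm_num)
    (fun b hb => ?_) fun b hb => ?_
  · rcases fo hT hi (by omega) hg with h | h
    · exact h.2
    · have := e2 _ (sq_type hg)
      omega
  · exact four_ne_three h2 h3 h5 h7 finrank27 (noFix hS hψ) ((pair_tf ψ).dual_inv (noFix' hS hψ))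
      (fun g hg => (e5 g hg).ge) hb
  · exact four_ne_three h2 h3 h5 h7 finrank27 (noFix' hS hψ) ((pair_tf ψ).flip.dual_inv (noFix hS hψ))
      (fun g hg => by rw [ev', e5 g hg]) hb

theorem seven_three [CharP F 3] (hS : Sit H 7 φ) {ψ : ↥(alternatingGroup (Fin 7)) →* ↥(Zgrp F)}
    (hψ : Lift φ ψ) : False := by
  have h3 : (3 : F) = 0 := by exact_mod_cast CharP.cast_eq_zero F 3
  have h2 : (2 : F) ≠ 0 := fun h => one_ne_zero (α := F) (by linear_combination h3 - h)
  have h5 : (5 : F) ≠ 0 := fun h => one_ne_zero (α := F) (by linear_combination 2 * h3 - h)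
  have h7 : (7 : F) ≠ 0 := fun h => one_ne_zero (α := F) (by linear_combination h - 2 * h3)
  have : Fact (Nat.Prime 3) := ⟨Nat.prime_three⟩
  have hT : Tab 3 F := Tor.tab 3
  have hi := lift_inj hS.inj hψ
  have e2 : ∀ g : T7, (g : Equiv.Perm (Fin 7)).cycleType = {2, 2} → ev (V F (ψ g)) 1 = 15 := fun g hg =>
    all_fifteen 3 (by omega) (by omega) h2 h5 hi hg
  have e5 : ∀ g : T7, (g : Equiv.Perm (Fin 7)).cycleType = {5} → ev (V F (ψ g)) 1 = 7 := fun g hg =>
    (fi hT hi (by omega) hg).1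
  obtain ⟨x, y, hgen, hx, hy, hxy⟩ := Cfsg.Agent.H952.F4.Gen.gen7
  have hs := Cfsg.Agent.H952.F4.Scott.scott (MonoidHom.comp (V F) ψ) hgen
  rw [(hS.no_fixed ψ hψ).1, (pair_tf ψ).dual_inv (noFix' hS hψ), finrank_bot, finrank_bot, finrank27] at hs
  have s1 : ev (MonoidHom.comp (V F) ψ x) 1 = 15 := e2 x hx
  have s2 : ev (MonoidHom.comp (V F) ψ y) 1 = 7 := e5 y hy
  have s3 : ev (MonoidHom.comp (V F) ψ (x * y)) 1 = ev (V F (ψ (x * y))) 1 := rfl
  have s4 := se hT hi (by omega) hxy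
  have s5 : ev (V F (ψ (x * y))) 1 ≤ 3 := by omega
  have s6 := pow_of_type hxy (n := 7) (by decide)
  refine conclude hS hψ h2 h7 (fun g hg => (e2 g hg).ge) (fun g hg => ?_) (fun g hg => by rw [e5 g hg]; norm_num)
    (fun b hb => ?_) fun b hb => ?_
  · rcases fo hT hi (by omega) hg with h | h
    · exact h.2
    · have := e2 _ (sq_type hg)
      omega
  · exact four_three h3 finrank27 (noFix hS hψ) ((pair_tf ψ).dual_inv (noFix' hS hψ))
      (fun g hg => (e5 g hg).ge) s6 s5 hb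
  · exact four_three h3 finrank27 (noFix' hS hψ) ((pair_tf ψ).flip.dual_inv (noFix hS hψ))
      (fun g hg => by rw [ev', e5 g hg]) s6 (by rw [ev']; exact s5) hb

/-- characteristic 5, when the involutions and the 3-cycles have `ev = 15` -/
theorem seven_five_15 [CharP F 5] (hS : Sit H 7 φ) {ψ : ↥(alternatingGroup (Fin 7)) →* ↥(Zgrp F)}
    (hψ : Lift φ ψ)
    (hev2 : ∀ g : ↥(alternatingGroup (Fin 7)), (g : Equiv.Perm (Fin 7)).cycleType = {2, 2} → ev (V F (ψ g)) 1 = 15)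
    (hev3 : ∀ g : ↥(alternatingGroup (Fin 7)), (g : Equiv.Perm (Fin 7)).cycleType = {3} →
      15 ≤ ev (V F (ψ g)) 1) : False := by
  have h5 : (5 : F) = 0 := by exact_mod_cast CharP.cast_eq_zero F 5
  have h2 : (2 : F) ≠ 0 := fun h => one_ne_zero (α := F) (by linear_combination h5 - 2 * h)
  have h3 : (3 : F) ≠ 0 := fun h => one_ne_zero (α := F) (by linear_combination 2 * h - h5)
  have h7 : (7 : F) ≠ 0 := fun h => one_ne_zero (α := F) (by linear_combination 3 * h5 - 2 * h)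
  have : Fact (Nat.Prime 5) := ⟨Nat.prime_five⟩
  have hT : Tab 5 F := Tor.tab 5
  have hi := lift_inj hS.inj hψ
  refine conclude hS hψ h2 h7 (fun g hg => (hev2 g hg).ge) (fun g hg => ?_) (fun g hg => ?_)
    (fun b hb => ?_) fun b hb => ?_
  · rcases fo hT hi (by omega) hg with h | h
    · exact h.2
    · have := hev2 _ (sq_type hg)
      omega
  · have h := Cfsg.Agent.H952.F4.Eig.le_mul_ev 5 (T := V F (ψ g)) (by
      rw [← map_pow, ← map_pow, pow_of_type hg (n := 5) (by decide), map_one, map_one])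
    rw [finrank27] at h
    omega
  · exact four_of_ev (ρ := MonoidHom.comp (V F) ψ) h2 h3 finrank27 (fun g hg => hev2 g hg) (fun g hg => hev3 g hg) hb
  · exact four_of_ev (ρ := MonoidHom.comp (V' F) ψ) h2 h3 finrank27 (fun g hg => by rw [ev', hev2 g hg]) (fun g hg => by rw [ev']; exact hev3 g hg) hb

end Cfsg.Agent.H163.E6.Cases
end

private theorem dce_3bdcaa29d2e2 : _root_.True := by
  try have : _root_.True := by simp only [_root_.Cfsg.Agent.H931.E6.US.eq_1]
  try have : _root_.True := by simp only [_root_.Cfsg.Agent.H931.E6.pent.eq_1]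
  try have : _root_.True := by simp only [_root_.Cfsg.Agent.H931.E6.alt.eq_1]
  try have : _root_.True := by simp only [_root_.Cfsg.Agent.H184.GraphE6.gU.eq_1]
  try have : _root_.True := by simp only [_root_.Cfsg.Agent.H931.E6.dd.eq_1]
  exact _root_.True.intro
end

-- part: H401/E6SixThree
section
prune_inst 0x424403004012200000000008003001c228000040000088000000002000300080000020820000000040220000000040020000000000000000000000000000101000000000400400000400080000000000000000000000000000000000000000000000000000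
set_option linter.all false
open scoped Cfsg.Agent.FastGrp

-- part: H401/E6Elev
section
/-!
# S5927: the distinguished vector of an involution of type 11 (helper401)

`exists_e` : `y` an involution of `Zgrp K` with `ev (V K y) 1 = 11`: there is a singular vector `e` fixed by `y` such that
`cr e v = 0`, `y v = v` imply `v ∈ ⟨e⟩`.
-/

set_option autoImplicit false
set_option linter.unusedVariables false

namespace Cfsg.Agent.H401.E6Three

open Cfsg Cfsg.Lie Module
open Cfsg.Agent.ChevalleyStructure.E6Min.Tables Cfsg.Agent.ChevalleyStructure.E6Min.Basic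
  Cfsg.Agent.ChevalleyStructure.E6Min.Adjoint Cfsg.Agent.ChevalleyStructure.E6Min.Forms
open Cfsg.Agent.H952.F4 (ev es matRep sh cr tf)
open Cfsg.Agent.H163.E6 (V V')
open Cfsg.Agent.H834.F4 (Tm sh_apply cr_apply ext27 cr_single rows_ok ixs)
open Cfsg.Agent.BpExc.TorAll

universe u

/-! ### the combinatorial part -/

/-- value of the coordinate with code `x`, the three triples coded by numbers below 8 -/
def bv (X Y Z x : ℕ) : Bool :=
  match x / 9 with
  | 0 => xor (X.testBit (x / 3 % 3)) (Y.testBit (x % 3))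
  | 1 => xor (Y.testBit (x / 3 % 3)) (Z.testBit (x % 3))
  | _ => xor (Z.testBit (x / 3 % 3)) (X.testBit (x % 3))

def par3 (X : ℕ) : Bool := xor (xor (X.testBit 0) (X.testBit 1)) (X.testBit 2)

/-- number of zeros -/
def cnt (X Y Z : ℕ) : ℕ := (Finset.univ.filter fun x : I27 => bv X Y Z (code x) = false).card

def exLt (n : ℕ) (p : ℕ → Bool) : Bool := Nat.rec false (fun k acc => p k || acc) n

theorem exLt_spec {n : ℕ} {p : ℕ → Bool} (h : exLt n p = true) : ∃ k, k < n ∧ p k = true := by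
  induction n with
  | zero => exact absurd h (by simp [exLt])
  | succ n ih =>
    have h' : (p n || exLt n p) = true := h
    rw [Bool.or_eq_true] at h'
    rcases h' with h1 | h1
    · exact ⟨n, Nat.lt_succ_self n, h1⟩
    · obtain ⟨k, hk, hp⟩ := ih h1
      exact ⟨k, Nat.lt_succ_of_lt hk, hp⟩

theorem chk_all : allLt 8 (fun X => allLt 8 fun Y => allLt 8 fun Z =>
    !(par3 X == par3 Y) || !(par3 X == par3 Z) || !(cnt X Y Z == 11) ||
      exLt 27 fun k => !(bv X Y Z k) && allLt 27 fun j => (j == k) || bv X Y Z j || (relN k j == 2)) = true := by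
  decide +kernel

theorem exists_code : ∀ w : Fin 3 → ZMod 2, ∃ n : Fin 8, (∀ i : Fin 3, n.val.testBit i.val = decide (w i ≠ 0)) ∧
    par3 n.val = decide (w 0 + w 1 + w 2 ≠ 0) := by decide +kernel

theorem sub_ne : ∀ a b : ZMod 2, decide (a - b ≠ 0) = xor (decide (a ≠ 0)) (decide (b ≠ 0)) := by decide +kernel

/-- the eleven zeros: one coordinate and the ten coordinates in triads with it -/
theorem exists_center {b : I27 → ZMod 2} (hb : ∀ x y, rel x y = 2 → b x + b y + b (th x y) = 0)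
    (h11 : (Finset.univ.filter fun x : I27 => b x = 0).card = 11) :
    ∃ k, b k = 0 ∧ ∀ j, j ≠ k → b j = 0 → rel k j = 2 := by
  obtain ⟨X, hX, pX⟩ := exists_code fun i => H944.E6T.par b i.val
  obtain ⟨Y, hY, pY⟩ := exists_code fun i => H944.E6T.par b (3 + i.val)
  obtain ⟨Z, hZ, pZ⟩ := exists_code fun i => H944.E6T.par b (6 + i.val)
  have hP := H944.E6T.par_par hb
  have qX : par3 X.val = decide (H944.E6T.par b 9 ≠ 0) := by rw [pX, ← hP.x]; rfl
  have qY : par3 Y.val = decide (H944.E6T.par b 9 ≠ 0) := by rw [pY, ← hP.y]; rfl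
  have qZ : par3 Z.val = decide (H944.E6T.par b 9 ≠ 0) := by rw [pZ, ← hP.z]; rfl
  have hbv : ∀ x : I27, bv X.val Y.val Z.val (code x) = decide (b x ≠ 0) := by
    intro x
    obtain ⟨i, r, c⟩ := x
    have e1 : code (i, r, c) / 9 = i.val := by unfold code; simp; omega
    have e2 : code (i, r, c) / 3 % 3 = r.val := by unfold code; simp; omega
    have e3 : code (i, r, c) % 3 = c.val := by unfold code; simp; omega
    unfold bv
    rw [e1, e2, e3]
    have hi : i = 0 ∨ i = 1 ∨ i = 2 := (by decide : ∀ i : Fin 3, i = 0 ∨ i = 1 ∨ i = 2) i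
    rcases hi with rfl | rfl | rfl
    · show xor (X.val.testBit r.val) (Y.val.testBit c.val) = _
      rw [H944.E6T.b_zero hb, sub_ne, hX, hY]
    · show xor (Y.val.testBit r.val) (Z.val.testBit c.val) = _
      rw [H944.E6T.b_one hb, sub_ne, hY, hZ]
    · show xor (Z.val.testBit r.val) (X.val.testBit c.val) = _
      rw [H944.E6T.b_two hb, sub_ne, hZ, hX]
  have hcnt : cnt X.val Y.val Z.val = 11 := by
    rw [← h11]
    unfold cnt
    congr 1
    ext x
    rw [Finset.mem_filter, Finset.mem_filter, hbv]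
    simp
  have h := allLt_spec (allLt_spec (allLt_spec chk_all _ X.isLt) _ Y.isLt) _ Z.isLt
  simp only [qX, qY, qZ, hcnt, beq_self_eq_true, Bool.not_true, Bool.false_or] at h
  obtain ⟨k, hk, hk2⟩ := exLt_spec h
  rw [Bool.and_eq_true] at hk2
  refine ⟨dec k, ?_, ?_⟩
  · have h1 := hk2.1
    rw [← code_dec hk, hbv] at h1
    simpa using h1
  · intro j hj hbj
    have h2 := allLt_spec hk2.2 _ (code_lt j)
    rw [hbv] at h2
    have h3 : (code j == k) = false := by
      rw [beq_eq_false_iff_ne]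
      intro h4
      exact hj (by rw [← h4, dec_code])
    rw [h3] at h2
    simp [hbj] at h2
    unfold rel
    rw [code_dec hk]
    exact h2

/-! ### the vector -/

/-- the row of the table which holds a pair -/
private def wrow (y g : ℕ) : ℕ :=
  Nat.mod (Nat.shiftRight 0x96014d400050004006b3800000000000240f5020700080004000001ace0000000063c0d800c000c00000000000006b38025800000b7010001400102f6a80000000903c0002c1101c002000100000bdaa00018f0000074400300030000000000002f6a814d02dc00000040005000549c800000005020b04400000070008000400052720000d801d100000000c000c0000000000149c907300000000000012a82768800e001600000041cc0000000481898330001a002800000000010730000ae016c81e0030004800520c000000004aa000014b822003800580000148300012060000501a040006800a000000000520eb800000be8007800c00120104000000000276052e0000008800e001600004100000983340680000010001a0028000000010416c82fa00000001e0030004e800b80140023078000000000000018024c801600260000008c1e00000000006080f8002a004800000000023078000198043801a002e00500e6b000000000006000002283200580098000039ac00000018000080806000a8012000000000e6b066000002a00006800b80145a9200000000024008a000000c8016002600016a48000080e20200000018002a004800000005a924380a800000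 (Nat.mul 5 (Nat.add (Nat.mul 27 y) g))) 32

private theorem wrow_spec : allLt 27 (fun y => allLt 27 fun g => !(Nat.beq (relN y g) 2) || (Nat.blt (wrow y g) 27 &&
    (Tm (wrow y g)).any fun t => (Nat.beq t.2.1 y && Nat.beq t.2.2 g) || (Nat.beq t.2.1 g && Nat.beq t.2.2 y))) = true := by
  decide +kernel

theorem mem_table : ∀ y γ : Fin 27, relN y.val γ.val = 2 → ∃ m : Fin 27, ∃ t ∈ Tm m.val,
    (t.2.1 = y.val ∧ t.2.2 = γ.val) ∨ (t.2.1 = γ.val ∧ t.2.2 = y.val) := by
  intro y γ h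
  have h1 := allLt_spec (allLt_spec wrow_spec _ y.2) _ γ.2
  rw [h] at h1
  simp only [Nat.beq_refl, Bool.not_true, Bool.false_or, Bool.and_eq_true, Nat.blt_eq, List.any_eq_true, Bool.or_eq_true,
    Nat.beq_eq] at h1
  exact ⟨⟨_, h1.1⟩, h1.2⟩

variable {K : Type u} [Field K]

theorem sh_single (k : I27) : sh (Pi.single k 1 : I27 → K) = 0 := by
  apply ext27
  intro m hm
  rw [sh_apply _ hm, Pi.zero_apply]
  obtain ⟨hn, hr⟩ := rows_ok ⟨m, hm⟩
  apply List.sum_eq_zero
  intro z hz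
  obtain ⟨t, ht, rfl⟩ := List.mem_map.1 hz
  have h1 : t.2.1 ≠ t.2.2 := by
    intro h
    have h2 : [t.2.1, t.2.2].Nodup := by
      have := List.nodup_flatMap.1 hn
      exact this.1 t ht
    rw [h] at h2
    simp at h2
  have h3 : dec t.2.1 ≠ dec t.2.2 := fun h => h1 ((dec_eq_iff (hr t ht).2.1 (hr t ht).2.2).1 h)
  by_cases h4 : dec t.2.1 = k
  · have h5 : dec t.2.2 ≠ k := fun h => h3 (h4.trans h.symm)
    rw [Pi.single_eq_of_ne h5, mul_zero, mul_zero]
  · rw [Pi.single_eq_of_ne h4, zero_mul, mul_zero]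

theorem eq_zero_of_cr {v : I27 → K} {k : I27} (h : cr (Pi.single k 1) v = 0) {j : I27} (hj : rel k j = 2) : v j = 0 := by
  rw [rel_symm] at hj
  obtain ⟨m, t, ht, h1⟩ := mem_table ⟨code j, code_lt j⟩ ⟨code k, code_lt k⟩ hj
  have h2 := cr_single v m.isLt ht h1
  rw [dec_code, H952.F4.Jord.cr_comm, h, Pi.zero_apply, dec_code] at h2
  have h3 : (t.1 : K) ≠ 0 := by
    rcases ((rows_ok m).2 t ht).1 with h4 | h4
    · rw [h4, Int.cast_one]; exact one_ne_zero
    · rw [h4, Int.cast_neg, Int.cast_one]; exact neg_ne_zero.2 one_ne_zero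
  exact (mul_eq_zero.1 h2.symm).resolve_left h3

/-- **[E]** -/
theorem exists_e [IsAlgClosed K] (p : ℕ) [Fact p.Prime] [CharP K p] (hK : HAlg p K) (hp : p ≠ 2)
    (sh_act : ∀ (g : ↥(Zgrp K)) (x : I27 → K), sh (V K g x) = V' K g (sh x)) {y : ↥(Zgrp K)} (hy : y * y = 1)
    (h11 : ev (V K y) 1 = 11) : ∃ e : I27 → K, e ≠ 0 ∧ V K y e = e ∧ sh e = 0 ∧
      ∀ v, V K y v = v → cr e v = 0 → ∃ c : K, v = c • e := by
  classical
  have cr_act : ∀ (g : ↥(Zgrp K)) (x y : I27 → K), cr (V K g x) (V K g y) = V' K g (cr x y) := by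
    intro g x y
    unfold cr
    rw [← map_add, sh_act, sh_act, sh_act, map_sub, map_sub]
  have h2p : (2 : ℕ).Coprime p := (Nat.coprime_primes Nat.prime_two Fact.out).2 fun h => hp h.symm
  obtain ⟨g, d, hdV, -, hdm, htri⟩ := H944.E6T.exists_diag p hK (m := 2) (by norm_num) h2p
    (show y ^ 2 = 1 by rw [pow_two, hy])
  have h2 : (2 : K) ≠ 0 := by
    intro h0
    have h1 : p ∣ 2 := (CharP.cast_eq_zero_iff K p 2).1 (by exact_mod_cast h0)
    exact hp ((Nat.prime_dvd_prime_iff_eq Fact.out Nat.prime_two).1 h1)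
  have hne : (-1 : Kˣ) ≠ 1 := by
    intro h
    have h3 : (-1 : K) = 1 := by
      have := congrArg (fun u : Kˣ => (u : K)) h
      simpa using this
    apply h2
    linear_combination -h3
  have hpm : ∀ i, d i = 1 ∨ d i = -1 := by
    intro i
    have h3 : ((d i : Kˣ) : K) * (d i : K) = 1 := by
      rw [← Units.val_mul, ← pow_two, hdm i, Units.val_one]
    rcases mul_self_eq_one_iff.1 h3 with h4 | h4
    · left; exact Units.ext h4
    · right; exact Units.ext (by rw [h4]; simp)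
  let b : I27 → ZMod 2 := fun i => if d i = 1 then 0 else 1
  have hb0 : ∀ i, b i = 0 ↔ d i = 1 := by
    intro i
    show (if d i = 1 then (0 : ZMod 2) else 1) = 0 ↔ _
    split_ifs with h
    · simp [h]
    · simp only [h, _root_.one_ne_zero]
  have hb : ∀ x y, rel x y = 2 → b x + b y + b (th x y) = 0 := by
    intro x y hxy
    have h3 := htri x y hxy
    show (if d x = 1 then (0 : ZMod 2) else 1) + (if d y = 1 then (0 : ZMod 2) else 1) +
      (if d (th x y) = 1 then (0 : ZMod 2) else 1) = 0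
    rcases hpm x with hx | hx <;> rcases hpm y with hy' | hy' <;> rcases hpm (th x y) with hz | hz <;>
      rw [hx, hy', hz] at h3 ⊢ <;> simp only [hne, _root_.mul_one, ↓ _root_.reduceIte, _root_.add_zero, _root_.mul_neg, _root_.neg_neg, _root_.zero_add] at h3 ⊢ <;> decide
  -- the diagonal element
  set t := g * y * g⁻¹ with ht
  have hVt : V K t = Matrix.toLin' (Matrix.diagonal fun i => (d i : K)) := by
    show Matrix.toLin' (((t : ↥(Zgrp K)) : GL I27 K) : Matrix I27 I27 K) = _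
    rw [hdV]
  have hcard : (Finset.univ.filter fun x : I27 => b x = 0).card = 11 := by
    rw [← h11, ← H944.E6T.ev_conj (V K) g y, ← ht, H944.E6T.ev_diag (fun i => (d i : K)) 1 hVt]
    refine congrArg Finset.card (Finset.filter_congr fun i _ => ?_)
    rw [hb0]
    exact Units.val_eq_one.symm
  obtain ⟨k, hk, hkj⟩ := exists_center hb hcard
  have hfix : ∀ v, V K y v = v → ∀ j, d j ≠ 1 → (V K g v) j = 0 := by
    intro v hv j hj
    have h3 : V K t (V K g v) = V K g v := by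
      rw [ht, map_mul, map_mul, Module.End.mul_apply, Module.End.mul_apply, ← Module.End.mul_apply (V K g⁻¹), ← map_mul,
        inv_mul_cancel, map_one, Module.End.one_apply, hv]
    rw [hVt, Matrix.toLin'_apply] at h3
    have h4 := congrFun h3 j
    rw [Matrix.mulVec_diagonal] at h4
    rw [(hpm j).resolve_left hj, Units.val_neg, Units.val_one] at h4
    have h5 : (2 : K) * (V K g v) j = 0 := by linear_combination -h4
    exact (mul_eq_zero.1 h5).resolve_left h2
  have hgi : ∀ v, V K g (V K g⁻¹ v) = v := fun v => by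
    rw [← Module.End.mul_apply, ← map_mul, mul_inv_cancel, map_one, Module.End.one_apply]
  have hig : ∀ v, V K g⁻¹ (V K g v) = v := fun v => by
    rw [← Module.End.mul_apply, ← map_mul, inv_mul_cancel, map_one, Module.End.one_apply]
  refine ⟨V K g⁻¹ (Pi.single k 1), ?_, ?_, ?_, ?_⟩
  · intro h0
    have h3 := congrArg (V K g) h0
    rw [hgi, map_zero] at h3
    have h4 := congrFun h3 k
    rw [Pi.single_eq_same, Pi.zero_apply] at h4
    exact one_ne_zero h4
  · have h3 : V K t (Pi.single k 1) = Pi.single k 1 := by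
      rw [hVt, Matrix.toLin'_apply, Matrix.diagonal_mulVec_single, mul_one, (hb0 k).1 hk, Units.val_one]
    have h4 : y = g⁻¹ * t * g := by rw [ht]; group
    rw [h4, map_mul, map_mul, Module.End.mul_apply, Module.End.mul_apply, hgi, h3]
  · rw [sh_act, sh_single, map_zero]
  · intro v hv hcr
    have h3 : cr (Pi.single k 1) (V K g v) = 0 := by
      have h4 := cr_act g (V K g⁻¹ (Pi.single k 1)) v
      rw [hgi, hcr, map_zero] at h4
      exact h4
    have h5 : V K g v = (V K g v k) • (Pi.single k 1 : I27 → K) := by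
      funext j
      rw [Pi.smul_apply, smul_eq_mul]
      by_cases hj : j = k
      · rw [hj, Pi.single_eq_same, mul_one]
      · rw [Pi.single_eq_of_ne hj, mul_zero]
        by_cases hdj : d j = 1
        · exact eq_zero_of_cr h3 (hkj j hj ((hb0 j).2 hdj))
        · exact hfix v hv j hdj
    refine ⟨V K g v k, ?_⟩
    calc v = V K g⁻¹ (V K g v) := (hig v).symm
      _ = V K g⁻¹ ((V K g v k) • (Pi.single k 1 : I27 → K)) := by rw [← h5]
      _ = _ := map_smul _ _ _

end Cfsg.Agent.H401.E6Three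
end

-- part: H401/E6Dih
section
/-!
# S5927: dihedral groups of order 8 (helper401)
-/

set_option autoImplicit false
set_option linter.unusedVariables false

namespace Cfsg.Agent.H401.E6Three

open Module
open Cfsg.Agent.H952.F4 (ev es)
open Cfsg.Agent.H546.F4Eig (mem_es mem_es_one mem_es_neg split_sq rho_mul rho_comm rho_sq)

section lin

variable {K V : Type*} [Field K] [AddCommGroup V] [Module K V] [FiniteDimensional K V]

/-- two commuting involutions on a subspace -/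
theorem four_lin (h2 : (2 : K) ≠ 0) (C S : V →ₗ[K] V) (W : Submodule K V) (hC : ∀ v ∈ W, C v ∈ W)
    (hS : ∀ v ∈ W, S v ∈ W) (hCC : ∀ v ∈ W, C (C v) = v) (hSS : ∀ v ∈ W, S (S v) = v)
    (hCS : ∀ v ∈ W, S (C v) = C (S v)) :
    finrank K ↥W = finrank K ↥(W ⊓ es C 1) + finrank K ↥(W ⊓ es C (-1)) ∧
    finrank K ↥(W ⊓ es C 1) = finrank K ↥(W ⊓ es C 1 ⊓ es S 1) + finrank K ↥(W ⊓ es C 1 ⊓ es S (-1)) ∧
    finrank K ↥(W ⊓ es C (-1)) = finrank K ↥(W ⊓ es C (-1) ⊓ es S 1) + finrank K ↥(W ⊓ es C (-1) ⊓ es S (-1)) ∧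
    finrank K ↥(W ⊓ es S 1) = finrank K ↥(W ⊓ es C 1 ⊓ es S 1) + finrank K ↥(W ⊓ es C (-1) ⊓ es S 1) ∧
    finrank K ↥(W ⊓ es (C * S) 1) = finrank K ↥(W ⊓ es C 1 ⊓ es S 1) + finrank K ↥(W ⊓ es C (-1) ⊓ es S (-1)) := by
  have hone : (1 : K) * 1 = 1 := one_mul 1
  have key : ∀ (T : V →ₗ[K] V) (X : Submodule K V), X ≤ W → (∀ v ∈ W, T v ∈ W) → (∀ v ∈ W, T (T v) = v) →
      (∀ v ∈ X, T v ∈ X) → finrank K ↥X = finrank K ↥(X ⊓ es T 1) + finrank K ↥(X ⊓ es T (-1)) := by
    intro T X hX hT hTT hTX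
    exact split_sq h2 one_ne_zero T X hTX (fun v hv => by rw [hTT v (hX hv), hone, one_smul])
  refine ⟨key C W le_rfl hC hCC hC, ?_, ?_, ?_, ?_⟩
  · refine key S _ inf_le_left hS hSS fun v hv => ?_
    rw [Submodule.mem_inf, mem_es_one] at hv ⊢
    exact ⟨hS v hv.1, by rw [← hCS v hv.1, hv.2]⟩
  · refine key S _ inf_le_left hS hSS fun v hv => ?_
    rw [Submodule.mem_inf, mem_es_neg] at hv ⊢
    exact ⟨hS v hv.1, by rw [← hCS v hv.1, hv.2, map_neg]⟩
  · have h := key C (W ⊓ es S 1) inf_le_left hC hCC fun v hv => by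
      rw [Submodule.mem_inf, mem_es_one] at hv ⊢
      exact ⟨hC v hv.1, by rw [hCS v hv.1, hv.2]⟩
    rw [h, inf_right_comm, inf_right_comm W (es S 1) (es C (-1))]
  · have h := key C (W ⊓ es (C * S) 1) inf_le_left hC hCC fun v hv => by
      rw [Submodule.mem_inf, mem_es_one] at hv ⊢
      refine ⟨hC v hv.1, ?_⟩
      have h1 : C (S v) = v := hv.2
      show C (S (C v)) = C v
      rw [hCS v hv.1, h1]
    have e1 : W ⊓ es (C * S) 1 ⊓ es C 1 = W ⊓ es C 1 ⊓ es S 1 := by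
      ext v
      simp only [Submodule.mem_inf, mem_es_one]
      constructor
      · rintro ⟨⟨h1, h2⟩, h3⟩
        have h2' : C (S v) = v := h2
        refine ⟨⟨h1, h3⟩, ?_⟩
        have h4 := congrArg C h2'
        rw [hCC _ (hS v h1), h3] at h4
        exact h4
      · rintro ⟨⟨h1, h2⟩, h3⟩
        refine ⟨⟨h1, ?_⟩, h2⟩
        show C (S v) = v
        rw [h3, h2]
    have e2 : W ⊓ es (C * S) 1 ⊓ es C (-1) = W ⊓ es C (-1) ⊓ es S (-1) := by
      ext v
      simp only [Submodule.mem_inf, mem_es_one, mem_es_neg]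
      constructor
      · rintro ⟨⟨h1, h2⟩, h3⟩
        have h2' : C (S v) = v := h2
        refine ⟨⟨h1, h3⟩, ?_⟩
        have h4 := congrArg C h2'
        rw [hCC _ (hS v h1), h3] at h4
        exact h4
      · rintro ⟨⟨h1, h2⟩, h3⟩
        refine ⟨⟨h1, ?_⟩, h2⟩
        show C (S v) = v
        rw [h3, map_neg, h2, neg_neg]
    rw [h, e1, e2]

end lin

variable {K V G : Type*} [Field K] [AddCommGroup V] [Module K V] [FiniteDimensional K V] [Group G]

theorem y_comm {c s : G} (hc : c * c * (c * c) = 1) (hs : s * s = 1) (hsc : s * c * s = c⁻¹) :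
    c * c * s = s * (c * c) ∧ s * c = c * (c * c * s) ∧ c * s * (c * s) = 1 := by
  have hss : s⁻¹ = s := inv_eq_of_mul_eq_one_right hs
  have hc2 : (c * c)⁻¹ = c * c := inv_eq_of_mul_eq_one_right hc
  have hci : c⁻¹ = c * (c * c) := by
    rw [inv_eq_iff_mul_eq_one]
    rw [← hc]; group
  have h1 : s * (c * c) * s = (c * c)⁻¹ := by
    have e : s * (c * c) * s = s * c * s⁻¹ * (s * c * s) := by group
    rw [e, hss, hsc]; group
  have h3 : c * c * s = s * (c * c) := by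
    calc c * c * s = (s * (c * c) * s) * s := by rw [h1, hc2]
      _ = s * (c * c) := by rw [mul_assoc, hs, mul_one]
  have h4 : s * c = c⁻¹ * s := by rw [← hsc, mul_assoc, hs, mul_one]
  refine ⟨h3, by rw [h4, hci]; group, ?_⟩
  calc c * s * (c * s) = c * (s * c * s) := by group
    _ = 1 := by rw [hsc, mul_inv_cancel]

/-- The dihedral group `⟨c, s⟩` of order 8: dimensions of the spaces of the linear characters. -/
theorem d8 (h2 : (2 : K) ≠ 0) (ρ : Representation K G V) {c s : G} (hc : c * c * (c * c) = 1) (hs : s * s = 1)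
    (hsc : s * c * s = c⁻¹) :
    ev (ρ (c * c)) 1 = ev (ρ c) 1 + ev (ρ c) (-1) ∧
    ev (ρ c) 1 = finrank K ↥(es (ρ c) 1 ⊓ es (ρ s) 1) + finrank K ↥(es (ρ c) 1 ⊓ es (ρ s) (-1)) ∧
    ev (ρ c) (-1) = finrank K ↥(es (ρ c) (-1) ⊓ es (ρ s) 1) + finrank K ↥(es (ρ c) (-1) ⊓ es (ρ s) (-1)) ∧
    finrank K ↥(es (ρ (c * c)) 1 ⊓ es (ρ s) 1) = finrank K ↥(es (ρ c) 1 ⊓ es (ρ s) 1) +
      finrank K ↥(es (ρ c) (-1) ⊓ es (ρ s) 1) ∧
    finrank K ↥(es (ρ (c * c)) 1 ⊓ es (ρ (c * s)) 1) = finrank K ↥(es (ρ c) 1 ⊓ es (ρ s) 1) +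
      finrank K ↥(es (ρ c) (-1) ⊓ es (ρ s) (-1)) := by
  obtain ⟨ys, sc, -⟩ := y_comm hc hs hsc
  have cc : ∀ v, ρ c (ρ c v) = ρ (c * c) v := fun v => (rho_mul ρ c c v).symm
  have ss : ∀ v, ρ s (ρ s v) = v := rho_sq ρ hs
  have ycc : ∀ v, ρ (c * c) (ρ c v) = ρ c (ρ (c * c) v) := rho_comm ρ (mul_assoc _ _ _)
  have yss : ∀ v, ρ (c * c) (ρ s v) = ρ s (ρ (c * c) v) := rho_comm ρ ys
  have c1 : ∀ {v}, ρ c v = v → ρ (c * c) v = v := fun {v} h => by rw [rho_mul, h, h]
  have c2 : ∀ {v}, ρ c v = -v → ρ (c * c) v = v := fun {v} h => by rw [rho_mul, h, map_neg, h, neg_neg]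
  obtain ⟨r1, r2, r3, r4, r5⟩ := four_lin h2 (ρ c) (ρ s) (es (ρ (c * c)) 1)
    (fun v hv => by rw [mem_es_one] at hv ⊢; rw [ycc, hv])
    (fun v hv => by rw [mem_es_one] at hv ⊢; rw [yss, hv])
    (fun v hv => by rw [mem_es_one] at hv; rw [cc, hv])
    (fun v hv => ss v)
    (fun v hv => by
      rw [mem_es_one] at hv
      rw [← rho_mul, sc, rho_mul, rho_mul, yss, hv])
  have e1 : es (ρ (c * c)) 1 ⊓ es (ρ c) 1 = es (ρ c) 1 := inf_eq_right.2 fun v hv => by
    rw [mem_es_one] at hv ⊢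
    exact c1 hv
  have e2 : es (ρ (c * c)) 1 ⊓ es (ρ c) (-1) = es (ρ c) (-1) := inf_eq_right.2 fun v hv => by
    rw [mem_es_neg] at hv
    rw [mem_es_one]
    exact c2 hv
  rw [e1, e2] at r1
  rw [e1] at r2
  rw [e2] at r3
  rw [e1, e2] at r4 r5
  have e3 : (ρ c * ρ s : Module.End K V) = ρ (c * s) := (map_mul ρ c s).symm
  rw [e3] at r5
  exact ⟨r1, r2, r3, r4, r5⟩

end Cfsg.Agent.H401.E6Three
end

-- part: H401/E6KFive
section
/-!
# S5927: a dihedral group of order 8 with involutions of type 11 and `ev (V c) 1 = 5` does not exist (helper401)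
-/

set_option autoImplicit false
set_option linter.unusedVariables false

namespace Cfsg.Agent.H401.E6Three

open Cfsg Cfsg.Lie Module
open Cfsg.Agent.ChevalleyStructure.E6Min.Tables Cfsg.Agent.ChevalleyStructure.E6Min.Basic
  Cfsg.Agent.ChevalleyStructure.E6Min.Adjoint
open Cfsg.Agent.H952.F4 (ev es matRep sh cr tf)
open Cfsg.Agent.H163.E6 (V V')
open Cfsg.Agent.H546.F4Eig (mem_es mem_es_one mem_es_neg)
open Cfsg.Agent.H952.F4.Jord (cr_comm cr_self cr_add_left cr_add_right cr_smul_left cr_smul_right sh_add sh_smul)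
open Cfsg.Agent.BpExc.TorAll

universe u

theorem finrank27 {K : Type*} [Field K] : finrank K (I27 → K) = 27 := by
  rw [Module.finrank_fintype_fun_eq_card]
  decide

/-- **K5** -/
theorem no_five {K : Type u} [Field K] [IsAlgClosed K] (p : ℕ) [Fact p.Prime] [CharP K p] (hK : HAlg p K) (hp : p ≠ 2)
    (sh_act : ∀ (g : ↥(Zgrp K)) (x : I27 → K), sh (V K g x) = V' K g (sh x))
    (ev_dual : ∀ g : ↥(Zgrp K), ev (V' K g) 1 = ev (V K g) 1) {c s : ↥(Zgrp K)} (hc : c * c * (c * c) = 1)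
    (hs : s * s = 1) (hsc : s * c * s = c⁻¹) (ey : ev (V K (c * c)) 1 = 11) (es1 : ev (V K s) 1 = 11)
    (es2 : ev (V K (c * c * s)) 1 = 11) (es3 : ev (V K (c * s)) 1 = 11) (es4 : ev (V K (c * c * (c * s))) 1 = 11)
    (ec : ev (V K c) 1 = 5) : False := by
  have h2 : (2 : K) ≠ 0 := by
    intro h0
    have h1 : p ∣ 2 := (CharP.cast_eq_zero_iff K p 2).1 (by exact_mod_cast h0)
    exact hp ((Nat.prime_dvd_prime_iff_eq Fact.out Nat.prime_two).1 h1)
  have cr_act : ∀ (g : ↥(Zgrp K)) (x y : I27 → K), cr (V K g x) (V K g y) = V' K g (cr x y) := by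
    intro g x y
    unfold cr
    rw [← map_add, sh_act, sh_act, sh_act, map_sub, map_sub]
  obtain ⟨ys, sc, cs2⟩ := y_comm hc hs hsc
  have ycs : c * c * (c * s) = c * s * (c * c) := by
    rw [mul_assoc c s (c * c), ← ys]; group
  -- dimensions
  have dims : ∀ ρ : Representation K ↥(Zgrp K) (I27 → K), (∀ g, ev (ρ g) 1 = ev (V K g) 1) →
      finrank K ↥(es (ρ c) 1 ⊓ es (ρ s) 1) = 0 ∧ finrank K ↥(es (ρ c) 1 ⊓ es (ρ s) (-1)) = 5 ∧
      finrank K ↥(es (ρ c) (-1) ⊓ es (ρ s) 1) = 3 ∧ finrank K ↥(es (ρ c) (-1) ⊓ es (ρ s) (-1)) = 3 := by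
    intro ρ hρ
    have f1 := H546.F4Eig.four h2 ρ hc hs ys
    have f2 := H546.F4Eig.four h2 ρ hc cs2 ycs
    rw [finrank27, hρ, hρ, hρ, ey, es1, es2] at f1
    rw [finrank27, hρ, hρ, hρ, ey, es3, es4] at f2
    obtain ⟨r1, r2, r3, r4, r5⟩ := d8 h2 ρ hc hs hsc
    rw [hρ, hρ, ey, ec] at r1
    rw [hρ, ec] at r2
    omega
  obtain ⟨d1, d2, d3, d4⟩ := dims (V K) fun g => rfl
  obtain ⟨d1', -, -, -⟩ := dims (V' K) ev_dual
  have hfix : ∀ v, V K c v = v → V K s v = v → v = 0 := by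
    intro v h1 h3
    have h4 : v ∈ es (V K c) 1 ⊓ es (V K s) 1 := ⟨mem_es_one.2 h1, mem_es_one.2 h3⟩
    rw [Submodule.finrank_eq_zero.1 d1, Submodule.mem_bot] at h4
    exact h4
  have hfix' : ∀ v, V' K c v = v → V' K s v = v → v = 0 := by
    intro v h1 h3
    have h4 : v ∈ es (V' K c) 1 ⊓ es (V' K s) 1 := ⟨mem_es_one.2 h1, mem_es_one.2 h3⟩
    rw [Submodule.finrank_eq_zero.1 d1', Submodule.mem_bot] at h4
    exact h4
  obtain ⟨e, he0, hye, hshe, hker⟩ := exists_e p hK hp sh_act hc ey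
  have cc : ∀ v, V K c (V K c v) = V K (c * c) v := fun v => by rw [map_mul]; rfl
  have ss : ∀ v, V K s (V K s v) = v := fun v => by
    rw [← Module.End.mul_apply, ← map_mul, hs, map_one]; rfl
  have scv : ∀ v, V K (c * c) v = v → V K s (V K c v) = V K c (V K s v) := by
    intro v hv
    have h1 : V K s (V K c v) = V K (s * c) v := by rw [map_mul]; rfl
    rw [h1, sc, ys]
    rw [map_mul, map_mul, Module.End.mul_apply, Module.End.mul_apply, hv]
  -- the spaces of the characters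
  have hsp : ∀ μ ν : K, μ * μ = 1 → ν * ν = 1 → ∀ x y, V K c x = μ • x → V K s x = ν • x → V K c y = μ • y →
      V K s y = ν • y → cr x y = 0 := by
    intro μ ν hμ hν x y h1 h3 h4 h5
    apply hfix'
    · rw [← cr_act, h1, h4, cr_smul_left, cr_smul_right, smul_smul, hμ, one_smul]
    · rw [← cr_act, h3, h5, cr_smul_left, cr_smul_right, smul_smul, hν, one_smul]
  have hy : ∀ μ : K, μ * μ = 1 → ∀ x, V K c x = μ • x → V K (c * c) x = x := by
    intro μ hμ x h1
    rw [← cc, h1, map_smul, h1, smul_smul, hμ, one_smul]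
  have hdead : ∀ μ ν : K, μ * μ = 1 → ν * ν = 1 → V K c e = μ • e → V K s e = ν • e →
      2 ≤ finrank K ↥(es (V K c) μ ⊓ es (V K s) ν) → False := by
    intro μ ν hμ hν h1 h3 h4
    have h5 : es (V K c) μ ⊓ es (V K s) ν ≤ Submodule.span K {e} := by
      intro x hx
      obtain ⟨hx1, hx2⟩ := hx
      rw [SetLike.mem_coe, mem_es] at hx1 hx2
      obtain ⟨k, hk⟩ := hker x (hy μ hμ x hx1) (hsp μ ν hμ hν e x h1 h3 hx1 hx2)
      rw [hk]
      exact Submodule.smul_mem _ _ (Submodule.mem_span_singleton_self e)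
    have h6 := Submodule.finrank_mono h5
    rw [finrank_span_singleton he0] at h6
    omega
  have hone : (1 : K) * 1 = 1 := one_mul 1
  have hneg : (-1 : K) * -1 = 1 := by ring
  -- decomposition of `e`
  obtain ⟨a, ha⟩ : ∃ a, a = e + V K c e := ⟨_, rfl⟩
  obtain ⟨b, hb⟩ : ∃ b, b = e - V K c e := ⟨_, rfl⟩
  have hcce : V K c (V K c e) = e := by rw [cc, hye]
  have ca : V K c a = a := by rw [ha, map_add, hcce, add_comm]
  have cb : V K c b = -b := by rw [hb, map_sub, hcce, neg_sub]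
  have ya : V K (c * c) a = a := by rw [← cc, ca, ca]
  have yb : V K (c * c) b = b := by rw [← cc, cb, map_neg, cb, neg_neg]
  have sa : V K s a = -a := by
    have h3 : a + V K s a = 0 := by
      apply hfix
      · rw [map_add, ca, ← scv a ya, ca]
      · rw [map_add, ss, add_comm]
    rw [eq_neg_iff_add_eq_zero, add_comm]
    exact h3
  obtain ⟨b1, hb1⟩ : ∃ b1, b1 = b + V K s b := ⟨_, rfl⟩
  obtain ⟨b2, hb2⟩ : ∃ b2, b2 = b - V K s b := ⟨_, rfl⟩
  have cb1 : V K c b1 = -b1 := by rw [hb1, map_add, ← scv b yb, cb, map_neg, neg_add]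
  have cb2 : V K c b2 = -b2 := by rw [hb2, map_sub, ← scv b yb, cb, map_neg]; abel
  have sb1 : V K s b1 = b1 := by rw [hb1, map_add, ss, add_comm]
  have sb2 : V K s b2 = -b2 := by rw [hb2, map_sub, ss, neg_sub]
  have hsum : (4 : K) • e = (2 : K) • a + b1 + b2 := by
    rw [hb1, hb2, ha, hb]
    module
  have m1 : ∀ x : I27 → K, -x = (-1 : K) • x := fun x => by rw [neg_one_smul]
  have caa : cr a a = 0 := hsp 1 (-1) hone hneg a a (by rw [ca, one_smul]) (by rw [sa, m1]) (by rw [ca, one_smul])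
    (by rw [sa, m1])
  have cb11 : cr b1 b1 = 0 := hsp (-1) 1 hneg hone b1 b1 (by rw [cb1, m1]) (by rw [sb1, one_smul]) (by rw [cb1, m1])
    (by rw [sb1, one_smul])
  have cb22 : cr b2 b2 = 0 := hsp (-1) (-1) hneg hneg b2 b2 (by rw [cb2, m1]) (by rw [sb2, m1]) (by rw [cb2, m1])
    (by rw [sb2, m1])
  have hcre : cr e e = 0 := by rw [cr_self, hshe, smul_zero]
  -- the mixed terms
  have hcr : cr ((4 : K) • e) ((4 : K) • e) = 0 := by
    rw [cr_smul_left, cr_smul_right, hcre, smul_zero, smul_zero]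
  have hA : cr a b1 + cr a b2 + (1 / 2 : K) • cr b1 b2 = 0 := by
    rw [hsum] at hcr
    simp only [cr_add_left, cr_add_right, cr_smul_left, cr_smul_right, caa, cb11, cb22, smul_zero, add_zero,
      zero_add, cr_comm b1 a, cr_comm b2 a, cr_comm b2 b1] at hcr
    have h4 : (4 : K) ≠ 0 := by
      have : (4 : K) = 2 * 2 := by norm_num
      rw [this]
      exact mul_ne_zero h2 h2
    have h5 : (4 : K) • (cr a b1 + cr a b2 + (1 / 2 : K) • cr b1 b2) = 0 := by
      have h6 : (4 : K) * (1 / 2) = 2 := by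
        field_simp
        norm_num
      rw [smul_add, smul_add, smul_smul, h6]
      rw [← hcr]
      module
    exact (smul_eq_zero.1 h5).resolve_left h4
  have cm : ∀ x : I27 → K, V' K c (-x) = -V' K c x := fun x => map_neg _ _
  have t1 : V' K c (cr a b1) = -cr a b1 := by
    rw [← cr_act, ca, cb1, m1, cr_smul_right, neg_one_smul]
  have t2 : V' K c (cr a b2) = -cr a b2 := by
    rw [← cr_act, ca, cb2, m1, cr_smul_right, neg_one_smul]
  have t3 : V' K c (cr b1 b2) = cr b1 b2 := by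
    rw [← cr_act, cb1, cb2, m1, m1, cr_smul_left, cr_smul_right, smul_smul, hneg, one_smul]
  have u1 : V' K s (cr a b1) = -cr a b1 := by
    rw [← cr_act, sa, sb1, m1, cr_smul_left, neg_one_smul]
  have u2 : V' K s (cr a b2) = cr a b2 := by
    rw [← cr_act, sa, sb2, m1, m1, cr_smul_left, cr_smul_right, smul_smul, hneg, one_smul]
  have hB := congrArg (V' K c) hA
  rw [map_add, map_add, map_smul, t1, t2, t3, map_zero] at hB
  have hC : cr a b1 + cr a b2 = 0 := by
    have h5 : (2 : K) • (cr a b1 + cr a b2) = 0 := by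
      linear_combination (norm := module) hA - hB
    exact (smul_eq_zero.1 h5).resolve_left h2
  have hD : cr b1 b2 = 0 := by
    rw [hC, zero_add] at hA
    exact (smul_eq_zero.1 hA).resolve_left (by
      intro h
      have : (2 : K) * (1 / 2) = 1 := by field_simp
      rw [h, mul_zero] at this
      exact zero_ne_one this)
  have hE := congrArg (V' K s) hC
  rw [map_add, u1, u2, map_zero] at hE
  have hF : cr a b2 = 0 := by
    have h5 : (2 : K) • cr a b2 = 0 := by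
      linear_combination (norm := module) hC + hE
    exact (smul_eq_zero.1 h5).resolve_left h2
  have hG : cr a b1 = 0 := by
    rw [hF, add_zero] at hC
    exact hC
  have h4 : (4 : K) ≠ 0 := by
    have : (4 : K) = 2 * 2 := by norm_num
    rw [this]
    exact mul_ne_zero h2 h2
  -- the components are multiples of `e`
  have hcomp : ∀ x, cr ((4 : K) • e) x = 0 → cr e x = 0 := by
    intro x hx
    rw [cr_smul_left] at hx
    exact (smul_eq_zero.1 hx).resolve_left h4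
  obtain ⟨k0, hk0⟩ := hker a ya (hcomp a (by
    rw [hsum, cr_add_left, cr_add_left, cr_smul_left, caa, cr_comm b1 a, hG, cr_comm b2 a, hF, smul_zero, add_zero,
      add_zero]))
  obtain ⟨k1, hk1⟩ := hker b1 (by rw [← cc, cb1, map_neg, cb1, neg_neg]) (hcomp b1 (by
    rw [hsum, cr_add_left, cr_add_left, cr_smul_left, hG, cb11, cr_comm b2 b1, hD, smul_zero, add_zero, add_zero]))
  obtain ⟨k2, hk2⟩ := hker b2 (by rw [← cc, cb2, map_neg, cb2, neg_neg]) (hcomp b2 (by
    rw [hsum, cr_add_left, cr_add_left, cr_smul_left, hF, hD, cb22, smul_zero, add_zero, add_zero]))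
  have hres : ∀ (k : K) (x : I27 → K), x = k • e → k ≠ 0 → ∀ g : ↥(Zgrp K), ∀ μ : K, V K g x = μ • x →
      V K g e = μ • e := by
    intro k x hx hk g μ hg
    have h5 : e = k⁻¹ • x := by rw [hx, smul_smul, inv_mul_cancel₀ hk, one_smul]
    rw [h5, map_smul, hg, smul_comm]
  by_cases z0 : k0 = 0
  · by_cases z1 : k1 = 0
    · by_cases z2 : k2 = 0
      · rw [z0, zero_smul] at hk0
        rw [z1, zero_smul] at hk1
        rw [z2, zero_smul] at hk2
        rw [hk0, hk1, hk2, smul_zero, add_zero, add_zero] at hsum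
        exact he0 ((smul_eq_zero.1 hsum).resolve_left h4)
      · exact hdead (-1) (-1) hneg hneg (hres k2 b2 hk2 z2 c (-1) (by rw [cb2, m1]))
          (hres k2 b2 hk2 z2 s (-1) (by rw [sb2, m1])) (by rw [d4]; norm_num)
    · exact hdead (-1) 1 hneg hone (hres k1 b1 hk1 z1 c (-1) (by rw [cb1, m1]))
        (hres k1 b1 hk1 z1 s 1 (by rw [sb1, one_smul])) (by rw [d3]; norm_num)
  · exact hdead 1 (-1) hone hneg (hres k0 a hk0 z0 c 1 (by rw [ca, one_smul]))
      (hres k0 a hk0 z0 s (-1) (by rw [sa, m1])) (by rw [d2]; norm_num)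

end Cfsg.Agent.H401.E6Three
end

-- part: H401/E6KNine
section
/-!
# S5927, `n = 6`, `p = 3`: the pattern `f₂ = 11`, `f₄ = 9` (helper401)
-/

set_option autoImplicit false
set_option linter.unusedVariables false

namespace Cfsg.Agent.H401.E6Three

open Cfsg Cfsg.Lie Module
open Cfsg.Agent.ChevalleyStructure.E6Min.Tables Cfsg.Agent.ChevalleyStructure.E6Min.Basic
  Cfsg.Agent.ChevalleyStructure.E6Min.Adjoint
open Cfsg.Agent.H952.F4 (ev es matRep sh cr tf v0 v1 c3 z5)
open Cfsg.Agent.H163.E6 (V V' TS)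
open Cfsg.Agent.H546.F4Eig (mem_es mem_es_one mem_es_neg)
open Cfsg.Agent.H952.F4.Jord (cr_comm cr_self cr_add_left cr_add_right cr_smul_left cr_smul_right sh_add sh_smul)
open Cfsg.Agent.H505.E6Three (A6 zz w0 w1 cc d3 U D)

universe u

theorem zz_eq : zz = iota z5 := by decide +kernel
theorem w0_eq : w0 = iota v0 := by decide +kernel
theorem cc_eq : cc = c6 := by decide +kernel

section trace
variable {K V : Type*} [Field K] [AddCommGroup V] [Module K V] [CharP K 3] [FiniteDimensional K V]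

theorem trace_five' (ρ : Representation K A6 V) (hd : finrank K V = 27) :
    LinearMap.trace K V (ρ zz) + LinearMap.trace K V (ρ (zz ^ 2)) = (ev (ρ zz) 1 : K) := by
  have h3 := H505.E6Three.three_eq K
  let S : Module.End K V := -∑ i : Fin 5, ρ (zz ^ (i : ℕ))
  have hS : ∀ v, S v = -∑ i : Fin 5, ρ (zz ^ (i : ℕ)) v := by
    intro v
    change -((∑ i : Fin 5, ρ (zz ^ (i : ℕ))) v) = _
    rw [LinearMap.sum_apply]
  have hz : ∀ i : Fin 5, zz * zz ^ (i : ℕ) = zz ^ ((i + 1 : Fin 5) : ℕ) := by decide +kernel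
  have hp : LinearMap.IsProj (es (ρ zz) 1) S := by
    constructor
    · intro v
      rw [es, Module.End.mem_eigenspace_iff, one_smul, hS, map_neg, map_sum]
      congr 1
      simp only [← H505.E6Three.rmul, hz]
      exact Equiv.sum_comp (Equiv.addRight (1 : Fin 5)) fun i => ρ (zz ^ (i : ℕ)) v
    · intro v hv
      rw [es, Module.End.mem_eigenspace_iff, one_smul] at hv
      have h1 : ∀ k : ℕ, ρ (zz ^ k) v = v := by
        intro k
        induction k with
        | zero => rw [pow_zero, H505.E6Three.rone]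
        | succ k ih => rw [pow_succ, H505.E6Three.rmul, hv, ih]
      rw [hS, Finset.sum_congr rfl fun i _ => h1 _, Finset.sum_const, Finset.card_univ, Fintype.card_fin,
        ← Nat.cast_smul_eq_nsmul K, ← neg_smul]
      rw [show (-((5 : ℕ) : K)) = 1 by push_cast; linear_combination (-2 : K) * h3, one_smul]
  have ht := hp.trace
  have e1 : LinearMap.trace K V S = -∑ i : Fin 5, LinearMap.trace K V (ρ (zz ^ (i : ℕ))) := by
    change LinearMap.trace K V (-∑ i : Fin 5, ρ (zz ^ (i : ℕ))) = _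
    rw [map_neg, map_sum]
  have e2 : finrank K ↥(es (ρ zz) 1) = ev (ρ zz) 1 := rfl
  rw [e1, e2, Fin.sum_univ_five] at ht
  have e0 : LinearMap.trace K V (ρ (zz ^ ((0 : Fin 5) : ℕ))) = 0 := by
    change LinearMap.trace K V (ρ (zz ^ 0)) = 0
    rw [pow_zero, map_one, LinearMap.trace_one, hd]
    push_cast
    linear_combination (9 : K) * h3
  have q1 : LinearMap.trace K V (ρ (zz ^ ((1 : Fin 5) : ℕ))) = LinearMap.trace K V (ρ zz) := by
    change LinearMap.trace K V (ρ (zz ^ 1)) = _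
    rw [pow_one]
  have q2 : LinearMap.trace K V (ρ (zz ^ ((2 : Fin 5) : ℕ))) = LinearMap.trace K V (ρ (zz ^ 2)) := rfl
  have q3 : LinearMap.trace K V (ρ (zz ^ ((3 : Fin 5) : ℕ))) = LinearMap.trace K V (ρ (zz ^ 2)) :=
    H505.E6Three.tr_zz_inv2 ρ
  have q4 : LinearMap.trace K V (ρ (zz ^ ((4 : Fin 5) : ℕ))) = LinearMap.trace K V (ρ zz) := H505.E6Three.tr_zz_inv ρ
  rw [e0, q1, q2, q3, q4] at ht
  linear_combination ht + (LinearMap.trace K V (ρ zz) + LinearMap.trace K V (ρ (zz ^ 2))) * h3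

/-- the trace of `H505.E6Three.P ρ(c)`, order 4 elements of trace 1 -/
theorem trace_P_cc' (ρ : Representation K A6 V) (hd : finrank K V = 27)
    (h4 : ∀ g : A6, g * g ≠ 1 → g ^ 4 = 1 → LinearMap.trace K V (ρ g) = 1) :
    LinearMap.trace K V (H505.E6Three.P ρ * ρ cc) = 2 + (ev (ρ zz) 1 : K) := by
  have h3 := H505.E6Three.three_eq K
  have h1 : H505.E6Three.P ρ * ρ cc = ∑ i, ∑ b, ρ (D i b * cc) := by
    rw [H505.E6Three.P, Finset.sum_mul]
    refine Finset.sum_congr rfl fun i _ => ?_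
    rw [Finset.sum_mul]
    exact Finset.sum_congr rfl fun b _ => (map_mul _ _ _).symm
  have h2 := trace_five' ρ hd
  rw [h1, map_sum, Fin.sum_univ_five]
  simp only [Fintype.sum_bool, map_add]
  rw [h4 (D 0 true * cc) (by decide +kernel) (by decide +kernel),
    h4 (D 0 false * cc) (by decide +kernel) (by decide +kernel),
    show D 1 false * cc = (w1 * cc * zz * cc) * zz ^ 2 * (w1 * cc * zz * cc)⁻¹ by decide +kernel,
    show D 2 false * cc = (cc⁻¹ * zz * d3 * cc⁻¹) * zz * (cc⁻¹ * zz * d3 * cc⁻¹)⁻¹ by decide +kernel,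
    show D 3 false * cc = (d3⁻¹ * zz * zz * cc) * zz * (d3⁻¹ * zz * zz * cc)⁻¹ by decide +kernel,
    show D 4 false * cc = (zz * d3⁻¹ * cc) * zz ^ 2 * (zz * d3⁻¹ * cc)⁻¹ by decide +kernel,
    show D 1 true * cc = (cc * zz * cc * d3) * zz ^ 2 * (cc * zz * cc * d3)⁻¹ by decide +kernel,
    show D 2 true * cc = (zz * d3 * zz * cc⁻¹) * zz * (zz * d3 * zz * cc⁻¹)⁻¹ by decide +kernel,
    show D 3 true * cc = (zz * d3 * cc) * zz * (zz * d3 * cc)⁻¹ by decide +kernel,
    show D 4 true * cc = (w1 * zz * cc⁻¹) * zz ^ 2 * (w1 * zz * cc⁻¹)⁻¹ by decide +kernel]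
  simp only [H505.E6Three.tr_conj]
  linear_combination 4 * h2 + (ev (ρ zz) 1 : K) * h3

/-- `f₅ = 5` is impossible -/
theorem no_nine_five (ρ : Representation K A6 V) (hd : finrank K V = 27) (h2 : ev (ρ w0) 1 = 11) (h5 : ev (ρ zz) 1 = 5)
    (h4 : ∀ g : A6, g * g ≠ 1 → g ^ 4 = 1 → LinearMap.trace K V (ρ g) = 1) : False := by
  have h3 := H505.E6Three.three_eq K
  have two_ne : (2 : K) ≠ 0 := by
    intro h
    have : (1 : K) = 0 := by linear_combination h3 - h
    exact one_ne_zero this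
  have five_ne : ((5 : ℕ) : K) ≠ 0 := by
    intro h
    push_cast at h
    have : (1 : K) = 0 := by linear_combination 2 * h3 - h
    exact one_ne_zero this
  have hd1 := H952.F4.Eig.dihedral two_ne ρ (z := zz) (s := w0) (m := 5) (by decide) five_ne (by decide +kernel)
    (by decide +kernel) (by decide +kernel) (Or.inl rfl)
  rw [hd, h2, h5] at hd1
  have hU : U ρ = ⊥ := Submodule.finrank_eq_zero.1 (by unfold U; omega)
  have hP : H505.E6Three.P ρ * ρ cc = 0 := by
    refine LinearMap.ext fun v => ?_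
    have h6 := H505.E6Three.P_mem ρ (ρ cc v)
    rw [hU, Submodule.mem_bot] at h6
    exact h6
  have h7 := trace_P_cc' ρ hd h4
  rw [hP, map_zero, h5] at h7
  push_cast at h7
  have : (1 : K) = 0 := by linear_combination (-2 : K) * h3 - h7
  exact one_ne_zero this

end trace

section vec

variable {E : Type u} [Field E]

theorem sh_comb (a b c : E) (x y z : I27 → E) : sh (a • x + b • y + c • z) =
    (a * a) • sh x + (b * b) • sh y + (c * c) • sh z + (a * b) • cr x y + (a * c) • cr x z + (b * c) • cr y z := by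
  rw [sh_add, sh_add, sh_smul, sh_smul, sh_smul, cr_add_left, cr_smul_left, cr_smul_left, cr_smul_left, cr_smul_right,
    cr_smul_right, cr_smul_right]
  module

/-- a submodule stable under generators of a finite group is stable -/
theorem stable_of_gen {G V : Type*} [Group G] [Finite G] [AddCommGroup V] [Module E V] (ρ : Representation E G V)
    (W : Submodule E V) {x y : G} (hxy : Subgroup.closure {x, y} = ⊤) (hx : ∀ w ∈ W, ρ x w ∈ W)
    (hy : ∀ w ∈ W, ρ y w ∈ W) (g : G) : ∀ w ∈ W, ρ g w ∈ W := by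
  have hmul : ∀ (a b : G) (w : V), ρ (a * b) w = ρ a (ρ b w) := fun a b w => by rw [map_mul]; rfl
  have hpow : ∀ (k : G), (∀ w ∈ W, ρ k w ∈ W) → ∀ (n : ℕ), ∀ w ∈ W, ρ (k ^ n) w ∈ W := by
    intro k hk n
    induction n with
    | zero => intro w hw; rw [pow_zero, map_one]; exact hw
    | succ n ih => intro w hw; rw [pow_succ, hmul]; exact ih _ (hk w hw)
  have hg : g ∈ Subgroup.closure {x, y} := by rw [hxy]; trivial
  induction hg using Subgroup.closure_induction with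
  | mem k hk =>
    rcases hk with rfl | rfl
    · exact hx
    · exact hy
  | one => intro w hw; rw [map_one]; exact hw
  | mul a b _ _ ha hb => intro w hw; rw [hmul]; exact ha _ (hb w hw)
  | inv k _ hk =>
    intro w hw
    have h := hpow k hk (orderOf k - 1) w hw
    rwa [show k ^ (orderOf k - 1) = k⁻¹ by
      rw [eq_inv_iff_mul_eq_one, ← pow_succ, Nat.sub_add_cancel (orderOf_pos k), pow_orderOf_eq_one]] at h

/-- a vector fixed by generators is fixed -/
theorem fixed_of_gen {G V : Type*} [Group G] [AddCommGroup V] [Module E V] (ρ : Representation E G V)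
    {x y : G} (hxy : Subgroup.closure {x, y} = ⊤) {w : V} (hx : ρ x w = w) (hy : ρ y w = w) (g : G) : ρ g w = w := by
  have hmul : ∀ (a b : G) (w : V), ρ (a * b) w = ρ a (ρ b w) := fun a b w => by rw [map_mul]; rfl
  have hg : g ∈ Subgroup.closure {x, y} := by rw [hxy]; trivial
  induction hg using Subgroup.closure_induction with
  | mem k hk =>
    rcases hk with rfl | rfl
    · exact hx
    · exact hy
  | one => rw [map_one]; rfl
  | mul a b _ _ ha hb => rw [hmul, hb, ha]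
  | inv k _ hk =>
    nth_rewrite 1 [← hk]
    rw [← hmul, inv_mul_cancel, map_one]
    rfl

/-- **K6** -/
theorem k_nine [CharP E 3] (sh_act : ∀ (g : ↥(Zgrp E)) (x : I27 → E), sh (V E g x) = V' E g (sh x))
    (ev_dual : ∀ g : ↥(Zgrp E), ev (V' E g) 1 = ev (V E g) 1) {t : E} (ht : t * t = t + 1) (ψ : A6 →* ↥(Zgrp E))
    (hi' : Representation.invariants (MonoidHom.comp (V' E) ψ) = ⊥)
    (h2 : ∀ g : A6, g ≠ 1 → g * g = 1 → ev (V E (ψ g)) 1 = 11) (h4 : ev (V E (ψ c6)) 1 = 9)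
    (h5 : ev (V E (ψ (iota z5))) 1 = 7)
    (h4' : ∀ g : A6, g * g ≠ 1 → g ^ 4 = 1 → LinearMap.trace E _ (V' E (ψ g)) = 1) :
    ∃ W : Submodule E (I27 → E), finrank E ↥W = 3 ∧ TS W ∧ ∀ a, ∀ w ∈ W, V E (ψ a) w ∈ W := by
  have h3 := H505.E6Three.three_eq E
  have two_ne : (2 : E) ≠ 0 := by
    intro h
    have : (1 : E) = 0 := by linear_combination h3 - h
    exact one_ne_zero this
  have five_ne : (5 : E) ≠ 0 := by
    intro h
    have : (1 : E) = 0 := by linear_combination 2 * h3 - h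
    exact one_ne_zero this
  have five_ne' : ((5 : ℕ) : E) ≠ 0 := by exact_mod_cast five_ne
  let ρ : Representation E A6 (I27 → E) := MonoidHom.comp (V E) ψ
  let ρ' : Representation E A6 (I27 → E) := MonoidHom.comp (V' E) ψ
  let ρ5 : Representation E ↥(alternatingGroup (Fin 5)) (I27 → E) := MonoidHom.comp ρ iota
  have hρ : ∀ a, ρ a = V E (ψ a) := fun a => rfl
  have hρ' : ∀ a, ρ' a = V' E (ψ a) := fun a => rfl
  have h5ρ : ∀ a, ρ5 a = ρ (iota a) := fun a => rfl
  have rmul : ∀ (a b : A6) (w : I27 → E), ρ (a * b) w = ρ a (ρ b w) := fun a b w => by rw [map_mul]; rfl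
  have shρ : ∀ (a : A6) (x : I27 → E), sh (ρ a x) = ρ' a (sh x) := fun a x => sh_act (ψ a) x
  have e2 : ∀ g : A6, g ≠ 1 → g * g = 1 → ev (ρ g) 1 = 11 := h2
  have e4 : ev (ρ c6) 1 = 9 := h4
  have e5 : ev (ρ (iota z5)) 1 = 7 := h5
  have e2' : ∀ g : A6, g ≠ 1 → g * g = 1 → ev (ρ' g) 1 = 11 := fun g h h' => by rw [hρ', ev_dual]; exact h2 g h h'
  have e5' : ev (ρ' (iota z5)) 1 = 7 := by rw [hρ', ev_dual]; exact h5
  have v0n : iota v0 ≠ 1 := by decide +kernel
  have v0s : iota v0 * iota v0 = 1 := by decide +kernel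
  have v1n : iota v1 ≠ 1 := by decide +kernel
  have z5s : iota z5 ^ 5 = 1 := by decide +kernel
  have inv5 : iota v0 * iota z5 * (iota v0)⁻¹ = (iota z5)⁻¹ := by decide +kernel
  -- the dihedral groups
  have m2 : ev (ρ (iota v0)) (-1) = 16 := by
    have h := H952.F4.Eig.ev_neg two_ne (ρ (iota v0))
    have e : ρ (iota v0) * ρ (iota v0) = 1 := by rw [← map_mul, v0s, map_one]
    rw [e, H882.E6Five.ev_one_one, e2 _ v0n v0s] at h
    omega
  have d1 := H952.F4.Eig.dihedral two_ne ρ (z := iota z5) (s := iota v0) (m := 5) (by decide) five_ne' z5s v0s inv5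
    (Or.inr rfl)
  have d2 := H952.F4.Eig.dihedral two_ne ρ' (z := iota z5) (s := iota v0) (m := 5) (by decide) five_ne' z5s v0s inv5
    (Or.inl rfl)
  rw [finrank27, m2, e5] at d1
  rw [finrank27, e2' _ v0n v0s, e5'] at d2
  have hX5 : 5 ≤ finrank E ↥(es (ρ5 z5) 1 ⊓ es (ρ5 v0) (-1)) := by
    rw [h5ρ, h5ρ]
    omega
  have hY1 : finrank E ↥(U ρ') ≤ 1 := by
    unfold U
    rw [zz_eq, w0_eq]
    omega
  -- the eigenspaces of `sop`
  have hmem : ∀ {v : I27 → E}, v ∈ es (ρ5 z5) 1 ⊓ es (ρ5 v0) (-1) ↔ ρ5 z5 v = v ∧ ρ5 v0 v = -v := by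
    intro v
    rw [Submodule.mem_inf, mem_es, mem_es, one_smul, neg_smul, one_smul]
  obtain ⟨t', ht', hU⟩ : ∃ t' : E, t' * t' = t' + 1 ∧
      3 ≤ finrank E ↥(es (ρ5 z5) 1 ⊓ es (ρ5 v0) (-1) ⊓ es (H882.E6Five.sop ρ5) (2 * t' - 1)) := by
    have h := H882.E6Five.split (H882.E6Five.sop ρ5) (es (ρ5 z5) 1 ⊓ es (ρ5 v0) (-1)) (fun v hv => by
      rw [hmem] at hv ⊢
      exact ⟨(H882.E6Five.sop_mem hv.1 hv.2).1, (H882.E6Five.sop_mem hv.1 hv.2).2.1⟩) (2 * t - 1) (fun v hv => by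
      rw [hmem] at hv
      rw [(H882.E6Five.sop_mem hv.1 hv.2).2.2]
      congr 1
      linear_combination (-4 : E) * ht)
    by_cases h3 : 3 ≤ finrank E ↥(es (ρ5 z5) 1 ⊓ es (ρ5 v0) (-1) ⊓ es (H882.E6Five.sop ρ5) (2 * t - 1))
    · exact ⟨t, ht, h3⟩
    · refine ⟨1 - t, by linear_combination ht, ?_⟩
      rw [show 2 * (1 - t) - 1 = -(2 * t - 1) by ring]
      omega
  -- the map `κ`
  have four1 := H546.F4Eig.four two_ne ρ (a := iota v0) (b := iota v1) v0s v1_sq (by decide +kernel)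
  have four2 := H546.F4Eig.four two_ne ρ (a := iota v0) (b := c6 * iota v1) v0s (by decide +kernel) (by decide +kernel)
  rw [finrank27, e2 _ v0n v0s, e2 _ v1n v1_sq, e2 _ (by decide +kernel) (by decide +kernel)] at four1
  rw [finrank27, e2 _ v0n v0s, e2 _ (by decide +kernel) (by decide +kernel),
    e2 _ (by decide +kernel) (by decide +kernel)] at four2
  obtain ⟨r1, r2, r3, r4, r5⟩ := d8 two_ne ρ c6_four v1_sq v1_c6
  rw [c6_sq, e2 _ v0n v0s, e4] at r1
  rw [e4] at r2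
  rw [c6_sq] at r4 r5
  have hB : finrank E ↥(es (ρ c6) (-1) ⊓ es (ρ (iota v1)) (-1)) = 1 := by omega
  obtain ⟨u, hu, hu0, hκ⟩ : ∃ u ∈ es (ρ5 z5) 1 ⊓ es (ρ5 v0) (-1) ⊓ es (H882.E6Five.sop ρ5) (2 * t' - 1), u ≠ 0 ∧
      ρ (iota c3) (ρ (iota c3) (u + ρ (iota v1) u)) - ρ c6 (ρ (iota c3) (ρ (iota c3) (u + ρ (iota v1) u))) = 0 := by
    let κ : (I27 → E) →ₗ[E] (I27 → E) := (LinearMap.id - ρ c6) ∘ₗ ρ (iota c3) ∘ₗ ρ (iota c3) ∘ₗ
      (LinearMap.id + ρ (iota v1))
    have hκ : ∀ x, κ x = ρ (iota c3) (ρ (iota c3) (x + ρ (iota v1) x)) -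
      ρ c6 (ρ (iota c3) (ρ (iota c3) (x + ρ (iota v1) x))) := fun x => rfl
    have hr : ∀ x ∈ es (ρ5 z5) 1 ⊓ es (ρ5 v0) (-1) ⊓ es (H882.E6Five.sop ρ5) (2 * t' - 1),
        κ x ∈ es (ρ c6) (-1) ⊓ es (ρ (iota v1)) (-1) := by
      intro x hx
      by_cases hx0 : x = 0
      · rw [hx0, map_zero]; exact Submodule.zero_mem _
      obtain ⟨hx1, hx2⟩ := hmem.1 hx.1
      have hx3 : H882.E6Five.sop ρ5 x = (2 * t' - 1) • x := mem_es.1 hx.2
      obtain ⟨X, -, hX0, hxX, ⟨a0, a1, a2⟩, ⟨b0, b1, b2⟩, ⟨c0, c1, c2⟩, -, -, -⟩ :=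
        H882.E6Five.axes two_ne ρ5 hx0 hx1 hx2 hx3
      rw [h5ρ] at a0 a1 a2 b0 b1 b2 c0 c1 c2
      have hy : ρ (iota c3) (ρ (iota c3) (x + ρ (iota v1) x)) = (2 : E) • X 0 := by
        have e : x + ρ (iota v1) x = (2 : E) • X 1 := by
          rw [hxX, map_add, map_smul, b1, b2]
          module
        rw [e, map_smul, map_smul, c1, c2]
      have hcv : ρ (iota v0) (X 0) = ρ c6 (ρ c6 (X 0)) := by rw [← c6_sq, rmul]
      have hv1c : ρ (iota v1) (ρ c6 (X 0)) = -ρ c6 (X 0) := by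
        have e1 : iota v1 * c6 = c6 * (c6 * (c6 * iota v1)) := by decide +kernel
        rw [← rmul, e1, rmul, rmul, rmul, b0, map_neg, map_neg, map_neg, ← rmul c6 c6 (X 0), c6_sq, a0]
      rw [hκ, hy, map_smul, ← smul_sub]
      refine Submodule.smul_mem _ _ ?_
      rw [Submodule.mem_inf, mem_es_neg, mem_es_neg]
      constructor
      · rw [map_sub, ← hcv, a0]; abel
      · rw [map_sub, b0, hv1c]; abel
    let f : ↥(es (ρ5 z5) 1 ⊓ es (ρ5 v0) (-1) ⊓ es (H882.E6Five.sop ρ5) (2 * t' - 1)) →ₗ[E]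
        ↥(es (ρ c6) (-1) ⊓ es (ρ (iota v1)) (-1)) := κ.restrict hr
    have hrk := LinearMap.finrank_range_add_finrank_ker f
    have hrl := Submodule.finrank_le (LinearMap.range f)
    obtain ⟨⟨x, hx⟩, hxk, hx0⟩ : ∃ x ∈ LinearMap.ker f, x ≠ 0 := by
      apply Submodule.exists_mem_ne_zero_of_ne_bot
      intro h
      rw [h, finrank_bot] at hrk
      omega
    refine ⟨x, hx, fun h => hx0 (Subtype.ext h), ?_⟩
    rw [← hκ]
    exact congrArg Subtype.val (LinearMap.mem_ker.1 hxk)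
  -- the vectors `X`
  obtain ⟨hu1, hu2⟩ := hmem.1 hu.1
  have hu3 : H882.E6Five.sop ρ5 u = (2 * t' - 1) • u := mem_es.1 hu.2
  obtain ⟨X, -, hX0, hxX, ⟨a0, a1, a2⟩, ⟨b0, b1, b2⟩, ⟨c0, c1, c2⟩, z0, z1, z2⟩ :=
    H882.E6Five.axes two_ne ρ5 hu0 hu1 hu2 hu3
  have hli := H882.E6Five.linInd two_ne hX0 ⟨a0, a1, a2⟩ ⟨b0, b1, b2⟩
  rw [h5ρ] at a0 a1 a2 b0 b1 b2 c0 c1 c2 z0 z1 z2 hu1 hu2
  have s0 : ρ c6 (X 0) = X 0 := by
    have e : u + ρ (iota v1) u = (2 : E) • X 1 := by
      rw [hxX, map_add, map_smul, b1, b2]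
      module
    rw [e, map_smul, map_smul, map_smul, c1, c2, ← smul_sub] at hκ
    exact (sub_eq_zero.1 ((smul_eq_zero.1 hκ).resolve_left two_ne)).symm
  have s1 : ρ c6 (X 1) = X 2 := by
    rw [← c0, ← rmul, c6_c3, rmul, rmul, rmul, rmul, s0, s0, s0, c0, c1]
  have s2 : ρ c6 (X 2) = -X 1 := by
    rw [← c1, ← c0, ← rmul, ← rmul, mul_assoc, c6_c3', rmul, rmul, b0, map_neg, map_neg, s0]
  have neg2 : ∀ {x y : I27 → E}, (2 : E) • x = y → x = -y := by
    intro x y h
    rw [← h, ← neg_smul, show (-(2 : E)) = 1 by linear_combination -h3, one_smul]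
  have zc : ∀ a b c a' b' c' : E, a' = -(a * (t' - 1) + b * t' - c) → b' = -(-a * t' + b + c * (t' - 1)) →
      c' = -(a + b * (t' - 1) + c * t') →
      ρ (iota z5) (a • X 0 + b • X 1 + c • X 2) = a' • X 0 + b' • X 1 + c' • X 2 := by
    rintro a b c _ _ _ rfl rfl rfl
    rw [map_add, map_add, map_smul, map_smul, map_smul, neg2 z0, neg2 z1, neg2 z2]
    module
  -- the invariant vector
  have hq : sh (X 0) + sh (X 1) + sh (X 2) = 0 := by
    have hc : ρ' c6 (sh (X 0) + sh (X 1) + sh (X 2)) = sh (X 0) + sh (X 1) + sh (X 2) := by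
      rw [map_add, map_add, ← shρ, ← shρ, ← shρ, s0, s1, s2, show sh (-X 1) = sh (X 1) by
        rw [← neg_one_smul E, sh_smul]; norm_num]
      abel
    have hz : ρ' (iota z5) (sh (X 0) + sh (X 1) + sh (X 2)) = sh (X 0) + sh (X 1) + sh (X 2) := by
      have k0 : ρ (iota z5) (X 0) = (-(t' - 1)) • X 0 + t' • X 1 + (-1 : E) • X 2 := by
        rw [neg2 z0]; module
      have k1 : ρ (iota z5) (X 1) = (-t') • X 0 + (-1 : E) • X 1 + (-(t' - 1)) • X 2 := by
        rw [neg2 z1]; module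
      have k2 : ρ (iota z5) (X 2) = (1 : E) • X 0 + (-(t' - 1)) • X 1 + (-t') • X 2 := by
        rw [neg2 z2]; module
      rw [map_add, map_add, ← shρ, ← shρ, ← shρ, k0, k1, k2, sh_comb, sh_comb, sh_comb]
      match_scalars
      · linear_combination (2 : E) * ht' + h3
      · linear_combination (2 : E) * ht' + h3
      · linear_combination (2 : E) * ht' + h3
      · linear_combination (-1 : E) * ht'
      · linear_combination (1 : E) * ht'
      · linear_combination (1 : E) * ht'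
    have hmem' : sh (X 0) + sh (X 1) + sh (X 2) ∈ Representation.invariants ρ' := by
      rw [Representation.mem_invariants]
      intro g
      exact fixed_of_gen ρ' closure_six hz hc g
    rw [show Representation.invariants ρ' = ⊥ from hi', Submodule.mem_bot] at hmem'
    exact hmem'
  -- the vector `p`
  have hshu : sh u = 0 := by
    by_contra hp0
    have hpe : sh u = sh (X 1) + (t' * t') • sh (X 2) + t' • cr (X 1) (X 2) := by
      rw [hxX, sh_add, sh_smul, cr_smul_right, pow_two]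
    have hpU : sh u ∈ U ρ' := by
      rw [H505.E6Three.mem_U, zz_eq, w0_eq, ← shρ, ← shρ, hu1, hu2, ← neg_one_smul E u, sh_smul]
      norm_num
    have hline : ∀ v, ∃ c : E, (H505.E6Three.P ρ' * ρ' cc) v = c • sh u := by
      intro v
      have h6 := H505.E6Three.P_mem ρ' (ρ' cc v)
      obtain ⟨⟨w, hw⟩, hw1⟩ := finrank_le_one_iff.1 hY1
      obtain ⟨c, hc⟩ := hw1 ⟨_, h6⟩
      obtain ⟨d, hd⟩ := hw1 ⟨_, hpU⟩
      have hc' : c • w = H505.E6Three.P ρ' (ρ' cc v) := congrArg Subtype.val hc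
      have hd' : d • w = sh u := congrArg Subtype.val hd
      have hd0 : d ≠ 0 := by
        rintro rfl
        rw [zero_smul] at hd'
        exact hp0 hd'.symm
      refine ⟨c * d⁻¹, ?_⟩
      rw [mul_smul, ← hd', ← mul_smul d⁻¹, inv_mul_cancel₀ hd0, one_smul, hc']
      rfl
    have hz0' : ρ' (zz ^ ((0 : Fin 5) : ℕ)) = 1 := by
      change ρ' (zz ^ 0) = 1
      rw [pow_zero, map_one]
    have hT : (H505.E6Three.P ρ' * ρ' cc) (sh u) = (1 : E) • sh u := by
      have y0 : ρ cc u = (0 : E) • X 0 + (-t') • X 1 + (1 : E) • X 2 := by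
        rw [cc_eq, hxX, map_add, map_smul, s1, s2]
        module
      have q0 : ρ (zz ^ 0) (ρ cc u) = (0 : E) • X 0 + (-t') • X 1 + (1 : E) • X 2 := by
        rw [pow_zero, map_one]; exact y0
      have q1 : ρ (zz ^ 1) (ρ cc u) = (t' - 1) • X 0 + (1 : E) • X 1 + (1 - t') • X 2 := by
        rw [pow_succ' zz 0, rmul, q0, zz_eq]
        exact zc _ _ _ _ _ _ (by linear_combination (-1 : E) * ht' - h3) (by ring) (by linear_combination (-1 : E) * ht')
      have q2 : ρ (zz ^ 2) (ρ cc u) = (-(t' + 1)) • X 0 + (-(t' + 1)) • X 1 + t' • X 2 := by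
        rw [pow_succ' zz 1, rmul, q1, zz_eq]
        exact zc _ _ _ _ _ _ (by linear_combination ht') (by linear_combination (-2 : E) * ht' - h3)
          (by linear_combination (-1 : E) * ht' + (t' - 1) * h3)
      have q3 : ρ (zz ^ 3) (ρ cc u) = (t' + 1) • X 0 + (-(t' + 1)) • X 1 + t' • X 2 := by
        rw [pow_succ' zz 2, rmul, q2, zz_eq]
        exact zc _ _ _ _ _ _ (by linear_combination (-2 : E) * ht' - t' * h3) (by linear_combination (2 : E) * ht')
          (by ring)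
      have q4 : ρ (zz ^ 4) (ρ cc u) = (1 - t') • X 0 + (1 : E) • X 1 + (1 - t') • X 2 := by
        rw [pow_succ' zz 3, rmul, q3, zz_eq]
        exact zc _ _ _ _ _ _ (by linear_combination (-t') * h3) (by linear_combination (-t') * h3)
          (by linear_combination h3)
      have hw : ρ w0 (ρ cc u) = -ρ cc u := by
        rw [← rmul, show w0 * cc = cc * iota v0 by decide +kernel, rmul, hu2, map_neg]
      have hD : ∀ (i : Fin 5) (b : Bool), ρ' (D i b) (sh (ρ cc u)) = sh (ρ (zz ^ (i : ℕ)) (ρ cc u)) := by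
        intro i b
        cases b
        · change ρ' (zz ^ (i : ℕ) * 1) _ = _
          rw [mul_one]
          exact (shρ _ _).symm
        · change ρ' (zz ^ (i : ℕ) * w0) _ = _
          rw [← shρ, rmul, hw, map_neg, ← neg_one_smul E, sh_smul]
          norm_num only [_root_.map_pow, _root_.one_smul]
      have hP : H505.E6Three.P ρ' (sh (ρ cc u)) = (2 : E) • ∑ i : Fin 5, sh (ρ (zz ^ (i : ℕ)) (ρ cc u)) := by
        rw [H505.E6Three.P_apply, Finset.smul_sum]
        refine Finset.sum_congr rfl fun i _ => ?_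
        rw [Fintype.sum_bool, hD, hD, two_smul]
      have p0 : ρ (zz ^ ((0 : Fin 5) : ℕ)) (ρ cc u) = _ := q0
      have p1 : ρ (zz ^ ((1 : Fin 5) : ℕ)) (ρ cc u) = _ := q1
      have p2 : ρ (zz ^ ((2 : Fin 5) : ℕ)) (ρ cc u) = _ := q2
      have p3 : ρ (zz ^ ((3 : Fin 5) : ℕ)) (ρ cc u) = _ := q3
      have p4 : ρ (zz ^ ((4 : Fin 5) : ℕ)) (ρ cc u) = _ := q4
      rw [Module.End.mul_apply, ← shρ, hP, Fin.sum_univ_five, p0, p1, p2, p3, p4, sh_comb, sh_comb, sh_comb, sh_comb,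
        sh_comb, one_smul, hpe]
      have hq0 : sh (X 0) = -sh (X 1) - sh (X 2) := by
        rw [← sub_eq_zero, ← hq]
        abel
      rw [hq0]
      match_scalars
      all_goals first
        | ring1
        | linear_combination (-2 : E) * ht' + (2 * t' - 1) * h3
        | linear_combination (-1 : E) * ht' - (3 * t' + 1) * h3
        | linear_combination (-4 : E) * ht' - 5 * t' * h3
    have h7 := H952.F4.Spec.trace_of_line hp0 _ hline hT
    rw [trace_P_cc' ρ' finrank27 h4', zz_eq, e5'] at h7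
    push_cast at h7
    have : (1 : E) = 0 := by linear_combination h7 * 2 - 5 * h3
    exact one_ne_zero this
  -- conclusion
  have hshg : ∀ (g : A6) (v : I27 → E), sh v = 0 → sh (ρ g v) = 0 := by
    intro g v hv
    rw [shρ, hv, map_zero]
  refine ⟨Submodule.span E (Set.range X), by rw [finrank_span_eq_card hli, Fintype.card_fin], ?_, ?_⟩
  · have k1 : sh (X 1 + t' • X 2) = 0 := by rw [← hxX]; exact hshu
    have k2 : sh (X 1 - t' • X 2) = 0 := by
      have := hshg (iota v1) _ k1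
      rwa [map_add, map_smul, b1, b2, smul_neg, ← sub_eq_add_neg] at this
    have k3 : sh (X 2 + t' • X 0) = 0 := by
      have := hshg (iota c3) _ k1
      rwa [map_add, map_smul, c1, c2] at this
    have k4 : sh (X 2 - t' • X 0) = 0 := by
      have := hshg (iota c3) _ k2
      rwa [map_sub, map_smul, c1, c2] at this
    have k5 : sh (X 0 + t' • X 1) = 0 := by
      have := hshg (iota c3) _ k3
      rwa [map_add, map_smul, c0, c2] at this
    have k6 : sh (X 0 - t' • X 1) = 0 := by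
      have := hshg (iota c3) _ k4
      rwa [map_sub, map_smul, c0, c2] at this
    exact H882.E6Five.ts_span two_ne five_ne ht' k1 k2 k3 k4 k5 k6
  · have hX : ∀ i, X i ∈ Submodule.span E (Set.range X) := fun i => Submodule.subset_span ⟨i, rfl⟩
    have hstep : ∀ (k : A6), (∀ i, ρ k (X i) ∈ Submodule.span E (Set.range X)) →
        ∀ w ∈ Submodule.span E (Set.range X), ρ k w ∈ Submodule.span E (Set.range X) := by
      intro k hk w hw
      induction hw using Submodule.span_induction with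
      | mem x hx =>
        obtain ⟨i, rfl⟩ := hx
        exact hk i
      | zero => rw [map_zero]; exact Submodule.zero_mem _
      | add x y _ _ hx hy => rw [map_add]; exact Submodule.add_mem _ hx hy
      | smul a x _ hx => rw [map_smul]; exact Submodule.smul_mem _ _ hx
    intro a w hw
    refine stable_of_gen ρ _ closure_six ?_ ?_ a w hw
    · intro w hw
      exact H882.E6Five.span_stable two_ne (ρ := ρ5) ⟨c0, c1, c2⟩ z0 z1 z2 z5 w hw
    · refine hstep c6 ?_
      intro i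
      fin_cases i
      · exact s0.symm ▸ hX 0
      · exact s1.symm ▸ hX 2
      · exact s2.symm ▸ Submodule.neg_mem _ (hX 1)

end vec

end Cfsg.Agent.H401.E6Three
end

-- part: H505/E6Three/Transfer
section
/-!
# S5927, `six_three` (K7): the transfer between the two classes of `A₅`
-/

set_option autoImplicit false

namespace Cfsg.Agent.H505.E6Three

open Module Cfsg.Agent.H952.F4

/-- the coefficients -/
def DD : Fin 6 → Fin 6 → ℤ :=
  ![![1, 0, -1, 0, -1, 1], ![0, 1, 0, -1, -1, 1], ![0, 1, -1, 0, 1, -1], ![1, 0, 0, -1, 1, -1], ![1, 1, -1, -1, 0, 0],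
    ![0, 0, 0, 0, 0, 0]]

theorem perm_inv (g : Equiv.Perm (Fin 6)) (k : Fin 6) : g⁻¹ (g k) = k := g.symm_apply_apply k
theorem perm_inv' (g : Equiv.Perm (Fin 6)) (k : Fin 6) : g (g⁻¹ k) = k := g.apply_symm_apply k

section
variable {K V : Type*} [Field K] [CharP K 3] [AddCommGroup V] [Module K V]

theorem three_zsmul (K : Type*) {V : Type*} [Field K] [CharP K 3] [AddCommGroup V] [Module K V] (v : V) :
    (3 : ℤ) • v = 0 := by
  rw [← Int.cast_smul_eq_zsmul K]
  rw [show ((3 : ℤ) : K) = 0 by push_cast; exact three_eq K, zero_smul]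

theorem sum_zero (K : Type*) {V : Type*} [Field K] [CharP K 3] [AddCommGroup V] [Module K V] (c : Fin 6 → ℤ)
    (u : Fin 6 → V) (hs : ∑ k, u k = 0) (hc : ∀ k, (3 : ℤ) ∣ c k - c 0) :
    ∑ k, c k • u k = 0 := by
  have h1 : ∀ k, c k • u k = c 0 • u k := by
    intro k
    obtain ⟨m, hm⟩ := hc k
    have : c k = c 0 + 3 * m := by linarith
    rw [this, add_smul, mul_comm, mul_smul, three_zsmul K, smul_zero, add_zero]
  rw [Finset.sum_congr rfl fun k _ => h1 k, ← Finset.smul_sum, hs, smul_zero]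

/-- the vectors `d_j` -/
def dj (ρ : Representation K A6 V) (v : V) (j : Fin 6) : V := ∑ k, DD j k • cv ρ v k

omit [CharP K 3] in
theorem dj_five (ρ : Representation K A6 V) (v : V) : dj ρ v 5 = 0 := by
  rw [dj]
  refine Finset.sum_eq_zero fun k _ => ?_
  have : DD 5 k = 0 := by revert k; decide
  rw [this, zero_smul]

theorem E_of {ρ : Representation K A6 V} (hi : ρ.invariants = ⊥) {v : V} (hv : v ∈ Fx ρ) (g h : A6)
    (hc : ∀ j k : Fin 6, (3 : ℤ) ∣ (DD j ((g : Equiv.Perm (Fin 6))⁻¹ k) - DD ((h : Equiv.Perm (Fin 6)) j) k +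
      DD ((h : Equiv.Perm (Fin 6)) 5) k) - (DD j ((g : Equiv.Perm (Fin 6))⁻¹ 0) - DD ((h : Equiv.Perm (Fin 6)) j) 0 +
      DD ((h : Equiv.Perm (Fin 6)) 5) 0)) (j : Fin 6) :
    ρ g (dj ρ v j) = dj ρ v ((h : Equiv.Perm (Fin 6)) j) - dj ρ v ((h : Equiv.Perm (Fin 6)) 5) := by
  have h1 : ρ g (dj ρ v j) = ∑ k, DD j ((g : Equiv.Perm (Fin 6))⁻¹ k) • cv ρ v k := by
    rw [dj, map_sum]
    rw [← Equiv.sum_comp (g : Equiv.Perm (Fin 6)) (fun k => DD j ((g : Equiv.Perm (Fin 6))⁻¹ k) • cv ρ v k)]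
    refine Finset.sum_congr rfl fun k _ => ?_
    rw [map_zsmul, cv_act hv, perm_inv]
  have h2 := sum_zero K _ (cv ρ v) (cv_sum hi hv) (hc j)
  simp only [add_smul, sub_smul, Finset.sum_add_distrib, Finset.sum_sub_distrib] at h2
  rw [h1]
  change _ = (∑ k, DD ((h : Equiv.Perm (Fin 6)) j) k • cv ρ v k) - ∑ k, DD ((h : Equiv.Perm (Fin 6)) 5) k • cv ρ v k
  rw [← sub_eq_zero, ← h2]
  abel

theorem E_w0 : ∀ j k : Fin 6, (3 : ℤ) ∣ (DD j ((w0 : Equiv.Perm (Fin 6))⁻¹ k) - DD ((w0 : Equiv.Perm (Fin 6)) j) k +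
      DD ((w0 : Equiv.Perm (Fin 6)) 5) k) - (DD j ((w0 : Equiv.Perm (Fin 6))⁻¹ 0) - DD ((w0 : Equiv.Perm (Fin 6)) j) 0 +
      DD ((w0 : Equiv.Perm (Fin 6)) 5) 0) := by decide +kernel

theorem E_yy : ∀ j k : Fin 6, (3 : ℤ) ∣ (DD j ((yy : Equiv.Perm (Fin 6))⁻¹ k) - DD ((yy' : Equiv.Perm (Fin 6)) j) k +
      DD ((yy' : Equiv.Perm (Fin 6)) 5) k) - (DD j ((yy : Equiv.Perm (Fin 6))⁻¹ 0) - DD ((yy' : Equiv.Perm (Fin 6)) j) 0 +
      DD ((yy' : Equiv.Perm (Fin 6)) 5) 0) := by decide +kernel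

variable {α : A6 →* A6}

/-- the action on the vectors `d_j` -/
theorem E_all (h0 : α w0 = w0) (hy : α yy = yy') {ρ : Representation K A6 V} (hi : ρ.invariants = ⊥) {v : V}
    (hv : v ∈ Fx ρ) (g : A6) : ∀ j : Fin 6,
    ρ g (dj ρ v j) = dj ρ v ((α g : Equiv.Perm (Fin 6)) j) - dj ρ v ((α g : Equiv.Perm (Fin 6)) 5) := by
  refine Scott.fix_all (P := fun g => ∀ j : Fin 6, ρ g (dj ρ v j) =
    dj ρ v ((α g : Equiv.Perm (Fin 6)) j) - dj ρ v ((α g : Equiv.Perm (Fin 6)) 5)) gen_xy ?_ ?_ ?_ ?_ ?_ g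
  · intro j
    rw [h0]
    exact E_of hi hv w0 w0 E_w0 j
  · intro j
    rw [hy]
    exact E_of hi hv yy yy' E_yy j
  · intro j
    rw [map_one α, rone]
    change dj ρ v j = dj ρ v j - dj ρ v 5
    rw [dj_five, sub_zero]
  · intro a b ha hb j
    rw [rmul, hb, map_sub, ha, ha, map_mul α]
    change _ = dj ρ v ((α a : Equiv.Perm (Fin 6)) ((α b : Equiv.Perm (Fin 6)) j)) -
      dj ρ v ((α a : Equiv.Perm (Fin 6)) ((α b : Equiv.Perm (Fin 6)) 5))
    abel
  · intro a ha j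
    have e1 : ∀ i, (α a : Equiv.Perm (Fin 6)) ((α a⁻¹ : Equiv.Perm (Fin 6)) i) = i := by
      intro i
      rw [map_inv]
      exact perm_inv' _ _
    have e2 : ∀ i, ρ a⁻¹ (ρ a (dj ρ v i)) = dj ρ v i := fun i => rinv ρ a _
    have h1 := ha ((α a⁻¹ : Equiv.Perm (Fin 6)) j)
    have h2 := ha ((α a⁻¹ : Equiv.Perm (Fin 6)) 5)
    rw [e1] at h1 h2
    rw [dj_five, zero_sub] at h2
    have h3 : dj ρ v j = ρ a (dj ρ v ((α a⁻¹ : Equiv.Perm (Fin 6)) j)) - ρ a (dj ρ v ((α a⁻¹ : Equiv.Perm (Fin 6)) 5)) := by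
      rw [h1, h2]; abel
    rw [h3, map_sub, e2, e2]

/-- the cocycle -/
def dl (α : A6 →* A6) (ρ : Representation K A6 V) (v : V) (g : A6) : V := dj ρ v ((α g : Equiv.Perm (Fin 6)) 5)

theorem dl_mul (h0 : α w0 = w0) (hy : α yy = yy') {ρ : Representation K A6 V} (hi : ρ.invariants = ⊥) {v : V}
    (hv : v ∈ Fx ρ) (g h : A6) : ρ g (dl α ρ v h) = dl α ρ v (g * h) - dl α ρ v g := by
  rw [dl, E_all h0 hy hi hv, dl, map_mul]
  rfl

omit [CharP K 3] in
theorem dl_one (ρ : Representation K A6 V) (v : V) : dl α ρ v 1 = 0 := by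
  rw [dl, map_one]
  exact dj_five ρ v

theorem dl_range (h0 : α w0 = w0) (hy : α yy = yy') {ρ : Representation K A6 V} (hi : ρ.invariants = ⊥) {v : V}
    (hv : v ∈ Fx ρ) (g : A6) {n : ℕ} (hn : (n : K) ≠ 0) (hg : g ^ n = 1) :
    dl α ρ v g ∈ LinearMap.range (ρ g - 1) := by
  have h1 := mem_range_of_cocycle (ρ g) hn (fun k => dl α ρ v (g ^ k)) (by rw [pow_zero, dl_one])
    (by rw [hg, dl_one]) (by
      intro k
      rw [dl_mul h0 hy hi hv, ← pow_succ', pow_one])
  simpa only [_root_.LinearMap.mem_range, _root_.LinearMap.sub_apply, _root_.Module.End.one_apply, _root_.pow_one] using h1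

/-- elements moving `0` to `5` and `2` to `j` -/
def qj : Fin 6 → A6 := ![(s 0)⁻¹ * s 2, s 1 * s 0 * s 2, (s 0)⁻¹, s 3 * s 0 * s 2, s 2 * s 0, 1]

theorem qj_zero : ∀ j : Fin 6, j ≠ 5 → (qj j : Equiv.Perm (Fin 6)) 0 = 5 := by decide +kernel
theorem qj_two : ∀ j : Fin 6, j ≠ 5 → (qj j : Equiv.Perm (Fin 6)) 2 = j := by decide +kernel

/-- injectivity -/
theorem eq_zero_of_dj {ρ : Representation K A6 V} (hi : ρ.invariants = ⊥) {v : V} (hv : v ∈ Fx ρ)
    (h : ∀ j, dj ρ v j = 0) : v = 0 := by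
  have e4 := h 4
  have e0 := h 0
  have e1 := h 1
  simp only [dj, Fin.sum_univ_six, DD] at e4 e0 e1
  simp only [_root_.Int.reduceNeg, _root_.Fin.isValue, _root_.Matrix.cons_val', _root_.Matrix.cons_val_zero, _root_.Matrix.cons_val_fin_one, _root_.Matrix.cons_val, _root_.Matrix.cons_val_one, _root_.one_smul, _root_.neg_smul, _root_.zero_smul, _root_.add_zero, _root_.zero_add] at e4 e0 e1
  have h3 := three_eq K
  have h02 : cv ρ v 0 = cv ρ v 2 := by
    have e5 : (2 : K) • (cv ρ v 0 - cv ρ v 2) = 0 := by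
      rw [two_smul]
      have : cv ρ v 0 - cv ρ v 2 + (cv ρ v 0 - cv ρ v 2) =
        (cv ρ v 0 + cv ρ v 1 + -cv ρ v 2 + -cv ρ v 3) + ((cv ρ v 0 + -cv ρ v 2 + -cv ρ v 4 + cv ρ v 5) -
          (cv ρ v 1 + -cv ρ v 3 + -cv ρ v 4 + cv ρ v 5)) := by abel
      rw [this, e4, e0, e1, sub_self, add_zero]
    have h2 : (2 : K) ≠ 0 := by
      intro h2
      exact one_ne_zero (α := K) (by linear_combination h3 - h2)
    exact sub_eq_zero.1 ((smul_eq_zero.1 e5).resolve_left h2)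
  have hall : ∀ j, cv ρ v j = v := by
    intro j
    by_cases hj : j = 5
    · rw [hj, cv_five]
    · have h5 := congrArg (ρ (qj j)) h02
      rw [cv_act hv, cv_act hv, qj_zero j hj, qj_two j hj, cv_five] at h5
      exact h5.symm
  rw [← Submodule.mem_bot K, ← hi, Representation.mem_invariants]
  intro g
  have h6 := cv_act hv g 5
  rw [hall, hall] at h6
  exact h6

omit [CharP K 3] in
theorem dj_add (ρ : Representation K A6 V) (v w : V) (j : Fin 6) : dj ρ (v + w) j = dj ρ v j + dj ρ w j := by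
  simp only [dj, cv_add, smul_add, Finset.sum_add_distrib]

omit [CharP K 3] in
theorem dj_smul (ρ : Representation K A6 V) (c : K) (v : V) (j : Fin 6) : dj ρ (c • v) j = c • dj ρ v j := by
  simp only [dj, cv_smul, Finset.smul_sum]
  exact Finset.sum_congr rfl fun k _ => smul_comm _ _ _

/-- `v ↦ dj ρ v j` as a linear map on the fixed vectors -/
def djl (ρ : Representation K A6 V) (j : Fin 6) : ↥(Fx ρ) →ₗ[K] V where
  toFun v := dj ρ v j
  map_add' v w := dj_add ρ v w j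
  map_smul' c v := dj_smul ρ c v j

theorem transfer [FiniteDimensional K V] (h0 : α w0 = w0) (hy : α yy = yy') (hα : ∀ g, α (α g) = g)
    (ρ : Representation K A6 V) (hi : ρ.invariants = ⊥) (hi' : ρ.dual.invariants = ⊥)
    (he : finrank K V ≤ ev (ρ w0) 1 + ev (ρ yy) 1 + ev (ρ (w0 * yy)) 1) :
    finrank K ↥(Fx ρ) ≤ finrank K ↥(Fx (MonoidHom.comp ρ α : Representation K A6 V)) := by
  have h3 := three_eq K
  have n2 : ((2 : ℕ) : K) ≠ 0 := by
    intro h2
    push_cast at h2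
    exact one_ne_zero (α := K) (by linear_combination h3 - h2)
  have n4 : ((4 : ℕ) : K) ≠ 0 := by
    intro h2
    push_cast at h2
    exact one_ne_zero (α := K) (by linear_combination h2 - h3)
  have n5 : ((5 : ℕ) : K) ≠ 0 := by
    intro h2
    push_cast at h2
    exact one_ne_zero (α := K) (by linear_combination 2 * h3 - h2)
  let Ψ : (V × ↥(Fx ρ)) →ₗ[K] V × V :=
    LinearMap.prod ((ρ w0 - 1) ∘ₗ LinearMap.fst K V ↥(Fx ρ) -
        (djl ρ ((α w0 : Equiv.Perm (Fin 6)) 5)) ∘ₗ LinearMap.snd K V ↥(Fx ρ))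
      ((ρ yy - 1) ∘ₗ LinearMap.fst K V ↥(Fx ρ) -
        (djl ρ ((α yy : Equiv.Perm (Fin 6)) 5)) ∘ₗ LinearMap.snd K V ↥(Fx ρ))
  have hΨ : ∀ (w : V) (v : ↥(Fx ρ)), (w, v) ∈ LinearMap.ker Ψ ↔ ρ w0 w - w = dl α ρ v w0 ∧ ρ yy w - w = dl α ρ v yy := by
    intro w v
    rw [LinearMap.mem_ker]
    change ((ρ w0 w - w) - dl α ρ v w0, (ρ yy w - w) - dl α ρ v yy) = 0 ↔ _
    rw [Prod.mk_eq_zero, sub_eq_zero, sub_eq_zero]
  -- all the elements of the kernel
  have hall : ∀ (w : V) (v : ↥(Fx ρ)), (w, v) ∈ LinearMap.ker Ψ → ∀ g, ρ g w = w + dl α ρ v g := by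
    intro w v hwv g
    obtain ⟨q1, q2⟩ := (hΨ w v).1 hwv
    refine Scott.fix_all (P := fun g => ρ g w = w + dl α ρ v g) gen_xy ?_ ?_ ?_ ?_ ?_ g
    · rw [← q1]; abel
    · rw [← q2]; abel
    · rw [rone, dl_one, add_zero]
    · intro a b ha hb
      rw [rmul, hb, map_add, ha, dl_mul h0 hy hi v.2]
      abel
    · intro a ha
      have e1 : ρ a⁻¹ (ρ a w) = w := rinv ρ a w
      have e2 := dl_mul h0 hy hi v.2 a⁻¹ a
      rw [inv_mul_cancel, dl_one, zero_sub] at e2
      rw [ha, map_add, e2] at e1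
      rw [← sub_eq_add_neg, sub_eq_iff_eq_add] at e1
      exact e1
  have hsurj : LinearMap.range (LinearMap.snd K V ↥(Fx ρ) ∘ₗ (LinearMap.ker Ψ).subtype) = ⊤ := by
    rw [eq_top_iff]
    rintro v -
    have r1 := dl_range h0 hy hi v.2 w0 n2 (by decide +kernel)
    have r2 := dl_range h0 hy hi v.2 yy n4 (by decide +kernel)
    have r3 := dl_range h0 hy hi v.2 (w0 * yy) n5 (by decide +kernel)
    obtain ⟨w, q1, q2⟩ := scott_eq ρ gen_xy hi hi' he r1 r2 (by
      rw [dl_mul h0 hy hi v.2]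
      convert r3 using 1
      abel)
    exact ⟨⟨(w, v), (hΨ w v).2 ⟨q1, q2⟩⟩, rfl⟩
  have d1 : finrank K ↥(Fx ρ) ≤ finrank K ↥(LinearMap.ker Ψ) := by
    have := LinearMap.finrank_range_le (LinearMap.snd K V ↥(Fx ρ) ∘ₗ (LinearMap.ker Ψ).subtype)
    rwa [hsurj, finrank_top] at this
  let f : ↥(LinearMap.ker Ψ) →ₗ[K] V := LinearMap.fst K V ↥(Fx ρ) ∘ₗ (LinearMap.ker Ψ).subtype
  have hf : ∀ u, f u ∈ Fx (MonoidHom.comp ρ α : Representation K A6 V) := by
    rintro ⟨⟨w, v⟩, hwv⟩ g hg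
    change ρ (α g) w = w
    rw [hall w v hwv, dl, hα, hg, dj_five, add_zero]
  let f' : ↥(LinearMap.ker Ψ) →ₗ[K] ↥(Fx (MonoidHom.comp ρ α : Representation K A6 V)) := f.codRestrict _ hf
  have hinj : Function.Injective f' := by
    rw [← LinearMap.ker_eq_bot, eq_bot_iff]
    rintro ⟨⟨w, v⟩, hwv⟩ hu
    have hw : w = 0 := congrArg Subtype.val (LinearMap.mem_ker.1 hu)
    have hz : ∀ j, dj ρ v j = 0 := by
      intro j
      have h5 := hall w v hwv (α (tr j))
      rw [hw, map_zero, zero_add, dl, hα, tr_five] at h5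
      exact h5.symm
    have hv0 : (v : V) = 0 := eq_zero_of_dj hi v.2 hz
    refine (Submodule.mem_bot K).2 (Subtype.ext (Prod.ext hw (Subtype.ext hv0)))
  exact d1.trans (LinearMap.finrank_le_finrank_of_injective hinj)

end

end Cfsg.Agent.H505.E6Three
end

-- part: H505/E6Three/Main
section
/-!
# S5927, `six_three` (K7): `A₆` on a 27-dimensional module in characteristic 3, `f₂ = 15`, `f₄ = 7`, `f₅ = 5`
-/

set_option autoImplicit false

namespace Cfsg.Agent.H505.E6Three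

open Module Cfsg.Agent.H952.F4 Equiv

/-! ### The natural `A₅` -/

/-- The embedding `A₅ → A₆`. -/
noncomputable def io : ↥(alternatingGroup (Fin 5)) →* A6 :=
  ((Perm.extendDomainHom (finSuccAboveEquiv (5 : Fin 6))).comp (alternatingGroup (Fin 5)).subtype).codRestrict
    (alternatingGroup (Fin 6)) fun g => by
      rw [Perm.mem_alternatingGroup]
      exact (Perm.sign_extendDomain _ _).trans (Perm.mem_alternatingGroup.1 g.2)

theorem ct_io (g : ↥(alternatingGroup (Fin 5))) :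
    ((io g : A6) : Perm (Fin 6)).cycleType = (g : Perm (Fin 5)).cycleType := Perm.cycleType_extendDomain _

theorem io_five (g : ↥(alternatingGroup (Fin 5))) : ((io g : A6) : Perm (Fin 6)) 5 = 5 :=
  Perm.extendDomain_apply_not_subtype _ _ (by simp)

theorem exists_io (g : A6) (hg : (g : Perm (Fin 6)) 5 = 5) : ∃ g', io g' = g := by
  have hp : ∀ x : Fin 6, (g : Perm (Fin 6)) x ≠ 5 ↔ x ≠ 5 := by
    intro x
    rw [not_iff_not]
    constructor
    · intro h
      exact (g : Perm (Fin 6)).injective (h.trans hg.symm)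
    · rintro rfl
      exact hg
  set f : Fin 5 ≃ {x : Fin 6 // x ≠ 5} := (finSuccAboveEquiv (5 : Fin 6)) with hf
  set e : Perm (Fin 5) := (f.trans ((g : Perm (Fin 6)).subtypePerm hp)).trans f.symm with he
  have h1 : e.extendDomain f = g := by
    ext x
    by_cases hx : x ≠ 5
    · rw [Perm.extendDomain_apply_subtype e f hx, he]
      simp
    · push Not at hx
      subst hx
      rw [Perm.extendDomain_apply_not_subtype e f (by simp), hg]
  refine ⟨⟨e, ?_⟩, Subtype.ext h1⟩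
  rw [Perm.mem_alternatingGroup, ← Perm.sign_extendDomain e f, h1]
  exact Perm.mem_alternatingGroup.1 g.2

section
variable {K V : Type*} [Field K] [AddCommGroup V] [Module K V]

theorem inv_io (ρ : Representation K A6 V) : Representation.invariants (MonoidHom.comp ρ io) = Fx ρ := by
  ext v
  rw [Representation.mem_invariants, mem_Fx]
  constructor
  · intro h g hg
    obtain ⟨g', rfl⟩ := exists_io g hg
    exact h g'
  · intro h g
    exact h _ (io_five g)

variable [FiniteDimensional K V]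

theorem ev_conj (ρ : Representation K A6 V) (k g : A6) : ev (ρ (k * g * k⁻¹)) 1 = ev (ρ g) 1 := by
  have h1 : ∀ (a b : A6), es (ρ (a * b * a⁻¹)) 1 = (es (ρ b) 1).map (ρ a) := by
    intro a b
    ext v
    simp only [es, Submodule.mem_map, Module.End.mem_eigenspace_iff, one_smul]
    constructor
    · intro h
      refine ⟨ρ a⁻¹ v, ?_, ?_⟩
      · have := congrArg (ρ a⁻¹) h
        rw [rmul, rmul, rinv] at this
        exact this
      · rw [← rmul, mul_inv_cancel, rone]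
    · rintro ⟨w, hw, rfl⟩
      rw [rmul, rmul, rinv, hw]
  have h2 : ∀ (a b : A6), ev (ρ (a * b * a⁻¹)) 1 ≤ ev (ρ b) 1 := by
    intro a b
    change finrank K ↥(es (ρ (a * b * a⁻¹)) 1) ≤ finrank K ↥(es (ρ b) 1)
    rw [h1]
    exact Submodule.finrank_map_le _ _
  apply le_antisymm (h2 k g)
  have h3 := h2 k⁻¹ (k * g * k⁻¹)
  rwa [show k⁻¹ * (k * g * k⁻¹) * k⁻¹⁻¹ = g by group] at h3

/-- characteristic 3, free action of a group of order 3 -/
theorem exists_norm [CharP K 3] (T : Module.End K V) (hT : T ^ 3 = 1) (hd : finrank K V = 3 * ev T 1) {v : V}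
    (hv : T v = v) : ∃ v', v = v' + T v' + T (T v') := by
  have h3 := three_eq K
  set N : Module.End K V := T - 1 with hN
  have e1 : ∀ x, (N ^ 2) x = x + T x + T (T x) := by
    intro x
    rw [pow_two, hN]
    change T (T x - x) - (T x - x) = _
    rw [map_sub]
    have : (3 : K) • T x = 0 := by rw [h3, zero_smul]
    have e : (3 : K) • T x = T x + T x + T x := by
      rw [show (3 : K) = 1 + 1 + 1 by norm_num, add_smul, add_smul, one_smul]
    rw [e] at this
    calc T (T x) - T x - (T x - x) = (x + T x + T (T x)) - (T x + T x + T x) := by abel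
      _ = _ := by rw [this, sub_zero]
  have hle : LinearMap.range (N ^ 2) ≤ LinearMap.ker N := by
    rintro _ ⟨x, rfl⟩
    rw [LinearMap.mem_ker, e1, hN]
    change T (x + T x + T (T x)) - (x + T x + T (T x)) = 0
    have h4 : T (T (T x)) = x := by
      have := LinearMap.congr_fun hT x
      rw [pow_succ, pow_two] at this
      exact this
    rw [map_add, map_add, h4]
    abel
  have h5 := LinearMap.finrank_range_add_finrank_ker (N ^ 2)
  have h6 := Cfsg.Agent.H546.F4Eig.finrank_ker_pow_le N 2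
  have h7 : finrank K ↥(LinearMap.ker N) = ev T 1 := by
    rw [ev, Module.End.eigenspace_def, one_smul]
  have heq : LinearMap.range (N ^ 2) = LinearMap.ker N := by
    apply Submodule.eq_of_le_of_finrank_le hle
    rw [h7] at h6 ⊢
    omega
  have hmem : v ∈ LinearMap.ker N := by
    rw [LinearMap.mem_ker, hN]
    change T v - v = 0
    rw [hv, sub_self]
  rw [← heq] at hmem
  obtain ⟨v', hv'⟩ := hmem
  exact ⟨v', by rw [← hv', e1]⟩

end

end Cfsg.Agent.H505.E6Three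
end

-- part: H505/E6Three/KSeven
section
/-!
# S5927, `six_three` (K7): the contradiction
-/

set_option autoImplicit false

namespace Cfsg.Agent.H505.E6Three

open Module Cfsg.Agent.H952.F4 Equiv

/-- the situation K7: `f₂ = 15`, `f₄ = 7` (trace `-1`), `f₅ = 5`, no fixed vectors -/
structure Hyp {K V V' : Type*} [Field K] [AddCommGroup V] [Module K V] [AddCommGroup V'] [Module K V']
    (ρ : Representation K A6 V) (ρ' : Representation K A6 V') (B : V →ₗ[K] V' →ₗ[K] K) : Prop where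
  inv : ∀ g v w, B (ρ g v) (ρ' g w) = B v w
  nd1 : ∀ v, (∀ w, B v w = 0) → v = 0
  nd2 : ∀ w, (∀ v, B v w = 0) → w = 0
  dim : finrank K V = 27
  fix : ρ.invariants = ⊥
  fix' : ρ'.invariants = ⊥
  two : ∀ g : A6, g ≠ 1 → g * g = 1 → ev (ρ g) 1 = 15
  four : ∀ g : A6, g * g ≠ 1 → g ^ 4 = 1 → ev (ρ g) 1 = 7
  tr : ∀ g : A6, g * g ≠ 1 → g ^ 4 = 1 → LinearMap.trace K V (ρ g) = -1
  five : ∀ g : A6, g ≠ 1 → g ^ 5 = 1 → ev (ρ g) 1 = 5

section
variable {K V V' : Type*} [Field K] [AddCommGroup V] [Module K V] [AddCommGroup V'] [Module K V']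
  [FiniteDimensional K V] [FiniteDimensional K V'] {ρ : Representation K A6 V} {ρ' : Representation K A6 V'}
  {B : V →ₗ[K] V' →ₗ[K] K}

theorem finrank_dual_eq (h1 : ∀ v, (∀ w, B v w = 0) → v = 0) (h2 : ∀ w, (∀ v, B v w = 0) → w = 0) :
    finrank K V' = finrank K V := by
  have hinj : Function.Injective B.flip := by
    rw [← LinearMap.ker_eq_bot, eq_bot_iff]
    intro w hw
    refine (Submodule.mem_bot K).2 (h2 w fun v => ?_)
    exact LinearMap.congr_fun (LinearMap.mem_ker.1 hw) v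
  have hinj1 : Function.Injective B := by
    rw [← LinearMap.ker_eq_bot, eq_bot_iff]
    intro v hv
    refine (Submodule.mem_bot K).2 (h1 v fun w => ?_)
    exact LinearMap.congr_fun (LinearMap.mem_ker.1 hv) w
  have e1 : finrank K V ≤ finrank K V' := by
    have := LinearMap.finrank_le_finrank_of_injective (f := B) hinj1
    rwa [Subspace.dual_finrank_eq] at this
  have e2 : finrank K V' ≤ finrank K V := by
    have := LinearMap.finrank_le_finrank_of_injective (f := B.flip) hinj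
    rwa [Subspace.dual_finrank_eq] at this
  omega

theorem ev_dual_le (hB : ∀ g v w, B (ρ g v) (ρ' g w) = B v w) (h1 : ∀ v, (∀ w, B v w = 0) → v = 0)
    (h2 : ∀ w, (∀ v, B v w = 0) → w = 0) (g : A6) : ev (ρ' g) 1 ≤ ev (ρ g) 1 := by
  -- the fixed space of `ρ' g` annihilates the range of `ρ g - 1`
  have hinj : Function.Injective B.flip := by
    rw [← LinearMap.ker_eq_bot, eq_bot_iff]
    intro w hw
    refine (Submodule.mem_bot K).2 (h2 w fun v => ?_)
    exact LinearMap.congr_fun (LinearMap.mem_ker.1 hw) v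
  let R : Submodule K V := LinearMap.range (ρ g - 1 : Module.End K V)
  have hle : (es (ρ' g) 1).map (B.flip : V' →ₗ[K] Module.Dual K V) ≤ R.dualAnnihilator := by
    rintro _ ⟨w, hw, rfl⟩
    rw [Submodule.mem_dualAnnihilator]
    rintro _ ⟨v, rfl⟩
    change B (ρ g v - v) w = 0
    have hw' : ρ' g w = w := by
      have := Module.End.mem_eigenspace_iff.1 hw
      rwa [one_smul] at this
    rw [map_sub, LinearMap.sub_apply]
    conv_lhs => enter [1]; rw [← hw']
    rw [hB, sub_self]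
  have e1 := Submodule.finrank_mono hle
  have e2 : finrank K ↥R + finrank K ↥R.dualAnnihilator = finrank K V :=
    Subspace.finrank_add_finrank_dualAnnihilator_eq R
  have e3 : finrank K ↥R + ev (ρ g) 1 = finrank K V := Scott.rank_add_ev (ρ g)
  have e4 : finrank K ↥((es (ρ' g) 1).map (B.flip : V' →ₗ[K] Module.Dual K V)) = ev (ρ' g) 1 := by
    exact LinearEquiv.finrank_eq (Submodule.equivMapOfInjective _ hinj _).symm
  have e5 : finrank K ↥R.dualAnnihilator = ev (ρ g) 1 := by omega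
  exact e4.symm.le.trans (e1.trans e5.le)

theorem ev_dual (hB : ∀ g v w, B (ρ g v) (ρ' g w) = B v w) (h1 : ∀ v, (∀ w, B v w = 0) → v = 0)
    (h2 : ∀ w, (∀ v, B v w = 0) → w = 0) (g : A6) : ev (ρ' g) 1 = ev (ρ g) 1 :=
  le_antisymm (ev_dual_le hB h1 h2 g)
    (ev_dual_le (ρ := ρ') (ρ' := ρ) (B := B.flip) (fun g w v => hB g v w) h2 h1 g)

variable {α : A6 →* A6}

theorem Hyp.twist (H : Hyp ρ ρ' B) (hα : ∀ g, α (α g) = g) :
    Hyp (MonoidHom.comp ρ α : Representation K A6 V) (MonoidHom.comp ρ' α : Representation K A6 V') B where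
  inv g v w := H.inv (α g) v w
  nd1 := H.nd1
  nd2 := H.nd2
  dim := H.dim
  fix := by
    rw [← H.fix]
    ext v
    rw [Representation.mem_invariants, Representation.mem_invariants]
    constructor
    · intro h g
      have := h (α g)
      change ρ (α (α g)) v = v at this
      rwa [hα] at this
    · intro h g
      exact h (α g)
  fix' := by
    rw [← H.fix']
    ext v
    rw [Representation.mem_invariants, Representation.mem_invariants]
    constructor
    · intro h g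
      have := h (α g)
      change ρ' (α (α g)) v = v at this
      rwa [hα] at this
    · intro h g
      exact h (α g)
  two g h1 h2 := by
    refine H.two (α g) ?_ (by rw [← map_mul, h2, map_one])
    intro h3
    apply h1
    rw [← hα g, h3, map_one]
  four g h1 h2 := by
    refine H.four (α g) ?_ (by rw [← map_pow, h2, map_one])
    intro h3
    apply h1
    rw [← hα (g * g), map_mul, h3, map_one]
  tr g h1 h2 := by
    refine H.tr (α g) ?_ (by rw [← map_pow, h2, map_one])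
    intro h3
    apply h1
    rw [← hα (g * g), map_mul, h3, map_one]
  five g h1 h2 := by
    refine H.five (α g) ?_ (by rw [← map_pow, h2, map_one])
    intro h3
    apply h1
    rw [← hα g, h3, map_one]

theorem Fx_twist (ρ : Representation K A6 V) (hα : ∀ g, α (α g) = g) :
    Fx (MonoidHom.comp (MonoidHom.comp ρ α) α : Representation K A6 V) = Fx ρ := by
  have : (MonoidHom.comp (MonoidHom.comp ρ α) α : Representation K A6 V) = ρ :=
    MonoidHom.ext fun g => congrArg ρ (hα g)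
  rw [this]

theorem pow_of_ct {n : ℕ} {k : ℕ} (g : ↥(alternatingGroup (Fin n))) (h : (g : Perm (Fin n)).cycleType = {k}) :
    g ^ k = 1 := by
  apply Subtype.ext
  have h1 := Perm.lcm_cycleType (g : Perm (Fin n))
  rw [h] at h1
  have h2 : k = orderOf (g : Perm (Fin n)) := by rw [← h1]; simp
  change (g : Perm (Fin n)) ^ k = 1
  rw [h2]
  exact pow_orderOf_eq_one _

theorem ne_of_ct {n : ℕ} {m : Multiset ℕ} (hm : m ≠ 0) (g : ↥(alternatingGroup (Fin n)))
    (h : (g : Perm (Fin n)).cycleType = m) : g ≠ 1 := by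
  rintro rfl
  apply hm
  rw [← h]
  exact Perm.cycleType_one

/-- Scott's lemma for `A₅` -/
theorem Hyp.scott5 (H : Hyp ρ ρ' B) :
    15 + ev (ρ d3) 1 + 5 ≤ 27 + finrank K ↥(Fx ρ) + finrank K ↥(Fx ρ') := by
  obtain ⟨x, y, hg, hx, hy, hxy⟩ := Gen.gen5
  have h1 := Scott.scott (MonoidHom.comp ρ io : Representation K _ V) hg
  have h2 := dual_inv_le (MonoidHom.comp ρ io : Representation K _ V) (MonoidHom.comp ρ' io : Representation K _ V') B
    (fun g v w => H.inv (io g) v w) H.nd1 H.nd2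
  rw [inv_io ρ] at h1
  rw [inv_io ρ'] at h2
  have e1 : ev (ρ (io x)) 1 = 15 := by
    refine H.two _ (ne_of_ct (m := {2, 2}) (by decide) _ (by rw [ct_io, hx])) ?_
    have h3 := Perm.lcm_cycleType (io x : Perm (Fin 6))
    rw [ct_io, hx] at h3
    apply Subtype.ext
    change (io x : Perm (Fin 6)) * (io x : Perm (Fin 6)) = 1
    rw [← pow_two, ← orderOf_dvd_iff_pow_eq_one, ← h3]
    decide
  have e2 : ev (ρ (io (x * y))) 1 = 5 :=
    H.five _ (ne_of_ct (m := {5}) (by decide) _ (by rw [ct_io, hxy])) (pow_of_ct _ (by rw [ct_io, hxy]))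
  have e3 : ev (ρ (io y)) 1 = ev (ρ d3) 1 := by
    have hc1 : ((io y : A6) : Perm (Fin 6)).IsThreeCycle := by
      rw [Perm.IsThreeCycle, ct_io, hy]
    have hc2 : (d3 : Perm (Fin 6)).IsThreeCycle := by
      change (swap 1 2 * swap 2 3 : Perm (Fin 6)).IsThreeCycle
      rw [swap_comm 1 2]
      exact Perm.isThreeCycle_swap_mul_swap_same (by decide) (by decide) (by decide)
    obtain ⟨k, hk⟩ := isConj_iff.1 (alternatingGroup.isThreeCycle_isConj (by simp) hc2 hc1)
    rw [← hk, ev_conj]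
  change ev (ρ (io x)) 1 + ev (ρ (io y)) 1 + ev (ρ (io (x * y))) 1 ≤ _ at h1
  rw [e1, e2, e3, H.dim] at h1
  omega

end

end Cfsg.Agent.H505.E6Three
end

-- part: H505/E6Three/Final
section
/-!
# S5927, `six_three` (K7): the contradiction, final part
-/

set_option autoImplicit false

namespace Cfsg.Agent.H505.E6Three

open Module Cfsg.Agent.H952.F4 Equiv

section
variable {K V V' : Type*} [Field K] [CharP K 3] [AddCommGroup V] [Module K V] [AddCommGroup V'] [Module K V']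
  [FiniteDimensional K V] [FiniteDimensional K V'] {ρ : Representation K A6 V} {ρ' : Representation K A6 V'}
  {B : V →ₗ[K] V' →ₗ[K] K}

omit [CharP K 3] [FiniteDimensional K V] [FiniteDimensional K V'] in
theorem adj (hB : ∀ g v w, B (ρ g v) (ρ' g w) = B v w) (g : A6) (v : V) (w : V') : B (ρ g v) w = B v (ρ' g⁻¹ w) := by
  rw [← hB g v (ρ' g⁻¹ w), ← rmul, mul_inv_cancel, rone]

omit [CharP K 3] [FiniteDimensional K V] [FiniteDimensional K V'] in
theorem adj' (hB : ∀ g v w, B (ρ g v) (ρ' g w) = B v w) (g : A6) (v : V) (w : V') : B v (ρ' g w) = B (ρ g⁻¹ v) w := by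
  rw [adj hB, inv_inv]

/-- vectors fixed by `A₅` are norms -/
theorem norm_of_Fx (hd : finrank K V = 27) (h9 : ev (ρ d3) 1 = 9) {v : V} (hv : v ∈ Fx ρ) :
    ∃ v', v = v' + ρ d3 v' + ρ (d3 * d3) v' := by
  have h1 : (ρ d3 : Module.End K V) ^ 3 = 1 := by
    rw [← map_pow, show d3 ^ 3 = 1 by decide +kernel, map_one]
  obtain ⟨v', hv'⟩ := exists_norm (ρ d3) h1 (by rw [hd, h9]) (hv d3 (by decide))
  exact ⟨v', by rw [rmul]; exact hv'⟩

/-- (o1) -/
theorem orth_one (hB : ∀ g v w, B (ρ g v) (ρ' g w) = B v w) (hd : finrank K V = 27) (h9 : ev (ρ d3) 1 = 9) {v : V}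
    (hv : v ∈ Fx ρ) {w : V'} (hw : w ∈ Fx ρ') : B v w = 0 := by
  have h3 := three_eq K
  obtain ⟨v', rfl⟩ := norm_of_Fx hd h9 hv
  rw [map_add, map_add, LinearMap.add_apply, LinearMap.add_apply, adj hB, adj hB, hw _ (by decide +kernel),
    hw _ (by decide +kernel)]
  linear_combination B v' w * h3

variable {α : A6 →* A6}

/-- (o2) -/
theorem orth_two (h0 : α w0 = w0) (h1 : α w1 = w1') (hd3 : α d3 = d3') (hα : ∀ g, α (α g) = g)
    (hB : ∀ g v w, B (ρ g v) (ρ' g w) = B v w) (hd : finrank K V = 27) (h9 : ev (ρ d3) 1 = 9)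
    (hi : Representation.invariants (MonoidHom.comp ρ' α : Representation K A6 V') = ⊥) {v : V}
    (hv : v ∈ Fx ρ) {w : V'} (hw : w ∈ Fx (MonoidHom.comp ρ' α : Representation K A6 V')) : B v w = 0 := by
  have h3 := three_eq K
  -- the sum over `V₄`
  have e1 : ∀ g : A6, (g : Perm (Fin 6)) 5 = 5 → B v (ρ' g w) = B v w := by
    intro g hg
    rw [adj' hB, hv]
    change (g : Perm (Fin 6))⁻¹ 5 = 5
    rw [Perm.inv_eq_iff_eq, hg]
  have e2 : B v (w + ρ' w0 w + ρ' w1 w + ρ' (w0 * w1) w) = B v w := by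
    rw [map_add, map_add, map_add, e1 _ (by decide +kernel), e1 _ (by decide +kernel), e1 _ (by decide +kernel)]
    linear_combination B v w * h3
  obtain ⟨v', hv'⟩ := norm_of_Fx hd h9 hv
  have e4 : ∀ y, B v y = B v' (y + ρ' d3⁻¹ y + ρ' (d3 * d3)⁻¹ y) := by
    intro y
    conv_lhs => rw [hv']
    rw [map_add, map_add, LinearMap.add_apply, LinearMap.add_apply, adj hB, adj hB, map_add, map_add]
  rw [← e2, e4]
  -- the six conjugates
  set c : Fin 6 → V' := cv (MonoidHom.comp ρ' α : Representation K A6 V') w with hc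
  have hs : ∑ j, c j = 0 := cv_sum hi hw
  have ha : ∀ g : A6, ρ' g w = c ((α g : Perm (Fin 6)) 5) := by
    intro g
    have := cv_act hw (α g) 5
    rw [cv_five] at this
    change ρ' (α (α g)) w = _ at this
    rwa [hα] at this
  have hw5 : w = c 5 := (cv_five _ w).symm
  have a0 : ρ' w0 w = c 5 := by
    rw [ha, h0]; congr 1
  have a1 : ρ' w1 w = c 4 := by
    rw [ha, h1]; congr 1
  have a2 : ρ' (w0 * w1) w = c 4 := by
    rw [ha, map_mul, h0, h1]; congr 1
  have hcg : ∀ (g : A6) (j : Fin 6), ρ' g (c j) = c ((α g : Perm (Fin 6)) j) := by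
    intro g j
    have := cv_act hw (α g) j
    change ρ' (α (α g)) _ = _ at this
    rwa [hα] at this
  have b1 : (α d3⁻¹ : Perm (Fin 6)) 5 = 1 := by rw [map_inv, hd3]; decide +kernel
  have b2 : (α d3⁻¹ : Perm (Fin 6)) 4 = 0 := by rw [map_inv, hd3]; decide +kernel
  have b3 : (α (d3 * d3)⁻¹ : Perm (Fin 6)) 5 = 2 := by rw [map_inv, map_mul, hd3]; decide +kernel
  have b4 : (α (d3 * d3)⁻¹ : Perm (Fin 6)) 4 = 3 := by rw [map_inv, map_mul, hd3]; decide +kernel
  have e3 : w + ρ' w0 w + ρ' w1 w + ρ' (w0 * w1) w + ρ' d3⁻¹ (w + ρ' w0 w + ρ' w1 w + ρ' (w0 * w1) w) +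
      ρ' (d3 * d3)⁻¹ (w + ρ' w0 w + ρ' w1 w + ρ' (w0 * w1) w) = ∑ j, c j + ∑ j, c j := by
    rw [a0, a1, a2, hw5]
    simp only [map_add, hcg, b1, b2, b3, b4, Fin.sum_univ_six]
    abel
  rw [e3, hs, add_zero, map_zero]

/-- two conditions -/
theorem fixed_of_both (hy : α w1 = w1') {v : V} (h1 : v ∈ Fx ρ)
    (h2 : v ∈ Fx (MonoidHom.comp ρ α : Representation K A6 V)) (hi : ρ.invariants = ⊥) : v = 0 := by
  have h4 : ρ w1' v = v := by
    have := h2 w1 (by decide)
    change ρ (α w1) v = v at this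
    rwa [hy] at this
  have e5 : ∀ j, cv ρ v j = v := by
    intro j
    by_cases hj : j = 5
    · rw [hj, cv_five]
    · -- an element fixing 5 and mapping 4 to j
      have key : ∀ j : Fin 6, j ≠ 5 → ∃ k : Fin 5 × Fin 2, ((zz ^ (k.1 : ℕ) : A6) : Perm (Fin 6)) 4 = j := by
        decide +kernel
      obtain ⟨k, hk⟩ := key j hj
      have e1 : cv ρ v 4 = v := by
        have h45 : (w1' : Perm (Fin 6)) 5 = 4 := by decide
        have := cv_act h1 w1' 5
        rw [cv_five, h45, h4] at this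
        exact this.symm
      have e2 := cv_act h1 (zz ^ (k.1 : ℕ)) 4
      rw [hk, e1] at e2
      rw [← e2]
      apply h1
      have : ∀ i : Fin 5, ((zz ^ (i : ℕ) : A6) : Perm (Fin 6)) 5 = 5 := by decide +kernel
      exact this _
  rw [← Submodule.mem_bot K, ← hi, Representation.mem_invariants]
  intro g
  have h6 := cv_act h1 g 5
  rw [e5, e5] at h6
  exact h6

/-- `P` for the twisted representation -/
theorem P_twist (hz : α zz = zz) (h0 : α w0 = w0) (ρ : Representation K A6 V) :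
    P (MonoidHom.comp ρ α : Representation K A6 V) = P ρ := by
  have hD : ∀ (i : Fin 5) (b : Bool), α (D i b) = D i b := by
    intro i b
    cases b
    · change α (zz ^ (i : ℕ) * 1) = zz ^ (i : ℕ) * 1
      rw [mul_one, map_pow, hz]
    · change α (zz ^ (i : ℕ) * w0) = zz ^ (i : ℕ) * w0
      rw [map_mul, map_pow, hz, h0]
  refine Finset.sum_congr rfl fun i _ => Finset.sum_congr rfl fun b _ => ?_
  exact congrArg ρ (hD i b)

theorem sup_le_U (hz : α zz = zz) (h0 : α w0 = w0) (ρ : Representation K A6 V) :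
    Fx ρ ⊔ Fx (MonoidHom.comp ρ α : Representation K A6 V) ≤ U ρ := by
  refine sup_le ?_ ?_
  · intro v hv
    exact mem_U.2 ⟨hv _ (by decide +kernel), hv _ (by decide +kernel)⟩
  · intro v hv
    have h1 := hv zz (by decide +kernel)
    have h2 := hv w0 (by decide +kernel)
    change ρ (α zz) v = v at h1
    change ρ (α w0) v = v at h2
    rw [hz] at h1
    rw [h0] at h2
    exact mem_U.2 ⟨h1, h2⟩

theorem P_sup (hz : α zz = zz) (h0 : α w0 = w0) (hα : ∀ g, α (α g) = g) {ρ : Representation K A6 V}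
    (hi : ρ.invariants = ⊥) (hi2 : Representation.invariants (MonoidHom.comp ρ α : Representation K A6 V) = ⊥)
    (g : A6) : ∀ u ∈ Fx ρ ⊔ Fx (MonoidHom.comp ρ α : Representation K A6 V), P ρ (ρ g u) = u := by
  intro u hu
  obtain ⟨a, ha, b, hb, rfl⟩ := Submodule.mem_sup.1 hu
  have h1 := P_rho hi ha g
  have h2 := P_rho hi2 hb (α g)
  rw [P_twist hz h0] at h2
  change P ρ (ρ (α (α g)) b) = b at h2
  rw [hα] at h2
  rw [map_add, map_add, h1, h2]

theorem finrank_sup (h1 : α w1 = w1') {ρ : Representation K A6 V} (hi : ρ.invariants = ⊥) :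
    finrank K ↥(Fx ρ ⊔ Fx (MonoidHom.comp ρ α : Representation K A6 V)) =
      finrank K ↥(Fx ρ) + finrank K ↥(Fx (MonoidHom.comp ρ α : Representation K A6 V)) := by
  have h2 := Submodule.finrank_sup_add_finrank_inf_eq (Fx ρ) (Fx (MonoidHom.comp ρ α : Representation K A6 V))
  have h3 : Fx ρ ⊓ Fx (MonoidHom.comp ρ α : Representation K A6 V) = ⊥ := by
    rw [eq_bot_iff]
    intro v hv
    exact (Submodule.mem_bot K).2 (fixed_of_both h1 hv.1 hv.2 hi)
  rw [h3, finrank_bot] at h2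
  exact h2

/-- the transfer for a module without fixed vectors -/
theorem transfer' (h0 : α w0 = w0) (hy : α yy = yy') (hα : ∀ g, α (α g) = g)
    (hB : ∀ g v w, B (ρ g v) (ρ' g w) = B v w) (n1 : ∀ v, (∀ w, B v w = 0) → v = 0)
    (n2 : ∀ w, (∀ v, B v w = 0) → w = 0) (hd : finrank K V = 27) (hi : ρ.invariants = ⊥) (hi' : ρ'.invariants = ⊥)
    (two : ev (ρ w0) 1 = 15) (four : ev (ρ yy) 1 = 7) (five : ev (ρ (w0 * yy)) 1 = 5) :
    finrank K ↥(Fx ρ) ≤ finrank K ↥(Fx (MonoidHom.comp ρ α : Representation K A6 V)) := by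
  refine transfer h0 hy hα ρ hi ?_ (by rw [two, four, five, hd])
  have h1 := dual_inv_le ρ ρ' B hB n1 n2
  rw [hi', finrank_bot, Nat.le_zero, Submodule.finrank_eq_zero] at h1
  exact h1

/-- **K7** -/
theorem Hyp.false (H : Hyp ρ ρ' B) : False := by
  obtain ⟨α, hα, hz, h0, h1, hd3, hy⟩ := exists_alpha
  have h3 := three_eq K
  have H2 := H.twist hα
  -- elements
  have q2 : w0 ≠ 1 ∧ w0 * w0 = 1 := by constructor <;> decide +kernel
  have q4 : yy * yy ≠ 1 ∧ yy ^ 4 = 1 := by constructor <;> decide +kernel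
  have q5 : w0 * yy ≠ 1 ∧ (w0 * yy) ^ 5 = 1 := by constructor <;> decide +kernel
  have q5' : zz ≠ 1 ∧ zz ^ 5 = 1 := by constructor <;> decide +kernel
  have hd' : finrank K V' = 27 := by rw [finrank_dual_eq H.nd1 H.nd2, H.dim]
  have hB' : ∀ (g : A6) (w : V') (v : V), B.flip (ρ' g w) (ρ g v) = B.flip w v := fun g w v => H.inv g v w
  -- the transfers
  have t1 : finrank K ↥(Fx ρ) ≤ finrank K ↥(Fx (MonoidHom.comp ρ α : Representation K A6 V)) :=
    transfer' h0 hy hα H.inv H.nd1 H.nd2 H.dim H.fix H.fix' (H.two _ q2.1 q2.2) (H.four _ q4.1 q4.2)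
      (H.five _ q5.1 q5.2)
  have t2 : finrank K ↥(Fx (MonoidHom.comp ρ α : Representation K A6 V)) ≤ finrank K ↥(Fx ρ) := by
    have := transfer' h0 hy hα H2.inv H2.nd1 H2.nd2 H2.dim H2.fix H2.fix' (H2.two _ q2.1 q2.2) (H2.four _ q4.1 q4.2)
      (H2.five _ q5.1 q5.2)
    rwa [Fx_twist ρ hα] at this
  have t1' : finrank K ↥(Fx ρ') ≤ finrank K ↥(Fx (MonoidHom.comp ρ' α : Representation K A6 V')) := by
    refine transfer' (ρ := ρ') (ρ' := ρ) (B := B.flip) h0 hy hα hB' H.nd2 H.nd1 hd' H.fix' H.fix ?_ ?_ ?_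
    · rw [ev_dual H.inv H.nd1 H.nd2]; exact H.two _ q2.1 q2.2
    · rw [ev_dual H.inv H.nd1 H.nd2]; exact H.four _ q4.1 q4.2
    · rw [ev_dual H.inv H.nd1 H.nd2]; exact H.five _ q5.1 q5.2
  have t2' : finrank K ↥(Fx (MonoidHom.comp ρ' α : Representation K A6 V')) ≤ finrank K ↥(Fx ρ') := by
    have := transfer' (ρ := (MonoidHom.comp ρ' α : Representation K A6 V'))
      (ρ' := (MonoidHom.comp ρ α : Representation K A6 V)) (B := B.flip) h0 hy hα (fun g w v => H2.inv g v w) H2.nd2 H2.nd1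
      hd' H2.fix' H2.fix (by rw [ev_dual H2.inv H2.nd1 H2.nd2]; exact H2.two _ q2.1 q2.2)
      (by rw [ev_dual H2.inv H2.nd1 H2.nd2]; exact H2.four _ q4.1 q4.2)
      (by rw [ev_dual H2.inv H2.nd1 H2.nd2]; exact H2.five _ q5.1 q5.2)
    rwa [Fx_twist ρ' hα] at this
  -- the dimension of `U`
  have hU : finrank K ↥(U ρ) = 4 := by
    have n2 : (2 : K) ≠ 0 := fun h2 => one_ne_zero (α := K) (by linear_combination h3 - h2)
    have n5 : ((5 : ℕ) : K) ≠ 0 := fun h2 => one_ne_zero (α := K) (by push_cast at h2; linear_combination 2 * h3 - h2)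
    have := Eig.dihedral n2 ρ (z := zz) (s := w0) (m := 5) (by decide) n5 q5'.2 q2.2 (by decide +kernel) (Or.inl rfl)
    rw [H.dim, H.two _ q2.1 q2.2, H.five _ q5'.1 q5'.2] at this
    change finrank K ↥(es (ρ zz) 1 ⊓ es (ρ w0) 1) = 4
    omega
  have s1 := finrank_sup h1 H.fix
  have s2 := finrank_sup (ρ := ρ') h1 H.fix'
  have z5 := H.five _ q5'.1 q5'.2
  by_cases c1 : 2 ≤ finrank K ↥(Fx ρ)
  · refine kill ρ ρ' B H.inv H.nd2 H.dim z5 H.tr hU (Fx ρ ⊔ Fx (MonoidHom.comp ρ α : Representation K A6 V)) ⊥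
      (sup_le_U hz h0 ρ) bot_le (P_sup hz h0 hα H.fix H2.fix cc) ?_ ?_ ?_
    · intro u hu
      rw [(Submodule.mem_bot K).1 hu, map_zero, map_zero]
    · intro u _ w hw
      rw [(Submodule.mem_bot K).1 hw, map_zero]
    · rw [finrank_bot, s1]; omega
  by_cases c2 : 2 ≤ finrank K ↥(Fx ρ')
  · refine kill ρ ρ' B H.inv H.nd2 H.dim z5 H.tr hU ⊥ (Fx ρ' ⊔ Fx (MonoidHom.comp ρ' α : Representation K A6 V'))
      bot_le (sup_le_U hz h0 ρ') ?_ (P_sup hz h0 hα H.fix' H2.fix' cc⁻¹) ?_ ?_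
    · intro u hu
      rw [(Submodule.mem_bot K).1 hu, map_zero, map_zero]
    · intro u hu w _
      rw [(Submodule.mem_bot K).1 hu, map_zero, LinearMap.zero_apply]
    · rw [finrank_bot, s2]; omega
  -- now all dimensions are one and the elements of order 3 act freely
  have f1 := H.scott5
  have f2 := H2.scott5
  have f3 : 27 ≤ 3 * ev (ρ d3) 1 := by
    have : Fact (Nat.Prime 3) := ⟨by norm_num⟩
    have := Eig.le_mul_ev 3 (T := (ρ d3 : Module.End K V)) (by
      rw [← map_pow, show d3 ^ 3 = 1 by decide +kernel, map_one])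
    rwa [H.dim] at this
  have f4 : 27 ≤ 3 * ev ((MonoidHom.comp ρ α : Representation K A6 V) d3) 1 := by
    have : Fact (Nat.Prime 3) := ⟨by norm_num⟩
    have := Eig.le_mul_ev 3 (T := ((MonoidHom.comp ρ α : Representation K A6 V) d3 : Module.End K V)) (by
      rw [← map_pow, show d3 ^ 3 = 1 by decide +kernel, map_one])
    rwa [H.dim] at this
  have e1 : ev (ρ d3) 1 = 9 := by omega
  have e2 : ev ((MonoidHom.comp ρ α : Representation K A6 V) d3) 1 = 9 := by omega
  refine kill ρ ρ' B H.inv H.nd2 H.dim z5 H.tr hU (Fx ρ ⊔ Fx (MonoidHom.comp ρ α : Representation K A6 V))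
    (Fx ρ' ⊔ Fx (MonoidHom.comp ρ' α : Representation K A6 V')) (sup_le_U hz h0 ρ) (sup_le_U hz h0 ρ')
    (P_sup hz h0 hα H.fix H2.fix cc) (P_sup hz h0 hα H.fix' H2.fix' cc⁻¹) ?_ (by rw [s1, s2]; omega)
  intro u hu w hw
  obtain ⟨a, ha, b, hb, rfl⟩ := Submodule.mem_sup.1 hu
  obtain ⟨a', ha', b', hb', rfl⟩ := Submodule.mem_sup.1 hw
  have o1 : B a a' = 0 := orth_one H.inv H.dim e1 ha ha'
  have o2 : B b b' = 0 := orth_one H2.inv H2.dim e2 hb hb'
  have o3 : B a b' = 0 := orth_two h0 h1 hd3 hα H.inv H.dim e1 H2.fix' ha hb'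
  have o4 : B b a' = 0 := by
    have e : (MonoidHom.comp (MonoidHom.comp ρ' α) α : Representation K A6 V') = ρ' :=
      MonoidHom.ext fun g => congrArg ρ' (hα g)
    refine orth_two (ρ' := (MonoidHom.comp ρ' α : Representation K A6 V')) h0 h1 hd3 hα H2.inv H2.dim e2 ?_ hb ?_
    · rw [e]; exact H.fix'
    · rw [e]; exact ha'
  simp only [map_add, LinearMap.add_apply, o1, o2, o3, o4, add_zero]

end

end Cfsg.Agent.H505.E6Three
end

-- part: H882/E6FiveW
section
/-!
# S5927, S5928: `A₅` in characteristic 3 and `≥ 7` (helper882)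

`E6Five.key` with `Sit`: a totally singular stable 3-dimensional subspace over `F`, or over the quadratic extension.
-/

set_option autoImplicit false

namespace Cfsg.Agent.H163.E6.Cases

open Cfsg Cfsg.Lie Module
open Cfsg.Agent.ChevalleyStructure.E6Min.Tables Cfsg.Agent.ChevalleyStructure.E6Min.Basic
  Cfsg.Agent.ChevalleyStructure.E6Min.Adjoint
open Cfsg.Agent.H952.F4 (ev es matRep sh cr tf MaxAlt)
open Cfsg.Agent.H882.E6Five (key inv_ext inv_ext' exists_root)

universe u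

variable {F : Type u} [Field F] [Finite F] {H : Subgroup ↥(chevE6.group F)}

omit [Finite F] in
/-- elements with the same image in the Chevalley group differ by a scalar matrix -/
theorem eq_smul_of_ad {g h : ↥(Zgrp F)} (hgh : ad F g = ad F h) : ∃ c : F,
    ((g : GL I27 F) : Matrix I27 I27 F) = c • ((h : GL I27 F) : Matrix I27 I27 F) := by
  have h1 : ad F (g * h⁻¹) = 1 := by rw [map_mul, map_inv, hgh, mul_inv_cancel]
  obtain ⟨c, -, hc⟩ := (Act.ad_eq_one_iff (g * h⁻¹)).1 h1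
  refine ⟨c, ?_⟩
  have h2 : (g : GL I27 F) = scal c * (h : GL I27 F) := by
    rw [← hc]
    push_cast
    group
  rw [h2, Units.val_mul, Act.coe_scal, smul_mul_assoc, one_mul]

/-- `A₅` in characteristic 3 and at least 7 -/
theorem five_odd (p : ℕ) [hpf : Fact p.Prime] [CharP F p] (hp : p = 3 ∨ 7 ≤ p)
    {φ : ↥(alternatingGroup (Fin 5)) →* ↥(chevE6.group F)} (hS : Sit H 5 φ) : False := by
  obtain ⟨ψ, hψ⟩ : ∃ ψ : ↥(alternatingGroup (Fin 5)) →* ↥(Zgrp F), Lift φ ψ := by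
    rcases Cov.exists_lift le_rfl hS.inj with h | ⟨h, -⟩
    · exact h
    · omega
  obtain ⟨h1, h2⟩ := hS.no_fixed ψ hψ
  have p2 : p ≠ 2 := by omega
  have two_ne : (2 : F) ≠ 0 := by
    intro h
    have h' : ((2 : ℕ) : F) = 0 := by exact_mod_cast h
    rw [CharP.cast_eq_zero_iff F p] at h'
    exact p2 ((Nat.prime_dvd_prime_iff_eq hpf.out Nat.prime_two).1 h')
  by_cases hr : ∃ t : F, t * t = t + 1
  · obtain ⟨t, ht⟩ := hr
    obtain ⟨W, hW3, hW, hst⟩ := key p hp (Tor.tab p) (fun g => by rw [Act.ev_dual g one_ne_zero, inv_one])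
      Act.sh_act Act.tf_act (fun g => (Act.ad_eq_one_iff g).1) ht ψ h1 h2
    refine hS.no_three (Or.inr two_ne) (V F) (Or.inl rfl) W ?_ hW3 hW
    rintro g ⟨a, ha⟩ w hw
    obtain ⟨c, hc⟩ := eq_smul_of_ad (g := g) (h := ψ a) (ha.symm.trans (hψ a).symm)
    rw [V_apply, hc, Matrix.smul_mulVec]
    exact W.smul_mem _ (hst a w hw)
  · rcases exists_root F p with h | ⟨E, _, _, _, f, hE, t, ht⟩
    · exact hr h
    · push Not at hr
      obtain ⟨W, hW3, hW, hst⟩ := key p hp (Tor.tab p) (fun g => by rw [Act.ev_dual g one_ne_zero, inv_one])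
        Act.sh_act Act.tf_act (fun g => (Act.ad_eq_one_iff g).1) ht ((H65.E6Emb.emb f).comp ψ)
        (inv_ext f _ (H65.E6Emb.V_emb f) ψ h1) (inv_ext' f _ (H65.E6Emb.V_emb f) ψ h2)
      refine hS.no_three_ext (Or.inr two_ne) hr E f hE (V E) (Or.inl rfl) W ?_ hW3 hW
      rintro g ⟨a, ha⟩ w hw
      obtain ⟨c, hc⟩ := eq_smul_of_ad (g := g) (h := ψ a) (ha.symm.trans (hψ a).symm)
      have hc' : (((H65.E6Emb.emb f g : ↥(Zgrp E)) : GL I27 E) : Matrix I27 I27 E) =
          f c • (((H65.E6Emb.emb f (ψ a) : ↥(Zgrp E)) : GL I27 E) : Matrix I27 I27 E) := by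
        rw [H65.E6Emb.coe_emb, H65.E6Emb.coe_emb, hc]
        ext i j
        rw [Matrix.map_apply, Matrix.smul_apply, Matrix.smul_apply, Matrix.map_apply, smul_eq_mul, smul_eq_mul,
          map_mul]
      rw [V_apply, hc', Matrix.smul_mulVec]
      exact W.smul_mem _ (hst a w hw)

theorem five_three [CharP F 3] {φ : ↥(alternatingGroup (Fin 5)) →* ↥(chevE6.group F)} (hS : Sit H 5 φ) : False := by
  have : Fact (Nat.Prime 3) := ⟨Nat.prime_three⟩
  exact five_odd 3 (Or.inl rfl) hS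

theorem five_big (p : ℕ) [Fact p.Prime] [CharP F p] (hp : 7 ≤ p)
    {φ : ↥(alternatingGroup (Fin 5)) →* ↥(chevE6.group F)} (hS : Sit H 5 φ) : False :=
  five_odd p (Or.inr hp) hS

end Cfsg.Agent.H163.E6.Cases
end

-- part: H401/E6SixThree
section
/-!
# S5927, S5928: `A₆` in characteristic 3 (helper401, helper505; plan helper905)
-/

set_option autoImplicit false
set_option linter.unusedVariables false

namespace Cfsg.Agent.H401.E6Three

open Cfsg Cfsg.Lie Module
open Cfsg.Agent.ChevalleyStructure.E6Min.Tables Cfsg.Agent.ChevalleyStructure.E6Min.Basic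
  Cfsg.Agent.ChevalleyStructure.E6Min.Adjoint
open Cfsg.Agent.H952.F4 (ev es matRep sh cr tf v0 v1 c3 z5)
open Cfsg.Agent.H163.E6
open Cfsg.Agent.H505.E6Three (A6)

universe u

variable {F : Type u} [Field F] [Finite F]

theorem pow4 {G : Type*} [Group G] (g : G) : g * g * (g * g) = g ^ 4 := by
  simp only [pow_succ, pow_zero, one_mul, mul_assoc]
theorem pow5 {G : Type*} [Group G] (g : G) : g * g * (g * g) * g = g ^ 5 := by
  simp only [pow_succ, pow_zero, one_mul, mul_assoc]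

/-- elements of order 4 are real -/
theorem real_four (g : A6) (h1 : g * g ≠ 1) (h2 : g ^ 4 = 1) : ∃ k, k * g * k⁻¹ = g⁻¹ := by
  obtain ⟨h, rfl⟩ := cj4 g (by rw [pow4, h2]) h1
  refine ⟨h * iota v1 * h⁻¹, ?_⟩
  have e : iota v1 * c6 * (iota v1)⁻¹ = c6⁻¹ := by
    rw [← v1_c6]
    congr 1
    exact inv_eq_of_mul_eq_one_right v1_sq
  calc h * iota v1 * h⁻¹ * (h * c6 * h⁻¹) * (h * iota v1 * h⁻¹)⁻¹ = h * (iota v1 * c6 * (iota v1)⁻¹) * h⁻¹ := by group
    _ = (h * c6 * h⁻¹)⁻¹ := by rw [e]; group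

/-- the pattern -/
theorem pattern [CharP F 3] (ψ : A6 →* ↥(Zgrp F)) (hinj : Function.Injective ψ)
    (h1 : Representation.invariants (MonoidHom.comp (V F) ψ) = ⊥)
    (h2 : Representation.invariants (MonoidHom.comp (V' F) ψ) = ⊥) :
    (∀ g : A6, g ≠ 1 → g * g = 1 → ev (V F (ψ g)) 1 = 11) ∧ ev (V F (ψ c6)) 1 = 9 ∧ ev (V F (ψ (iota z5))) 1 = 7 := by
  have : Fact (Nat.Prime 3) := ⟨Nat.prime_three⟩
  have T : Tab 3 F := Tor.tab 3
  have hne : ∀ a, a ≠ 1 → ψ a ≠ 1 := fun a ha h => ha (hinj (h.trans (map_one ψ).symm))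
  have hevd : ∀ g : ↥(Zgrp F), ev (V' F g) 1 = ev (V F g) 1 := fun g => by
    rw [Act.ev_dual g one_ne_zero, inv_one]
  let ρ : Representation F A6 (I27 → F) := MonoidHom.comp (V F) ψ
  let ρ' : Representation F A6 (I27 → F) := MonoidHom.comp (V' F) ψ
  have hρ : ∀ a, ρ a = V F (ψ a) := fun a => rfl
  -- classes
  have e2 : ∀ g : A6, g ≠ 1 → g * g = 1 → ev (ρ g) 1 = ev (ρ (iota v0)) 1 := by
    intro g hg hgg
    obtain ⟨h, rfl⟩ := cj2 g hgg hg
    exact H944.E6T.ev_conj ρ h _ 1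
  have e4 : ∀ g : A6, g * g ≠ 1 → g ^ 4 = 1 → ev (ρ g) 1 = ev (ρ c6) 1 := by
    intro g hg hgg
    obtain ⟨h, rfl⟩ := cj4 g (by rw [pow4, hgg]) hg
    exact H944.E6T.ev_conj ρ h _ 1
  have e55 : ev (ρ (iota z5 * iota z5)) 1 = ev (ρ (iota z5)) 1 := by
    have hmul : ∀ (a b : A6) (w : I27 → F), ρ (a * b) w = ρ a (ρ b w) := fun a b w => by rw [map_mul]; rfl
    have e : es (ρ (iota z5 * iota z5)) 1 = es (ρ (iota z5)) 1 := by
      ext v
      rw [H546.F4Eig.mem_es_one, H546.F4Eig.mem_es_one]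
      constructor
      · intro h
        have e1 : iota z5 = (iota z5 * iota z5) * ((iota z5 * iota z5) * (iota z5 * iota z5)) := by decide +kernel
        calc ρ (iota z5) v = ρ ((iota z5 * iota z5) * ((iota z5 * iota z5) * (iota z5 * iota z5))) v :=
              congrArg (fun g => ρ g v) e1
          _ = v := by rw [hmul (iota z5 * iota z5) ((iota z5 * iota z5) * (iota z5 * iota z5)),
                hmul (iota z5 * iota z5) (iota z5 * iota z5), h, h, h]
      · intro h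
        rw [hmul, h, h]
    exact congrArg (fun W : Submodule F (I27 → F) => finrank F ↥W) e
  have e5 : ∀ g : A6, g ≠ 1 → g ^ 5 = 1 → ev (ρ g) 1 = ev (ρ (iota z5)) 1 := by
    intro g hg hgg
    obtain ⟨h, rfl | rfl⟩ := cj5 g (by rw [pow5, hgg]) hg
    · exact H944.E6T.ev_conj ρ h _ 1
    · rw [H944.E6T.ev_conj ρ h _ 1, e55]
  -- Scott
  have hdb := H882.E6Five.dual_bot (fun g x y => Act.tf_act g x y) ψ h2
  have hsc : ∀ {x y : A6}, Subgroup.closure {x, y} = ⊤ → ev (ρ x) 1 + ev (ρ y) 1 + ev (ρ (x * y)) 1 ≤ 27 := by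
    intro x y hxy
    have h := H952.F4.Scott.scott ρ hxy
    have e1 : ρ.invariants = ⊥ := h1
    have e2 : ρ.dual.invariants = ⊥ := hdb
    rw [e1, e2, finrank_bot, finrank_bot, finrank27] at h
    exact h
  have S1 : ev (ρ (iota v0)) 1 + ev (ρ (iota z5)) 1 + ev (ρ (iota z5)) 1 ≤ 27 := by
    obtain ⟨x, y, hg, hx, hy, hxy⟩ := H952.F4.Gen.gen6a
    have h := hsc hg
    rw [e2 x (H505.E6Three.ne_of_ct (m := {2, 2}) (by decide) _ hx) ?_, e5 y (H505.E6Three.ne_of_ct (m := {5}) (by decide) _ hy)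
      (H505.E6Three.pow_of_ct _ hy), e5 (x * y) (H505.E6Three.ne_of_ct (m := {5}) (by decide) _ hxy)
      (H505.E6Three.pow_of_ct _ hxy)] at h
    · exact h
    · have h3 := Equiv.Perm.lcm_cycleType (x : Equiv.Perm (Fin 6))
      rw [hx] at h3
      apply Subtype.ext
      change (x : Equiv.Perm (Fin 6)) * (x : Equiv.Perm (Fin 6)) = 1
      rw [← pow_two, ← orderOf_dvd_iff_pow_eq_one, ← h3]
      decide
  have S2 : ev (ρ (iota v0)) 1 + ev (ρ c6) 1 + ev (ρ (iota z5)) 1 ≤ 27 := by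
    have h := hsc closure_245
    rw [e2 _ x_ne x_sq, e5 _ xy_ne xy_five] at h
    exact h
  have f2 := T.two (by norm_num) (ψ (iota v0)) (hne _ (by decide +kernel)) (by rw [← map_mul, show iota v0 * iota v0 = 1 by decide +kernel, map_one])
  have c64 : c6 ^ 4 = 1 := by decide +kernel
  have tfour : ∀ g : A6, g * g ≠ 1 → g ^ 4 = 1 → _ := fun g hg hgg =>
    T.four_real (by norm_num) (ψ g) (fun h => hne _ hg (by rw [map_mul, h])) (by rw [← map_pow, hgg, map_one])
      (by obtain ⟨k, hk⟩ := real_four g hg hgg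
          exact ⟨ψ k, by rw [← map_mul, ← map_inv, ← map_mul, hk, map_inv]⟩)
  have f4 := tfour c6 c6_ne c64
  have f5 := T.five (by norm_num) (ψ (iota z5)) (hne _ (by decide +kernel)) (by rw [← map_pow, show iota z5 ^ 5 = 1 by decide +kernel, map_one])
    ⟨ψ (iota v0), by rw [← map_mul, ← map_inv, ← map_mul, show iota v0 * iota z5 * (iota v0)⁻¹ = (iota z5)⁻¹ by decide +kernel,
      map_inv]⟩
  rw [← map_mul, c6_sq] at f4
  simp only [← hρ] at f2 f4 f5 ⊢
  have hd27 : finrank F (I27 → F) = 27 := finrank27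
  rcases f2 with ⟨f2, -⟩ | ⟨f2, -⟩
  · -- `f₂ = 15`: K7
    exfalso
    have g5 : ev (ρ (iota z5)) 1 = 5 := by omega
    have g4 : ev (ρ c6) 1 = 7 := by omega
    refine H505.E6Three.Hyp.false (ρ := ρ) (ρ' := ρ') (B := LinearMap.mk₂ F (fun x y => tf x y)
      (fun x x' y => H952.F4.Jord.tf_add_left x x' y) (fun c x y => H952.F4.Jord.tf_smul_left c x y)
      (fun x y y' => H952.F4.Jord.tf_add_right x y y') (fun c x y => H952.F4.Jord.tf_smul_right c x y)) ?_
    refine ⟨fun g v w => Act.tf_act (ψ g) v w, fun v hv => H952.F4.Jord.tf_nondeg hv, fun w hw =>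
      H952.F4.Jord.tf_nondeg fun v => by rw [H952.F4.Jord.tf_comm]; exact hw v, hd27, h1, h2, ?_, ?_, ?_, ?_⟩
    · intro g hg hgg
      rw [e2 g hg hgg, f2]
    · intro g hg hgg
      rw [e4 g hg hgg, g4]
    · intro g hg hgg
      have h := tfour g hg hgg
      have h' : ev (V F (ψ g)) 1 = 7 := (e4 g hg hgg).trans g4
      rcases h with h | h | h | h | h
      · omega
      · omega
      · omega
      · exact h.2.2.2.1
      · omega
    · intro g hg hgg
      rw [e5 g hg hgg, g5]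
  · have hall : ∀ g : A6, g ≠ 1 → g * g = 1 → ev (ρ g) 1 = 11 := fun g hg hgg => by rw [e2 g hg hgg, f2]
    have g4 : ev (ρ c6) 1 = 9 ∨ ev (ρ c6) 1 = 5 := by (clear * - S1 f4 f2; omega)
    rcases g4 with g4 | g4
    · refine ⟨hall, g4, ?_⟩
      have g5 : ev (ρ (iota z5)) 1 = 7 ∨ ev (ρ (iota z5)) 1 = 5 := by omega
      rcases g5 with g5 | g5
      · exact g5
      · exfalso
        refine no_nine_five ρ hd27 (by rw [w0_eq]; exact f2) (by rw [zz_eq]; exact g5) ?_
        intro g hg hgg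
        have h := tfour g hg hgg
        have h' : ev (V F (ψ g)) 1 = 9 := (e4 g hg hgg).trans g4
        have hs : ev (V F (ψ g * ψ g)) 1 = 11 := by
          rw [← map_mul]
          exact hall _ hg (by rw [pow4, hgg])
        have h3 := H505.E6Three.three_eq F
        rcases h with h | h | h | h | h
        · omega
        · change LinearMap.trace F _ (V F (ψ g)) = 1
          rw [h.2.2.2.1]
          linear_combination (2 : F) * h3
        · omega
        · omega
        · omega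
    · -- K5
      exfalso
      let K := AlgebraicClosure F
      have hch : CharP K 3 := charP_of_injective_algebraMap (algebraMap F K).injective 3
      let ι := H65.E6Emb.emb (algebraMap F K)
      refine no_five 3 (Cfsg.Agent.H944.RootVals.hAlg_closure 3 F) (by norm_num) Act.sh_act (fun g => by
        rw [Act.ev_dual g one_ne_zero, inv_one]) (c := ι (ψ c6)) (s := ι (ψ (iota v1))) ?_ ?_ ?_ ?_ ?_ ?_ ?_ ?_ ?_
      · simp only [← map_mul]
        rw [c6_four, map_one, map_one]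
      · rw [← map_mul ι, ← map_mul ψ, v1_sq, map_one, map_one]
      · simp only [← map_mul]
        rw [v1_c6, map_inv, map_inv]
      · simp only [← map_mul]
        rw [H65.E6Emb.ev_V_one]
        exact hall _ (by decide +kernel) (by decide +kernel)
      · rw [H65.E6Emb.ev_V_one]
        exact hall _ (by decide +kernel) (by decide +kernel)
      · simp only [← map_mul]
        rw [H65.E6Emb.ev_V_one]
        exact hall _ (by decide +kernel) (by decide +kernel)
      · simp only [← map_mul]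
        rw [H65.E6Emb.ev_V_one]
        exact hall _ (by decide +kernel) (by decide +kernel)
      · simp only [← map_mul]
        rw [H65.E6Emb.ev_V_one]
        exact hall _ (by decide +kernel) (by decide +kernel)
      · rw [H65.E6Emb.ev_V_one]
        exact g4

/-- the trace on `V'` -/
theorem trace_dual [CharP F 3] {x : ↥(Zgrp F)} (hx : x * x ≠ 1) (hx4 : x ^ 4 = 1) (hr : ∃ g, g * x * g⁻¹ = x⁻¹)
    (h11 : ev (V F (x * x)) 1 = 11) (h9 : ev (V F x) 1 = 9) : LinearMap.trace F _ (V' F x) = 1 := by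
  have : Fact (Nat.Prime 3) := ⟨Nat.prime_three⟩
  have hevd : ∀ g : ↥(Zgrp F), ev (V' F g) 1 = ev (V F g) 1 := fun g => by
    rw [Act.ev_dual g one_ne_zero, inv_one]
  have gz1 : Act.gz (1 : ↥(Zgrp F)) = 1 := by
    have h := Act.gz_mul (1 : ↥(Zgrp F)) 1
    rw [mul_one] at h
    exact left_eq_mul.1 h
  have h := (Tor.tab 3 : Tab 3 F).four_real (by norm_num) (Act.gz x) ?_ ?_ ?_
  · rw [← Act.gz_mul, Act.V_gz, Act.V_gz, hevd, hevd, h11, h9] at h
    have h3 := H505.E6Three.three_eq F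
    rcases h with h | h | h | h | h
    · omega
    · rw [h.2.2.2.1]
      linear_combination (2 : F) * h3
    · omega
    · omega
    · omega
  · intro h
    apply hx
    rw [← Act.gz_mul] at h
    rw [← Act.gz_gz (x * x), h, gz1]
  · rw [← pow4, ← Act.gz_mul, ← Act.gz_mul, pow4, hx4, gz1]
  · obtain ⟨g, hg⟩ := hr
    refine ⟨Act.gz g, ?_⟩
    have hinv : ∀ y : ↥(Zgrp F), (Act.gz y)⁻¹ = Act.gz y⁻¹ := fun y => by
      rw [inv_eq_iff_mul_eq_one, ← Act.gz_mul, mul_inv_cancel, gz1]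
    rw [hinv, hinv, ← Act.gz_mul, ← Act.gz_mul, hg]

end Cfsg.Agent.H401.E6Three

namespace Cfsg.Agent.H163.E6.Cases

open Cfsg Cfsg.Lie Module
open Cfsg.Agent.ChevalleyStructure.E6Min.Tables Cfsg.Agent.ChevalleyStructure.E6Min.Basic
  Cfsg.Agent.ChevalleyStructure.E6Min.Adjoint
open Cfsg.Agent.H952.F4 (ev es matRep sh cr tf v0 v1 c3 z5)
open Cfsg.Agent.H401.E6Three
open Cfsg.Agent.H882.E6Five (inv_ext inv_ext' exists_root)

universe u

variable {F : Type u} [Field F] [Finite F] {H : Subgroup ↥(chevE6.group F)}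

/-- `A₆` in characteristic 3 -/
theorem six_three [CharP F 3] {φ : ↥(alternatingGroup (Fin 6)) →* ↥(chevE6.group F)} (hS : Sit H 6 φ)
    {ψ : ↥(alternatingGroup (Fin 6)) →* ↥(Zgrp F)} (hψ : Lift φ ψ) : False := by
  have : Fact (Nat.Prime 3) := ⟨Nat.prime_three⟩
  obtain ⟨h1, h2⟩ := hS.no_fixed ψ hψ
  have hinj : Function.Injective ψ := fun a b hab => hS.inj (by rw [← hψ a, ← hψ b, hab])
  obtain ⟨p2, p4, p5⟩ := pattern ψ hinj h1 h2
  have p4' : ∀ g : ↥(alternatingGroup (Fin 6)), g * g ≠ 1 → g ^ 4 = 1 → ev (V F (ψ g)) 1 = 9 := by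
    intro g hg hgg
    obtain ⟨h, rfl⟩ := cj4 g (by rw [pow4, hgg]) hg
    exact (H944.E6T.ev_conj (MonoidHom.comp (V F) ψ : Representation F ↥(alternatingGroup (Fin 6)) (I27 → F)) h _
      1).trans p4
  have ptr : ∀ g : ↥(alternatingGroup (Fin 6)), g * g ≠ 1 → g ^ 4 = 1 → LinearMap.trace F _ (V' F (ψ g)) = 1 := by
    intro g hg hgg
    refine trace_dual ?_ ?_ ?_ ?_ (p4' g hg hgg)
    · intro h
      apply hg
      apply hinj
      rw [map_mul, h, map_one]
    · rw [← map_pow, hgg, map_one]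
    · obtain ⟨k, hk⟩ := real_four g hg hgg
      exact ⟨ψ k, by rw [← map_mul, ← map_inv, ← map_mul, hk, map_inv]⟩
    · rw [← map_mul]
      exact p2 _ hg (by rw [pow4, hgg])
  by_cases hr : ∃ t : F, t * t = t + 1
  · obtain ⟨t, ht⟩ := hr
    obtain ⟨W, hW3, hW, hst⟩ := k_nine Act.sh_act (fun g => by rw [Act.ev_dual g one_ne_zero, inv_one]) ht ψ h2 p2 p4 p5
      ptr
    refine hS.no_three (Or.inl (by norm_num)) (V F) (Or.inl rfl) W ?_ hW3 hW
    rintro g ⟨a, ha⟩ w hw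
    obtain ⟨c, hc⟩ := eq_smul_of_ad (g := g) (h := ψ a) (ha.symm.trans (hψ a).symm)
    rw [V_apply, hc, Matrix.smul_mulVec]
    exact W.smul_mem _ (hst a w hw)
  · rcases exists_root F 3 with h | ⟨E, _, _, _, f, hE, t, ht⟩
    · exact hr h
    · push Not at hr
      obtain ⟨W, hW3, hW, hst⟩ := k_nine Act.sh_act (fun g => by rw [Act.ev_dual g one_ne_zero, inv_one]) ht
        ((H65.E6Emb.emb f).comp ψ) (inv_ext' f _ (H65.E6Emb.V_emb f) ψ h2)
        (fun g hg hgg => by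
          rw [MonoidHom.comp_apply, H65.E6Emb.ev_V_one]
          exact p2 g hg hgg)
        (by rw [MonoidHom.comp_apply, H65.E6Emb.ev_V_one]; exact p4)
        (by rw [MonoidHom.comp_apply, H65.E6Emb.ev_V_one]; exact p5)
        (fun g hg hgg => by rw [MonoidHom.comp_apply, H65.E6Emb.trace_V', ptr g hg hgg, map_one])
      refine hS.no_three_ext (Or.inl (by norm_num)) hr E f hE (V E) (Or.inl rfl) W ?_ hW3 hW
      rintro g ⟨a, ha⟩ w hw
      obtain ⟨c, hc⟩ := eq_smul_of_ad (g := g) (h := ψ a) (ha.symm.trans (hψ a).symm)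
      have hc' : (((H65.E6Emb.emb f g : ↥(Zgrp E)) : GL I27 E) : Matrix I27 I27 E) =
          f c • (((H65.E6Emb.emb f (ψ a) : ↥(Zgrp E)) : GL I27 E) : Matrix I27 I27 E) := by
        rw [H65.E6Emb.coe_emb, H65.E6Emb.coe_emb, hc]
        ext i j
        rw [Matrix.map_apply, Matrix.smul_apply, Matrix.smul_apply, Matrix.map_apply, smul_eq_mul, smul_eq_mul,
          map_mul]
      rw [V_apply, hc', Matrix.smul_mulVec]
      exact W.smul_mem _ (hst a w hw)

end Cfsg.Agent.H163.E6.Cases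
end

private theorem dce_8cd40eab8e45 : _root_.True := by
  try have : _root_.True := by simp only [_root_.Cfsg.Agent.H505.E6Three.dl.eq_1]
  try have : _root_.True := by simp only [_root_.Cfsg.Agent.H505.E6Three.DD.eq_1]
  try have : _root_.True := by simp only [_root_.Cfsg.Agent.H401.E6Three.exLt.eq_1]
  try have : _root_.True := by simp only [_root_.Cfsg.Agent.H505.E6Three.dj.eq_1]
  exact _root_.True.intro
end

-- part: H879/E6/SevenFive
section
prune_inst 0x425407004010002000000050400001e4282000402004888000860020406c0c86209022820ac20001412200c0400340068100000100040000004000000011801800000100631400108620098000000000000000000000000000000000000000000000000000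
set_option linter.all false
open scoped Cfsg.Agent.FastGrp

-- part: H879/E6/Core
section
/-!
# S5927, S5928: a proper subspace stable under the stabilizer of the tuple and another isometry (helper879)
-/

set_option autoImplicit false

namespace Cfsg.Agent.H879.E6

open Cfsg.Lie Cfsg.Agent.H952.F4 Cfsg.Agent.H952.F4.Jord Cfsg.Agent.H879.E6.Uniq
open Cfsg.Agent.ChevalleyStructure.E6Min.Tables Cfsg.Agent.ChevalleyStructure.E6Min.Basic

section
variable {F : Type*} [Field F]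

/-- the 19-dimensional subspace of a tuple -/
def WW (v : Fin 7 → I27 → F) : Submodule F (I27 → F) where
  carrier := {x | ∀ a b c d : Fin 7, dis (a, b, c, d) = true → tf x (ee v a b c d) = 0}
  add_mem' {x y} hx hy a b c d h := by rw [tf_add_left, hx a b c d h, hy a b c d h, add_zero]
  zero_mem' a b c d _ := by rw [tf_zero_left]
  smul_mem' r x hx a b c d h := by rw [tf_smul_left, hx a b c d h, mul_zero]

theorem mem_WW {v : Fin 7 → I27 → F} {x : I27 → F} :
    x ∈ WW v ↔ ∀ a b c d : Fin 7, dis (a, b, c, d) = true → tf x (ee v a b c d) = 0 := Iff.rfl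

theorem tf_ee (v : Fin 7 → I27 → F) (x : I27 → F) (a b c d : Fin 7) : tf x (ee v a b c d) =
    tf x (ww v a b) + tf x (ww v c d) - (tf x (ww v a c) + tf x (ww v b d)) := by
  unfold ee
  rw [sub_eq_add_neg, ← neg_one_smul F, tf_add_right, tf_add_right, tf_smul_right, tf_add_right]
  ring

/-- stability under maps permuting the lines -/
theorem WW_stable {v : Fin 7 → I27 → F} {k : (I27 → F) →ₗ[F] (I27 → F)} {μ : F}
    (hk : ∀ x y z, tf (cr (k x) (k y)) (k z) = μ * tf (cr x y) z) {s : Equiv.Perm (Fin 7)} {l : F} (hl : l ≠ 0)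
    (hs : ∀ i, k (v i) = l • v (s i)) {x : I27 → F} (hx : x ∈ WW v) : k x ∈ WW v := by
  intro a b c d h
  have key : ∀ a b, tf (k x) (ww v (s a) (s b)) = (l⁻¹ * l⁻¹ * μ) * tf x (ww v a b) := by
    intro a b
    have e : ∀ a, v (s a) = l⁻¹ • k (v a) := fun a => by rw [hs, smul_smul, inv_mul_cancel₀ hl, one_smul]
    unfold ww
    rw [e a, e b, ← tf_cr, cr_smul_right, tf_smul_left, tf_smul_right, hk, ← tf_cr]
    ring
  have hd : dis (act s.symm (a, b, c, d)) = true := dis_act s.symm.injective h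
  have h1 := hx _ _ _ _ hd
  rw [tf_ee] at h1 ⊢
  have k1 : ∀ a b, tf (k x) (ww v a b) = (l⁻¹ * l⁻¹ * μ) * tf x (ww v (s.symm a) (s.symm b)) := by
    intro a b
    rw [← key, s.apply_symm_apply, s.apply_symm_apply]
  rw [k1, k1, k1, k1]
  linear_combination (l⁻¹ * l⁻¹ * μ) * h1

theorem tf_v_ww {v : Fin 7 → I27 → F} {c : F} (h : Tup v c) {k a b : Fin 7} (hab : a ≠ b) :
    tf (v k) (ww v a b) = if k = a ∨ k = b then 0 else c := by
  unfold ww
  split_ifs with hh
  · refine h.tri_zero ?_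
    rcases hh with h1 | h1
    · exact Or.inl h1
    · exact Or.inr (Or.inl h1)
  · simp only [not_or] at hh
    exact h.tri _ _ _ hh.1 hh.2 hab

theorem v_mem_WW {v : Fin 7 → I27 → F} {c : F} (h : Tup v c) (k : Fin 7) : v k ∈ WW v := by
  intro a b x y hd
  obtain ⟨g1, g2, g3, g4, g5, g6⟩ := dis_iff.1 hd
  rw [tf_ee, tf_v_ww h g1, tf_v_ww h g6, tf_v_ww h g2, tf_v_ww h g5]
  by_cases h1 : k = a
  · subst h1
    simp [g1, g2, g3]
  by_cases h2 : k = b
  · subst h2
    simp [h1, g4, g5]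
  by_cases h3 : k = x
  · subst h3
    simp [h1, h2, g6]
  by_cases h4 : k = y
  · subst h4
    simp [h1, h2, h3]
  simp [h1, h2, h3, h4]

theorem v_ne {v : Fin 7 → I27 → F} {c : F} (h : Tup v c) (hc : c ≠ 0) (k : Fin 7) : v k ≠ 0 := by
  intro h0
  have := h.tri k (k + 1) (k + 2) (Good.n1 k) (Good.n2 k) (Good.n3 k)
  rw [h0, tf_zero_left] at this
  exact hc this.symm

/-- maps preserving the trilinear form up to a factor -/
theorem tri_symm (e : (I27 → F) ≃ₗ[F] (I27 → F)) {c : F} (hc : c ≠ 0)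
    (he : ∀ x y z, tf (cr (e x) (e y)) (e z) = c * tf (cr x y) z) (x y z : I27 → F) :
    tf (cr (e.symm x) (e.symm y)) (e.symm z) = c⁻¹ * tf (cr x y) z := by
  have := he (e.symm x) (e.symm y) (e.symm z)
  rw [e.apply_symm_apply, e.apply_symm_apply, e.apply_symm_apply] at this
  rw [this, ← mul_assoc, inv_mul_cancel₀ hc, one_mul]

end

section
variable {F : Type*} [Field F] [CharP F 5] {v : Fin 7 → I27 → F} {c : F}

omit [CharP F 5] in
theorem WW_conj (e : (I27 → F) ≃ₗ[F] (I27 → F)) (hc : c ≠ 0)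
    (he : ∀ x y z, tf (cr (e x) (e y)) (e z) = c * tf (cr x y) z) (hv : ∀ i, e (q0 F i) = v i) (x : I27 → F) :
    e x ∈ WW v ↔ x ∈ WW (q0 F) := by
  have key : ∀ a b, tf (e x) (ww v a b) = c * tf x (ww (q0 F) a b) := by
    intro a b
    unfold ww
    rw [← hv, ← hv, ← tf_cr, he, tf_cr]
  rw [mem_WW, mem_WW]
  refine forall_congr' fun a => forall_congr' fun b => forall_congr' fun x' => forall_congr' fun d =>
    imp_congr_right fun _ => ?_
  rw [tf_ee, tf_ee, key, key, key, key]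
  constructor
  · intro h
    refine (mul_eq_zero.1 ?_).resolve_left hc
    linear_combination h
  · intro h
    linear_combination c * h

theorem WW_q0_ne_top : WW (q0 F) ≠ ⊤ := by
  intro h
  have h1 : ee (q0 F) 0 1 2 3 = 0 := by
    refine tf_nondeg fun y => ?_
    have : y ∈ WW (q0 F) := by rw [h]; exact Submodule.mem_top
    rw [tf_comm]
    exact this 0 1 2 3 (by decide)
  have h2 := all_range chkE (show 0 < 8 by norm_num)
  rw [Bool.and_eq_true] at h2
  have h3 : vec F (E8L.getD 0 []) = ee (q0 F) 0 1 2 3 := by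
    rw [← vec_eq (F := F) h2.2, vec_add, vec_add, vec_smul, vec_add, ← tv_ww chk0, ← tv_ww chk0, ← tv_ww chk0,
      ← tv_ww chk0]
    have h4 : ((4 : ℕ) : F) = -1 := by
      have := five_zero (F := F)
      push_cast
      linear_combination this
    rw [h4, neg_one_smul, ← sub_eq_add_neg]
    rfl
  rw [h1] at h3
  have h5 := congrFun h3 (0, 0, 2)
  have h6 : gt (E8L.getD 0 []) (nb (0 : Fin 3).val (0 : Fin 3).val (2 : Fin 3).val) = 1 := by decide +kernel
  simp only [vec, Pi.zero_apply] at h5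
  rw [h6, Nat.cast_one] at h5
  exact one_ne_zero h5

/-- **The core**: a proper nonzero subspace `WW v`, and an isometry stabilizing it which does not permute the lines of
the tuple. -/
theorem core (h : Tup v c) (hc : c ≠ 0) : WW v ≠ ⊥ ∧ WW v ≠ ⊤ ∧ ∃ g : (I27 → F) ≃ₗ[F] (I27 → F),
    (∀ x y z, tf (cr (g x) (g y)) (g z) = tf (cr x y) z) ∧ (∀ x ∈ WW v, g x ∈ WW v) ∧
    ∀ (j : Fin 7) (l : F), g.symm (v 0) ≠ l • v j := by
  obtain ⟨e, he, hev, -⟩ := exists_conj h hc
  obtain ⟨g0, hg0, hgv, -⟩ := exists_conj (q2_tup (F := F)) one_ne_zero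
  refine ⟨?_, ?_, ?_⟩
  · intro h0
    have := v_mem_WW h 0
    rw [h0, Submodule.mem_bot] at this
    exact v_ne h hc 0 this
  · intro h0
    apply WW_q0_ne_top (F := F)
    rw [Submodule.eq_top_iff']
    intro x
    rw [← WW_conj e hc he hev, h0]
    exact Submodule.mem_top
  · -- `g⁻¹ = e g0 e⁻¹`
    have hs := tri_symm e hc he
    have hs0 : ∀ x y z, tf (cr (g0.symm x) (g0.symm y)) (g0.symm z) = tf (cr x y) z := by
      intro x y z
      have := tri_symm g0 one_ne_zero hg0 x y z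
      rwa [inv_one, one_mul] at this
    let g : (I27 → F) ≃ₗ[F] (I27 → F) := (e.symm.trans g0.symm).trans e
    have hg : ∀ x, g x = e (g0.symm (e.symm x)) := fun x => rfl
    have hg' : ∀ x, g.symm x = e (g0 (e.symm x)) := fun x => rfl
    refine ⟨g, ?_, ?_, ?_⟩
    · intro x y z
      rw [hg, hg, hg, he, hs0, hs, ← mul_assoc, mul_inv_cancel₀ hc, one_mul]
    · intro x hx
      rw [hg, WW_conj e hc he hev]
      have hx' : e.symm x ∈ WW (q0 F) := by
        rw [← WW_conj e hc he hev, e.apply_symm_apply]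
        exact hx
      generalize e.symm x = y at hx'
      obtain ⟨f, hf⟩ := w2_red (tfl y) fun a b c d hd => hx' a b c d hd
      have key : ∀ a b, a ≠ b → tf (g0.symm y) (ww (q0 F) a b) = f a + f b := by
        intro a b hab
        rw [← hf a b hab]
        change _ = tf y (cr (q2 F a) (q2 F b))
        unfold ww
        have e1 : ∀ i, q0 F i = g0.symm (q2 F i) := fun i => by rw [← hgv, g0.symm_apply_apply]
        rw [e1, e1, ← tf_cr, hs0, tf_cr]
      intro a b x' d hd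
      obtain ⟨g1, g2, g3, g4, g5, g6⟩ := dis_iff.1 hd
      rw [tf_ee, key _ _ g1, key _ _ g6, key _ _ g2, key _ _ g5]
      ring
    · intro j l hh
      rw [hg', ← hev, e.symm_apply_apply, hgv, ← hev j, ← map_smul] at hh
      exact q2_ne j l (e.injective hh)

end

end Cfsg.Agent.H879.E6
end

-- part: H879/E6/Eleven
section
/-!
# `A₇` in characteristic different from 2 and 3: involutions have not `ev = 11` (helper879)

For every field with `2, 3 ≠ 0`: a 27-dimensional representation of `A₇` with `ev = 11` on the class `(2,2)`, `ev = 9, 15`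
on `(3)` and `ev = 5, 9` on `(4,2)` does not exist.
-/

set_option autoImplicit false

namespace Cfsg.Agent.H879.E6.Eleven

open Equiv Equiv.Perm Module
open Cfsg.Agent.H952.F4 (ev es)
open Cfsg.Agent.H931.E6
open Cfsg.Agent.H546.F4Eig

variable {K V : Type*} [Field K] [AddCommGroup V] [Module K V] [FiniteDimensional K V]

/-- two commuting involutions on a subspace -/
theorem four_on (h2 : (2 : K) ≠ 0) (A B : Module.End K V) (W : Submodule K V) (hA : ∀ v ∈ W, A v ∈ W)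
    (hB : ∀ v ∈ W, B v ∈ W) (hAA : ∀ v ∈ W, A (A v) = v) (hBB : ∀ v ∈ W, B (B v) = v)
    (hAB : ∀ v ∈ W, A (B v) = B (A v)) :
    2 * finrank K ↥(W ⊓ es A 1 ⊓ es B 1) + finrank K W =
      finrank K ↥(W ⊓ es A 1) + finrank K ↥(W ⊓ es B 1) + finrank K ↥(W ⊓ es (A * B) 1) := by
  have sp : ∀ (T : Module.End K V) (U : Submodule K V), (∀ v ∈ U, T v ∈ U) → (∀ v ∈ U, T (T v) = v) →
      finrank K U = finrank K ↥(U ⊓ es T 1) + finrank K ↥(U ⊓ es T (-1)) := fun T U h h' =>
    split_sq h2 one_ne_zero T U h fun v hv => by rw [h' v hv, one_mul, one_smul]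
  have h1 := sp A W hA hAA
  have h3 := sp B (W ⊓ es A 1) (fun v hv => ⟨hB v hv.1, by
    have h := hv.2
    rw [SetLike.mem_coe, mem_es_one] at h ⊢
    rw [hAB v hv.1, h]⟩) fun v hv => hBB v hv.1
  have h4 := sp B (W ⊓ es A (-1)) (fun v hv => ⟨hB v hv.1, by
    have h := hv.2
    rw [SetLike.mem_coe, mem_es_neg] at h ⊢
    rw [hAB v hv.1, h, map_neg]⟩) fun v hv => hBB v hv.1
  have h5 := sp A (W ⊓ es B 1) (fun v hv => ⟨hA v hv.1, by
    have h := hv.2
    rw [SetLike.mem_coe, mem_es_one] at h ⊢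
    rw [← hAB v hv.1, h]⟩) fun v hv => hAA v hv.1
  have h6 := sp A (W ⊓ es (A * B) 1) (fun v hv => ⟨hA v hv.1, by
    have h := hv.2
    rw [SetLike.mem_coe, mem_es_one, Module.End.mul_apply] at h ⊢
    rw [← hAB v hv.1, h]⟩) fun v hv => hAA v hv.1
  have e1 : W ⊓ es B 1 ⊓ es A 1 = W ⊓ es A 1 ⊓ es B 1 := inf_right_comm _ _ _
  have e2 : W ⊓ es B 1 ⊓ es A (-1) = W ⊓ es A (-1) ⊓ es B 1 := inf_right_comm _ _ _
  have e3 : W ⊓ es (A * B) 1 ⊓ es A 1 = W ⊓ es A 1 ⊓ es B 1 := by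
    ext v
    simp only [Submodule.mem_inf, mem_es_one, Module.End.mul_apply]
    constructor
    · rintro ⟨⟨h, h'⟩, h''⟩
      rw [hAB v h, h''] at h'
      exact ⟨⟨h, h''⟩, h'⟩
    · rintro ⟨⟨h, h'⟩, h''⟩
      exact ⟨⟨h, by rw [h'', h']⟩, h'⟩
  have e4 : W ⊓ es (A * B) 1 ⊓ es A (-1) = W ⊓ es A (-1) ⊓ es B (-1) := by
    ext v
    simp only [Submodule.mem_inf, mem_es_one, mem_es_neg, Module.End.mul_apply]
    constructor
    · rintro ⟨⟨h, h'⟩, h''⟩
      rw [hAB v h, h'', map_neg] at h'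
      exact ⟨⟨h, h''⟩, by rw [← h', neg_neg, h']⟩
    · rintro ⟨⟨h, h'⟩, h''⟩
      exact ⟨⟨h, by rw [h'', map_neg, h', neg_neg]⟩, h'⟩
  rw [e1, e2] at h5
  rw [e3, e4] at h6
  omega

/-! ### the elements -/

def ea : T7 := ⟨c[(0 : Fin 7), 1] * c[(2 : Fin 7), 3], mem_alternatingGroup.2 (by decide +kernel)⟩
def eb : T7 := ⟨c[(0 : Fin 7), 2] * c[(1 : Fin 7), 3], mem_alternatingGroup.2 (by decide +kernel)⟩
/-- `(0 2)(4 5)` -/
def et : T7 := ⟨c[(0 : Fin 7), 2] * c[(4 : Fin 7), 5], mem_alternatingGroup.2 (by decide +kernel)⟩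
/-- `(0 1)(4 5)` -/
def eu : T7 := ⟨c[(0 : Fin 7), 1] * c[(4 : Fin 7), 5], mem_alternatingGroup.2 (by decide +kernel)⟩
/-- `(0 1 2)` -/
def es3 : T7 := ⟨c[(0 : Fin 7), 1, 2], mem_alternatingGroup.2 (by decide +kernel)⟩
/-- `(1 2 3)` -/
def ez : T7 := ⟨c[(1 : Fin 7), 2, 3], mem_alternatingGroup.2 (by decide +kernel)⟩
/-- `(0 6)(4 5)` -/
def eg : T7 := ⟨c[(0 : Fin 7), 6] * c[(4 : Fin 7), 5], mem_alternatingGroup.2 (by decide +kernel)⟩
/-- `(1 6)(4 5)` -/
def eh : T7 := ⟨c[(1 : Fin 7), 6] * c[(4 : Fin 7), 5], mem_alternatingGroup.2 (by decide +kernel)⟩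
/-- `(1 2)(4 5)` -/
def el : T7 := ⟨c[(1 : Fin 7), 2] * c[(4 : Fin 7), 5], mem_alternatingGroup.2 (by decide +kernel)⟩
/-- `(0 4)(5 6)` -/
def ek : T7 := ⟨c[(0 : Fin 7), 4] * c[(5 : Fin 7), 6], mem_alternatingGroup.2 (by decide +kernel)⟩
/-- `(4 5 6)` -/
def er : T7 := ⟨c[(4 : Fin 7), 5, 6], mem_alternatingGroup.2 (by decide +kernel)⟩

theorem r1 : ea * ea = 1 := by decide +kernel
theorem r2 : eb * eb = 1 := by decide +kernel
theorem r3 : ea * eb = eb * ea := by decide +kernel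
theorem r4 : (ea * eb) * (ea * eb) = 1 := by decide +kernel
theorem r5 : es3 ^ 3 = 1 := by decide +kernel
theorem r6 : es3 * ea * es3⁻¹ = ea * eb := by decide +kernel
theorem r7 : es3 * (ea * eb) * es3⁻¹ = ea * (ea * eb) := by decide +kernel
theorem r8 : et * et = 1 := by decide +kernel
theorem r9 : eu * eu = 1 := by decide +kernel
theorem r10 : et * eu = es3 := by decide +kernel
theorem r11 : (ea * et) * (ea * et) = eb := by decide +kernel
theorem r12 : (eb * eu) * (eb * eu) = ea := by decide +kernel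
theorem r13 : et * eb = eb * et := by decide +kernel
theorem r14 : eu * ea = ea * eu := by decide +kernel
theorem r15 : ea * et = et * (ea * eb) := by decide +kernel
theorem r16 : eb * eu = eu * (ea * eb) := by decide +kernel
theorem r17 : eg * eh * eg = eu := by decide +kernel
theorem r18 : eu * eg * eu⁻¹ = eh := by decide +kernel
theorem r19 : el = eu * et * eu := by decide +kernel
theorem r20 : ez = eb * (es3 * es3) := by decide +kernel
theorem r21 : el * eg = eg * el := by decide +kernel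
theorem r22 : ez * eg = eg * ez := by decide +kernel
theorem r23 : ez ^ 3 = 1 := by decide +kernel
theorem r24 : el * el = 1 := by decide +kernel
theorem r25 : el * ez * el⁻¹ = ez⁻¹ := by decide +kernel
theorem r26 : (eg * el) * (eg * el) = 1 := by decide +kernel
theorem r27 : (eg * el) * ez * (eg * el)⁻¹ = ez⁻¹ := by decide +kernel
theorem r28 : eg * eg = 1 := by decide +kernel
theorem r29 : ek * ek = 1 := by decide +kernel
theorem r30 : eg * ek = ek * eg := by decide +kernel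
theorem r34 : ek * ez = ez * ek := by decide +kernel
theorem r35 : ez * el = el * (ez * ez) := by decide +kernel
theorem r36 : er⁻¹ * ez * er⁻¹⁻¹ = ez := by decide +kernel
theorem r37 : er⁻¹ * ek * er⁻¹⁻¹ = eg := by decide +kernel
theorem r38 : er⁻¹ * (eg * ek) * er⁻¹⁻¹ = ek := by decide +kernel
theorem r39 : (⟨c[(0 : Fin 7), 1, 2, 3] * c[(4 : Fin 7), 5], mem_alternatingGroup.2 (by decide +kernel)⟩ : T7) * es3 *
    (⟨c[(0 : Fin 7), 1, 2, 3] * c[(4 : Fin 7), 5], mem_alternatingGroup.2 (by decide +kernel)⟩ : T7)⁻¹ = ez := by decide +kernel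
theorem r40 : el * (ea * et) * el⁻¹ = eb * eu := by decide +kernel

theorem ty_ea : (((ea : T7) : Perm (Fin 7)).cycleType = {2, 2}) := by decide +kernel
theorem ty_eb : (((eb : T7) : Perm (Fin 7)).cycleType = {2, 2}) := by decide +kernel
theorem ty_eab : (((ea * eb : T7) : Perm (Fin 7)).cycleType = {2, 2}) := by decide +kernel
theorem ty_et : (((et : T7) : Perm (Fin 7)).cycleType = {2, 2}) := by decide +kernel
theorem ty_eu : (((eu : T7) : Perm (Fin 7)).cycleType = {2, 2}) := by decide +kernel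
theorem ty_ebt : (((eb * et : T7) : Perm (Fin 7)).cycleType = {2, 2}) := by decide +kernel
theorem ty_eau : (((ea * eu : T7) : Perm (Fin 7)).cycleType = {2, 2}) := by decide +kernel
theorem ty_eg : (((eg : T7) : Perm (Fin 7)).cycleType = {2, 2}) := by decide +kernel
theorem ty_el : (((el : T7) : Perm (Fin 7)).cycleType = {2, 2}) := by decide +kernel
theorem ty_egl : (((eg * el : T7) : Perm (Fin 7)).cycleType = {2, 2}) := by decide +kernel
theorem ty_ek : (((ek : T7) : Perm (Fin 7)).cycleType = {2, 2}) := by decide +kernel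
theorem ty_egk : (((eg * ek : T7) : Perm (Fin 7)).cycleType = {2, 2}) := by decide +kernel
theorem ty_s : ((es3 : Perm (Fin 7)).cycleType = {3}) := by decide +kernel
theorem ty_at : (((ea * et : T7) : Perm (Fin 7)).cycleType = {4, 2}) := by decide +kernel
/-! ### the theorem -/

/-- conjugation of an intersection of fixed spaces -/
theorem finrank_inf_conj (ρ : Representation K T7 V) (k x y : T7) :
    finrank K ↥(es (ρ (k * x * k⁻¹)) 1 ⊓ es (ρ (k * y * k⁻¹)) 1) ≤ finrank K ↥(es (ρ x) 1 ⊓ es (ρ y) 1) := by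
  refine LinearMap.finrank_le_finrank_of_injective
    (f := ((ρ k⁻¹).restrict (p := es (ρ (k * x * k⁻¹)) 1 ⊓ es (ρ (k * y * k⁻¹)) 1)
      (q := es (ρ x) 1 ⊓ es (ρ y) 1) ?_)) ?_
  · have key : ∀ x v, ρ (k * x * k⁻¹) v = v → ρ x (ρ k⁻¹ v) = ρ k⁻¹ v := by
      intro x v h
      have h1 := congrArg (ρ k⁻¹) h
      rw [← Module.End.mul_apply, ← map_mul, ← mul_assoc, ← mul_assoc, inv_mul_cancel, one_mul, map_mul,
        Module.End.mul_apply] at h1
      exact h1
    rintro v ⟨h1, h2⟩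
    rw [SetLike.mem_coe, mem_es_one] at h1 h2
    exact ⟨mem_es_one.2 (key x v h1), mem_es_one.2 (key y v h2)⟩
  · intro u v h
    have h1 := congrArg Subtype.val h
    have h2 := congrArg (ρ k) h1
    simp only [LinearMap.coe_restrict_apply] at h2
    rw [← Module.End.mul_apply, ← Module.End.mul_apply, ← map_mul, mul_inv_cancel, map_one] at h2
    exact Subtype.ext h2

theorem no_eleven (h2 : (2 : K) ≠ 0) (h3 : (3 : K) ≠ 0) (ρ : Representation K T7 V) (h27 : finrank K V = 27)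
    (hev2 : ∀ g : T7, (g : Perm (Fin 7)).cycleType = {2, 2} → ev (ρ g) 1 = 11)
    (hev3 : ∀ g : T7, (g : Perm (Fin 7)).cycleType = {3} → ev (ρ g) 1 = 9 ∨ ev (ρ g) 1 = 15)
    (hev4 : ∀ g : T7, (g : Perm (Fin 7)).cycleType = {4, 2} → ev (ρ g) 1 = 9 ∨ ev (ρ g) 1 = 5) : False := by
  set M : Submodule K V := es (ρ ea) 1 ⊓ es (ρ eb) 1 with hM
  have mM : ∀ v, v ∈ M ↔ ρ ea v = v ∧ ρ eb v = v := fun v => by
    rw [hM, Submodule.mem_inf, mem_es_one, mem_es_one]
  -- the four-group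
  have d1 : finrank K M = 3 := by
    have := four h2 ρ r1 r2 r3
    rw [hev2 _ ty_ea, hev2 _ ty_eb, hev2 _ ty_eab, h27, ← hM] at this
    omega
  have eM : es (ρ ea) 1 ⊓ es (ρ (ea * eb)) 1 = M := by
    ext v
    rw [mM, Submodule.mem_inf, mem_es_one, mem_es_one, rho_mul]
    constructor
    · rintro ⟨h, h'⟩
      refine ⟨h, ?_⟩
      have := congrArg (ρ ea) h'
      rw [rho_sq ρ r1, h] at this
      exact this
    · rintro ⟨h, h'⟩
      exact ⟨h, by rw [h', h]⟩
  -- the elements of order 3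
  have d2 : ev (ρ es3) 1 = 9 ∧ finrank K ↥(M ⊓ es (ρ es3) 1) = 1 := by
    have h := a4 h2 ρ r1 r4 (by rw [← mul_assoc, r1, one_mul, mul_assoc, ← r3, ← mul_assoc, r1, one_mul]) r5 r6 r7
    rw [eM, h27, d1] at h
    have h' : finrank K ↥(M ⊓ es (ρ es3) 1) ≤ finrank K M := Submodule.finrank_mono inf_le_left
    rw [d1] at h'
    rcases hev3 _ ty_s with h3' | h3' <;> omega
  -- `M` is stable under `et`, `eu`
  have tM : ∀ v ∈ M, ρ et v ∈ M := by
    intro v hv
    rw [mM] at hv ⊢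
    refine ⟨?_, ?_⟩
    · rw [← rho_mul, r15, rho_mul, rho_mul, hv.2, hv.1]
    · rw [← rho_mul, ← r13, rho_mul, hv.2]
  have uM : ∀ v ∈ M, ρ eu v ∈ M := by
    intro v hv
    rw [mM] at hv ⊢
    refine ⟨?_, ?_⟩
    · rw [← rho_mul, ← r14, rho_mul, hv.1]
    · rw [← rho_mul, r16, rho_mul, rho_mul, hv.2, hv.1]
  -- the dihedral groups
  have d3 : 2 * finrank K ↥(M ⊓ es (ρ et) 1) + 5 = ev (ρ (ea * et)) 1 := by
    have h := four_on h2 (ρ ea) (ρ et) (es (ρ eb) 1) (fun v hv => ?_) (fun v hv => ?_) (fun v _ => rho_sq ρ r1 v)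
      (fun v _ => rho_sq ρ r8 v) (fun v hv => ?_)
    · have e1 : es (ρ eb) 1 ⊓ es (ρ ea) 1 = M := inf_comm _ _
      have e2 : 2 * finrank K ↥(es (ρ eb) 1 ⊓ es (ρ et) 1) + 27 = 33 := by
        have := four h2 ρ r2 r8 r13.symm
        rwa [hev2 _ ty_eb, hev2 _ ty_et, hev2 _ ty_ebt, h27] at this
      have e3 : es (ρ eb) 1 ⊓ es (ρ ea * ρ et) 1 = es (ρ (ea * et)) 1 := by
        rw [← map_mul]
        refine inf_eq_right.2 fun v hv => ?_
        rw [mem_es_one] at hv ⊢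
        rw [← r11, rho_mul, hv, hv]
      have e4 : finrank K ↥(es (ρ eb) 1) = 11 := hev2 _ ty_eb
      rw [e1, e3, d1, e4] at h
      have e5 : ev (ρ (ea * et)) 1 = finrank K ↥(es (ρ (ea * et)) 1) := rfl
      omega
    · rw [mem_es_one] at hv ⊢
      rw [← rho_mul, ← r3, rho_mul, hv]
    · rw [mem_es_one] at hv ⊢
      rw [← rho_mul, ← r13, rho_mul, hv]
    · rw [mem_es_one] at hv
      rw [← rho_mul, r15, rho_mul, rho_mul, hv]
  have d4 : 2 * finrank K ↥(M ⊓ es (ρ eu) 1) + 5 = ev (ρ (eb * eu)) 1 := by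
    have h := four_on h2 (ρ eb) (ρ eu) (es (ρ ea) 1) (fun v hv => ?_) (fun v hv => ?_) (fun v _ => rho_sq ρ r2 v)
      (fun v _ => rho_sq ρ r9 v) (fun v hv => ?_)
    · have e2 : 2 * finrank K ↥(es (ρ ea) 1 ⊓ es (ρ eu) 1) + 27 = 33 := by
        have := four h2 ρ r1 r9 r14.symm
        rwa [hev2 _ ty_ea, hev2 _ ty_eu, hev2 _ ty_eau, h27] at this
      have e3 : es (ρ ea) 1 ⊓ es (ρ eb * ρ eu) 1 = es (ρ (eb * eu)) 1 := by
        rw [← map_mul]
        refine inf_eq_right.2 fun v hv => ?_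
        rw [mem_es_one] at hv ⊢
        rw [← r12, rho_mul, hv, hv]
      have e4 : finrank K ↥(es (ρ ea) 1) = 11 := hev2 _ ty_ea
      rw [← hM, e3, d1, e4] at h
      have e5 : ev (ρ (eb * eu)) 1 = finrank K ↥(es (ρ (eb * eu)) 1) := rfl
      omega
    · rw [mem_es_one] at hv ⊢
      rw [← rho_mul, r3, rho_mul, hv]
    · rw [mem_es_one] at hv ⊢
      rw [← rho_mul, ← r14, rho_mul, hv]
    · rw [mem_es_one] at hv
      rw [← rho_mul, r16, r3, rho_mul, rho_mul, hv]
  -- the two cases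
  have h42 : ev (ρ (ea * et)) 1 = 9 ∧ ev (ρ (eb * eu)) 1 = 9 := by
    have h40 : ev (ρ (eb * eu)) 1 = ev (ρ (ea * et)) 1 := by
      rw [← r40]
      exact ev_conj ρ _ _ _
    rcases hev4 _ ty_at with h5 | h5
    · exact ⟨h5, by rw [h40, h5]⟩
    exfalso
    have e1 : M ⊓ es (ρ et) 1 = ⊥ := Submodule.finrank_eq_zero.1 (by omega)
    have e2 : M ⊓ es (ρ eu) 1 = ⊥ := Submodule.finrank_eq_zero.1 (by omega)
    have f1 : ∀ v ∈ M, ρ et v = -v := by
      intro v hv
      have h6 : v + ρ et v ∈ M ⊓ es (ρ et) 1 := ⟨M.add_mem hv (tM v hv), by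
        rw [SetLike.mem_coe, mem_es_one, map_add, rho_sq ρ r8, add_comm]⟩
      rw [e1, Submodule.mem_bot] at h6
      exact (neg_eq_of_add_eq_zero_right h6).symm
    have f2 : ∀ v ∈ M, ρ eu v = -v := by
      intro v hv
      have h6 : v + ρ eu v ∈ M ⊓ es (ρ eu) 1 := ⟨M.add_mem hv (uM v hv), by
        rw [SetLike.mem_coe, mem_es_one, map_add, rho_sq ρ r9, add_comm]⟩
      rw [e2, Submodule.mem_bot] at h6
      exact (neg_eq_of_add_eq_zero_right h6).symm
    have f3 : M ⊓ es (ρ es3) 1 = M := inf_eq_left.2 fun v hv => by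
      rw [mem_es_one, ← r10, rho_mul, f2 v hv, map_neg, f1 v hv, neg_neg]
    rw [f3] at d2
    omega
  -- a vector fixed by `S₄`
  obtain ⟨x, hx0, hxM, hxt, hxu⟩ : ∃ x, x ≠ 0 ∧ x ∈ M ∧ ρ et x = x ∧ ρ eu x = x := by
    have e1 : finrank K ↥(M ⊓ es (ρ et) 1) = 2 := by omega
    have e2 : finrank K ↥(M ⊓ es (ρ eu) 1) = 2 := by omega
    have e3 := Submodule.finrank_sup_add_finrank_inf_eq (M ⊓ es (ρ et) 1) (M ⊓ es (ρ eu) 1)
    have e4 : finrank K ↥((M ⊓ es (ρ et) 1) ⊔ (M ⊓ es (ρ eu) 1)) ≤ finrank K M :=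
      Submodule.finrank_mono (sup_le inf_le_left inf_le_left)
    have e5 : 0 < finrank K ↥((M ⊓ es (ρ et) 1) ⊓ (M ⊓ es (ρ eu) 1)) := by omega
    obtain ⟨x, hx, hx0⟩ := (Submodule.ne_bot_iff _).1 (Submodule.one_le_finrank_iff.1 e5)
    exact ⟨x, hx0, hx.1.1, mem_es_one.1 hx.1.2, mem_es_one.1 hx.2.2⟩
  have hxs : ρ es3 x = x := by rw [← r10, rho_mul, hxu, hxt]
  have hxz : ρ ez x = x := by rw [r20, rho_mul, rho_mul, hxs, hxs, ((mM x).1 hxM).2]
  have hxl : ρ el x = x := by rw [r19, rho_mul, rho_mul, hxu, hxt, hxu]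
  set y := x + ρ eg x with hy
  have hy0 : y ≠ 0 := by
    intro h0
    have h1 : ρ eg x = -x := by rw [hy] at h0; exact (neg_eq_of_add_eq_zero_right h0).symm
    have h4 : ρ eh x = -x := by
      have hi : ρ eu⁻¹ x = x := by
        have := congrArg (ρ eu⁻¹) hxu
        rw [← rho_mul, inv_mul_cancel, map_one] at this
        exact this.symm
      rw [← r18, rho_mul, rho_mul, hi, h1, map_neg, hxu]
    have h5 : ρ eu x = -x := by
      rw [← r17, rho_mul, rho_mul, h1, map_neg, h4, neg_neg, h1]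
    rw [hxu] at h5
    have h6 : (2 : K) • x = 0 := by
      rw [two_smul]
      nth_rewrite 1 [h5]
      exact neg_add_cancel x
    exact hx0 ((smul_eq_zero.1 h6).resolve_left h2)
  have hyg : ρ eg y = y := by rw [hy, map_add, rho_sq ρ r28, add_comm]
  have hyl : ρ el y = y := by rw [hy, map_add, hxl, ← rho_mul, r21, rho_mul, hxl]
  have hyz : ρ ez y = y := by rw [hy, map_add, hxz, ← rho_mul, r22, rho_mul, hxz]
  -- dimensions
  have k1 : 2 * finrank K ↥(es (ρ ez) 1 ⊓ es (ρ el) 1) + 27 = 2 * 11 + ev (ρ ez) 1 := by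
    have := dihedral h2 ρ (m := 3) (by decide) (by exact_mod_cast h3) r23 r24 r25 (μ := 1) (Or.inl rfl)
    rwa [h27, hev2 _ ty_el] at this
  have k2 : 2 * finrank K ↥(es (ρ ez) 1 ⊓ es (ρ (eg * el)) 1) + 27 = 2 * 11 + ev (ρ ez) 1 := by
    have := dihedral h2 ρ (m := 3) (by decide) (by exact_mod_cast h3) r23 r26 r27 (μ := 1) (Or.inl rfl)
    rwa [h27, hev2 _ ty_egl] at this
  have k0 : ev (ρ ez) 1 = 9 := by
    rw [← r39]
    exact (ev_conj ρ _ _ _).trans d2.1
  have kz : finrank K ↥(es (ρ ez) 1) = 9 := k0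
  have sg : ∀ v ∈ es (ρ ez) 1, ρ eg v ∈ es (ρ ez) 1 := fun v hv => by
    rw [mem_es_one] at hv ⊢
    rw [← rho_mul, r22, rho_mul, hv]
  have sk : ∀ v ∈ es (ρ ez) 1, ρ ek v ∈ es (ρ ez) 1 := fun v hv => by
    rw [mem_es_one] at hv ⊢
    rw [← rho_mul, ← r34, rho_mul, hv]
  have sl : ∀ v ∈ es (ρ ez) 1, ρ el v ∈ es (ρ ez) 1 := fun v hv => by
    rw [mem_es_one] at hv ⊢
    rw [← rho_mul, r35, rho_mul, rho_mul, hv, hv]
  have k3 := four_rel ρ h2 r28 r24 r21.symm (es (ρ ez) 1) sg sl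
  have k4 := four_rel ρ h2 r28 r29 r30 (es (ρ ez) 1) sg sk
  have k5 := finrank_inf_conj ρ er⁻¹ ez ek
  have k6 := finrank_inf_conj ρ er⁻¹ ez (eg * ek)
  rw [r36, r37] at k5
  rw [r36, r38] at k6
  have k7 : 2 * finrank K ↥(es (ρ eg) 1 ⊓ es (ρ ek) 1) + 27 = 33 := by
    have := four h2 ρ r28 r29 r30
    rwa [hev2 _ ty_eg, hev2 _ ty_ek, hev2 _ ty_egk, h27] at this
  have k8 : finrank K ↥(es (ρ ez) 1 ⊓ es (ρ eg) 1 ⊓ es (ρ ek) 1) ≤ finrank K ↥(es (ρ eg) 1 ⊓ es (ρ ek) 1) :=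
    Submodule.finrank_mono (le_inf (inf_le_left.trans inf_le_right) inf_le_right)
  have k9 : 1 ≤ finrank K ↥(es (ρ ez) 1 ⊓ es (ρ eg) 1 ⊓ es (ρ el) 1) := by
    rw [Submodule.one_le_finrank_iff, Submodule.ne_bot_iff]
    exact ⟨y, ⟨⟨mem_es_one.2 hyz, mem_es_one.2 hyg⟩, mem_es_one.2 hyl⟩, hy0⟩
  rw [kz] at k3 k4
  rw [k0] at k1 k2
  omega

end Cfsg.Agent.H879.E6.Eleven
end

-- part: H879/E6/Seven
section
/-!
# S5927, S5928: seven vectors permuted by `A₇` in characteristic 5 (helper879)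

The tuple of white vectors.
-/

set_option autoImplicit false

namespace Cfsg.Agent.H879.E6

open Equiv Equiv.Perm Module
open Cfsg.Lie Cfsg.Agent.H952.F4 Cfsg.Agent.H952.F4.Jord
open Cfsg.Agent.H879.E6.Uniq (Q Good dis dis_iff dis_act act)
open Cfsg.Agent.ChevalleyStructure.E6Min.Tables Cfsg.Agent.ChevalleyStructure.E6Min.Basic
open Cfsg.Agent.H931.E6 (T7 Seven NoFix five_trans rho_inv)

section

variable {F : Type*} [Field F]

/-- a dual pair of cubic representations -/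
structure Pr (ρ ρ' : Representation F T7 (I27 → F)) : Prop where
  tfa : ∀ g x y, tf (ρ g x) (ρ' g y) = tf x y
  sha : ∀ g x, sh (ρ g x) = ρ' g (sh x)
  sha' : ∀ g x, sh (ρ' g x) = ρ g (sh x)
  cra : ∀ g x y, cr (ρ g x) (ρ g y) = ρ' g (cr x y)
  cra' : ∀ g x y, cr (ρ' g x) (ρ' g y) = ρ g (cr x y)
  Na : ∀ g x, cubicT (ρ g x) = cubicT x
  Na' : ∀ g x, cubicT (ρ' g x) = cubicT x

variable {ρ ρ' : Representation F T7 (I27 → F)} {v : Fin 7 → I27 → F}

theorem Pr.swap (h : Pr ρ ρ') : Pr ρ' ρ :=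
  ⟨fun g x y => by rw [tf_comm, h.tfa, tf_comm], h.sha', h.sha, h.cra', h.cra, h.Na', h.Na⟩

theorem Pr.tri (h : Pr ρ ρ') (g : T7) (x y z : I27 → F) :
    tf (cr (ρ g x) (ρ g y)) (ρ g z) = tf (cr x y) z := by
  rw [h.cra, h.swap.tfa]

theorem mul_app (g h : T7) (i : Fin 7) : ((g * h : T7) : Perm (Fin 7)) i = (g : Perm (Fin 7)) ((h : Perm (Fin 7)) i) :=
  rfl

theorem inv_app {g : T7} {i j : Fin 7} (h : (g : Perm (Fin 7)) i = j) : ((g⁻¹ : T7) : Perm (Fin 7)) j = i := by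
  rw [← h]
  exact (g : Perm (Fin 7)).symm_apply_apply i

theorem three_trans {i j k : Fin 7} (hij : i ≠ j) (hik : i ≠ k) (hjk : j ≠ k) :
    ∃ g : T7, (g : Perm (Fin 7)) 2 = i ∧ (g : Perm (Fin 7)) 3 = j ∧ (g : Perm (Fin 7)) 4 = k := by
  obtain ⟨l, hl⟩ := Cfsg.Agent.H931.E6.pick [i, j, k] (by simp)
  obtain ⟨m, hm⟩ := Cfsg.Agent.H931.E6.pick [i, j, k, l] (by simp)
  simp only [List.mem_cons, List.not_mem_nil, or_false, not_or] at hl hm
  obtain ⟨g, g1, g2, g3, -, -⟩ := five_trans hij hik (Ne.symm hl.1) (Ne.symm hm.1) hjk (Ne.symm hl.2.1)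
    (Ne.symm hm.2.1) (Ne.symm hl.2.2) (Ne.symm hm.2.2.1) (Ne.symm hm.2.2.2)
  exact ⟨g, g1, g2, g3⟩

theorem three_trans' {i j k i' j' k' : Fin 7} (hij : i ≠ j) (hik : i ≠ k) (hjk : j ≠ k) (hij' : i' ≠ j')
    (hik' : i' ≠ k') (hjk' : j' ≠ k') :
    ∃ g : T7, (g : Perm (Fin 7)) i = i' ∧ (g : Perm (Fin 7)) j = j' ∧ (g : Perm (Fin 7)) k = k' := by
  obtain ⟨g, g1, g2, g3⟩ := three_trans hij hik hjk
  obtain ⟨h, h1, h2, h3⟩ := three_trans hij' hik' hjk'
  refine ⟨h * g⁻¹, ?_, ?_, ?_⟩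
  · rw [mul_app, inv_app g1, h1]
  · rw [mul_app, inv_app g2, h2]
  · rw [mul_app, inv_app g3, h3]

theorem two_trans' {i j i' j' : Fin 7} (hij : i ≠ j) (hij' : i' ≠ j') :
    ∃ g : T7, (g : Perm (Fin 7)) i = i' ∧ (g : Perm (Fin 7)) j = j' := by
  obtain ⟨k, hk⟩ := Cfsg.Agent.H931.E6.pick [i, j] (by simp)
  obtain ⟨k', hk'⟩ := Cfsg.Agent.H931.E6.pick [i', j'] (by simp)
  simp only [List.mem_cons, List.not_mem_nil, or_false, not_or] at hk hk'
  obtain ⟨g, g1, g2, -⟩ := three_trans' hij (Ne.symm hk.1) (Ne.symm hk.2) hij' (Ne.symm hk'.1) (Ne.symm hk'.2)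
  exact ⟨g, g1, g2⟩

end

/-! ### The white tuple -/

section

variable {F : Type*} [Field F] [CharP F 5] {ρ ρ' : Representation F T7 (I27 → F)} {v : Fin 7 → I27 → F}

omit [CharP F 5] in
/-- seven white vectors permuted by `A₇` form a tuple -/
theorem tup_of_white (h : Pr ρ ρ') (hv : Seven ρ v) (hw : ∀ i, sh (v i) = 0) : ∃ c, Tup v c := by
  refine ⟨tf (v 2) (cr (v 3) (v 4)), hw, hv.sum, ?_⟩
  intro i j k hij hik hjk
  obtain ⟨g, g1, g2, g3⟩ := three_trans hij hik hjk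
  rw [← g1, ← g2, ← g3, ← hv.act, ← hv.act, ← hv.act, h.cra, h.tfa]

/-- **(step 3)** the invariants of seven vectors in characteristic 5 -/
theorem invs (h : Pr ρ ρ') (hv : Seven ρ v) :
    (∀ i, cubicT (v i) = 0) ∧ ∀ i j, tf (sh (v i)) (v j) = 0 := by
  -- the invariants
  have hn : ∀ i, cubicT (v i) = cubicT (v 0) := by
    intro i
    obtain ⟨j, hj⟩ : ∃ j, j ≠ i := ⟨i + 1, by revert i; decide⟩
    obtain ⟨g, g1, -⟩ := two_trans' (i := 0) (j := 1) (by decide) (Ne.symm hj)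
    rw [← g1, ← hv.act, h.Na]
  have ht : ∀ i j, i ≠ j → tf (sh (v i)) (v j) = tf (sh (v 0)) (v 1) := by
    intro i j hij
    obtain ⟨g, g1, g2⟩ := two_trans' (i := 0) (j := 1) (by decide) hij
    rw [← g1, ← g2, ← hv.act, ← hv.act, h.sha, h.swap.tfa]
  have hc : ∀ i j k, i ≠ j → i ≠ k → j ≠ k → tf (v i) (cr (v j) (v k)) = tf (v 2) (cr (v 3) (v 4)) := by
    intro i j k hij hik hjk
    obtain ⟨g, g1, g2, g3⟩ := three_trans hij hik hjk
    rw [← g1, ← g2, ← g3, ← hv.act, ← hv.act, ← hv.act, h.cra, h.tfa]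
  have e1 : tf (sh (v 0)) (∑ j, v j) = 0 := by rw [hv.sum, tf_zero_right]
  rw [tf_sum_right, Fin.sum_univ_seven, tf_sh_self, ht 0 2 (by decide), ht 0 3 (by decide), ht 0 4 (by decide),
    ht 0 5 (by decide), ht 0 6 (by decide)] at e1
  have e2 : tf (v 0) (cr (v 1) (∑ j, v j)) = 0 := by rw [hv.sum, cr_zero_right, tf_zero_right]
  have e3 : tf (v 0) (cr (v 1) (v 0)) = 2 * tf (sh (v 0)) (v 1) := by
    rw [cr_comm, ← tf_cr, cr_self, tf_smul_left]
  have e4 : tf (v 0) (cr (v 1) (v 1)) = 2 * tf (sh (v 0)) (v 1) := by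
    rw [cr_self, tf_smul_right, tf_comm, ht 1 0 (by decide)]
  rw [cr_sum_right, tf_sum_right, Fin.sum_univ_seven, e3, e4, hc 0 1 2 (by decide) (by decide) (by decide),
    hc 0 1 3 (by decide) (by decide) (by decide), hc 0 1 4 (by decide) (by decide) (by decide),
    hc 0 1 5 (by decide) (by decide) (by decide), hc 0 1 6 (by decide) (by decide) (by decide)] at e2
  have h5 := five_zero (F := F)
  have t0 : tf (sh (v 0)) (v 1) = 0 := by
    linear_combination (tf (sh (v 0)) (v 1) + tf (v 2) (cr (v 3) (v 4))) * h5 - e2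
  have n0 : cubicT (v 0) = 0 := by
    linear_combination (-cubicT (v 0) + 0) * h5 + 2 * e1 - 12 * t0
  refine ⟨fun i => by rw [hn, n0], fun i j => ?_⟩
  by_cases hij : i = j
  · rw [hij, tf_sh_self, hn, n0, mul_zero]
  · rw [ht i j hij, t0]

/-- **(step 3)** a white tuple in one of the two modules -/
theorem exists_white (h : Pr ρ ρ') (hρ' : NoFix ρ') (hv : Seven ρ v) (h0 : v 0 ≠ 0) :
    (∃ v c, Seven ρ v ∧ v 0 ≠ 0 ∧ Tup v c) ∨ ∃ v c, Seven ρ' v ∧ v 0 ≠ 0 ∧ Tup v c := by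
  by_cases hs : ∀ i, sh (v i) = 0
  · obtain ⟨c, hc⟩ := tup_of_white h hv hs
    exact Or.inl ⟨v, c, hv, h0, hc⟩
  · push Not at hs
    obtain ⟨i, hi⟩ := hs
    have hw : Seven ρ' fun i => sh (v i) := Seven.of_noFix hρ' fun g i => by rw [← h.sha, hv.act]
    have hw2 : ∀ i, sh (sh (v i)) = 0 := fun i => by rw [sh_sh, (invs h hv).1, zero_smul]
    obtain ⟨c, hc⟩ := tup_of_white h.swap hw hw2
    exact Or.inr ⟨_, c, hw, hw.ne_zero hi, hc⟩

end

/-! ### The fixed space of `A₄` -/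

section

open Eleven
open Cfsg.Agent.H546.F4Eig (mem_es_one rho_sq rho_mul)

theorem s1 : ea * es3 = es3 * eb := by decide +kernel
theorem s2 : eb * es3 = es3 * (ea * eb) := by decide +kernel
theorem s3 : ea * (es3 * es3) = es3 * (es3 * (ea * eb)) := by decide +kernel
theorem s4 : eb * (es3 * es3) = es3 * (es3 * ea) := by decide +kernel
theorem s5 : es3 * es3 * es3 = 1 := by decide +kernel
theorem s6 : ea * (ea * eb) = eb := by decide +kernel
theorem fx : ∀ k : Fin 7, (k = 4 ∨ k = 5 ∨ k = 6) → (ea : Perm (Fin 7)) k = k ∧ (eb : Perm (Fin 7)) k = k ∧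
    (es3 : Perm (Fin 7)) k = k := by decide +kernel

variable {F : Type*} [Field F] [CharP F 5] {ρ ρ' : Representation F T7 (I27 → F)} {v : Fin 7 → I27 → F}

/-- the fixed space of `A₄` -/
def M4 (ρ : Representation F T7 (I27 → F)) : Submodule F (I27 → F) :=
  es (ρ ea) 1 ⊓ es (ρ (ea * eb)) 1 ⊓ es (ρ es3) 1

omit [CharP F 5] in
theorem mem_M4 {x : I27 → F} : x ∈ M4 ρ ↔ ρ ea x = x ∧ ρ eb x = x ∧ ρ es3 x = x := by
  rw [M4, Submodule.mem_inf, Submodule.mem_inf, mem_es_one, mem_es_one, mem_es_one, rho_mul]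
  constructor
  · rintro ⟨⟨h1, h2⟩, h3⟩
    refine ⟨h1, ?_, h3⟩
    have := congrArg (ρ ea) h2
    rw [rho_sq ρ r1, h1] at this
    exact this
  · rintro ⟨h1, h2, h3⟩
    exact ⟨⟨h1, by rw [h2, h1]⟩, h3⟩

theorem M4_dim (hev2 : ∀ g : T7, (g : Perm (Fin 7)).cycleType = {2, 2} → ev (ρ g) 1 = 15)
    (hev3 : ∀ g : T7, (g : Perm (Fin 7)).cycleType = {3} → ev (ρ g) 1 = 9) : finrank F ↥(M4 ρ) = 3 := by
  have h1 := Cfsg.Agent.H546.F4Eig.four (two_ne (F := F)) ρ r1 r4
    (by rw [← mul_assoc, r1, one_mul, mul_assoc, ← r3, ← mul_assoc, r1, one_mul])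
  rw [hev2 _ ty_ea, hev2 _ ty_eab, s6, hev2 _ ty_eb, Cfsg.Agent.H931.E6.finrank27] at h1
  have h := Cfsg.Agent.H546.F4Eig.a4 (two_ne (F := F)) ρ r1 r4
    (by rw [← mul_assoc, r1, one_mul, mul_assoc, ← r3, ← mul_assoc, r1, one_mul]) r5 r6 r7
  rw [hev3 _ ty_s, Cfsg.Agent.H931.E6.finrank27] at h
  have h2 : finrank F ↥(M4 ρ) = finrank F ↥(es (ρ ea) 1 ⊓ es (ρ (ea * eb)) 1 ⊓ es (ρ es3) 1) := rfl
  omega

omit [CharP F 5] in
theorem v_mem_M4 (hv : Seven ρ v) {k : Fin 7} (hk : k = 4 ∨ k = 5 ∨ k = 6) : v k ∈ M4 ρ := by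
  obtain ⟨h1, h2, h3⟩ := fx k hk
  rw [mem_M4, hv.act, hv.act, hv.act, h1, h2, h3]
  exact ⟨rfl, rfl, rfl⟩

theorem M4_span (hev2 : ∀ g : T7, (g : Perm (Fin 7)).cycleType = {2, 2} → ev (ρ g) 1 = 15)
    (hev3 : ∀ g : T7, (g : Perm (Fin 7)).cycleType = {3} → ev (ρ g) 1 = 9) (hv : Seven ρ v) (h0 : v 0 ≠ 0) :
    M4 ρ = Submodule.span F (Set.range ![v 4, v 5, v 6]) := by
  have h7 : (7 : F) ≠ 0 := by
    intro h
    have h5 := five_zero (F := F)
    exact two_ne (F := F) (by linear_combination h - h5)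
  have hli : LinearIndependent F ![v 4, v 5, v 6] := by
    rw [Fintype.linearIndependent_iff]
    intro x hx
    have h1 : ∑ i, (![0, 0, 0, 0, x 0, x 1, x 2] : Fin 7 → F) i • v i = 0 := by
      rw [Fin.sum_univ_seven]
      rw [Fin.sum_univ_three] at hx
      simpa using hx
    have h2 := hv.coeff_eq h7 h0 h1
    intro i
    fin_cases i
    · simpa using h2 4 0
    · simpa using h2 5 0
    · simpa using h2 6 0
  symm
  apply Submodule.eq_of_le_of_finrank_le
  · rw [Submodule.span_le]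
    rintro _ ⟨i, rfl⟩
    fin_cases i
    · exact v_mem_M4 hv (by decide)
    · exact v_mem_M4 hv (by decide)
    · exact v_mem_M4 hv (by decide)
  · rw [M4_dim hev2 hev3, finrank_span_eq_card hli, Fintype.card_fin]

/-- a vector of the dual module fixed by `A₄` and orthogonal to `v 4, v 5, v 6` is zero -/
theorem orth (h : Pr ρ ρ') (hev2 : ∀ g : T7, (g : Perm (Fin 7)).cycleType = {2, 2} → ev (ρ g) 1 = 15)
    (hev3 : ∀ g : T7, (g : Perm (Fin 7)).cycleType = {3} → ev (ρ g) 1 = 9) (hv : Seven ρ v) (h0 : v 0 ≠ 0)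
    {w : I27 → F} (hw : w ∈ M4 ρ') (o4 : tf (v 4) w = 0) (o5 : tf (v 5) w = 0) (o6 : tf (v 6) w = 0) : w = 0 := by
  have ho : ∀ x ∈ M4 ρ, tf x w = 0 := by
    intro x hx
    rw [M4_span hev2 hev3 hv h0] at hx
    induction hx using Submodule.span_induction with
    | mem x hx =>
      obtain ⟨i, rfl⟩ := hx
      fin_cases i
      · exact o4
      · exact o5
      · exact o6
    | zero => exact tf_zero_left w
    | add x y _ _ hx hy => rw [tf_add_left, hx, hy, add_zero]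
    | smul a x _ hx => rw [tf_smul_left, hx, mul_zero]
  refine tf_nondeg fun x => ?_
  rw [tf_comm]
  obtain ⟨w1, w2, w3⟩ := mem_M4.1 hw
  set u := x + ρ ea x + ρ eb x + ρ ea (ρ eb x) with hu
  have ua : ρ ea u = u := by
    rw [hu, map_add, map_add, map_add, rho_sq ρ r1, rho_sq ρ r1]
    abel
  have ub : ρ eb u = u := by
    have e1 : ∀ y, ρ eb (ρ ea y) = ρ ea (ρ eb y) := fun y => by rw [← rho_mul, ← rho_mul, r3]
    rw [hu, map_add, map_add, map_add, rho_sq ρ r2, e1, e1, rho_sq ρ r2]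
    abel
  set y := u + ρ es3 u + ρ es3 (ρ es3 u) with hy
  have hyM : y ∈ M4 ρ := by
    rw [mem_M4]
    refine ⟨?_, ?_, ?_⟩
    · have e1 : ρ ea (ρ es3 u) = ρ es3 u := by rw [← rho_mul, s1, rho_mul, ub]
      have e2 : ρ ea (ρ es3 (ρ es3 u)) = ρ es3 (ρ es3 u) := by
        rw [← rho_mul ρ es3, ← rho_mul, s3, rho_mul, rho_mul, rho_mul, ub, ua, rho_mul]
      rw [hy, map_add, map_add, ua, e1, e2]
    · have e1 : ρ eb (ρ es3 u) = ρ es3 u := by rw [← rho_mul, s2, rho_mul, rho_mul, ub, ua]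
      have e2 : ρ eb (ρ es3 (ρ es3 u)) = ρ es3 (ρ es3 u) := by
        rw [← rho_mul ρ es3, ← rho_mul, s4, rho_mul, rho_mul, ua, rho_mul]
      rw [hy, map_add, map_add, ub, e1, e2]
    · have e2 : ρ es3 (ρ es3 (ρ es3 u)) = u := by
        rw [← rho_mul ρ es3, ← rho_mul, s5, map_one, Module.End.one_apply]
      rw [hy, map_add, map_add, e2]
      abel
  have ta : ∀ x, tf (ρ ea x) w = tf x w := fun x => by
    nth_rewrite 1 [← w1]
    exact h.tfa _ _ _
  have tb : ∀ x, tf (ρ eb x) w = tf x w := fun x => by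
    nth_rewrite 1 [← w2]
    exact h.tfa _ _ _
  have ts : ∀ x, tf (ρ es3 x) w = tf x w := fun x => by
    nth_rewrite 1 [← w3]
    exact h.tfa _ _ _
  have h1 := ho y hyM
  rw [hy, tf_add_left, tf_add_left, ts, ts, ts, hu, tf_add_left, tf_add_left, tf_add_left, ta, ta, tb] at h1
  have h2 : (2 : F) * tf x w = 0 := by
    have h5 := five_zero (F := F)
    linear_combination h1 - 2 * tf x w * h5
  exact (mul_eq_zero.1 h2).resolve_left two_ne

omit [CharP F 5] in
theorem w_mem_M4 (h : Pr ρ ρ') (hv : Seven ρ v) {j k : Fin 7} (hj : j = 4 ∨ j = 5 ∨ j = 6) (hk : k = 4 ∨ k = 5 ∨ k = 6) :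
    ww v j k ∈ M4 ρ' := by
  obtain ⟨h1, h2, h3⟩ := mem_M4.1 (v_mem_M4 hv hj)
  obtain ⟨k1, k2, k3⟩ := mem_M4.1 (v_mem_M4 hv hk)
  rw [mem_M4]
  unfold ww
  rw [← h.cra, ← h.cra, ← h.cra, h1, h2, h3, k1, k2, k3]
  exact ⟨rfl, rfl, rfl⟩

/-- **(step 5)** `c = 0` -/
theorem ts_of_zero (h : Pr ρ ρ') (hev2 : ∀ g : T7, (g : Perm (Fin 7)).cycleType = {2, 2} → ev (ρ g) 1 = 15)
    (hev3 : ∀ g : T7, (g : Perm (Fin 7)).cycleType = {3} → ev (ρ g) 1 = 9) (hv : Seven ρ v) (h0 : v 0 ≠ 0)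
    (ht : Tup v 0) : ∀ i j, cr (v i) (v j) = 0 := by
  have t0 : ∀ k, tf (v k) (ww v 4 5) = 0 := fun k => by
    rw [tf_v_ww ht (by decide), ite_self]
  have hw : ww v 4 5 = 0 := orth h hev2 hev3 hv h0 (w_mem_M4 h hv (by decide) (by decide)) (t0 _) (t0 _) (t0 _)
  intro i j
  by_cases hij : i = j
  · rw [hij]
    exact ht.ww_self j
  · obtain ⟨g, g1, g2⟩ := two_trans' (i := 4) (j := 5) (by decide) hij
    rw [← g1, ← g2, ← hv.act, ← hv.act, h.cra]
    unfold ww at hw
    rw [hw, map_zero]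

/-- **(step 6)** `c ≠ 0`: `A₆` has no fixed vector in the dual module -/
theorem no_seven (h : Pr ρ ρ') (hev2 : ∀ g : T7, (g : Perm (Fin 7)).cycleType = {2, 2} → ev (ρ g) 1 = 15)
    (hev3 : ∀ g : T7, (g : Perm (Fin 7)).cycleType = {3} → ev (ρ g) 1 = 9) (hv : Seven ρ v) (h0 : v 0 ≠ 0) {c : F}
    (ht : Tup v c) (hc : c ≠ 0) {y : Fin 7 → I27 → F} (hy : Seven ρ' y) : y 0 = 0 := by
  set β := tf (v 0) (y 1) with hβ
  have hb : ∀ i j, i ≠ j → tf (v i) (y j) = β := by
    intro i j hij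
    obtain ⟨g, g1, g2⟩ := two_trans' (i := 0) (j := 1) (by decide) hij
    rw [← g1, ← g2, ← hv.act, ← hy.act, h.tfa]
  have h66 : tf (v 6) (y 6) = -β := by
    have h1 : tf (v 6) (∑ j, y j) = 0 := by rw [hy.sum, tf_zero_right]
    rw [tf_sum_right, Fin.sum_univ_seven, hb 6 0 (by decide), hb 6 1 (by decide), hb 6 2 (by decide),
      hb 6 3 (by decide), hb 6 4 (by decide), hb 6 5 (by decide)] at h1
    have h5 := five_zero (F := F)
    linear_combination h1 - β * h5
  have tz : ∀ x a b c', tf x (c • a + (-β) • (b + c' + (-1 : F) • ww v 4 5)) =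
      c * tf x a - β * (tf x b + tf x c' - tf x (ww v 4 5)) := by
    intro x a b c'
    rw [tf_add_right, tf_smul_right, tf_smul_right, tf_add_right, tf_add_right, tf_smul_right]
    ring
  have hz : c • y 6 + (-β) • (ww v 5 6 + ww v 4 6 + (-1 : F) • ww v 4 5) = 0 := by
    refine orth h hev2 hev3 hv h0 ?_ ?_ ?_ ?_
    · refine Submodule.add_mem _ (Submodule.smul_mem _ _ (v_mem_M4 hy (by decide))) (Submodule.smul_mem _ _ ?_)
      exact Submodule.add_mem _ (Submodule.add_mem _ (w_mem_M4 h hv (by decide) (by decide))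
        (w_mem_M4 h hv (by decide) (by decide))) (Submodule.smul_mem _ _ (w_mem_M4 h hv (by decide) (by decide)))
    · rw [tz, hb 4 6 (by decide), tf_v_ww ht (by decide), tf_v_ww ht (by decide), tf_v_ww ht (by decide),
        if_neg (by decide), if_pos (by decide), if_pos (by decide)]
      ring
    · rw [tz, hb 5 6 (by decide), tf_v_ww ht (by decide), tf_v_ww ht (by decide), tf_v_ww ht (by decide),
        if_pos (by decide), if_neg (by decide), if_pos (by decide)]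
      ring
    · rw [tz, h66, tf_v_ww ht (by decide), tf_v_ww ht (by decide), tf_v_ww ht (by decide),
        if_pos (by decide), if_pos (by decide), if_neg (by decide)]
      ring
  -- another element
  obtain ⟨g, g6, g4, g5⟩ := three_trans' (i := 6) (j := 4) (k := 5) (i' := 6) (j' := 4) (k' := 3) (by decide)
    (by decide) (by decide) (by decide) (by decide) (by decide)
  have hw : ∀ (g : T7) a b, ρ' g (ww v a b) = ww v ((g : Perm (Fin 7)) a) ((g : Perm (Fin 7)) b) := by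
    intro g a b
    unfold ww
    rw [← h.cra, hv.act, hv.act]
  have hz' := congrArg (ρ' g) hz
  simp only [map_add, map_smul, map_zero, hw, hy.act, g6, g4, g5] at hz'
  have he : β • ee v 5 6 4 3 = 0 := by
    have h1 : β • ee v 5 6 4 3 = (c • y 6 + (-β) • (ww v 3 6 + ww v 4 6 + (-1 : F) • ww v 4 3)) -
        (c • y 6 + (-β) • (ww v 5 6 + ww v 4 6 + (-1 : F) • ww v 4 5)) := by
      unfold ee
      rw [Tup.ww_comm v 5 4, Tup.ww_comm v 6 3]
      module
    rw [h1, hz', hz, sub_zero]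
  have hβ0 : β = 0 := by
    by_contra hne
    have he0 := (smul_eq_zero.1 he).resolve_left hne
    refine (core ht hc).2.1 ?_
    rw [Submodule.eq_top_iff']
    intro x a b d e hd
    obtain ⟨g1, g2, g3, g4, g5, g6⟩ := dis_iff.1 hd
    obtain ⟨f, hf⟩ := Cfsg.Agent.H931.E6.pick [a, b, d, e] (by simp)
    simp only [List.mem_cons, List.not_mem_nil, or_false, not_or] at hf
    obtain ⟨k, -, k3, k4, k5, k6⟩ := five_trans (i := f) (j := e) (k := d) (l := a) (m := b) hf.2.2.2 hf.2.2.1 hf.1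
      hf.2.1 (Ne.symm g6) (Ne.symm g3) (Ne.symm g5) (Ne.symm g2) (Ne.symm g4) g1
    have h1 := congrArg (ρ' k) he0
    unfold ee at h1 ⊢
    simp only [map_add, map_sub, map_zero, hw, k3, k4, k5, k6] at h1
    rw [h1, tf_zero_right]
  have h6 : y 6 = 0 := by
    rw [hβ0, neg_zero, zero_smul, add_zero] at hz
    exact (smul_eq_zero.1 hz).resolve_left hc
  obtain ⟨g, g1, -⟩ := two_trans' (i := 6) (j := 5) (i' := 0) (j' := 1) (by decide) (by decide)
  rw [← g1, ← hy.act, h6, map_zero]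

end

end Cfsg.Agent.H879.E6
end

-- part: H879/E6/Kill
section
/-!
# S5927, S5928: maximality and the tuple of `A₇` in characteristic 5 (helper879)
-/

set_option autoImplicit false

namespace Cfsg.Agent.H879.E6

open Cfsg Cfsg.Lie Module
open Cfsg.Agent.H952.F4 (sh cr tf ev MaxAlt)
open Cfsg.Agent.H952.F4.Jord
open Cfsg.Agent.H879.E6.Uniq (Q Good dis dis_iff dis_act act)
open Cfsg.Agent.ChevalleyStructure.E6Min.Tables Cfsg.Agent.ChevalleyStructure.E6Min.Basic
  Cfsg.Agent.ChevalleyStructure.E6Min.Adjoint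
open Cfsg.Agent.H931.E6 (T7 Seven NoFix)
open Cfsg.Agent.H163.E6 (V V' Lift Stab Sit Act.gz Act.V_gz Act.V'_gz Act.gz_mul Act.gz_gz)

universe u

/-! ### Homomorphisms from a perfect group -/

theorem hom_ext_central {A G : Type*} [Group A] [Group G] (hA : commutator A = ⊤) (f g : A →* G)
    (h : ∀ a, f a * (g a)⁻¹ ∈ Subgroup.center G) : f = g := by
  let χ : A →* ↥(Subgroup.center G) := MonoidHom.mk' (fun a => ⟨f a * (g a)⁻¹, h a⟩) (by
    intro a b
    apply Subtype.ext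
    change f (a * b) * (g (a * b))⁻¹ = f a * (g a)⁻¹ * (f b * (g b)⁻¹)
    have h1 := Subgroup.mem_center_iff.1 (h b) (g a)⁻¹
    rw [map_mul, map_mul, mul_inv_rev]
    calc f a * f b * ((g b)⁻¹ * (g a)⁻¹) = f a * (f b * (g b)⁻¹ * (g a)⁻¹) := by group
      _ = f a * ((g a)⁻¹ * (f b * (g b)⁻¹)) := by rw [h1]
      _ = _ := by group)
  ext a
  have h1 : a ∈ χ.ker := by
    have h2 : commutator A ≤ χ.ker := by
      rw [commutator_def, Subgroup.commutator_le]
      intro a _ b _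
      rw [MonoidHom.mem_ker, map_commutatorElement, commutatorElement_eq_one_iff_mul_comm]
      exact Subtype.ext (Subgroup.mem_center_iff.1 (χ b).2 _)
    rw [hA] at h2
    exact h2 trivial
  have h2 : f a * (g a)⁻¹ = 1 := congrArg Subtype.val h1
  exact mul_inv_eq_one.1 h2

section

variable {F : Type u} [Field F] {R : Representation F ↥(Zgrp F) (I27 → F)}

theorem R_mul (g h : ↥(Zgrp F)) (x : I27 → F) : R (g * h) x = R g (R h x) := by
  rw [map_mul]; rfl

theorem R_inv (g : ↥(Zgrp F)) (x : I27 → F) : R g⁻¹ (R g x) = x := by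
  rw [← R_mul, inv_mul_cancel, map_one]; rfl

theorem R_inv' (g : ↥(Zgrp F)) (x : I27 → F) : R g (R g⁻¹ x) = x := by
  rw [← R_mul, mul_inv_cancel, map_one]; rfl

/-- the trilinear form is invariant -/
theorem R_tri (hR : R = V F ∨ R = V' F) (g : ↥(Zgrp F)) (x y z : I27 → F) :
    tf (cr (R g x) (R g y)) (R g z) = tf (cr x y) z := by
  rcases hR with rfl | rfl
  · rw [Cfsg.Agent.H163.E6.Act.cr_act, tf_comm, Cfsg.Agent.H163.E6.Act.tf_act, tf_comm]
  · rw [Cfsg.Agent.H163.E6.Act.cr_act', Cfsg.Agent.H163.E6.Act.tf_act]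

theorem R_sh (hR : R = V F ∨ R = V' F) (g : ↥(Zgrp F)) {x : I27 → F} (hx : sh x = 0) : sh (R g x) = 0 := by
  rcases hR with rfl | rfl
  · rw [Cfsg.Agent.H163.E6.Act.sh_act, hx, map_zero]
  · rw [Cfsg.Agent.H163.E6.Act.sh_act', hx, map_zero]

theorem R_inj (hR : R = V F ∨ R = V' F) {g h : ↥(Zgrp F)} (H : ∀ x, R g x = R h x) : g = h := by
  rcases hR with rfl | rfl
  · exact Cfsg.Agent.H163.E6.V_injective H
  · have h1 : Act.gz g = Act.gz h := Cfsg.Agent.H163.E6.V_injective fun x => by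
      rw [Act.V_gz, Act.V_gz]; exact H x
    have h2 := congrArg Act.gz h1
    rwa [Act.gz_gz, Act.gz_gz] at h2

/-- linear maps preserving the cubic form come from the group -/
theorem exists_R (hR : R = V F ∨ R = V' F) (hF : ∃ c : F, c ≠ 0 ∧ c ≠ 1) (m : (I27 → F) ≃ₗ[F] (I27 → F))
    (hm : ∀ x, cubicT (m x) = cubicT x) : ∃ g : ↥(Zgrp F), ∀ x, R g x = m x := by
  let M : GL I27 F := ⟨LinearMap.toMatrix' (m : (I27 → F) →ₗ[F] (I27 → F)),
    LinearMap.toMatrix' (m.symm : (I27 → F) →ₗ[F] (I27 → F)), by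
      rw [← LinearMap.toMatrix'_comp, LinearEquiv.comp_symm, LinearMap.toMatrix'_id], by
      rw [← LinearMap.toMatrix'_comp, LinearEquiv.symm_comp, LinearMap.toMatrix'_id]⟩
  have hM : ∀ x, ((M : GL I27 F) : Matrix I27 I27 F).mulVec x = m x := fun x =>
    LinearMap.toMatrix'_mulVec (m : (I27 → F) →ₗ[F] (I27 → F)) x
  have h1 : M ∈ Zgrp F := by
    rw [Cfsg.Agent.H65.E6Full.Zgrp_eq_of_three hF, Cfsg.Agent.ChevalleyStructure.E6Min.Forms.mem_E6univ_iff]
    intro x
    rw [hM, hm]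
  rcases hR with rfl | rfl
  · exact ⟨⟨M, h1⟩, hM⟩
  · refine ⟨Act.gz ⟨M, h1⟩, fun x => ?_⟩
    rw [Act.V'_gz]
    exact hM x

theorem mem_iff_of_stable {W : Submodule F (I27 → F)} {T : (I27 → F) →ₗ[F] (I27 → F)} (hinj : Function.Injective T)
    (hT : ∀ x ∈ W, T x ∈ W) (x : I27 → F) : T x ∈ W ↔ x ∈ W := by
  refine ⟨fun h => ?_, hT x⟩
  have h1 : W.map T = W := by
    apply Submodule.eq_of_le_of_finrank_le
    · rintro _ ⟨y, hy, rfl⟩
      exact hT y hy
    · exact (Submodule.equivMapOfInjective T hinj W).finrank_eq.le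
  rw [← h1] at h
  obtain ⟨y, hy, h2⟩ := h
  rw [← hinj h2]
  exact hy

end

/-! ### Automorphisms -/

section

variable {F : Type u} [Field F] {R : Representation F ↥(Zgrp F) (I27 → F)} {H : Subgroup ↥(chevE6.group F)}
  {φ : T7 →* ↥(chevE6.group F)} {ψ : T7 →* ↥(Zgrp F)}

/-- conjugation by an element over `H` -/
theorem conj_lift (hM : MaxAlt H 7 φ) (hψ : Lift φ ψ) {k : ↥(Zgrp F)} (hk : ad F k ∈ H) :
    ∃ s : Equiv.Perm (Fin 7), ∀ a : T7, k * ψ a * k⁻¹ = ψ (MulAut.conjNormal s a) := by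
  have hex : ∀ x, ∃ y, φ y = ad F k * φ x * (ad F k)⁻¹ := fun x => hM.norm _ hk (φ x) ⟨x, rfl⟩
  choose f hf using hex
  have hinj : Function.Injective f := by
    intro x y hxy
    have h1 := hf x
    rw [hxy, hf y] at h1
    exact hM.inj (mul_left_cancel (mul_right_cancel h1)).symm
  let α : MulAut T7 := MulEquiv.ofBijective
    (MonoidHom.mk' f (fun x y => hM.inj (by rw [hf, map_mul, map_mul, hf, hf]; group)))
    (Finite.injective_iff_bijective.mp hinj)
  obtain ⟨s, hs⟩ := (S2119.result 7 (by norm_num) (by norm_num)).2 α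
  refine ⟨s, ?_⟩
  have h1 : ∀ x : T7, MulAut.conjNormal s x = f x := by
    intro x
    rw [hs]; rfl
  let f1 : T7 →* ↥(Zgrp F) := MonoidHom.mk' (fun a => k * ψ a * k⁻¹) (fun a b => by rw [map_mul]; group)
  let f2 : T7 →* ↥(Zgrp F) := ψ.comp (MulAut.conjNormal s : MulAut T7).toMonoidHom
  have h2 : f1 = f2 := by
    refine hom_ext_central (Cfsg.Agent.H163.E6.Cov.alt_perfect (n := 7) (by norm_num)) f1 f2 fun a => ?_
    rw [← ker_ad, MonoidHom.mem_ker]
    change ad F (k * ψ a * k⁻¹ * (ψ (MulAut.conjNormal s a))⁻¹) = 1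
    rw [map_mul, map_mul, map_mul, map_inv, map_inv, hψ, hψ, h1, hf]
    group
  intro a
  exact DFunLike.congr_fun h2 a

/-- the vectors `u` span the space -/
theorem ext_uu [CharP F 5] {v : Fin 7 → I27 → F} {c : F} {e : (I27 → F) ≃ₗ[F] (I27 → F)}
    (he : ∀ q : Q, e (uu (q0 F) q) = c⁻¹ • uu v q) {S T : (I27 → F) →ₗ[F] (I27 → F)}
    (h : ∀ q : Q, S (uu v q) = T (uu v q)) : S = T := by
  have h1 : S.comp (e : (I27 → F) →ₗ[F] (I27 → F)) = T.comp (e : (I27 → F) →ₗ[F] (I27 → F)) := by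
    refine (bas27 F).ext fun n => ?_
    rw [bas27_apply, LinearMap.comp_apply, LinearMap.comp_apply]
    change S (e (uu (q0 F) (bq n))) = T (e (uu (q0 F) (bq n)))
    rw [he, map_smul, map_smul, h]
  refine LinearMap.ext fun x => ?_
  have := LinearMap.congr_fun h1 (e.symm x)
  simpa using this

theorem R_uu (hR : R = V F ∨ R = V' F) (g : ↥(Zgrp F)) (v : Fin 7 → I27 → F) (q : Q) :
    R g (uu v q) = uu (fun i => R g (v i)) q := by
  unfold uu ww
  rcases hR with rfl | rfl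
  · rw [← Cfsg.Agent.H163.E6.Act.cr_act', ← Cfsg.Agent.H163.E6.Act.cr_act, ← Cfsg.Agent.H163.E6.Act.cr_act]
  · rw [← Cfsg.Agent.H163.E6.Act.cr_act, ← Cfsg.Agent.H163.E6.Act.cr_act', ← Cfsg.Agent.H163.E6.Act.cr_act']

theorem uu_act (v : Fin 7 → I27 → F) (s : Equiv.Perm (Fin 7)) (q : Q) :
    uu (fun i => v (s i)) q = uu v (act s q) := rfl

/-- **(step H)** elements over `H` permute the lines of the tuple -/
theorem lines [Finite F] [CharP F 5] (hM : MaxAlt H 7 φ) (hψ : Lift φ ψ) (hR : R = V F ∨ R = V' F) {v : Fin 7 → I27 → F}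
    {c : F} (hv : ∀ (a : T7) i, R (ψ a) (v i) = v ((a : Equiv.Perm (Fin 7)) i)) (ht : Tup v c) (hc : c ≠ 0)
    {k : ↥(Zgrp F)} (hk : ad F k ∈ H) :
    ∃ (s : Equiv.Perm (Fin 7)) (l : F), l ≠ 0 ∧ ∀ i, R k (v i) = l • v (s i) := by
  obtain ⟨s, hs⟩ := conj_lift hM hψ hk
  -- the second tuple
  set v2 : Fin 7 → I27 → F := fun i => R k (v (s.symm i)) with hv2
  have t2 : Tup v2 c := by
    refine ⟨fun i => R_sh hR k (ht.white _), ?_, ?_⟩
    · rw [hv2]
      simp only
      rw [← map_sum, Equiv.sum_comp s.symm v, ht.sum, map_zero]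
    · intro i j l hij hil hjl
      rw [hv2, ← tf_cr, R_tri hR, tf_cr]
      exact ht.tri _ _ _ (s.symm.injective.ne hij) (s.symm.injective.ne hil) (s.symm.injective.ne hjl)
  have a2 : ∀ (a : T7) i, R (ψ a) (v2 i) = v2 ((a : Equiv.Perm (Fin 7)) i) := by
    intro a i
    -- `a = conjNormal s b`
    obtain ⟨b, rfl⟩ : ∃ b, MulAut.conjNormal s b = a := ⟨(MulAut.conjNormal s).symm a, (MulAut.conjNormal s).apply_symm_apply a⟩
    have h1 : ψ (MulAut.conjNormal s b) * k = k * ψ b := by rw [← hs]; group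
    rw [hv2]
    simp only
    rw [← R_mul, h1, R_mul, hv, MulAut.conjNormal_apply]
    congr 2
    change (b : Equiv.Perm (Fin 7)) (s.symm i) = s.symm (s ((b : Equiv.Perm (Fin 7)) (s.symm i)))
    rw [s.symm_apply_apply]
  obtain ⟨e, e1, e2, e3⟩ := exists_conj ht hc
  obtain ⟨e', e1', e2', e3'⟩ := exists_conj t2 hc
  let m : (I27 → F) ≃ₗ[F] (I27 → F) := e.symm.trans e'
  have hm : ∀ x, m x = e' (e.symm x) := fun x => rfl
  have mtri : ∀ x y z, tf (cr (m x) (m y)) (m z) = tf (cr x y) z := by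
    intro x y z
    rw [hm, hm, hm, e1', tri_symm e hc e1, ← mul_assoc, mul_inv_cancel₀ hc, one_mul]
  have h5 := five_zero (F := F)
  have mN : ∀ x, cubicT (m x) = cubicT x := by
    intro x
    have h1 := mtri x x x
    rw [cr_self, cr_self, tf_smul_left, tf_smul_left, tf_sh_self, tf_sh_self] at h1
    linear_combination h1 - (cubicT (m x) - cubicT x) * h5
  have mu : ∀ q, m (uu v q) = uu v2 q := by
    intro q
    have h1 : uu v q = c • e (uu (q0 F) q) := by rw [e3, smul_smul, mul_inv_cancel₀ hc, one_smul]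
    rw [hm, h1, map_smul, e.symm_apply_apply, map_smul, e3', smul_smul, mul_inv_cancel₀ hc, one_smul]
  have mv : ∀ i, m (v i) = v2 i := by
    intro i
    rw [hm, ← e2 i, e.symm_apply_apply, e2']
  have hF : ∃ c : F, c ≠ 0 ∧ c ≠ 1 := ⟨2, two_ne, fun h => one_ne_zero (α := F) (by linear_combination h)⟩
  obtain ⟨h0, hh0⟩ := exists_R hR hF m mN
  have hcomm : ∀ a : T7, h0 * ψ a = ψ a * h0 := by
    intro a
    apply R_inj hR
    have h1 : (R (h0 * ψ a)) = R (ψ a * h0) := by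
      refine ext_uu e3 fun q => ?_
      rw [R_mul, R_mul, hh0, hh0, mu, R_uu hR, R_uu hR]
      simp only [hv, a2]
      rw [uu_act, uu_act, mu]
    intro x
    rw [h1]
  have hz : ad F h0 = 1 := by
    refine Cfsg.Agent.H163.E6.Cnt.centralizer_eq hM (by norm_num) fun a => ?_
    rw [← hψ a, ← map_mul, ← map_mul, hcomm]
  obtain ⟨d, hd⟩ := Cfsg.Agent.H163.E6.exists_smul hz hR
  have hkv : ∀ j, R k (v j) = d • v (s j) := by
    intro j
    rw [← hd, hh0, mv, hv2]
    simp only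
    rw [s.symm_apply_apply]
  refine ⟨s, d, ?_, hkv⟩
  rintro rfl
  have h1 := hkv 0
  rw [zero_smul] at h1
  have h2 := R_inv (R := R) k (v 0)
  rw [h1, map_zero] at h2
  exact v_ne ht hc 0 h2.symm

/-- **(step 7)** `H` is not maximal -/
theorem kill [Finite F] [CharP F 5] (hM : MaxAlt H 7 φ) (hψ : Lift φ ψ) (hR : R = V F ∨ R = V' F) {v : Fin 7 → I27 → F}
    {c : F} (hv : ∀ (a : T7) i, R (ψ a) (v i) = v ((a : Equiv.Perm (Fin 7)) i)) (ht : Tup v c) (hc : c ≠ 0) :
    False := by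
  obtain ⟨c1, c2, g, g1, g2, g3⟩ := core ht hc
  have h5 := five_zero (F := F)
  have gN : ∀ x, cubicT (g x) = cubicT x := by
    intro x
    have h1 := g1 x x x
    rw [cr_self, cr_self, tf_smul_left, tf_smul_left, tf_sh_self, tf_sh_self] at h1
    linear_combination h1 - (cubicT (g x) - cubicT x) * h5
  have hF : ∃ c : F, c ≠ 0 ∧ c ≠ 1 := ⟨2, two_ne, fun h => one_ne_zero (α := F) (by linear_combination h)⟩
  obtain ⟨g', hg'⟩ := exists_R hR hF g gN
  have hinj : ∀ k : ↥(Zgrp F), Function.Injective (R k) := fun k x y h => by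
    rw [← R_inv (R := R) k x, h, R_inv]
  -- the stabilizer
  let S : Subgroup ↥(Zgrp F) :=
    { carrier := {k | ∀ x, R k x ∈ WW v ↔ x ∈ WW v}
      mul_mem' := fun {a b} ha hb x => by rw [R_mul, ha, hb]
      one_mem' := fun x => by rw [map_one]; exact Iff.rfl
      inv_mem' := fun {a} ha x => by rw [← ha (R a⁻¹ x), R_inv'] }
  have memS : ∀ k, k ∈ S ↔ ∀ x, R k x ∈ WW v ↔ x ∈ WW v := fun k => Iff.rfl
  have hgS : g' ∈ S := by
    rw [memS]
    exact mem_iff_of_stable (hinj g') fun x hx => by rw [hg']; exact g2 x hx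
  set L := S.map (ad F) with hL
  have hHL : H ≤ L := by
    intro x hx
    obtain ⟨k, rfl⟩ := ad_surjective (F := F) x
    refine ⟨k, ?_, rfl⟩
    obtain ⟨s, l, hl, hs⟩ := lines hM hψ hR hv ht hc hx
    refine mem_iff_of_stable (hinj k) fun x hx => ?_
    exact WW_stable (k := R k) (μ := 1) (fun x y z => by rw [R_tri hR, one_mul]) hl hs hx
  have hLne : L ≠ ⊤ := by
    intro htop
    have hall : ∀ k : ↥(Zgrp F), ∀ x ∈ WW v, R k x ∈ WW v := by
      intro k x hx
      have h1 : ad F k ∈ L := by rw [htop]; trivial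
      obtain ⟨t, htS, h2⟩ := h1
      obtain ⟨d, hd⟩ := Cfsg.Agent.H163.E6.exists_smul (z := k * t⁻¹)
        (by rw [map_mul, map_inv, h2, mul_inv_cancel]) hR
      have h3 : R k x = d • R t x := by rw [← hd, ← R_mul, inv_mul_cancel_right]
      rw [h3]
      exact (WW v).smul_mem _ ((htS x).2 hx)
    have hallV : ∀ k : ↥(Zgrp F), ∀ x ∈ WW v, V F k x ∈ WW v := by
      rcases hR with rfl | rfl
      · exact hall
      · intro k x hx
        have h1 := hall (Act.gz k) x hx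
        rwa [Act.V'_gz] at h1
    exact c2 (Cfsg.Agent.H163.E6.Cnt.irred hallV c1)
  have hLH : L = H := by
    by_contra hne
    exact hLne (hM.coatom.2 L (lt_of_le_of_ne hHL (Ne.symm hne)))
  have hgH : ad F g'⁻¹ ∈ H := by
    rw [← hLH]
    exact ⟨g'⁻¹, inv_mem hgS, rfl⟩
  obtain ⟨s, l, -, hs⟩ := lines hM hψ hR hv ht hc hgH
  refine g3 (s 0) l ?_
  rw [← hs 0]
  apply g.injective
  rw [g.apply_symm_apply, ← hg', R_inv']

end

end Cfsg.Agent.H879.E6
end

-- part: H879/E6/SevenFive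
section
/-!
# S5927, S5928: `A₇` in characteristic 5 (helper879)

`Cfsg.Agent.H163.E6.Cases.seven_five`.
-/

set_option autoImplicit false

namespace Cfsg.Agent.H879.E6

open Cfsg Cfsg.Lie Module
open Cfsg.Agent.H952.F4 (sh cr tf ev MaxAlt)
open Cfsg.Agent.H952.F4.Jord
open Cfsg.Agent.ChevalleyStructure.E6Min.Tables Cfsg.Agent.ChevalleyStructure.E6Min.Basic
  Cfsg.Agent.ChevalleyStructure.E6Min.Adjoint
open Cfsg.Agent.H931.E6
open Cfsg.Agent.H163.E6 (V V' Lift Stab Sit Tab FixSym Bgrp)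

universe u

variable {F : Type u} [Field F] {H : Subgroup ↥(chevE6.group F)} {φ : T7 →* ↥(chevE6.group F)} {ψ : T7 →* ↥(Zgrp F)}

theorem pr_V (ψ : T7 →* ↥(Zgrp F)) : Pr (MonoidHom.comp (V F) ψ) (MonoidHom.comp (V' F) ψ) where
  tfa g x y := Cfsg.Agent.H163.E6.Act.tf_act (ψ g) x y
  sha g x := Cfsg.Agent.H163.E6.Act.sh_act (ψ g) x
  sha' g x := Cfsg.Agent.H163.E6.Act.sh_act' (ψ g) x
  cra g x y := Cfsg.Agent.H163.E6.Act.cr_act (ψ g) x y
  cra' g x y := Cfsg.Agent.H163.E6.Act.cr_act' (ψ g) x y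
  Na g x := Cfsg.Agent.H163.E6.Act.N_act (ψ g) x
  Na' g x := Cfsg.Agent.H163.E6.Act.N_act' (ψ g) x

theorem psi_mem (hψ : Lift φ ψ) (a : T7) : ψ a ∈ Bgrp φ := by
  have h1 : a ∈ commutator T7 := by
    rw [Cfsg.Agent.H163.E6.Cov.alt_perfect (n := 7) (by norm_num)]
    trivial
  have h2 : ψ a ∈ (commutator T7).map ψ := ⟨a, h1, rfl⟩
  rw [commutator_def, Subgroup.map_commutator] at h2
  refine Subgroup.commutator_mono ?_ ?_ h2
  all_goals
    rintro _ ⟨b, -, rfl⟩
    exact ⟨b, (hψ b).symm⟩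

theorem three_ev (hT : Tab 5 F) (hi : Function.Injective φ) (hψ : Lift φ ψ) {g : T7}
    (hg : (g : Equiv.Perm (Fin 7)).cycleType = {3}) : ev (V F (ψ g)) 1 = 15 ∨ ev (V F (ψ g)) 1 = 9 := by
  have h1 : ad F (ψ g) ≠ 1 := by
    rw [hψ g]
    exact fun h => ne_one_of_type hg (by decide) (hi (h.trans (map_one φ).symm))
  have h2 : ψ g ^ 3 = 1 := by rw [← map_pow, pow_of_type hg (by decide), map_one]
  obtain ⟨k, hk⟩ := Cfsg.Agent.H163.E6.Cov.three_inv (n := 7) (by norm_num) hg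
  have h3 : ∃ x, x * ψ g * x⁻¹ = (ψ g)⁻¹ := ⟨ψ k, by rw [← map_inv, ← map_mul, ← map_mul, hk, map_inv]⟩
  have h4 := hT.three_real (by norm_num) (ψ g) h1 h2 h3
  rcases hT.three (by norm_num) (ψ g) h1 h2 with h | h | h | h
  · exact Or.inl h.1
  · exact Or.inr h.1
  · exact Or.inr h.1
  · exact absurd h.1 h4

theorem three_conj {g g' : T7} (hg : (g : Equiv.Perm (Fin 7)).cycleType = {3})
    (hg' : (g' : Equiv.Perm (Fin 7)).cycleType = {3}) : ∃ k : T7, k * g * k⁻¹ = g' :=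
  isConj_iff.mp (alternatingGroup.isThreeCycle_isConj
    (by rw [Nat.card_eq_fintype_card, Fintype.card_fin]; norm_num) hg hg')

/-- a white tuple in one of the modules gives a contradiction -/
theorem finish [Finite F] [CharP F 5] (hS : Sit H 7 φ) (hx : MaxAlt H 7 φ ∨ FixSym φ) (hψ : Lift φ ψ)
    (hev2 : ∀ g : T7, (g : Equiv.Perm (Fin 7)).cycleType = {2, 2} → ev (V F (ψ g)) 1 = 15)
    (hev3 : ∀ g : T7, (g : Equiv.Perm (Fin 7)).cycleType = {3} → ev (V F (ψ g)) 1 = 9)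
    {R R' : Representation F ↥(Zgrp F) (I27 → F)} (hR : (R = V F ∧ R' = V' F) ∨ (R = V' F ∧ R' = V F))
    {v : Fin 7 → I27 → F} {c : F} (hv : Seven (MonoidHom.comp R ψ) v) (h0 : v 0 ≠ 0) (ht : Tup v c) : False := by
  have h5 := five_zero (F := F)
  have h7 : (7 : F) ≠ 0 := fun h => two_ne (F := F) (by linear_combination h - h5)
  have hR1 : R = V F ∨ R = V' F := hR.imp And.left And.left
  have hpr : Pr (MonoidHom.comp R ψ) (MonoidHom.comp R' ψ) := by
    rcases hR with ⟨rfl, rfl⟩ | ⟨rfl, rfl⟩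
    · exact pr_V ψ
    · exact (pr_V ψ).swap
  have hevR : ∀ g : T7, ev (MonoidHom.comp R ψ g) 1 = ev (V F (ψ g)) 1 := by
    intro g
    rcases hR with ⟨rfl, -⟩ | ⟨rfl, -⟩
    · rfl
    · exact ev' g
  have e2 : ∀ g : T7, (g : Equiv.Perm (Fin 7)).cycleType = {2, 2} → ev (MonoidHom.comp R ψ g) 1 = 15 := fun g hg =>
    (hevR g).trans (hev2 g hg)
  have e3 : ∀ g : T7, (g : Equiv.Perm (Fin 7)).cycleType = {3} → ev (MonoidHom.comp R ψ g) 1 = 9 := fun g hg =>
    (hevR g).trans (hev3 g hg)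
  have hnf : NoFix (MonoidHom.comp R' ψ) := by
    rcases hR with ⟨-, rfl⟩ | ⟨-, rfl⟩
    · exact noFix' hS hψ
    · exact noFix hS hψ
  by_cases hc : c = 0
  · subst hc
    exact ts_false hS hψ two_ne h7 hR1 ⟨v, hv, h0, ts_of_zero hpr e2 e3 hv h0 ht⟩
  rcases hx with hM | hF
  · exact kill hM hψ hR1 hv.act ht hc
  · let S : Set ↥(Zgrp F) := {g | ∃ a : T7, (a : Equiv.Perm (Fin 7)) 6 = 6 ∧ ψ a = g}
    have hSB : S ⊆ Bgrp φ := by
      rintro _ ⟨a, -, rfl⟩
      exact psi_mem hψ a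
    have hfix : ∃ x, x ≠ 0 ∧ ∀ g ∈ S, R g x = x := by
      refine ⟨v 6, v_ne ht hc 6, ?_⟩
      rintro _ ⟨a, ha, rfl⟩
      have := hv.act a 6
      rw [ha] at this
      exact this
    have hfix' : ∃ w, w ≠ 0 ∧ ∀ g ∈ S, R' g w = w := by
      rcases hR with ⟨rfl, rfl⟩ | ⟨rfl, rfl⟩
      · exact (hF S hSB).1 hfix
      · exact (hF S hSB).2 hfix
    obtain ⟨w, hw0, hw⟩ := hfix'
    obtain ⟨y, hy, hy0⟩ := exists_seven hnf hw0 fun a ha => hw (ψ a) ⟨a, ha, rfl⟩
    exact hy0 (no_seven hpr e2 e3 hv h0 ht hc hy)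

end Cfsg.Agent.H879.E6

namespace Cfsg.Agent.H163.E6.Cases

open Cfsg Cfsg.Lie Module
open Cfsg.Agent.ChevalleyStructure.E6Min.Tables Cfsg.Agent.ChevalleyStructure.E6Min.Basic
  Cfsg.Agent.ChevalleyStructure.E6Min.Adjoint
open Cfsg.Agent.H952.F4 (ev es matRep sh cr tf MaxAlt tr1)
open Cfsg.Agent.H931.E6 Cfsg.Agent.H879.E6

universe u

variable {F : Type u} [Field F] [Finite F] {H : Subgroup ↥(chevE6.group F)}

/-- **S11** `A₇` in characteristic 5 -/
theorem seven_five [CharP F 5] {φ : ↥(alternatingGroup (Fin 7)) →* ↥(chevE6.group F)} (hS : Sit H 7 φ)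
    (hx : MaxAlt H 7 φ ∨ FixSym φ)
    {ψ : ↥(alternatingGroup (Fin 7)) →* ↥(Zgrp F)} (hψ : Lift φ ψ) : False := by
  have h5 := five_zero (F := F)
  have h2 : (2 : F) ≠ 0 := two_ne
  have h3 : (3 : F) ≠ 0 := fun h => one_ne_zero (α := F) (by linear_combination 2 * h - h5)
  have : Fact (Nat.Prime 5) := ⟨Nat.prime_five⟩
  have hT : Tab 5 F := Tor.tab 5
  have hi := lift_inj hS.inj hψ
  -- the involutions
  have e2 : ∀ g : T7, (g : Equiv.Perm (Fin 7)).cycleType = {2, 2} → ev (V F (ψ g)) 1 = 15 := by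
    intro g hg
    rcases tw hT hi (by norm_num) hg with h | h
    · exact h
    exfalso
    have hall : ∀ g' : T7, (g' : Equiv.Perm (Fin 7)).cycleType = {2, 2} → ev (V F (ψ g')) 1 = 11 := by
      intro g' hg'
      obtain ⟨k, hk⟩ := two_conj hg hg'
      rw [← hk]
      exact (ev_conj (MonoidHom.comp (V F) ψ) k g 1).trans h
    refine Eleven.no_eleven h2 h3 (MonoidHom.comp (V F) ψ) finrank27 hall (fun g hg => ?_) fun g hg => ?_
    · exact (three_ev hT hS.inj hψ hg).symm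
    · rcases fo hT hi (by norm_num) hg with ⟨h1, -⟩ | ⟨-, h1⟩
      · rw [hall _ (sq_type hg)] at h1
        omega
      · exact h1
  -- the 3-cycles
  by_cases h15 : ∃ g : T7, (g : Equiv.Perm (Fin 7)).cycleType = {3} ∧ ev (V F (ψ g)) 1 = 15
  · obtain ⟨g, hg, h15⟩ := h15
    refine seven_five_15 hS hψ e2 fun g' hg' => ?_
    obtain ⟨k, hk⟩ := three_conj hg hg'
    rw [← hk]
    exact ((ev_conj (MonoidHom.comp (V F) ψ) k g 1).trans h15).ge
  push Not at h15
  have e3 : ∀ g : T7, (g : Equiv.Perm (Fin 7)).cycleType = {3} → ev (V F (ψ g)) 1 = 9 := fun g hg =>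
    (three_ev hT hS.inj hψ hg).resolve_left (h15 g hg)
  have e4 : ∀ g : T7, (g : Equiv.Perm (Fin 7)).cycleType = {4, 2} → 7 ≤ ev (V F (ψ g)) 1 := by
    intro g hg
    rcases fo hT hi (by norm_num) hg with h | h
    · exact h.2
    · have := e2 _ (sq_type hg)
      omega
  have e5 : ∀ g : T7, (g : Equiv.Perm (Fin 7)).cycleType = {5} → 6 ≤ ev (V F (ψ g)) 1 := by
    intro g hg
    have h := Cfsg.Agent.H952.F4.Eig.le_mul_ev 5 (T := V F (ψ g)) (by
      rw [← map_pow, ← map_pow, pow_of_type hg (n := 5) (by decide), map_one, map_one])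
    rw [finrank27] at h
    omega
  -- seven vectors
  have fin : ∀ {R R' : Representation F ↥(Zgrp F) (I27 → F)}, ((R = V F ∧ R' = V' F) ∨ (R = V' F ∧ R' = V F)) →
      Pr (MonoidHom.comp R ψ) (MonoidHom.comp R' ψ) → NoFix (MonoidHom.comp R ψ) → NoFix (MonoidHom.comp R' ψ) →
      ∀ {w}, w ≠ 0 → (∀ g : T7, (g : Equiv.Perm (Fin 7)) 6 = 6 → MonoidHom.comp R ψ g w = w) → False := by
    intro R R' hR hpr hn hn' w hw0 hw
    obtain ⟨v, hv, h0⟩ := exists_seven hn hw0 hw
    rcases exists_white hpr hn' hv h0 with ⟨v, c, hv, h0, ht⟩ | ⟨v, c, hv, h0, ht⟩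
    · exact finish hS hx hψ e2 e3 hR hv h0 ht
    · exact finish hS hx hψ e2 e3 (hR.symm.imp And.symm And.symm) hv h0 ht
  rcases exists_fixed (pair_tf ψ) finrank27 (fun g hg => (e2 g hg).ge) e4 e5 with ⟨w, hw0, hw⟩ | ⟨w, hw0, hw⟩
  · exact fin (Or.inl ⟨rfl, rfl⟩) (pr_V ψ) (noFix hS hψ) (noFix' hS hψ) hw0 hw
  · exact fin (Or.inr ⟨rfl, rfl⟩) (pr_V ψ).swap (noFix' hS hψ) (noFix hS hψ) hw0 hw

end Cfsg.Agent.H163.E6.Cases
end

private theorem dce_662c6b899a1f : _root_.True := by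
  try have : _root_.True := by simp only [_root_.Cfsg.Agent.H879.E6.M4.eq_1]
  exact _root_.True.intro
end
end
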